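/-
The binary Golay code of `Def_Sporadic_a` in terms of 24-bit masks: a fast membership test, the
list of its 4096 words, weights, counting principles.
-/
import Cfsg.Prelude.Def_SporadicCombinatorics
import Cfsg.Agent.H4.Enc

set_option autoImplicit false
set_option maxRecDepth 100000

open scoped Pointwise

namespace Cfsg.Agent.H4

/-- The number of a point: the residue itself, and `23` for the extra point. -/
def gix : GolayPt → ℕ
  | none => 23
  | some x => x.val

/-- The point with a given number. -/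
def gpt (i : ℕ) : GolayPt := if i < 23 then some (i : ZMod 23) else none

/-- The encoding of the 24 points. -/
def gE : Enc GolayPt 24 5 where
  ix := gix
  pt := gpt
  ix_lt := by decide
  pt_ix := by decide
  ix_pt := by decide
  le_pow := by decide

theorem gE_pt_23 : gE.pt 23 = none := rfl
theorem gE_pt_0 : gE.pt 0 = some 0 := rfl
theorem gE_ix_none : gE.ix none = 23 := rfl
theorem gE_ix_some (x : ZMod 23) : gE.ix (some x) = x.val := rfl
theorem card_golayPt : Fintype.card GolayPt = 24 := gE.card_eq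

/-- The binary word with a given mask. -/
def word (m : ℕ) : GolayPt → ZMod 2 := fun p => if m.testBit (gE.ix p) then 1 else 0

theorem word_xor (a b : ℕ) : word (a ^^^ b) = word a + word b := by
  funext p
  simp only [word, Nat.testBit_xor, Pi.add_apply]
  cases a.testBit (gE.ix p) <;> cases b.testBit (gE.ix p) <;> decide

theorem word_zero : word 0 = 0 := by funext p; simp [word]

theorem mem_support₂ {α : Type*} [Fintype α] (v : α → ZMod 2) (a : α) :
    a ∈ support₂ v ↔ v a ≠ 0 := by simp [support₂]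

theorem support_word (m : ℕ) : support₂ (word m) = gE.ofMask m := by
  ext p
  rw [mem_support₂, Enc.mem_ofMask, word]
  cases m.testBit (gE.ix p) <;> simp

theorem zmod2_eq_one_of_ne_zero : ∀ x : ZMod 2, x ≠ 0 → x = 1 := by decide

theorem support₂_injective {α : Type*} [Fintype α] :
    Function.Injective (support₂ : (α → ZMod 2) → Finset α) := by
  intro v u h
  funext a
  have h1 : v a ≠ 0 ↔ u a ≠ 0 := by rw [← mem_support₂, ← mem_support₂, h]
  revert h1
  generalize v a = x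
  generalize u a = y
  revert x y
  decide

theorem word_toMask_support (v : GolayPt → ZMod 2) : word (gE.toMask (support₂ v)) = v :=
  support₂_injective (by rw [support_word, Enc.ofMask_toMask])

theorem exists_word (v : GolayPt → ZMod 2) : ∃ m, m < 2 ^ 24 ∧ word m = v :=
  ⟨_, gE.toMask_lt _, word_toMask_support v⟩

theorem word_inj {a b : ℕ} (ha : a < 2 ^ 24) (hb : b < 2 ^ 24) (h : word a = word b) : a = b := by
  rw [← gE.ofMask_inj ha hb, ← support_word, ← support_word, h]

theorem hammingNorm_eq_card_support {α : Type*} [Fintype α] (v : α → ZMod 2) :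
    hammingNorm v = (support₂ v).card := rfl

theorem card_ofMask24 {m : ℕ} (h : m < 2 ^ 24) : (gE.ofMask m).card = pc24 m := by
  rw [Enc.card_ofMask, pc24_eq h]

/-- The parity bits of the 4096 code words, 12 bits each. -/
def parT : ℕ := nat_lit 0xfff38ab607152b4ec162ba5e91c569d831f64578220c8cbd64ca392d3ea6b07772f983ed0afcda430845de419197b50e4998ec006c739d25a7d4d13827ae0f6e5a90f31344bae7dbd2a15f9b55c0061c144fe88bbc97bcf56323682af721de68133d465ac9d9c7800d8e74927d0ba534ff3aa9b6eee042718804f5c1f06a5cb9be154d21e63216afc689328f5d7b7bc2a55620eca2bf71eb6b381ff4cb60c382945c1fdd885629173e6f93779b0cead2d8a3264750597019adef84e43bcd10a4e12267a8d6f8359f2c7c6bb38f1484c6e01b5ba9cf125d507a1bd433ef4baea69fe75200142d375dd9a8c0907c8964e35749011ebd9e83f44aca00d5397fe2708b7dedc2a9a43636cc70b285842d18cdf9513966a24651ebb2ce76fb1a3f0f850decab441834d951e090a57f63da482a2ed7b76703fe939c96d518df21874268530b9cccf8e3fbb117642c5eb065aa2fbb87cdf273526f3a8626ce19d5b12e9c45b1010c6548f8fa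20be7e694ae1f40335bdf7aa4e889d077c029a35d6d3c149c250508ba4cf16ed1b5f1984ac66b3e5922c78dbf8312f675969e3109d7c8dd4a8c42037375f007eab9fe3e24baa16d4743b363dcfa9a0867de972e21a0dd553f94aceb09e874401ef0285a6f61a3bbfce724b51813466c8c0f955892d1c7db22e9e9c676a03fa23d7b3d74840a87f095ce0941534dde1abb5a72ffc53b0611a6428eefbdb91cc9265530f2c8746d81898f5fad101654c48b105bc2ef6c319bf3786227e526b8acd03cc494a38d6d771029e859d6dfaaa240e35b947e1f0b37edc81bd957522083cf641c869b2b75efb43c1660a152ffe8a47b80e0e4c91930545daf1da298eed607a72fd33a6b4c7396aeadb231e44be5790f7a30f04dc384d28a7d061739995ecf1d368b827f7256e236c9abc9fe58bd611144b58c002ac5f304f7179bbeee4f23aad06a55e7992178d0d8ac4d9c33046ab76c2e2825d7fcb89363f16c540218cb4be11fd6a5809f5862417cfd08852995c1b6dc3e812f4a1e66b3cafbf755b201d1da454e93bc9a0ef805470732b473adfd8a7960cee629384b43ecd40a150097519fdeaea82dda376423e3f9677cb091f8d8d567912cb30c682c45971bb6e384ff1a50625ecf2ba32df587b2bc7e66213af968c5ce9bb151d248854f0c1a06fa9e6ebe01274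7d5ba034af3fc7d0088e2497136d435a99dc687af2218e6dbcc7b9f53326064c114fb88ed2f15a9b05c5f34341bab7de27fe0a6e0a959d75a2d4813d49c8e9003c76de119497e50b0aacdf435840b02777f9d3e8649a3c2d6ea34528270cdcb891956cd861f32b1ec462ea5bffa38fb657109a65d3d3914c4ed898072c07f45330bda7af20ee7b691ae4015c6048a8ffd5e12b9c15b46f6a83269e1cbbd7c8f223572c0eb565fa2af8b3feb147614238560bccc996851ddf7182b73706fec399638a4d2a7ed2d901e590f57a0dbcae44483176ab1f3f5f80a21654ebe2cb189dfc516963cc20b785d428ed92aca46633392fe770db7883a44fca50d05719041eed9bc0c0798934e6147d325d89adaef69ae702057a4bd133bf4e5bf9ca120d558f4481c6b01e35cf297c3bb6e17262a886fdb917e4f0e37b6daaaf245e30d721079ed598039c4c4a68d3222e576bdac8f6931cbf67834c18b405ec2b98a5ffd151600f7c8246881ddbc1c9923556614a6128befeb5f72afc03b5944531ddb1ae40f87a090ce5fa73d2b3874d2ece99673a0655d9281c2db7816463c890fc3befcb721b54ef5280a6a61fcee09b8714041a5dd053a94fa0d678e922e7746b333d9face3b24eaa46d1370f057efb9a8d84adc470325939e610cd79788bfd317f62ac36b6e5c229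16bd1e5f4981c200558bf4caa7c609ee3296737b423a8fddc9f0ea8004751d4da154b93e3cffba750b25e842f1a1b66e52c9591b3dc6867412cf808d11ad6f5859f0c510248ce4bb7f9b8c366f13ab26c7e2d2588a94dcc360435e299717dd08e4a23fad56a0301f7479ebeb4b08c502fc5a9fb58ed64111253e266ccab9f1836db877f2d0317699c5e9048c3d4d78a2be0795f7f30a6abade234e41fd63a3b4973c29dee8602a77935540daa1df47e80b0e1c94665a102fae8fb2e75bfb13c4086cf341986cdcd1b89525274e289707dc089a95dcd36143201e7469eaebf4a33fbd57a0d511249ce5bb01ac6f4858f0bb27c7f2d3586f9a8c266e13f843f1b1b76e2cfeba650a25967512df818d42c8590b3cc6637a422a8eddb7c709fe33960d4ca144b83ed9f1ea900575a2e65beb12c4765b103faf8fccd0b8852427186df351996c39dfe8702b77ed62a3a4963c57e90b1e1d94835440caa0df148d3d5d79a2c0307689c4e97abbde334f41ae0695e7f20a8fb48ec640115b09c512fd5ae1826da876f2353f267ccbb950f97a190de5844431cdb0ae3ecf99773b06ea72d2a3864dcbc0c98234561f7d8256891da5f62aec02b5714b6138bffee6921caf6683322f577bdbc888a4ffc150605c19b415ed2b7dabaf345f30a916e4e0e27b139d4c5a69d3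c720078ed498bc37b6f5c329688afd217e62d201559bf5ca06bc1e4f4881270e056efa9af3b34eba47d14938e600cc799d85add471320a5cd043a84fdee19b971504646a332d9eacb0d778f923e7916563d891fc45d8280c2cb7ff5380b6a71f2beecb621a54738b4d3a7fd2a73606eec2991dbdae544931c900e580f47ae8b2fea146613c0fb575fb2a86841dcf70825239561bcdc9c5e02b8c14b4115d6058a9ffabd6c8e222577f6b83369f1c5ed998172d078a64d3c3904c30ef7b791be4e45230ada6af9f4581d6b11e4bf8ca020c55f17362b887fd25ce296c3ab6047c324d88add0c1799935e66a4ad123be4ebef79af70305292ee760da78fd93acb467334718040eec9b93a54fda51d0b21754fbe3cb66aa1f2f5e80dc21b795d528089cfc4168636d5aa024ae3fb9e7ebf01374036c434a98dcd7d1089e2597f66313bf978c22de586b2ac79855f0d1a16f4ce8bb051c24db31c692c5590f8c8d467812b50725fcf3ba61ba6e284ef140087509fcea94b53edd41a12e3e9667ca09fa83ddb3774281946cc860f35529271cddb8efa28fa656103b1fc472eb5b1aaddf535940ce109487e40b749b3c3d6fa3a02677e9d2e837ff0a7e0b95e34241aab6de59c9e9103d768d74a2c4803dacc6b9e53226787bf2318f6dc2f05a8b04c5164d115fb98e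356f237c9bbce1d268a826f75b59c012ad5f8fe48bc61014ae5690e7a20f7aebdb331f44c060738994ec14dd385d29a7830445caf0da57b90e1e4d91ed32a6a4c639398fed707b72183df651c969cc80bd857422760b153fff8aa2b65eeb42c1d9a1ef9055700d1ca444e83bb7970cfe6393632a472aded842985c0b6cc3962517dfd1882caebf655a20f813f4b1e76b6fca89263e16bb77c2f2835d01fc6a4808f5d541219cb5bef4f33abd07a5204e7169baee9ac5d9d331464e7892078c0d2bbece624a51ff0385b6f71a45882d0c7cb2913566d8c1f9b0877df973e2643a362dcea9deb19e9745010a0cd543f84a9dd5a8d421374968e3009c7cf3e34bba17d4275e006eaa9f06ec1b4f1884d251509ba5cf68daf8212e67bc67b3f5932cc770028e849d13cd495a39d6a946e1e0b27e7dfbaa340f355c49b115bd2e88f4fac10065327f527b8bcde6c219af3686711b6438effba5a62fec52b01f2d8756d918cb90cc826453ea22d7a3d6483e9f9c776b03841434cde0ab50a97f195de008ccf9413866dc71b295852d66fa1a2f0e85b24751fbb3ce93f54ada01d54748010ebc9efdc3a9b43736297ee2608a7dbea79ff753006a1ad423ee4bd0917c9965e3042c374dd8a8259e2c6c6ab3f12367b8d7f84ba8cf025c509f1584d6e11be40235adf6aa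30bf7e794be18a34d6c3c0495e899d177d027f3b8636cf19ab86cde27252110d6558f9fac5b02e8c44b15269531b9dcc86d418cf20873c5fb075ab2fe8e2fba11664c950e080a47f1dedab541934a76603ee929c73db483a2fd7161d145fe98bc2a05f8b54c0782bf731df68ac96bce562238d24a7c4d0385999ec106d73e31244aae6db37af0f7e5b90a07672e982ed74cb393d3fa6ce409187b40e1afdda5309453b4fc172bb5eeff28aa606155579221c8dbd81c469c830f6fad3d8b327472e6e93679a0c94e53bdd11a440587009acef61ea6b281ef4b55720fca3bf0fdc88462817db61c392955c4cb8be054c219805f5d1f16a228e5d6b7ac2f63316bfc789d7810d9e7592033c464ac8d9b9b7eef043716d0aa524fe3a1c5db055a92fc8e0fb811464726b533b9fcca6d618ef2287876403ce909c53d9481a2dd7e952e0a0a67f3defab741b34aa36d6e3c2497e8b9d377f02c400358df4aa10bd7e5949e1310f6578fbfae5b22eac46b15f398616cd198b84cdc27052f0937cb967e3242e376ddaa89ea59fd751004a18d403ec4b6baacf225e50bf1784f6e31b059c2c4c68b3d1216798d5f846f81a0f0c85924551dbb1ce28cef9613a66fc73b2b5872dddc1a9943536097ce240887db3f74afa03d5674a012ebe9e028c5d4b78c2d631169fc589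6cbabe254e21b807f5f1f36a99b5eed041714d08a504fc3af7830dbe7792233e466acad9b4e73bfd13a4605a7029aeefdad1d89325470e6c9347980c2fde88662a17fb63c3b2975c41e86b081cf4955520dca1bfee4291a7b60e3affda730b45807472c980ed54c9391d3da6757b223c8fbda1c669e832f61b4dc152b95ecff08a8604155829f711dd688c94bcc56023361f147feb8be2a25fab56c0c310448ae4db17ad0f5e5990ad26a7e4d238799bec306f7321fe6a680af5f54321bcb7be4fc889063c169b75c2d2815dbac7d9f333466e7a92278e0dd4f13a9d05a5004c7149b8ee97950cde61934328470adcd8f9a3efb057702d1ea464ea3b0cacbf455820d811f491e56b629a5c2b6ec3b62717ffd388cd30a684c439198ded507972a30645eaf2da77bb0e3e4f915609151ffd8a82b45ecb40c1383ff671cb69ec82bda576227b5bc032af5fafe68be61214156d235c99bcc1d0688824f7e06273a996ec34df387d2ba78e5490c7a00f5ae9db131d443f2f8776db18eb92cca2665351196418edfb85a42fcc50b0a41634ede2ab70ab7f395fe0ca20d783d4481e9d9c5769038944e1c0b07e5df9aa140d35e77202ae869d33cf497a3bd6127d525b89cdc6c0198f34867c4bb135bf2ea8f6fae10265d3e14b9a15d4075c004ea89fbdd7a8f42337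696ae3209e7c48d8f8012c679c65b3d5912c26ee1b6f1a84f25350bba7cf658a2d2c7eb2b13766f8c3f90bbcce424851df018596f51afeb39eb747012a0ed563fa4a90857dd971e24438360dcca9671a042eee9bb3a74ffa53d0092ce740d878dd91ac946533fc23b7b5d728289efc616a63921554dbe1cb46a81f0f5c80d171629885fd05cc294c38b6bf4781f6b31e6bfaca220e554a48d103bc4e9ef59ad70105247e326d8aadf0c379b937e68bd4c8c220575f6983169d1ce5e22bac16b4315f6078abff10ed7b5919e4c450308da4af7edb98372f07aa66d3e3924c3dbfae744b31e902e5a0f67a53894d1a7dd2873406cec099a6861def7282723b563bcfc9c8b0fe8144611c0db555f92a79cbe9303f76ad76a2e4823d17fd0a5e0995c340418ab4dee2f25aab06c5364f117fbb8e8cc4b9c530265879f2118d6dcfa08f8654101b1dc452e95ba1966ce862f3752b273cdfb854993c1d6da3802477c9d0e83aafdf735b40ee1294a7e60b950525dcf1ba41b86e084cf1fb33c6b2c7592f8e8d667a120e3c9647c809da81dd937542600a7529feeab4b73efd43a1236e436a9adcf7d308be27974d58a004ac3f99e5ebd01174b857f0f1a36f6ceabb251e24d661139f958c02dc584b28c75ab9de134d418e0495c7f00a348f3d7d7ba2e03276a9c6e9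c1806d8874f2153d265cc9b9afb68ee642117b0bc532ff5aecd2b8a52627386ff3719b6c82e45bcb10c45659101fad8f77eb0b3e1f94a35640eaa2df19dde8502977cd60a384943cb67712ff838d62ca592b3ec6d841f191b56e0cfcba4508252d4ea164ba3ef9f3eab007754378420a8cdd97c509de3196001c7449e8ebd4a13f9d55a06e2a9727de08ba97dcf363439b25c7d2d1584f988c066c13f51324bce7bb21ae6f685af04468330d9cac90d578d921e72a5ed063aa4ffee39bb71704df518096a51f0beccb421854b16763f893fc65da282c2eb7f20355bbf7ca26be1e6f4a819c35b6d5c1294888fd017c62693ae620ce79bd87adf47332070c054ef89ad3b14e9a45d1a8a6ffe152607c1bb435ef2bc6901c8f6483122d575bd9c8339f4c7a6bd3e72207aed6985da9af145d308914e4c0e07b1ecd99573906ca70d283844d70fb7a390fe5a44631edb2ae85f42acc00b551496118bdfeebc2c9a236563f7f82768b1dad86ade47232793be630cf79c3b04e8a44d1170d055ef99a36bf1e7f4b81e20255abf6ca5889fd117d628c34b6c5c0291bedcb521954cf508086a41f75db283c2fb7a16663e892fc80d478c920e75469331d9daceee29ba716043a5fd073ab4f41486108bcfe95f52adc01b52f7e82668a1dfbc3c9b23756da71d293854d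0ecc99473806b44731fdb3ae60fa7a290ee5f72307bed798239e4c6a6ad39915e4d0e17b4da8af045c306c1ab425ee2bb8a7fff15360022c574bd8c8d6911c9f6583b35740faa3df67ea0b2e1e94dd61a394953c09dce8402877286ef3619a6cfcd3b8b527274658100fac8f92e55bdb11c4053c264cc8b9d1816d9875f26b0ac522fe5abfb78ef643119e0595d7f10a4ab8de034c41f03376b9c7e9248e3d6d7aa25f998c166d138b24c7c2d05831af6f785bf0e51224ace6bbc4a03f8d54a0101d7459e9ebaa96dce362437e2b9737df08e9f2eaa006753d4fa174bb3e87c409ce30965379421a8ddd72cb593b3fc6a67612ef828d1cfdba550925c840f181b46e902577d9d1e844983c0d6ca3fe1394b7e70b2aaedf635a400b1cc442e85bdfa18f965510652a272cdeb8b1976cf863f3264e116fba8ef2f35abb07c54878f2018c6d9cc5b9d53126bd77a2f4833d69cae9203e76d341419ab5de07fc0a4e08957cebbb351f24a856f0e1a26f12dd585b29c7c660138f948ce7d208ae2697336f437a9bdc89e4ebc010745d59a014ad3fca80dd8374421e3d9657c909a4b63eed42a1700b7539ffea51b96e184df1850425ccf0ba3f8f8d767b12eb32c6a2c6598ef49ac700055a49d113bd4ee0c279a936e6347f327d8bad15cd295c39b6c170628884fd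7bfbca320f55af4681e6b21e389ffc716b63ec22b7a5d62856a91f1f5d80821454cbe0cba3a64fea52d0771b043eef9bcd90ac846433192de750d978623a562bcec9b6871dff73820c0cb545f82ad8b1fe914561f903e5b0f77a2dbeae644a31973506dec19943884d0a7cd2d451309da5af00ec7b4918e4ba67d3f3934c6eda98272e074f6883069c1c9bd5c8d22157215e6068aafff5e32bbc17b4d6c1199f3586027c524b88cdb8f7faf103656c4ab125be2e4df8aa040c359945e1d0b17e23ce496a3ad6f77302be879d60aa7f295ee0b41734fde3ab0e9c9c476803da21d793d548fb93ccb267532f2e8766da1895a52fdc51b041186408ecfb3a0fd573fb4aeeb29ea746015439361dcda980847dc970e2a13666e8c2f9758b2d3c7fb2cf008586f41a1bbdce5249518c64b3c5902c58d9f8112d67e25250aba6cf36ef1b7f1b84175d005ea99fc3e04b8a14d4796be3309f7cadd6a8e42237c810f481e46b1cadbf555920a62617efd288729b5c3b6fc35329471addd887940cce60933d1fa474eb3be9a2efa056707e7b92378f0daac6d9e33246104d7159b9eec4f03a8d04a5e54221acb6be31ff6a780bf58b74c2c2805d5fc989163d1624de386d2aa7f06373b997ec4ae8db031c449e5590d7a10fbfe78bf613146b5ac022ae5fd1d1689825f7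056c234c98bc92b55edb41c14608150ffc8afc83bdb57722283ef661ca69098ced407872dd31a694c53967ba0e2e4e91b30745faf3daeb62c3a2965c3fdf88762b17855420cca0bf51e96b181df4705b7039afefa4e63bed12a41e6d9357990ccad0d88324475d09a514fd3a89b4eec04071333f467acbd9e7820dae7692c630168fc489128d5d5b79c2a806f5e1f26a7cbbbe354f2107ac0f4e5890d311449ae5db699aec206e73bd27a7f4d3389c95bcd561234828f701dc68f2a35fbb57c0261e146fea8bb1c769f833f6657a222c8ebddff18a9605150b4cc142b85e2afeda630a45fe4391b7b70e44c8390d3ca6907572d981edf5b32ebc47b1210e6568fafa9b85cdd271524f388606cc196e8a9d277e02ba37d6f3c34900bc7e4948e1d401359df5aa43d8480a2cd7976503de919c2deeab641a34f953e0b0a77fd8e1fb9115640c5cb045a82fb6d718ff2387626a532b9ecc197de250897dcdc0a9843436774b013ebf9ea3f64aea02d5824451cbb0ce56f91a1f0d85ec72b2a5862d38cff9713b66af1684e6e21b7babcf325f50c1206788d4f8159d2c5c69b3342f377ddba8e0927ca966e35a19d413ed4b8ea49fc75000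

/-- The systematic basis of the code (24 bits each). -/
def basT : ℕ := nat_lit 0xe3a800b1d4007b42003da1001ed080ecc040b660209b30106e3008d4b00449f002c75001

/-- The basis words as sums of the generating words. -/
def combT : ℕ := nat_lit 0x8006258006630000650005430007d08005cd8007978006ba0005788004990001188006a9

/-- The masks of the 24 generating words. -/
def genT : ℕ := nat_lit 0xffffff4299af614cd770a66b7853357c299a3e14cd5f0a662f853357c2996be14c35f0a61af8534d7c2966be14335f0a19af854cd7c2266be15335f0299af814cd7c0a66be05335f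

/-- The code word whose first twelve bits are `x`. -/
def cw (x : ℕ) : ℕ :=
  Nat.lor x (Nat.shiftLeft
    (Nat.land (Nat.shiftRight parT (Nat.mul (nat_lit 12) x)) (nat_lit 4095)) (nat_lit 12))

/-- Membership test for 24-bit masks. -/
def inC (m : ℕ) : Bool :=
  Nat.beq (Nat.shiftRight m (nat_lit 12))
    (Nat.land (Nat.shiftRight parT (Nat.mul (nat_lit 12) (Nat.land m (nat_lit 4095))))
      (nat_lit 4095))

/-- The syndrome of a 24-bit mask (a 12-bit number). -/
def syn (m : ℕ) : ℕ :=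
  Nat.xor (Nat.shiftRight m (nat_lit 12))
    (Nat.land (Nat.shiftRight parT (Nat.mul (nat_lit 12) (Nat.land m (nat_lit 4095))))
      (nat_lit 4095))

/-- Linear combination of the rows of a table. -/
def lin (T n x : ℕ) : ℕ := xorLt n fun i => Nat.mul (bit x i) (img 24 T i)

theorem lin_succ (T n x : ℕ) : lin T (n + 1) x = lin T n x ^^^ (bit x n * img 24 T n) := rfl

theorem lin_xor (T n x y : ℕ) : lin T n (x ^^^ y) = lin T n x ^^^ lin T n y := by
  induction n with
  | zero => simp [lin, xorLt]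
  | succ n ih =>
    rw [lin_succ, lin_succ, lin_succ, ih, bit_eq, bit_eq, bit_eq, Nat.testBit_xor]
    generalize lin T n x = a
    generalize lin T n y = b
    generalize img 24 T n = c
    apply Nat.eq_of_testBit_eq
    intro i
    cases x.testBit n <;> cases y.testBit n <;> simp only [Nat.testBit_xor] <;>
      cases a.testBit i <;> cases b.testBit i <;> cases h : c.testBit i <;> simp [h]

theorem word_lin_mem (C : Submodule (ZMod 2) (GolayPt → ZMod 2)) (T n x : ℕ)
    (h : ∀ i, i < n → word (img 24 T i) ∈ C) : word (lin T n x) ∈ C := by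
  induction n with
  | zero => exact word_zero ▸ C.zero_mem
  | succ n ih =>
    rw [lin_succ, word_xor]
    refine C.add_mem (ih fun i hi => h i (Nat.lt_succ_of_lt hi)) ?_
    rw [bit_eq]
    split_ifs
    · rw [one_mul]; exact h n (Nat.lt_succ_self n)
    · rw [zero_mul, word_zero]; exact C.zero_mem

theorem cw_check : allLt 4096 (fun x => band (Nat.beq (cw x) (lin basT 12 x))
    (band (Nat.beq (Nat.mod (cw x) 4096) x) (band (Nat.blt (cw x) 16777216) (inC (cw x))))) = true := by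
  decide +kernel

theorem cw_spec {x : ℕ} (h : x < 4096) :
    cw x = lin basT 12 x ∧ cw x % 4096 = x ∧ cw x < 2 ^ 24 ∧ inC (cw x) = true := by
  have := allLt_iff.mp cw_check x h
  simp only [band_eq, Bool.and_eq_true, Nat.beq_eq, Nat.blt_eq] at this
  exact this

theorem cw_lt {x : ℕ} (h : x < 4096) : cw x < 2 ^ 24 := (cw_spec h).2.2.1
theorem cw_mod {x : ℕ} (h : x < 4096) : cw x % 4096 = x := (cw_spec h).2.1
theorem inC_cw {x : ℕ} (h : x < 4096) : inC (cw x) = true := (cw_spec h).2.2.2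

theorem cw_xor {x y : ℕ} (hx : x < 4096) (hy : y < 4096) : cw (x ^^^ y) = cw x ^^^ cw y := by
  rw [(cw_spec hx).1, (cw_spec hy).1, (cw_spec (Nat.xor_lt_two_pow (n := 12) hx hy)).1, lin_xor]

theorem cw_inj {x y : ℕ} (hx : x < 4096) (hy : y < 4096) (h : cw x = cw y) : x = y := by
  rw [← cw_mod hx, h, cw_mod hy]

theorem cw_mod_of_inC {m : ℕ} (h : inC m = true) : cw (m % 4096) = m := by
  have h1 : m >>> 12 = (parT >>> (12 * (m &&& (2 ^ 12 - 1)))) &&& 4095 := Nat.eq_of_beq_eq_true h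
  have h2 : cw (m % 4096) = (m % 4096) |||
      (((parT >>> (12 * (m % 4096))) &&& 4095) <<< 12) := rfl
  rw [Nat.and_two_pow_sub_one_eq_mod] at h1
  rw [h2, show (4096 : ℕ) = 2 ^ 12 from rfl, ← h1]
  apply Nat.eq_of_testBit_eq
  intro i
  rw [Nat.testBit_or, Nat.testBit_mod_two_pow, Nat.testBit_shiftLeft, Nat.testBit_shiftRight]
  by_cases hi : i < 12
  · simp [hi, not_le.mpr hi]
  · simp [hi, not_lt.mp hi]

theorem inC_iff {m : ℕ} : inC m = true ↔ ∃ x, x < 4096 ∧ cw x = m :=
  ⟨fun h => ⟨_, Nat.mod_lt _ (by norm_num), cw_mod_of_inC h⟩, fun ⟨_, hx, h⟩ => h ▸ inC_cw hx⟩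

theorem lt_of_inC {m : ℕ} (h : inC m = true) : m < 2 ^ 24 := by
  obtain ⟨x, hx, rfl⟩ := inC_iff.mp h
  exact cw_lt hx

theorem inC_xor {a b : ℕ} (ha : inC a = true) (hb : inC b = true) : inC (a ^^^ b) = true := by
  obtain ⟨x, hx, rfl⟩ := inC_iff.mp ha
  obtain ⟨y, hy, rfl⟩ := inC_iff.mp hb
  rw [← cw_xor hx hy]
  exact inC_cw (Nat.xor_lt_two_pow (n := 12) hx hy)

theorem inC_zero : inC 0 = true := by decide +kernel
theorem inC_full : inC (2 ^ 24 - 1) = true := by decide +kernel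

theorem word_gen : ∀ t : ZMod 23, word (img 24 genT t.val) = qrWord t := by decide +kernel

theorem word_full : word (2 ^ 24 - 1) = 1 := by decide +kernel

theorem word_gen_mem (i : ℕ) (hi : i < 24) : word (img 24 genT i) ∈ golayCode := by
  apply Submodule.subset_span
  by_cases h : i < 23
  · left
    refine ⟨(i : ZMod 23), ?_⟩
    rw [← word_gen, ZMod.val_cast_of_lt h]
  · right
    obtain rfl : i = 23 := by omega
    exact word_full

theorem bas_check :
    allLt 12 (fun i => Nat.beq (img 24 basT i) (lin genT 24 (img 24 combT i))) = true := by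
  decide +kernel

theorem gen_check : allLt 24 (fun i => inC (img 24 genT i)) = true := by decide +kernel

theorem word_mem_of_inC {m : ℕ} (h : inC m = true) : word m ∈ golayCode := by
  obtain ⟨x, hx, rfl⟩ := inC_iff.mp h
  rw [(cw_spec hx).1]
  refine word_lin_mem _ _ _ _ fun i hi => ?_
  rw [Nat.eq_of_beq_eq_true (allLt_iff.mp bas_check i hi)]
  exact word_lin_mem _ _ _ _ word_gen_mem

theorem exists_inC_of_mem {v : GolayPt → ZMod 2} (h : v ∈ golayCode) :
    ∃ m, inC m = true ∧ word m = v := by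
  induction h using Submodule.span_induction with
  | mem v hv =>
    rcases hv with ⟨t, rfl⟩ | hv
    · exact ⟨_, allLt_iff.mp gen_check t.val (lt_trans t.val_lt (by norm_num)), word_gen t⟩
    · exact ⟨_, inC_full, word_full.trans hv.symm⟩
  | zero => exact ⟨0, inC_zero, word_zero⟩
  | add v u _ _ hv hu =>
    obtain ⟨a, ha, rfl⟩ := hv
    obtain ⟨b, hb, rfl⟩ := hu
    exact ⟨_, inC_xor ha hb, word_xor a b⟩
  | smul c v _ hv =>
    by_cases hc : c = 0
    · exact ⟨0, inC_zero, by rw [hc, zero_smul, word_zero]⟩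
    · rw [zmod2_eq_one_of_ne_zero c hc, one_smul]; exact hv

theorem word_mem_iff {m : ℕ} (hm : m < 2 ^ 24) : word m ∈ golayCode ↔ inC m = true := by
  refine ⟨fun h => ?_, word_mem_of_inC⟩
  obtain ⟨a, ha, h1⟩ := exists_inC_of_mem h
  rwa [← word_inj (lt_of_inC ha) hm h1]

/-- The code as a family of subsets of the 24 points. -/
abbrev Code : Set (Finset GolayPt) := supports (golayCode : Set (GolayPt → ZMod 2))

theorem support_mem_code_iff (v : GolayPt → ZMod 2) : support₂ v ∈ Code ↔ v ∈ golayCode :=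
  ⟨fun ⟨_, hu, h⟩ => support₂_injective h ▸ hu, fun h => ⟨v, h, rfl⟩⟩

theorem ofMask_mem_code {m : ℕ} (hm : m < 2 ^ 24) : gE.ofMask m ∈ Code ↔ inC m = true := by
  rw [← support_word, support_mem_code_iff, word_mem_iff hm]

theorem ofMask_mem_of_inC {m : ℕ} (h : inC m = true) : gE.ofMask m ∈ Code :=
  (ofMask_mem_code (lt_of_inC h)).mpr h

theorem mem_code_iff_toMask (s : Finset GolayPt) : s ∈ Code ↔ inC (gE.toMask s) = true := by
  rw [← ofMask_mem_code (gE.toMask_lt s), Enc.ofMask_toMask]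

theorem mem_code_iff (s : Finset GolayPt) : s ∈ Code ↔ ∃ x, x < 4096 ∧ gE.ofMask (cw x) = s := by
  constructor
  · intro h
    obtain ⟨x, hx, h1⟩ := inC_iff.mp ((mem_code_iff_toMask s).mp h)
    exact ⟨x, hx, by rw [h1, Enc.ofMask_toMask]⟩
  · rintro ⟨x, hx, rfl⟩
    exact ofMask_mem_of_inC (inC_cw hx)

theorem mem_octads {s : Finset GolayPt} : s ∈ octads ↔ s ∈ Code ∧ s.card = 8 := Iff.rfl
theorem mem_dodecads {s : Finset GolayPt} : s ∈ dodecads ↔ s ∈ Code ∧ s.card = 12 := Iff.rfl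

theorem ofMask_mem_octads {m : ℕ} (hm : m < 2 ^ 24) :
    gE.ofMask m ∈ octads ↔ inC m = true ∧ pc24 m = 8 := by
  rw [mem_octads, ofMask_mem_code hm, card_ofMask24 hm]

theorem ofMask_mem_dodecads {m : ℕ} (hm : m < 2 ^ 24) :
    gE.ofMask m ∈ dodecads ↔ inC m = true ∧ pc24 m = 12 := by
  rw [mem_dodecads, ofMask_mem_code hm, card_ofMask24 hm]

theorem ofMask_mem_octads_of {m : ℕ} (h : band (inC m) (Nat.beq (pc24 m) 8) = true) :
    gE.ofMask m ∈ octads := by
  simp only [band_eq, Bool.and_eq_true, Nat.beq_eq] at h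
  exact (ofMask_mem_octads (lt_of_inC h.1)).mpr h

theorem ofMask_mem_dodecads_of {m : ℕ} (h : band (inC m) (Nat.beq (pc24 m) 12) = true) :
    gE.ofMask m ∈ dodecads := by
  simp only [band_eq, Bool.and_eq_true, Nat.beq_eq] at h
  exact (ofMask_mem_dodecads (lt_of_inC h.1)).mpr h

/-- To prove a property of all code words, check the 4096 masks. -/
theorem forall_code {Q : Finset GolayPt → Prop} (q : ℕ → Bool)
    (hq : ∀ m, m < 2 ^ 24 → inC m = true → q m = true → Q (gE.ofMask m))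
    (h : allLt 4096 (fun x => q (cw x)) = true) : ∀ s ∈ Code, Q s := by
  intro s hs
  obtain ⟨x, hx, rfl⟩ := (mem_code_iff s).mp hs
  exact hq _ (cw_lt hx) (inC_cw hx) (allLt_iff.mp h x hx)

/-- To count the code words with a property, count among the 4096 masks. -/
theorem ncard_code {A : Set (Finset GolayPt)} (q : ℕ → Bool) (hA : A ⊆ Code)
    (hq : ∀ m, m < 2 ^ 24 → inC m = true → (gE.ofMask m ∈ A ↔ q m = true)) :
    A.ncard = countLt 4096 (fun x => q (cw x)) := by
  rw [countLt_eq, ← Set.ncard_coe_finset]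
  symm
  apply Set.ncard_congr (fun x _ => gE.ofMask (cw x))
  · intro x hx
    simp only [Finset.coe_filter, Finset.mem_range, Set.mem_ofPred_eq] at hx
    exact (hq _ (cw_lt hx.1) (inC_cw hx.1)).mpr hx.2
  · intro x y hx hy h
    simp only [Finset.coe_filter, Finset.mem_range, Set.mem_ofPred_eq] at hx hy
    exact cw_inj hx.1 hy.1 ((gE.ofMask_inj (cw_lt hx.1) (cw_lt hy.1)).mp h)
  · intro s hs
    obtain ⟨x, hx, rfl⟩ := (mem_code_iff s).mp (hA hs)
    refine ⟨x, ?_, rfl⟩
    simp only [Finset.coe_filter, Finset.mem_range, Set.mem_ofPred_eq]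
    exact ⟨hx, (hq _ (cw_lt hx) (inC_cw hx)).mp hs⟩

theorem empty_mem_code : (∅ : Finset GolayPt) ∈ Code := gE.ofMask_zero ▸ ofMask_mem_of_inC inC_zero

theorem univ_mem_code : (Finset.univ : Finset GolayPt) ∈ Code :=
  gE.ofMask_full ▸ ofMask_mem_of_inC inC_full

theorem symmDiff_mem_code {s t : Finset GolayPt} (hs : s ∈ Code) (ht : t ∈ Code) :
    symmDiff s t ∈ Code := by
  rw [← gE.ofMask_toMask s, ← gE.ofMask_toMask t, ← Enc.ofMask_xor]
  exact ofMask_mem_of_inC (inC_xor ((mem_code_iff_toMask s).mp hs) ((mem_code_iff_toMask t).mp ht))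

theorem compl_mem_code {s : Finset GolayPt} (hs : s ∈ Code) : sᶜ ∈ Code := by
  rw [← gE.ofMask_toMask s, ← Enc.ofMask_xor_full]
  exact ofMask_mem_of_inC (inC_xor ((mem_code_iff_toMask s).mp hs) inC_full)

theorem weight_check : allLt 4096 (fun x => memL [0, 8, 12, 16, 24] (pc24 (cw x))) = true := by
  decide +kernel

/-- The weights of the code. -/
theorem card_of_mem_code {s : Finset GolayPt} (hs : s ∈ Code) :
    s.card = 0 ∨ s.card = 8 ∨ s.card = 12 ∨ s.card = 16 ∨ s.card = 24 :=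
  forall_code (Q := fun s => s.card = 0 ∨ s.card = 8 ∨ s.card = 12 ∨ s.card = 16 ∨ s.card = 24)
    (fun m => memL [0, 8, 12, 16, 24] (pc24 m))
    (fun m hm _ h => by rw [card_ofMask24 hm]; simpa [memL_iff] using h) weight_check s hs

theorem card_symmDiff_add {α : Type*} [DecidableEq α] (s t : Finset α) :
    (symmDiff s t).card + 2 * (s ∩ t).card = s.card + t.card := by
  have h1 : symmDiff s t = (s ∪ t) \ (s ∩ t) := by
    ext x; simp only [Finset.mem_symmDiff, Finset.mem_sdiff, Finset.mem_union, Finset.mem_inter]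
    tauto
  have h2 := Finset.card_union_add_card_inter s t
  have h3 : ((s ∪ t) \ (s ∩ t)).card + (s ∩ t).card = (s ∪ t).card :=
    Finset.card_sdiff_add_card_eq_card (Finset.inter_subset_union)
  rw [h1]; omega

/-- Two code words meet in an even number of points. -/
theorem card_inter_even {s t : Finset GolayPt} (hs : s ∈ Code) (ht : t ∈ Code) :
    (s ∩ t).card % 2 = 0 := by
  have h1 := card_symmDiff_add s t
  have h2 := card_of_mem_code hs
  have h3 := card_of_mem_code ht
  have h4 := card_of_mem_code (symmDiff_mem_code hs ht)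
  omega

/-- Code words at distance less than 8 are equal. -/
theorem eq_of_card_symmDiff_lt {s t : Finset GolayPt} (hs : s ∈ Code) (ht : t ∈ Code)
    (h : (symmDiff s t).card < 8) : s = t := by
  have h4 := card_of_mem_code (symmDiff_mem_code hs ht)
  have : (symmDiff s t).card = 0 := by omega
  rw [Finset.card_eq_zero] at this
  exact symmDiff_eq_bot.mp this

/-- Two octads with five common points are equal. -/
theorem octad_eq_of_five {s t : Finset GolayPt} (hs : s ∈ octads) (ht : t ∈ octads)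
    (h : 5 ≤ (s ∩ t).card) : s = t := by
  apply eq_of_card_symmDiff_lt hs.1 ht.1
  have h1 := card_symmDiff_add s t
  rw [hs.2, ht.2] at h1
  omega

/-- Distinct octads meet in 0, 2 or 4 points. -/
theorem card_inter_octads {s t : Finset GolayPt} (hs : s ∈ octads) (ht : t ∈ octads) (hne : s ≠ t) :
    (s ∩ t).card = 0 ∨ (s ∩ t).card = 2 ∨ (s ∩ t).card = 4 := by
  have h1 := card_inter_even hs.1 ht.1
  have h2 : ¬ 5 ≤ (s ∩ t).card := fun h => hne (octad_eq_of_five hs ht h)
  omega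

theorem ncard_code_eq : Code.ncard = 4096 := by
  rw [ncard_code (fun _ => true) subset_rfl fun m _ h => by simp [ofMask_mem_of_inC h]]
  decide +kernel

theorem ncard_octads : octads.ncard = 759 := by
  rw [ncard_code (fun m => Nat.beq (pc24 m) 8) (fun _ h => h.1)
    fun m hm h => by simp [ofMask_mem_octads hm, h]]
  decide +kernel

theorem ncard_dodecads : dodecads.ncard = 2576 := by
  rw [ncard_code (fun m => Nat.beq (pc24 m) 12) (fun _ h => h.1)
    fun m hm h => by simp [ofMask_mem_dodecads hm, h]]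
  decide +kernel

theorem card_golayCode : Nat.card golayCode = 4096 := by
  rw [← ncard_code_eq, Code, supports, Set.ncard_image_of_injective _ support₂_injective]
  rfl

/-! ### Syndromes -/

theorem syn_eq (m : ℕ) : syn m = (m ^^^ cw (m % 4096)) >>> 12 := by
  have h1 : syn m = (m >>> 12) ^^^ ((parT >>> (12 * (m &&& (2 ^ 12 - 1)))) &&& 4095) := rfl
  have h2 : cw (m % 4096) = (m % 4096) |||
      (((parT >>> (12 * (m % 4096))) &&& 4095) <<< 12) := rfl
  rw [h1, h2, Nat.and_two_pow_sub_one_eq_mod, show (4096 : ℕ) = 2 ^ 12 from rfl]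
  apply Nat.eq_of_testBit_eq
  intro i
  simp only [Nat.testBit_xor, Nat.testBit_shiftRight, Nat.testBit_or, Nat.testBit_mod_two_pow,
    Nat.testBit_shiftLeft]
  simp

theorem syn_xor (a b : ℕ) : syn (a ^^^ b) = syn a ^^^ syn b := by
  rw [syn_eq, syn_eq, syn_eq, show (4096 : ℕ) = 2 ^ 12 from rfl, Nat.xor_mod_two_pow,
    cw_xor (Nat.mod_lt _ (by norm_num)) (Nat.mod_lt _ (by norm_num)), ← Nat.shiftRight_xor_distrib]
  congr 1
  apply Nat.eq_of_testBit_eq
  intro i
  simp only [Nat.testBit_xor]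
  cases a.testBit i <;> cases b.testBit i <;> simp

theorem syn_eq_zero_iff (m : ℕ) : syn m = 0 ↔ inC m = true := by
  unfold syn inC
  rw [Nat.beq_eq]
  exact Nat.xor_eq_zero_iff

theorem syn_eq_iff (a b : ℕ) : syn a = syn b ↔ inC (a ^^^ b) = true := by
  rw [← syn_eq_zero_iff, syn_xor, Nat.xor_eq_zero_iff]

theorem syn_lt {m : ℕ} (hm : m < 2 ^ 24) : syn m < 4096 := by
  rw [syn_eq, Nat.shiftRight_eq_div_pow]
  have := Nat.xor_lt_two_pow hm (cw_lt (Nat.mod_lt m (by norm_num : 0 < 4096)))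
  omega

theorem toMask_symmDiff (s t : Finset GolayPt) :
    gE.toMask (symmDiff s t) = gE.toMask s ^^^ gE.toMask t := by
  conv_lhs => rw [← gE.ofMask_toMask s, ← gE.ofMask_toMask t, ← Enc.ofMask_xor]
  exact gE.toMask_ofMask (Nat.xor_lt_two_pow (gE.toMask_lt s) (gE.toMask_lt t))

theorem syn_toMask_eq_iff (s t : Finset GolayPt) :
    syn (gE.toMask s) = syn (gE.toMask t) ↔ symmDiff s t ∈ Code := by
  rw [syn_eq_iff, mem_code_iff_toMask, toMask_symmDiff]

end Cfsg.Agent.H4
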