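/-
The Mathieu group `M24` of `Def_Sporadic_a`: a decidable membership test on permutation codes,
invariance of the combinatorial objects, the order 244823040, 5-transitivity, the Steiner system
of octads, transitivity on octads and dodecads.
-/
import Cfsg.Agent.H4.Golay
import Cfsg.Agent.H4.Orbit

set_option autoImplicit false
set_option maxRecDepth 100000

open scoped Pointwise
open MulAction

namespace Cfsg.Agent.H4

theorem mem_M24_of_maps {g : Equiv.Perm GolayPt} (h : ∀ s ∈ Code, g • s ∈ Code) : g ∈ M24 := by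
  rw [mem_stabilizer_iff]
  apply Set.eq_of_subset_of_ncard_le
  · rintro _ ⟨s, hs, rfl⟩; exact h s hs
  · rw [Set.ncard_smul_set]
  · exact Set.toFinite _

theorem smul_mem_code_iff {g : Equiv.Perm GolayPt} (hg : g ∈ M24) {s : Finset GolayPt} :
    g • s ∈ Code ↔ s ∈ Code := by
  conv_lhs => rw [Code, ← mem_stabilizer_iff.mp hg]
  exact Set.smul_mem_smul_set_iff

theorem smul_mem_code {g : Equiv.Perm GolayPt} (hg : g ∈ M24) {s : Finset GolayPt}
    (hs : s ∈ Code) : g • s ∈ Code := (smul_mem_code_iff hg).mpr hs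

theorem mem_M24_iff {g : Equiv.Perm GolayPt} : g ∈ M24 ↔ ∀ s ∈ Code, g • s ∈ Code :=
  ⟨fun hg _ hs => smul_mem_code hg hs, mem_M24_of_maps⟩

theorem smul_mem_octads_iff {g : Equiv.Perm GolayPt} (hg : g ∈ M24) {s : Finset GolayPt} :
    g • s ∈ octads ↔ s ∈ octads := by
  rw [mem_octads, mem_octads, smul_mem_code_iff hg, Finset.card_smul_finset]

theorem smul_mem_dodecads_iff {g : Equiv.Perm GolayPt} (hg : g ∈ M24) {s : Finset GolayPt} :
    g • s ∈ dodecads ↔ s ∈ dodecads := by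
  rw [mem_dodecads, mem_dodecads, smul_mem_code_iff hg, Finset.card_smul_finset]

theorem smul_mem_octads {g : Equiv.Perm GolayPt} (hg : g ∈ M24) {s : Finset GolayPt}
    (hs : s ∈ octads) : g • s ∈ octads := (smul_mem_octads_iff hg).mpr hs

theorem smul_mem_dodecads {g : Equiv.Perm GolayPt} (hg : g ∈ M24) {s : Finset GolayPt}
    (hs : s ∈ dodecads) : g • s ∈ dodecads := (smul_mem_dodecads_iff hg).mpr hs

theorem apply_mem_smul_iff {α : Type*} [DecidableEq α] (g : Equiv.Perm α) (a : α) (s : Finset α) :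
    g a ∈ g • s ↔ a ∈ s := Finset.smul_mem_smul_finset_iff g

theorem pull_xor (n w p a b : ℕ) : pull n w p (a ^^^ b) = pull n w p a ^^^ pull n w p b := by
  apply Nat.eq_of_testBit_eq
  intro i
  simp only [Nat.testBit_xor, testBit_pull]
  cases decide (i < n) <;> simp

theorem pull_zero (n w p : ℕ) : pull n w p 0 = 0 := by
  apply Nat.eq_of_testBit_eq
  intro i
  simp [testBit_pull]

/-- Membership test for `M24` on permutation codes. -/
def isM24 (p : ℕ) : Bool :=
  band (isPerm 24 5 p) (allLt 12 fun i => inC (pull 24 5 p (img 24 basT i)))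

theorem inC_pull_lin {p : ℕ} (n x : ℕ) (h : ∀ i, i < n → inC (pull 24 5 p (img 24 basT i)) = true) :
    inC (pull 24 5 p (lin basT n x)) = true := by
  induction n with
  | zero => rw [show lin basT 0 x = 0 from rfl, pull_zero]; exact inC_zero
  | succ n ih =>
    rw [lin_succ, pull_xor]
    refine inC_xor (ih fun i hi => h i (Nat.lt_succ_of_lt hi)) ?_
    rw [bit_eq]
    split_ifs
    · rw [one_mul]; exact h n (Nat.lt_succ_self n)
    · rw [zero_mul, pull_zero]; exact inC_zero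

theorem mem_M24_of_rep {g : Equiv.Perm GolayPt} {p : ℕ} (hg : gE.Rep g p) (h : isM24 p = true) :
    g ∈ M24 := by
  simp only [isM24, band_eq, Bool.and_eq_true] at h
  rw [← inv_mem_iff]
  apply mem_M24_of_maps
  intro s hs
  obtain ⟨x, hx, rfl⟩ := (mem_code_iff s).mp hs
  rw [hg.inv_smul_ofMask, (cw_spec hx).1]
  exact ofMask_mem_of_inC (inC_pull_lin _ _ (allLt_iff.mp h.2))

theorem exists_of_isM24 {p : ℕ} (h : isM24 p = true) : ∃ g ∈ M24, gE.Rep g p := by
  have h1 : isPerm 24 5 p = true := by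
    simp only [isM24, band_eq, Bool.and_eq_true] at h; exact h.1
  exact ⟨_, mem_M24_of_rep (gE.rep_mkPerm h1) h, gE.rep_mkPerm h1⟩

theorem sound_M24 : gE.Sound M24 isM24 := fun _ h => exists_of_isM24 h

/-- The element of `M24` with a given code. -/
noncomputable def mkM24 (p : ℕ) (h : isM24 p = true) : M24 :=
  ⟨gE.mkPerm p, mem_M24_of_rep (gE.rep_mkPerm (by
    simp only [isM24, band_eq, Bool.and_eq_true] at h; exact h.1)) h⟩

theorem rep_mkM24 (p : ℕ) (h : isM24 p = true) : gE.Rep (mkM24 p h : Equiv.Perm GolayPt) p :=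
  gE.rep_mkPerm (by simp only [isM24, band_eq, Bool.and_eq_true] at h; exact h.1)

/-- The elements of `M24` fixing the points numbered in `l` and the sets with masks in `ms`. -/
def cfg (l ms : List ℕ) : Subgroup (Equiv.Perm GolayPt) where
  carrier := {g | g ∈ M24 ∧ (∀ i ∈ l, g (gE.pt i) = gE.pt i) ∧
    ∀ m ∈ ms, g • gE.ofMask m = gE.ofMask m}
  one_mem' := ⟨M24.one_mem, fun _ _ => rfl, fun _ _ => one_smul _ _⟩
  mul_mem' := by
    rintro g h ⟨hg1, hg2, hg3⟩ ⟨hh1, hh2, hh3⟩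
    refine ⟨M24.mul_mem hg1 hh1, fun i hi => ?_, fun m hm => ?_⟩
    · rw [Equiv.Perm.mul_apply, hh2 i hi, hg2 i hi]
    · rw [mul_smul, hh3 m hm, hg3 m hm]
  inv_mem' := by
    rintro g ⟨hg1, hg2, hg3⟩
    refine ⟨M24.inv_mem hg1, fun i hi => ?_, fun m hm => ?_⟩
    · rw [Equiv.Perm.inv_eq_iff_eq, hg2 i hi]
    · rw [inv_smul_eq_iff, hg3 m hm]

theorem mem_cfg {l ms : List ℕ} {g : Equiv.Perm GolayPt} : g ∈ cfg l ms ↔ g ∈ M24 ∧
    (∀ i ∈ l, g (gE.pt i) = gE.pt i) ∧ ∀ m ∈ ms, g • gE.ofMask m = gE.ofMask m := Iff.rfl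

theorem cfg_le (l ms : List ℕ) : cfg l ms ≤ M24 := fun _ h => h.1

theorem cfg_nil : cfg [] [] = M24 := by ext g; simp [mem_cfg]

theorem cfg_cons (b : ℕ) (l ms : List ℕ) :
    cfg (b :: l) ms = cfg l ms ⊓ stabilizer (Equiv.Perm GolayPt) (gE.pt b) := by
  ext g
  simp only [mem_cfg, List.forall_mem_cons, Subgroup.mem_inf, mem_stabilizer_iff,
    Equiv.Perm.smul_def]
  tauto

theorem cfg_cons' (m : ℕ) (l ms : List ℕ) :
    cfg l (m :: ms) = cfg l ms ⊓ stabilizer (Equiv.Perm GolayPt) (gE.ofMask m) := by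
  ext g
  simp only [mem_cfg, List.forall_mem_cons, Subgroup.mem_inf, mem_stabilizer_iff]
  tauto

/-- Membership test for `cfg l ms`. -/
def memCfg (l ms : List ℕ) (p : ℕ) : Bool :=
  band (allL l fun i => band (Nat.blt i 24) (Nat.beq (img 5 p i) i))
    (band (allL ms fun m => Nat.beq (pull 24 5 p m) m) (isM24 p))

theorem mem_cfg_of_rep {l ms : List ℕ} {g : Equiv.Perm GolayPt} {p : ℕ} (hg : gE.Rep g p)
    (h : memCfg l ms p = true) : g ∈ cfg l ms := by
  simp only [memCfg, band_eq, Bool.and_eq_true, allL_iff, Nat.blt_eq, Nat.beq_eq] at h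
  refine ⟨mem_M24_of_rep hg h.2.2, fun i hi => ?_, fun m hm => hg.smul_ofMask_eq (h.2.1 m hm)⟩
  rw [hg.apply_pt (h.1 i hi).1, (h.1 i hi).2]

theorem isM24_of_memCfg {l ms : List ℕ} {p : ℕ} (h : memCfg l ms p = true) : isM24 p = true := by
  simp only [memCfg, band_eq, Bool.and_eq_true] at h
  exact h.2.2

theorem sound_cfg (l ms : List ℕ) : gE.Sound (cfg l ms) (memCfg l ms) := fun p h => by
  obtain ⟨g, -, hg⟩ := exists_of_isM24 (isM24_of_memCfg h)
  exact ⟨g, mem_cfg_of_rep hg h, hg⟩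

/-- Lower bound for the order of a configuration stabiliser. -/
theorem le_card_cfg (l ms : List ℕ) (r : ℕ) (L : List (ℕ × List ℕ)) (N : ℕ)
    (h : Nat.ble N (chainLB 24 5 r L (memCfg l ms)) = true) : N ≤ Nat.card (cfg l ms) :=
  le_trans (Nat.le_of_ble_eq_true h) (Enc.chainLB_le r L _ _ (sound_cfg l ms))

/-- Point orbits of a configuration stabiliser. -/
theorem cfg_trans (l ms gens : List ℕ) (r b m : ℕ)
    (h : band (allL gens (memCfg l ms)) (Nat.beq (orbM 24 5 gens r b) m) = true) :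
    ∀ a ∈ gE.ofMask m, ∃ g ∈ cfg l ms, g a = gE.pt b :=
  Enc.orbM_sound' (sound_cfg l ms) h

theorem card_cfg_step (l ms gens : List ℕ) (r b m : ℕ)
    (h : band (allL gens (memCfg l ms)) (Nat.beq (orbM 24 5 gens r b) m) = true)
    (h1 : ∀ g ∈ cfg l ms, g (gE.pt b) ∈ gE.ofMask m) :
    Nat.card (cfg l ms) = pc 24 m * Nat.card (cfg (b :: l) ms) := by
  rw [cfg_cons, ← gE.card_ofMask, ← Set.ncard_coe_finset]
  refine card_eq_of_orbit_eq _ _ _ h1 fun a ha => ?_
  obtain ⟨g, hg, h2⟩ := cfg_trans l ms gens r b m h a ha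
  exact ⟨g⁻¹, inv_mem hg, by rw [← h2, Equiv.Perm.smul_def]; simp⟩

/-! ### Propagation of fixed points -/

theorem smul_octad_eq_of_fix {g : Equiv.Perm GolayPt} (hg : g ∈ M24) {o F : Finset GolayPt}
    (ho : o ∈ octads) (hF : ∀ a ∈ F, g a = a) (h : 5 ≤ (o ∩ F).card) : g • o = o := by
  refine octad_eq_of_five (smul_mem_octads hg ho) ho (le_trans h (Finset.card_le_card ?_))
  intro a ha
  rw [Finset.mem_inter] at ha ⊢
  refine ⟨?_, ha.1⟩
  rw [← hF a ha.2, apply_mem_smul_iff]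
  exact ha.1

theorem apply_notMem_of_fix {α : Type*} {g : Equiv.Perm α} {F : Finset α} (hF : ∀ a ∈ F, g a = a)
    {b : α} (hb : b ∉ F) : g b ∉ F := fun h => hb (g.injective (hF _ h) ▸ h)

/-- One propagation step: `x` is the only point outside `F` on two octads fixed by `F`. -/
def fixOK (F o1 o2 x : ℕ) : Bool :=
  band (band (band (inC o1) (Nat.beq (pc24 o1) 8)) (band (inC o2) (Nat.beq (pc24 o2) 8)))
    (band (band (Nat.ble 5 (pc 24 (o1 &&& F))) (Nat.ble 5 (pc 24 (o2 &&& F))))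
      (band (Nat.blt x 24) (Nat.beq ((o1 &&& o2) ^^^ ((o1 &&& o2) &&& F)) (2 ^ x))))

/-- Propagation of fixed points along a list of steps. -/
def fixRun (L : List (ℕ × ℕ × ℕ)) : ℕ → ℕ :=
  List.rec (fun F => F) (fun s _ ih F =>
    ite' (fixOK F s.1 s.2.1 s.2.2) (ih (F ||| 2 ^ s.2.2)) F) L

theorem fixOK_sound {g : Equiv.Perm GolayPt} (hg : g ∈ M24) {F o1 o2 x : ℕ}
    (h : fixOK F o1 o2 x = true) (hF : ∀ a ∈ gE.ofMask F, g a = a) :
    ∀ a ∈ gE.ofMask (F ||| 2 ^ x), g a = a := by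
  simp only [fixOK, band_eq, Bool.and_eq_true, Nat.ble_eq, Nat.blt_eq, Nat.beq_eq] at h
  obtain ⟨⟨h1, h2⟩, ⟨h3, h4⟩, h5, h6⟩ := h
  have ho1 := (ofMask_mem_octads (lt_of_inC h1.1)).mpr h1
  have ho2 := (ofMask_mem_octads (lt_of_inC h2.1)).mpr h2
  rw [← gE.card_ofMask, gE.ofMask_land] at h3 h4
  have e1 := smul_octad_eq_of_fix hg ho1 hF h3
  have e2 := smul_octad_eq_of_fix hg ho2 hF h4
  have e3 : (gE.ofMask o1 ∩ gE.ofMask o2) \ gE.ofMask F = {gE.pt x} := by
    rw [← gE.ofMask_land, ← gE.ofMask_sdiff, h6, gE.ofMask_two_pow h5]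
  intro a ha
  rw [gE.ofMask_lor, gE.ofMask_two_pow h5, Finset.mem_union, Finset.mem_singleton] at ha
  rcases ha with ha | rfl
  · exact hF a ha
  · have h7 : gE.pt x ∈ (gE.ofMask o1 ∩ gE.ofMask o2) \ gE.ofMask F := by
      rw [e3]; exact Finset.mem_singleton_self _
    rw [← Finset.mem_singleton, ← e3]
    rw [Finset.mem_sdiff, Finset.mem_inter] at h7 ⊢
    refine ⟨⟨?_, ?_⟩, apply_notMem_of_fix hF h7.2⟩
    · rw [← e1, apply_mem_smul_iff]; exact h7.1.1
    · rw [← e2, apply_mem_smul_iff]; exact h7.1.2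

theorem fixRun_sound {g : Equiv.Perm GolayPt} (hg : g ∈ M24) (L : List (ℕ × ℕ × ℕ)) (F : ℕ)
    (hF : ∀ a ∈ gE.ofMask F, g a = a) : ∀ a ∈ gE.ofMask (fixRun L F), g a = a := by
  induction L generalizing F with
  | nil => exact hF
  | cons s L ih =>
    have h1 : fixRun (s :: L) F =
      ite' (fixOK F s.1 s.2.1 s.2.2) (fixRun L (F ||| 2 ^ s.2.2)) F := rfl
    rw [h1, ite'_eq]
    split_ifs with h
    · exact ih _ (fixOK_sound hg h hF)
    · exact hF

theorem fix_ofMask_of_list {g : Equiv.Perm GolayPt} {l : List ℕ} {F : ℕ}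
    (hl : ∀ i ∈ l, g (gE.pt i) = gE.pt i)
    (h : allLt 24 (fun i => bimp (tb F i) (memL l i)) = true) : ∀ a ∈ gE.ofMask F, g a = a := by
  intro a ha
  have h1 := (bimp_iff _ _).mp (allLt_iff.mp h _ (gE.ix_lt a)) ((gE.mem_ofMask_tb _ _).mp ha)
  have h2 := hl _ (memL_iff.mp h1)
  rwa [gE.pt_ix] at h2

/-- An element of `M24` fixing seven suitable points is trivial. -/
theorem cfg7_eq_bot : cfg [5, 4, 3, 2, 1, 0, 23] [] = ⊥ := by
  rw [eq_bot_iff]
  intro g hg
  rw [Subgroup.mem_bot]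
  have h1 := fixRun_sound hg.1 [(12656663, 8663097, 13), (3416079, 9543722, 20),
    (3416079, 11538486, 21), (11100169, 12222476, 19), (9347075, 10305542, 18),
    (9347075, 13938692, 15), (9347075, 9347075, 17), (13938692, 10170384, 12),
    (13062145, 13938692, 22), (13062145, 10170384, 16), (13062145, 13062145, 14),
    (15515712, 15515712, 6), (2019456, 2019456, 7), (4038912, 4038912, 8), (8077824, 8077824, 9),
    (11654144, 11654144, 10), (14919680, 14919680, 11)] 0x80003f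
    (fix_ofMask_of_list hg.2.1 (by decide +kernel))
  have h2 : fixRun [(12656663, 8663097, 13), (3416079, 9543722, 20),
    (3416079, 11538486, 21), (11100169, 12222476, 19), (9347075, 10305542, 18),
    (9347075, 13938692, 15), (9347075, 9347075, 17), (13938692, 10170384, 12),
    (13062145, 13938692, 22), (13062145, 10170384, 16), (13062145, 13062145, 14),
    (15515712, 15515712, 6), (2019456, 2019456, 7), (4038912, 4038912, 8), (8077824, 8077824, 9),
    (11654144, 11654144, 10), (14919680, 14919680, 11)] 0x80003f = 2 ^ 24 - 1 := by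
    decide +kernel
  rw [h2, gE.ofMask_full] at h1
  exact Equiv.ext fun a => h1 a (Finset.mem_univ a)

/-- The mask of the standard octad `{0, 1, 2, 3, 5, 14, 17, ∞}`. -/
def o0 : ℕ := 0x82402f

/-- The mask of the standard dodecad (the squares modulo 23). -/
def d0 : ℕ := 0x5335f

theorem o0_mem : gE.ofMask o0 ∈ octads := ofMask_mem_octads_of (by decide +kernel)
theorem d0_mem : gE.ofMask d0 ∈ dodecads := ofMask_mem_dodecads_of (by decide +kernel)

/-- Strong generators of `M24`, level by level (base `∞, 0, 1, 2, 3, 4, 5`). -/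
def sg1 : List ℕ := [0xd0923d57302462b960f55991335c8, 0x6b8a1b41e820e8b608d33c6e09552a]
def sg2 : List ℕ := [0xbd60119a8c79d5170a690209269576, 0xb91a800926859741b8b59054763e33]
def sg3 : List ℕ := [0xbbcd175029389aab0e64a957092180, 0xba24b396a6a314e112714c2cd78460]
def sg4 : List ℕ := [0xbada6a3d484cc55b44833ba122b020, 0xb92276956a48aa6a0e169bd0e64820]
def sg5 : List ℕ := [0xbd5517c167730c4694764d11390820, 0xbbc93848743b928654cbb362a28820]
def sg6 : List ℕ := [0xb9d367add3814d263488a2a3518820, 0xbae703bcac245144b6caa99d218820,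
  0xbd987929cda948f4ccd442e3018820]
def sg7 : List ℕ := [0xbb5135bdd63160aa1ea964a2418820]

theorem lev1 : band (allL sg1 (memCfg [] [])) (Nat.beq (orbM 24 5 sg1 6 23) 0xffffff) = true := by
  decide +kernel
theorem lev2 : band (allL sg2 (memCfg [23] [])) (Nat.beq (orbM 24 5 sg2 6 0) 0x7fffff) = true := by
  decide +kernel
theorem lev3 : band (allL sg3 (memCfg [0, 23] []))
    (Nat.beq (orbM 24 5 sg3 6 1) 0x7ffffe) = true := by decide +kernel
theorem lev4 : band (allL sg4 (memCfg [1, 0, 23] []))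
    (Nat.beq (orbM 24 5 sg4 6 2) 0x7ffffc) = true := by decide +kernel
theorem lev5 : band (allL sg5 (memCfg [2, 1, 0, 23] []))
    (Nat.beq (orbM 24 5 sg5 6 3) 0x7ffff8) = true := by decide +kernel
theorem lev6 : band (allL sg6 (memCfg [3, 2, 1, 0, 23] []))
    (Nat.beq (orbM 24 5 sg6 6 4) 0x7dbfd0) = true := by decide +kernel
theorem lev7 : band (allL sg7 (memCfg [4, 3, 2, 1, 0, 23] []))
    (Nat.beq (orbM 24 5 sg7 6 5) 0x24020) = true := by decide +kernel

theorem apply_mem_compl_of_cfg {l ms : List ℕ} {g : Equiv.Perm GolayPt} (hg : g ∈ cfg l ms)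
    (F b : ℕ) (h : band (allLt 24 (fun i => bimp (tb F i) (memL l i)))
      (band (Nat.blt b 24) (bnot (tb F b))) = true) :
    g (gE.pt b) ∈ gE.ofMask (F ^^^ (2 ^ 24 - 1)) := by
  simp only [band_eq, Bool.and_eq_true, Nat.blt_eq, bnot_eq, tb_eq] at h
  rw [gE.ofMask_xor_full, Finset.mem_compl]
  refine apply_notMem_of_fix (fix_ofMask_of_list hg.2.1 (by simpa only [tb_eq] using h.1)) ?_
  rw [gE.pt_mem_ofMask _ h.2.1]
  simpa using h.2.2

theorem cfg5_fix_o0 {l : List ℕ} {g : Equiv.Perm GolayPt} (hg : g ∈ cfg l [])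
    (h : allLt 24 (fun i => bimp (tb 0x80000f i) (memL l i)) = true) :
    g • gE.ofMask o0 = gE.ofMask o0 :=
  smul_octad_eq_of_fix hg.1 o0_mem (fix_ofMask_of_list hg.2.1 h) (by
    rw [← gE.ofMask_land, gE.card_ofMask]; decide +kernel)

theorem card_cfg6 : Nat.card (cfg [4, 3, 2, 1, 0, 23] []) = 3 := by
  rw [card_cfg_step _ _ _ _ _ _ lev7, cfg7_eq_bot, Subgroup.card_bot]
  · decide +kernel
  · intro g hg
    have h1 := apply_mem_compl_of_cfg hg 0x80001f 5 (by decide +kernel)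
    have h2 : g (gE.pt 5) ∈ gE.ofMask o0 := by
      rw [← cfg5_fix_o0 hg (by decide +kernel), apply_mem_smul_iff]; decide +kernel
    have h3 := Finset.mem_inter.mpr ⟨h1, h2⟩
    rwa [← gE.ofMask_land] at h3

theorem card_cfg5 : Nat.card (cfg [3, 2, 1, 0, 23] []) = 48 := by
  rw [card_cfg_step _ _ _ _ _ _ lev6, card_cfg6]
  · decide +kernel
  · intro g hg
    have h2 : g (gE.pt 4) ∉ gE.ofMask o0 := by
      rw [← cfg5_fix_o0 hg (by decide +kernel), apply_mem_smul_iff]; decide +kernel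
    rwa [← Finset.mem_compl, ← gE.ofMask_xor_full] at h2

theorem card_cfg4 : Nat.card (cfg [2, 1, 0, 23] []) = 960 := by
  rw [card_cfg_step _ _ _ _ _ _ lev5, card_cfg5]
  · decide +kernel
  · exact fun g hg => apply_mem_compl_of_cfg hg 0x800007 3 (by decide +kernel)

theorem card_cfg3 : Nat.card (cfg [1, 0, 23] []) = 20160 := by
  rw [card_cfg_step _ _ _ _ _ _ lev4, card_cfg4]
  · decide +kernel
  · exact fun g hg => apply_mem_compl_of_cfg hg 0x800003 2 (by decide +kernel)

theorem card_cfg2 : Nat.card (cfg [0, 23] []) = 443520 := by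
  rw [card_cfg_step _ _ _ _ _ _ lev3, card_cfg3]
  · decide +kernel
  · exact fun g hg => apply_mem_compl_of_cfg hg 0x800001 1 (by decide +kernel)

theorem card_cfg1 : Nat.card (cfg [23] []) = 10200960 := by
  rw [card_cfg_step _ _ _ _ _ _ lev2, card_cfg2]
  · decide +kernel
  · exact fun g hg => apply_mem_compl_of_cfg hg 0x800000 0 (by decide +kernel)

/-- The order of `M24`. -/
theorem card_M24 : Nat.card M24 = 244823040 := by
  rw [← cfg_nil, card_cfg_step _ _ _ _ _ _ lev1, card_cfg1]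
  · decide +kernel
  · exact fun g hg => apply_mem_compl_of_cfg hg 0 23 (by decide +kernel)

/-! ### Multiple transitivity -/

theorem mem_ofMask_of_ne {l : List ℕ} {m : ℕ} {a : GolayPt} (ha : ∀ i ∈ l, a ≠ gE.pt i)
    (h : allLt 24 (fun i => bor (tb m i) (memL l i)) = true) : a ∈ gE.ofMask m := by
  have h1 := allLt_iff.mp h _ (gE.ix_lt a)
  rw [bor_eq, Bool.or_eq_true, memL_iff] at h1
  rcases h1 with h1 | h1
  · exact (gE.mem_ofMask_tb _ _).mpr h1
  · exact absurd (gE.pt_ix a).symm (ha _ h1)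

theorem trans1 (a : GolayPt) : ∃ g ∈ M24, g a = gE.pt 23 := by
  obtain ⟨g, hg, h⟩ := cfg_trans _ _ _ _ _ _ lev1 a
    (mem_ofMask_of_ne (l := []) (by simp) (by decide +kernel))
  exact ⟨g, hg.1, h⟩

theorem trans2 {a b : GolayPt} (hab : a ≠ b) :
    ∃ g ∈ M24, g a = gE.pt 23 ∧ g b = gE.pt 0 := by
  obtain ⟨g, hg, h⟩ := trans1 a
  obtain ⟨k, hk, h'⟩ := cfg_trans _ _ _ _ _ _ lev2 (g b)
    (mem_ofMask_of_ne (l := [23]) (by simp [← h, hab.symm]) (by decide +kernel))
  have := hk.2.1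
  simp only [List.forall_mem_cons] at this
  exact ⟨k * g, M24.mul_mem hk.1 hg, by simp [h, this], by simp [h']⟩

theorem trans3 {a b c : GolayPt} (hab : a ≠ b) (hac : a ≠ c) (hbc : b ≠ c) :
    ∃ g ∈ M24, g a = gE.pt 23 ∧ g b = gE.pt 0 ∧ g c = gE.pt 1 := by
  obtain ⟨g, hg, h1, h2⟩ := trans2 hab
  obtain ⟨k, hk, h'⟩ := cfg_trans _ _ _ _ _ _ lev3 (g c)
    (mem_ofMask_of_ne (l := [0, 23]) (by simp [← h1, ← h2, hac.symm, hbc.symm])
      (by decide +kernel))
  have := hk.2.1
  simp only [List.forall_mem_cons] at this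
  exact ⟨k * g, M24.mul_mem hk.1 hg, by simp [h1, this], by simp [h2, this], by simp [h']⟩

theorem trans4 {a b c d : GolayPt} (hab : a ≠ b) (hac : a ≠ c) (hbc : b ≠ c) (had : a ≠ d)
    (hbd : b ≠ d) (hcd : c ≠ d) :
    ∃ g ∈ M24, g a = gE.pt 23 ∧ g b = gE.pt 0 ∧ g c = gE.pt 1 ∧ g d = gE.pt 2 := by
  obtain ⟨g, hg, h1, h2, h3⟩ := trans3 hab hac hbc
  obtain ⟨k, hk, h'⟩ := cfg_trans _ _ _ _ _ _ lev4 (g d)
    (mem_ofMask_of_ne (l := [1, 0, 23]) (by simp [← h1, ← h2, ← h3, had.symm, hbd.symm, hcd.symm])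
      (by decide +kernel))
  have := hk.2.1
  simp only [List.forall_mem_cons] at this
  exact ⟨k * g, M24.mul_mem hk.1 hg, by simp [h1, this], by simp [h2, this], by simp [h3, this],
    by simp [h']⟩

theorem trans5 {a b c d e : GolayPt} (hab : a ≠ b) (hac : a ≠ c) (hbc : b ≠ c) (had : a ≠ d)
    (hbd : b ≠ d) (hcd : c ≠ d) (hae : a ≠ e) (hbe : b ≠ e) (hce : c ≠ e) (hde : d ≠ e) :
    ∃ g ∈ M24, g a = gE.pt 23 ∧ g b = gE.pt 0 ∧ g c = gE.pt 1 ∧ g d = gE.pt 2 ∧
      g e = gE.pt 3 := by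
  obtain ⟨g, hg, h1, h2, h3, h4⟩ := trans4 hab hac hbc had hbd hcd
  obtain ⟨k, hk, h'⟩ := cfg_trans _ _ _ _ _ _ lev5 (g e)
    (mem_ofMask_of_ne (l := [2, 1, 0, 23])
      (by simp [← h1, ← h2, ← h3, ← h4, hae.symm, hbe.symm, hce.symm, hde.symm])
      (by decide +kernel))
  have := hk.2.1
  simp only [List.forall_mem_cons] at this
  exact ⟨k * g, M24.mul_mem hk.1 hg, by simp [h1, this], by simp [h2, this], by simp [h3, this],
    by simp [h4, this], by simp [h']⟩

/-! ### Descent on code words -/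

/-- The descent step for the code word number `x`. -/
def stepC (reps gens : List ℕ) (R x : ℕ) : Bool :=
  bor (memL reps (cw x)) (anyL gens fun p =>
    Nat.blt (img (nat_lit 5) R (pull 12 5 p (cw x))) (img (nat_lit 5) R x))

/-- Orbits on code words: every word in `A` can be moved to one of the representatives. -/
theorem orbits_code {l ms reps gens : List ℕ} {R : ℕ} (A : Finset GolayPt → Prop) (q : ℕ → Bool)
    (hA : ∀ g ∈ cfg l ms, ∀ s, A s → A (g • s)) (hC : ∀ s, A s → s ∈ Code)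
    (hq : ∀ m, m < 2 ^ 24 → inC m = true → A (gE.ofMask m) → q m = true)
    (h : band (allL gens (memCfg l ms))
      (allLt 4096 fun x => bimp (q (cw x)) (stepC reps gens R x)) = true) :
    ∀ s, A s → ∃ g ∈ cfg l ms, ∃ r ∈ reps, g • s = gE.ofMask r := by
  rw [band_eq, Bool.and_eq_true] at h
  refine Enc.stepM_sound (hsh := fun m => m % 2 ^ 12) (gens := gens) (R := R)
    ((sound_cfg l ms).gens h.1) A hA ?_
  intro s hs
  obtain ⟨x, hx, rfl⟩ := (mem_code_iff s).mp (hC s hs)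
  have h1 := (bimp_iff _ _).mp (allLt_iff.mp h.2 x hx) (hq _ (cw_lt hx) (inC_cw hx) hs)
  rw [gE.toMask_ofMask (cw_lt hx)]
  unfold stepM
  simp only [pull_mod 24 12 5 _ _ (by norm_num)]
  rw [show cw x % 2 ^ 12 = x from cw_mod hx]
  exact h1

/-! ### Transitivity on octads and dodecads, the Steiner system -/

theorem octad_dodecad_orbits : ∀ s, s ∈ octads ∨ s ∈ dodecads →
    ∃ g ∈ cfg [] [], ∃ r ∈ [o0, d0], g • s = gE.ofMask r :=
  orbits_code (gens := [0x4590325d4206b21bca8b5c475366b, 0x740d795504380b658e696d1828854f])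
    (R := 0x298000000000000014b02c0c00180000070000b030000000a5ac0c0000c701460000002c08000000014c6000c000ca02c0a5800102400000e002d0b028eb00009031696a58059d6a00000000000200c0012d00000000064800c629690280002d6a0014002d4c028ca5016c4a4060254b0018c024e0031400140a01c0b6a98c0014b529490000a0296902dac521484812a5a807629685a0c6030000000a0000700140001400294c030000212b000006800a500080256b0200b0018752d2c5314a00006000094014c5300b0000c4b14002567531690012b5a10b02c0b5a52b5254b0216c0246b5ad270000b6014a000065b007025066ac0a3010b0292b0016b0280c3a9494a94b031604a56a02d872a90a5800001d2b0292c4b1680316b029685248b4a5294ac036298a4b508401684ad695b10952dac52d0900008400000000a0000a0000b02968001805a80a000000280b001495296a0012b0358001d0b51d4c001000000a4280a0292d0280002d6a025493a12a020095816a5800b62d4c331495316b6a18a024ea0000d02d6902c00601895ad800256a0290a0296d5800c0012d6298b424080300a62d49630ac5b1480000b4a80a6818352ce30298a4816a521a641d6a621895accd02d0a2b16c02d0d521496294b49568000000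010802c095990940009034095b18a401430296901d4a52d600298b530084a52b0352b5accb02d405254c001490252c0258753149425694214d01d2a5a40b32d2b5312a400e852963524e8528e902c0a031400252953188001485b52b5a12b521aa5816a5a98902949625896292a4a12a62988620e83a96b02d285ad6c4290b52d4a12da96ac0759d2a02d4b5a96a5a1883ad2c5a569521090b189524c60000c0000b500000000a02c00681480000c0250b000000012b024055a92c03160024073b12b0294c00009028000316c5010d0016003568031a96214b40008528ed0014952407025a45b12b5b56432d6b0018062c0c0000c0148b02d6d0216b02d4b5a9200240a6000b580ea6352c0014c6290b4a98b4a16a0000b6012a5240a625465100802547624ed5b1455b56902ca969d664298942549425690290c631280000002409001883a52d0012b3800b624084a92a0256a5a8e0031a60294502d2b52d8a6014c31d4a0340a020cb025406294c5a9683314b52d2b029684010701da952d095a94b6300c52d473254b42d4a02ca0001686312c0250b02c0b4ace24ad69630e50314b52d6b4ac0a43128491686a1874a96a5ad48531895b16b0314752d6c581483a58452d894b12a02d6a59ceb42909514a85a58a620e73214752cea0000002d0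002da0029880240a00189429286296b5280a029680218b3818c4014b599444200b5a50b000a94a90b0240b61d285a96b42c094812a5256a0296b0314c5a90c6294a0318b3ad8c5a1094a9490016a03007531886a5285800b5252c02cea528e70214963149035295ad6c52d6949daa5ad0a5b089021ac3a98a52949029265312b52cea5ad695298652160335495a54a588c64b14a4ad2452967424c84816a0250a02d864200a02d085214a0196c5b10c0000a62d8b5a8ca3ad284a5083a94b49ce7619494b009481693a94b631690258b51549521465ad055292b5a98a5b1495ad674914b52d6b62d465296b5280743129381675256a51d2a4996a42d874b06752d2a420c859d8a5216839d2a0094b3a94b425280296a3a1473b10a5a94b5252a5ad6b6a52a3254a4a96941d4a6258a4a1885a92b4212a2a8ea4252a000000012e00000028090280902d6002920001890000b0000a5200b5814a580000298701d4b43127000004800c000075990c0016c02c0a5294d5292a0296c534095012a02d8b0292a4ac4d030cb6254b4800c0280d0016b4000b001285ad6b02c086318c000093a18002d875a98602d8c02d4b5acca51c680280b0018c5ad875ad8b035606196a5290901947481695ad8a6b0094316a5296b62d886298642d2b0012002c0002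d4b025290000a0356b03148531870280b62d680014a4b1ab5814a6216b52d6c41c0902cea5810a5a80a0310a6240c631673016c4112b03180021895318c594ea52d8a5a16c629664212a0000b0350c2b16052d681ac0a6012c5a9a85a54b3990b02d690250d5a96b5a5095a9055ad6a4a5260316b4214b005075a94a628cb2ad0a611086194c530ec48d494ad485a16902d084ad2b4a5644954a030000000a6016b02189000095812b520064a944031806a8a90340902d0958969024a75b56b5256b029ac029480310d3ad605816c6252a02d6c52d69000c852d6a4a5045154a4ac0661d8b620e852d2800120029880294a61d650288b4a0095b0ea52d2802d4761d4b4ad4c52d2a3adaa52da96016b52d675a40852cca01d8b52d882b16662d855198b621084292a0292d4a4c73314851d6b6b4a559d280a1070010a614045000a4ad495ad895ad2b029885312c02d0a5814a5252852ce802d2a4a9693992b5a0890280852d894a58b6ad47628e9031684a92c5296941d8c4312b4a9a542d695b0c95294b32ceb4ad084ad6a2ad0a3296a02564028ea59d0822d89499285ac0a51d834a9885952a5214a4912b49d695a907501655a54c62d682a9274a96a62cc952ce852168418cb52d2452d29519694a12942d4d6254659d4b0000b00120020ec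42806000066280b3814d5b16a0012900d8c0194059d895298b629ab021255acac425200312b0258c0310c0296c4a5495b00c5a1280280b6296b52d8b4b10a4288b581272b108519890300001d6b0256a6352b5004a025854a56952cc90252b6154852987025895280749cc95ad8c4312802d4a5b8e7501296a98b4b1694ad4a5a1a5631880250b525664a8e95a0e75ad8b5a5063a50a4a5695000d6316b0200b2816962987029284256a3a8ea5ac0a0252c5990a30d6a02d4c6a94b2a14a524e9000cc52d295a9675a16601d4a51d446a9095212b3ad0b52d6a4ad084358a528e949d43531892254a029696254c3318b5ad2a5294b69d4c02d2a41925400e842d266212a3a0ea3a5aa625ad5250931d28615495a00842d095a92b435865a9065a56749d495a12a43109525496250a4a0e449d055292a49d4a02c0c3994b000ec59d4b024eb5a94c5994a0296a5816a52c0c5a548529690252a524e95a5074214b50008031a81ad0b3a8e4635666210a5a9876a54a6a9446254c5216c429673a56a3a96b5b92a619094358b5812b534075a54952d2c62dab624c942d2902d6b4a5284ad8a619675192a628ed524a7628e851d6b629484b12a61d8702d666152c5214c499484a94952568524a85292742d0b4ad2962ceb2a14802d0c0294b59d825b0c45ad60421665a5696a4c96a96a5b12968d4a4a0aa3996a5b188525495ad4b6a16a3256c4a94c4a12a625253b12b621894a16a4b149529690256b2a0c9430a852545414e852d470258b3ad4c415685a96a425495a94a4a5275290b6294759d4a49d295a94c5a8a449d294a94a4a9096294961d4c418ac51cc802528620c8428eb321496254852d2852ce9518c94ad2941d684ad2742520)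
    (fun s => s ∈ octads ∨ s ∈ dodecads)
    (fun m => bor (Nat.beq (pc24 m) 8) (Nat.beq (pc24 m) 12))
    (fun g hg s hs => hs.imp (smul_mem_octads hg.1) (smul_mem_dodecads hg.1))
    (fun s hs => hs.elim (fun h => h.1) (fun h => h.1))
    (fun m hm _ h => by
      simpa using h.imp (fun h => ((ofMask_mem_octads hm).mp h).2)
        (fun h => ((ofMask_mem_dodecads hm).mp h).2))
    (by decide +kernel)

/-- `M24` is transitive on octads. -/
theorem trans_octad {o : Finset GolayPt} (ho : o ∈ octads) : ∃ g ∈ M24, g • o = gE.ofMask o0 := by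
  obtain ⟨g, hg, r, hr, h⟩ := octad_dodecad_orbits o (Or.inl ho)
  simp only [List.mem_cons, List.not_mem_nil, or_false] at hr
  rcases hr with rfl | rfl
  · exact ⟨g, hg.1, h⟩
  · have h1 := d0_mem.2
    rw [← h, Finset.card_smul_finset, ho.2] at h1
    omega

/-- `M24` is transitive on dodecads. -/
theorem trans_dodecad {d : Finset GolayPt} (hd : d ∈ dodecads) :
    ∃ g ∈ M24, g • d = gE.ofMask d0 := by
  obtain ⟨g, hg, r, hr, h⟩ := octad_dodecad_orbits d (Or.inr hd)
  simp only [List.mem_cons, List.not_mem_nil, or_false] at hr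
  rcases hr with rfl | rfl
  · have h1 := o0_mem.2
    rw [← h, Finset.card_smul_finset, hd.2] at h1
    omega
  · exact ⟨g, hg.1, h⟩

theorem card_eq_four' {α : Type*} [DecidableEq α] {s : Finset α} (h : s.card = 4) :
    ∃ a b c d, a ≠ b ∧ a ≠ c ∧ b ≠ c ∧ a ≠ d ∧ b ≠ d ∧ c ≠ d ∧ s = {a, b, c, d} := by
  obtain ⟨a, t, ha, rfl, ht⟩ := Finset.card_eq_succ.mp h
  obtain ⟨b, c, d, h1, h2, h3, rfl⟩ := Finset.card_eq_three.mp ht
  simp only [Finset.mem_insert, Finset.mem_singleton, not_or] at ha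
  exact ⟨a, b, c, d, ha.1, ha.2.1, h1, ha.2.2, h2, h3, rfl⟩

theorem card_eq_five' {α : Type*} [DecidableEq α] {s : Finset α} (h : s.card = 5) :
    ∃ a b c d e, a ≠ b ∧ a ≠ c ∧ b ≠ c ∧ a ≠ d ∧ b ≠ d ∧ c ≠ d ∧ a ≠ e ∧ b ≠ e ∧ c ≠ e ∧ d ≠ e ∧
      s = {a, b, c, d, e} := by
  obtain ⟨a, t, ha, rfl, ht⟩ := Finset.card_eq_succ.mp h
  obtain ⟨b, c, d, e, h1, h2, h3, h4, h5, h6, rfl⟩ := card_eq_four' ht
  simp only [Finset.mem_insert, Finset.mem_singleton, not_or] at ha
  exact ⟨a, b, c, d, e, ha.1, ha.2.1, h1, ha.2.2.1, h2, h3, ha.2.2.2, h4, h5, h6, rfl⟩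

theorem ofMask_s2 : gE.ofMask 0x800001 = {gE.pt 23, gE.pt 0} := by decide +kernel
theorem ofMask_s3 : gE.ofMask 0x800003 = {gE.pt 23, gE.pt 0, gE.pt 1} := by decide +kernel
theorem ofMask_s4 : gE.ofMask 0x800007 = {gE.pt 23, gE.pt 0, gE.pt 1, gE.pt 2} := by
  decide +kernel
theorem ofMask_s5 : gE.ofMask 0x80000f = {gE.pt 23, gE.pt 0, gE.pt 1, gE.pt 2, gE.pt 3} := by
  decide +kernel

theorem trans_set2 {s : Finset GolayPt} (h : s.card = 2) :
    ∃ g ∈ M24, g • s = gE.ofMask 0x800001 := by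
  obtain ⟨a, b, hab, rfl⟩ := Finset.card_eq_two.mp h
  obtain ⟨g, hg, h1, h2⟩ := trans2 hab
  exact ⟨g, hg, by simp [ofMask_s2, Finset.smul_finset_insert, h1, h2]⟩

theorem trans_set3 {s : Finset GolayPt} (h : s.card = 3) :
    ∃ g ∈ M24, g • s = gE.ofMask 0x800003 := by
  obtain ⟨a, b, c, hab, hac, hbc, rfl⟩ := Finset.card_eq_three.mp h
  obtain ⟨g, hg, h1, h2, h3⟩ := trans3 hab hac hbc
  exact ⟨g, hg, by simp [ofMask_s3, Finset.smul_finset_insert, h1, h2, h3]⟩

theorem trans_set4 {s : Finset GolayPt} (h : s.card = 4) :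
    ∃ g ∈ M24, g • s = gE.ofMask 0x800007 := by
  obtain ⟨a, b, c, d, hab, hac, hbc, had, hbd, hcd, rfl⟩ := card_eq_four' h
  obtain ⟨g, hg, h1, h2, h3, h4⟩ := trans4 hab hac hbc had hbd hcd
  exact ⟨g, hg, by simp [ofMask_s4, Finset.smul_finset_insert, h1, h2, h3, h4]⟩

theorem trans_set5 {s : Finset GolayPt} (h : s.card = 5) :
    ∃ g ∈ M24, g • s = gE.ofMask 0x80000f := by
  obtain ⟨a, b, c, d, e, hab, hac, hbc, had, hbd, hcd, hae, hbe, hce, hde, rfl⟩ := card_eq_five' h
  obtain ⟨g, hg, h1, h2, h3, h4, h5⟩ := trans5 hab hac hbc had hbd hcd hae hbe hce hde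
  exact ⟨g, hg, by simp [ofMask_s5, Finset.smul_finset_insert, h1, h2, h3, h4, h5]⟩

/-- Any five points lie in an octad. -/
theorem exists_octad_of_five {s : Finset GolayPt} (h : s.card = 5) : ∃ o ∈ octads, s ⊆ o := by
  obtain ⟨g, hg, h1⟩ := trans_set5 h
  refine ⟨g⁻¹ • gE.ofMask o0, smul_mem_octads (M24.inv_mem hg) o0_mem, ?_⟩
  rw [← Finset.smul_finset_subset_iff, h1]
  exact gE.ofMask_subset_of_land (by decide +kernel)

theorem exists_octad_of_le_five {s : Finset GolayPt} (h : s.card ≤ 5) : ∃ o ∈ octads, s ⊆ o := by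
  obtain ⟨t, hst, -, ht⟩ := Finset.exists_subsuperset_card_eq (n := 5) (Finset.subset_univ s) h
    (by rw [Finset.card_univ, card_golayPt]; norm_num)
  obtain ⟨o, ho, h1⟩ := exists_octad_of_five ht
  exact ⟨o, ho, hst.trans h1⟩

theorem octad_unique_of_five {s o o' : Finset GolayPt} (h : 5 ≤ s.card) (ho : o ∈ octads)
    (ho' : o' ∈ octads) (h1 : s ⊆ o) (h2 : s ⊆ o') : o = o' :=
  octad_eq_of_five ho ho' (le_trans h (Finset.card_le_card (Finset.subset_inter h1 h2)))

/-- The octads form a Steiner system `S(5, 8, 24)`. -/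
theorem octads_steiner : IsSteinerSystem 5 8 octads := by
  refine ⟨fun b hb => hb.2, fun s hs => ?_⟩
  obtain ⟨o, ho, h1⟩ := exists_octad_of_five hs
  exact ⟨o, ⟨ho, h1⟩, fun o' h => octad_unique_of_five hs.ge h.1 ho h.2 h1⟩

/-! ### Invariance of sextets, trios, hexads and quartets -/

theorem smul_mem_sextets {g : Equiv.Perm GolayPt} (hg : g ∈ M24) {S : Finset (Finset GolayPt)}
    (hS : S ∈ sextets) : g • S ∈ sextets := by
  refine ⟨by rw [Finset.card_smul_finset, hS.1], ?_, ?_⟩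
  · intro t ht
    obtain ⟨u, hu, rfl⟩ := Finset.mem_smul_finset.mp ht
    rw [Finset.card_smul_finset, hS.2.1 u hu]
  · intro t ht t' ht' hne
    obtain ⟨u, hu, rfl⟩ := Finset.mem_smul_finset.mp ht
    obtain ⟨u', hu', rfl⟩ := Finset.mem_smul_finset.mp ht'
    rw [← Finset.smul_finset_union]
    exact smul_mem_octads hg (hS.2.2 u hu u' hu' fun h => hne (by rw [h]))

theorem smul_mem_sextets_iff {g : Equiv.Perm GolayPt} (hg : g ∈ M24)
    {S : Finset (Finset GolayPt)} : g • S ∈ sextets ↔ S ∈ sextets :=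
  ⟨fun h => by simpa using smul_mem_sextets (M24.inv_mem hg) h, smul_mem_sextets hg⟩

theorem smul_mem_trios {g : Equiv.Perm GolayPt} (hg : g ∈ M24) {T : Finset (Finset GolayPt)}
    (hT : T ∈ trios) : g • T ∈ trios := by
  refine ⟨by rw [Finset.card_smul_finset, hT.1], ?_, ?_⟩
  · intro t ht
    obtain ⟨u, hu, rfl⟩ := Finset.mem_smul_finset.mp ht
    exact smul_mem_octads hg (hT.2.1 u hu)
  · intro t ht t' ht' hne
    obtain ⟨u, hu, rfl⟩ := Finset.mem_smul_finset.mp ht
    obtain ⟨u', hu', rfl⟩ := Finset.mem_smul_finset.mp ht'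
    rw [Finset.disjoint_iff_inter_eq_empty, ← Finset.smul_finset_inter,
      Finset.disjoint_iff_inter_eq_empty.mp (hT.2.2 u hu u' hu' fun h => hne (by rw [h])),
      Finset.smul_finset_empty]

theorem smul_mem_trios_iff {g : Equiv.Perm GolayPt} (hg : g ∈ M24)
    {T : Finset (Finset GolayPt)} : g • T ∈ trios ↔ T ∈ trios :=
  ⟨fun h => by simpa using smul_mem_trios (M24.inv_mem hg) h, smul_mem_trios hg⟩

theorem smul_mem_hexadsOn {g : Equiv.Perm GolayPt} (hg : g ∈ M24) {d h : Finset GolayPt}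
    (hh : h ∈ hexadsOn d) : g • h ∈ hexadsOn (g • d) := by
  obtain ⟨h1, o, ho, rfl⟩ := hh
  exact ⟨by rw [Finset.card_smul_finset, h1], g • o, smul_mem_octads hg ho,
    Finset.smul_finset_inter.symm⟩

theorem smul_mem_hexadsOn_iff {g : Equiv.Perm GolayPt} (hg : g ∈ M24) {d h : Finset GolayPt} :
    g • h ∈ hexadsOn (g • d) ↔ h ∈ hexadsOn d :=
  ⟨fun h => by simpa using smul_mem_hexadsOn (M24.inv_mem hg) h, smul_mem_hexadsOn hg⟩

theorem smul_mem_quartets {g : Equiv.Perm GolayPt} (hg : g ∈ M24) {d : Finset GolayPt}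
    {Q : Finset (Finset GolayPt)} (hQ : Q ∈ quartets d) : g • Q ∈ quartets (g • d) := by
  refine ⟨by rw [Finset.card_smul_finset, hQ.1], ?_, ?_⟩
  · intro t ht
    obtain ⟨u, hu, rfl⟩ := Finset.mem_smul_finset.mp ht
    exact ⟨by rw [Finset.card_smul_finset, (hQ.2.1 u hu).1],
      Finset.smul_finset_subset_smul_finset (hQ.2.1 u hu).2⟩
  · intro t ht t' ht' hne
    obtain ⟨u, hu, rfl⟩ := Finset.mem_smul_finset.mp ht
    obtain ⟨u', hu', rfl⟩ := Finset.mem_smul_finset.mp ht'
    rw [← Finset.smul_finset_union]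
    exact smul_mem_hexadsOn hg (hQ.2.2 u hu u' hu' fun h => hne (by rw [h]))

theorem smul_mem_quartets_iff {g : Equiv.Perm GolayPt} (hg : g ∈ M24) {d : Finset GolayPt}
    {Q : Finset (Finset GolayPt)} : g • Q ∈ quartets (g • d) ↔ Q ∈ quartets d :=
  ⟨fun h => by simpa using smul_mem_quartets (M24.inv_mem hg) h, smul_mem_quartets hg⟩

end Cfsg.Agent.H4
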