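/-
Small subgroup lemmas for symmetric and alternating groups, and the isomorphism between the
general linear group of degree four over two elements and the alternating group of degree eight.
-/
import Cfsg.Agent.H4.Hom

set_option autoImplicit false
set_option maxRecDepth 100000

open MulAction Equiv
open scoped Pointwise

namespace Cfsg.Agent.H4

/-- A subgroup with trivial core: the group order divides the factorial of the index. -/
theorem card_dvd_factorial_of_core {G : Type*} [Group G] [Finite G] (K : Subgroup G)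
    (h : K.normalCore = ⊥) : Nat.card G ∣ K.index.factorial := by
  rw [Subgroup.normalCore_eq_ker, MonoidHom.ker_eq_bot_iff] at h
  have := Subgroup.card_dvd_of_injective _ h
  rwa [Nat.card_perm] at this

theorem normalCore_eq_bot_of_simple {G : Type*} [Group G] [IsSimpleGroup G] {K : Subgroup G}
    (h : K ≠ ⊤) : K.normalCore = ⊥ :=
  (K.normalCore_normal.eq_bot_or_eq_top).resolve_right fun h1 =>
    h (top_le_iff.mp (h1 ▸ K.normalCore_le))

theorem card_dvd_factorial_of_simple {G : Type*} [Group G] [Finite G] [IsSimpleGroup G]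
    {K : Subgroup G} (h : K.index ≠ 1) : Nat.card G ∣ K.index.factorial :=
  card_dvd_factorial_of_core K (normalCore_eq_bot_of_simple fun h1 => h (by rw [h1]; simp))

/-- A subgroup of index `n + 1` with trivial core embeds in the symmetric group of degree `n`;
the image is even when the group has no subgroup of index two. -/
theorem exists_embed_of_index {G : Type*} [Group G] [Finite G] (K : Subgroup G)
    (h : K.normalCore = ⊥) {n : ℕ} (hn : K.index = n + 1) :
    ∃ f : K →* Perm (Fin n), Function.Injective f ∧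
      ((∀ χ : G →* ℤˣ, ∀ g, χ g = 1) → ∀ k, Perm.sign (f k) = 1) := by
  classical
  have := Fintype.ofFinite (G ⧸ K)
  rw [Subgroup.normalCore_eq_ker, MonoidHom.ker_eq_bot_iff] at h
  let b : G ⧸ K := ((1 : G) : G ⧸ K)
  have hb : ∀ k : K, ∀ x : G ⧸ K, (toPermHom G (G ⧸ K) k) x ≠ b ↔ x ≠ b := by
    intro k x
    have h1 : (toPermHom G (G ⧸ K) k) b = b := by
      show ((((k : G) * 1 : G)) : G ⧸ K) = ((1 : G) : G ⧸ K)
      rw [QuotientGroup.eq]; simp
    rw [not_iff_not]
    conv_lhs => rw [← h1]
    exact (toPermHom G (G ⧸ K) k).injective.eq_iff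
  let f₀ : K →* Perm {x : G ⧸ K // x ≠ b} :=
    { toFun := fun k => (toPermHom G (G ⧸ K) k).subtypePerm (hb k)
      map_one' := by ext x; simp
      map_mul' := fun k l => Equiv.ext fun x => Subtype.ext (mul_smul (k : G) (l : G) x.1) }
  have hc : Fintype.card {x : G ⧸ K // x ≠ b} = n := by
    rw [Fintype.card_subtype_compl, Fintype.card_subtype_eq, ← Nat.card_eq_fintype_card]
    show K.index - 1 = n
    omega
  let e := Fintype.equivFinOfCardEq hc
  refine ⟨(e.permCongrHom : _ →* _).comp f₀, e.permCongrHom.injective.comp ?_, fun hχ k => ?_⟩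
  · rw [injective_iff_map_eq_one]
    intro k hk
    apply Subtype.ext
    apply h
    rw [Subgroup.coe_one, map_one]
    ext x
    by_cases hx : x = b
    · by_contra h2
      exact (hb k x).mp (hx ▸ h2) hx
    · exact congrArg Subtype.val (Perm.congr_fun hk ⟨x, hx⟩)
  · show Perm.sign (e.permCongr (f₀ k)) = 1
    rw [Perm.sign_permCongr]
    refine (Perm.sign_subtypePerm _ (hb k) fun x hx h1 => ?_).trans
      (hχ (Perm.sign.comp (toPermHom G (G ⧸ K))) k)
    by_contra h2
    subst h1
    exact (hb k b).mp hx rfl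

theorem sign_trivial_of_simple {G : Type*} [Group G] [Finite G] [IsSimpleGroup G]
    (h : 2 < Nat.card G) (χ : G →* ℤˣ) (g : G) : χ g = 1 := by
  rcases χ.normal_ker.eq_bot_or_eq_top with h1 | h1
  · rw [MonoidHom.ker_eq_bot_iff] at h1
    have := Nat.card_le_card_of_injective χ h1
    rw [Nat.card_eq_fintype_card (α := ℤˣ), Fintype.card_units_int] at this
    omega
  · exact (h1 ▸ Subgroup.mem_top g : g ∈ χ.ker)

/-- A subgroup of index `n + 1` and order `n! / 2` of a simple group is alternating. -/
theorem equiv_alt_of_index {G : Type*} [Group G] [Finite G] [IsSimpleGroup G] (K : Subgroup G)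
    {n : ℕ} (h2 : 2 ≤ n) (hn : K.index = n + 1) (hc : Nat.card K = n.factorial / 2) :
    Nonempty (K ≃* alternatingGroup (Fin n)) := by
  obtain ⟨f, hf, hs⟩ := exists_embed_of_index K
    (normalCore_eq_bot_of_simple fun h1 => by rw [h1] at hn; simp at hn; omega) hn
  have h3 : 2 < Nat.card G := by
    have := Nat.le_of_dvd Nat.card_pos K.index_dvd_card
    omega
  let f' : K →* alternatingGroup (Fin n) :=
    f.codRestrict _ fun k => hs (sign_trivial_of_simple h3) k
  have hf' : Function.Injective f' := fun a b hab => hf (congrArg Subtype.val hab)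
  exact ⟨MulEquiv.ofBijective f' (hf'.bijective_of_nat_card_le (by rw [hc, card_alt_fin n h2]))⟩

/-- A subgroup of index `n + 1` in the symmetric group of degree `n + 1` is symmetric. -/
theorem equiv_perm_of_index {n : ℕ} (h4 : 4 ≤ n) (K : Subgroup (Perm (Fin (n + 1))))
    (hn : K.index = n + 1) : Nonempty (K ≃* Perm (Fin n)) := by
  have hc : Nat.card K = n.factorial := by
    have := K.index_mul_card
    rw [hn, card_perm_fin, Nat.factorial_succ] at this
    exact Nat.eq_of_mul_eq_mul_left (by omega) this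
  obtain ⟨f, hf, -⟩ := exists_embed_of_index K (by
    by_contra h
    have : Nontrivial K.normalCore := (Subgroup.nontrivial_iff_ne_bot _).mpr h
    have h1 := Perm.alternatingGroup_le_of_normal (N := K.normalCore) (by simpa using h4) this
    have h2 := Subgroup.index_dvd_of_le (h1.trans K.normalCore_le)
    have : Nontrivial (Fin (n + 1)) := Fin.nontrivial_iff_two_le.mpr (by omega)
    rw [alternatingGroup.index_eq_two, hn] at h2
    have := Nat.le_of_dvd two_pos h2
    omega) hn
  exact ⟨MulEquiv.ofBijective f (hf.bijective_of_nat_card_le (by rw [hc, card_perm_fin]))⟩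

/-- The normaliser of a subgroup of prime order. -/
theorem card_normalizer_dvd {G G' : Type*} [Group G] [Group G'] [Finite G'] (f : G →* G')
    (hf : Function.Injective f) {p : ℕ} (hp : p.Prime) (P : Subgroup G) (hP : Nat.card P = p)
    {x : G} (hx : x ∈ P) :
    Nat.card (Subgroup.normalizer (P : Set G)) ∣
      (p - 1) * Nat.card (Subgroup.centralizer ({f x} : Set G')) := by
  have := Fact.mk hp
  have := Finite.of_injective f hf
  have := isCyclic_of_prime_card hP
  rw [← P.normalizerMonoidHom.ker.index_mul_card]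
  refine Nat.mul_dvd_mul ?_ ?_
  · rw [Subgroup.index_ker, ← Nat.totient_prime hp, ← hP, ← IsCyclic.card_mulAut]
    exact Subgroup.card_subgroup_dvd_card _
  · refine Subgroup.card_dvd_of_injective
      (((f.comp (Subgroup.normalizer (P : Set G)).subtype).comp
        P.normalizerMonoidHom.ker.subtype).codRestrict _ fun g => ?_) fun a b hab => ?_
    · have h1 : (g : Subgroup.normalizer (P : Set G)) ∈ (Subgroup.centralizer (P : Set G)).subgroupOf
          (Subgroup.normalizer (P : Set G)) := P.normalizerMonoidHom_ker ▸ g.2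
      rw [Subgroup.mem_centralizer_singleton_iff]
      have h2 := congrArg f (h1 x hx)
      rw [map_mul, map_mul] at h2
      exact h2.symm
    · exact Subtype.ext (Subtype.ext (hf (congrArg Subtype.val hab)))

theorem cycleType_of_prime {n p : ℕ} (hp : p.Prime) (hn : n < 2 * p) {g : Perm (Fin n)}
    (hg : orderOf g = p) : g.cycleType = {p} := by
  obtain ⟨k, hk⟩ := Perm.cycleType_prime_order (σ := g) (hg ▸ hp)
  have h1 := g.sum_cycleType_le
  rw [hk, hg, Multiset.sum_replicate, Fintype.card_fin, smul_eq_mul] at h1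
  have : k = 0 := by
    by_contra h
    have : 2 * p ≤ (k + 1) * p := Nat.mul_le_mul_right _ (by omega)
    omega
  rw [hk, this, hg]; rfl

theorem card_centralizer_of_prime {n p : ℕ} (hp : p.Prime) (hn : n < 2 * p) {g : Perm (Fin n)}
    (hg : orderOf g = p) :
    Nat.card (Subgroup.centralizer ({g} : Set (Perm (Fin n)))) = (n - p).factorial * p := by
  rw [Perm.nat_card_centralizer, cycleType_of_prime hp hn hg]
  simp

/-- A transitive group containing a cycle of prime length `p > n / 2` is
`(n - p + 1)`-transitive. -/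
theorem isMultiplyPretransitive_of_prime {n p m : ℕ} (hp : p.Prime) (hn : n < 2 * p)
    (hm : n = p + (m + 1)) (H : Subgroup (Perm (Fin n))) [IsPretransitive H (Fin n)]
    {g : Perm (Fin n)} (hg : orderOf g = p) (hgH : g ∈ H) :
    IsMultiplyPretransitive H (Fin n) (m + 2) := by
  classical
  have h1 := cycleType_of_prime hp hn hg
  have h2 : g.IsCycle := by rw [← Perm.card_cycleType_eq_one, h1]; rfl
  have h3 : g.support.card = p := by rw [← g.sum_cycleType, h1]; rfl
  have := Perm.isPretransitive_of_isCycle_mem h2 hgH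
  have h4 : Nat.card (SubMulAction.ofFixingSubgroup H ((g.support)ᶜ : Set (Fin n))) = p := by
    rw [Nat.card_eq_fintype_card, Fintype.card_subtype, ← h3]
    apply congr_arg
    ext x
    simp [SubMulAction.mem_ofFixingSubgroup_iff]
  have h5 : IsPreprimitive (fixingSubgroup H ((g.support)ᶜ : Set (Fin n)))
      (SubMulAction.ofFixingSubgroup H ((g.support)ᶜ : Set (Fin n))) :=
    IsPreprimitive.of_prime_card (h4 ▸ hp)
  have h6 : IsPreprimitive H (Fin n) := by
    refine IsPreprimitive.of_card_lt
      (f := SubMulAction.ofFixingSubgroup_equivariantMap H ((g.support)ᶜ : Set (Fin n))) ?_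
    rw [Set.ncard_range_of_injective SubMulAction.ofFixingSubgroup_equivariantMap_injective, h4]
    simpa using hn
  have h7 : Set.ncard ((g.support)ᶜ : Set (Fin n)) = m + 1 := by
    apply Nat.add_left_cancel (n := p)
    rw [← h3, ← Set.ncard_coe_finset, Set.ncard_add_ncard_compl, Set.ncard_coe_finset, h3]
    simpa using hm
  have := h6.isMultiplyPreprimitive h7 (by have := hp.two_le; simp; omega) h5
  exact IsMultiplyPreprimitive.isMultiplyPretransitive ..

/-- A chain for the diagonal group, keyed on the matrices. -/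
def gl42L : List (CG.Level ((ℕ × ℕ) × ℕ)) :=
  [(8, [((0x23c6, 0xb98c), 0x5c4373)],
     [(0, 0), (0, 0), (2, 1), (0, 1), (1, 2), (2, 3), (5, 4), (0, 4), (2, 5), (3, 6), (2, 5), (2, 5), (0, 5), (1, 2)]),
   (4, [((0xa216, 0xc542), 0x3d072e)],
     [(0, 0), (0, 0), (1, 1), (2, 2), (4, 3), (0, 3), (0, 3), (2, 4), (4, 5), (0, 5), (4, 6), (0, 4), (0, 4)]),
   (2, [((0x9513, 0xa632), 0xe5d990)],
     [(0, 0), (0, 0), (1, 1), (3, 2), (1, 2), (3, 3), (3, 3), (0, 3), (0, 3), (3, 4), (0, 3)]),
   (1, [((0x9421, 0x9421), 0xdc3855), ((0x9531, 0x9531), 0x1714e7), ((0x9431, 0x9431), 0x8d7d41)],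
     [(0, 0), (1, 1), (2, 2), (1, 2), (2, 3), (2, 3), (2, 2)])]

/-- A chain for the diagonal group, keyed on the permutations. -/
def gl42L' : List (CG.Level ((ℕ × ℕ) × ℕ)) :=
  [(0, [((0xa483, 0x24ab), 0xe6b506)],
     [(0, 0), (0, 0), (2, 1), (3, 2), (4, 3), (1, 3), (1, 3)]),
   (1, [((0x298e, 0x2b86), 0x98aee8)],
     [(0, 0), (1, 0), (2, 1), (3, 2), (0, 2), (0, 2)]),
   (2, [((0xb613, 0x9732), 0xc9d9c8)],
     [(0, 0), (0, 0), (1, 1), (2, 1), (0, 1)]),
   (3, [((0x7e58, 0x1fad), 0xbe3c88)],
     [(0, 0), (0, 0), (1, 1), (0, 1)]),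
   (4, [((0xef7d, 0x6b5c), 0xf35688)],
     [(0, 0), (0, 0), (1, 0)]),
   (5, [((0xc8f6, 0x4cd7), 0xbf4688)],
     [(0, 0), (0, 0)])]

theorem card_A8 : Nat.card (alternatingGroup (Fin 8)) = 20160 := card_alt_fin 8 (by norm_num)

/-- The test that a pair of codes lies on the graph of the isomorphism below. -/
def gl42Pair (c : (ℕ × ℕ) × ℕ) : Bool :=
  ((f2Ops.cg 2 1 4).prod (acg 8 3 (by norm_num))).sift
    (((f2Ops.cg 2 1 4).prod (acg 8 3 (by norm_num))).transOf gl42L) c

/-- `GL(4, 2)` is isomorphic to the alternating group of degree eight. -/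
theorem exists_gl42_equiv {F : Type*} [Field F] [Fintype F] (hF : Fintype.card F = 2)
    (K : FC F 2 1 f2Ops) : ∃ e : GL (Fin 4) F ≃* alternatingGroup (Fin 8),
      ∀ x k c, (K.glcg 4).Rep x c.1 → (acg 8 3 (by norm_num)).Rep k c.2 → gl42Pair c = true →
        e x = k := by
  have h1 : Nat.card (GL (Fin 4) F) = 20160 := (card_GL' 4 F hF).trans (by decide)
  obtain ⟨φ, h2, -, h3⟩ := CG.exists_surj_top (M := K.glcg 4) (M' := acg 8 3 (by norm_num))
    (K.cg_uniq _ _ _) (acg_uniq _ _ _) (K.cg_keyed _ _ _) (K.glcg_vt 4) (acg_vt _ _ _)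
    (N := f2Ops.cg 2 1 4) (N' := acg 8 3 (by norm_num)) rfl rfl (L := gl42L) h1.le
    (by decide +kernel) (l := CG.gensOf gl42L') (by decide +kernel)
    (CG.gensOf_sndL gl42L' ▸ CG.gen_eq_top_of_check (acg_keyed _ _ _) (acg_vt _ _ _)
      (N := acg 8 3 (by norm_num)) rfl card_A8.le (by decide +kernel))
  exact ⟨MulEquiv.ofBijective φ (h2.bijective_of_nat_card_le (by rw [h1, card_A8])), h3⟩

end Cfsg.Agent.H4
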