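import Cfsg.Agent.H5.DC4
import Cfsg.Agent.H5.F4Mat

/-! Bit-sliced matrix models over fields of characteristic 2 and 3 for the H5 certificate engine. -/

set_option autoImplicit false

namespace Cfsg.Agent.H4

open Finset Cfsg.Agent.H5

/-- `2 ^ n - 1` -/
def msk (n : ℕ) : ℕ := Nat.pred (Nat.pow 2 n)

theorem msk_eq (n : ℕ) : msk n = 2 ^ n - 1 := rfl

theorem testBit_msk (n t : ℕ) : (msk n).testBit t = decide (t < n) := by
  rw [msk_eq, Nat.testBit_two_pow_sub_one]

/-- row `i` of a bit matrix with rows of length `n` -/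
def brow (n A i : ℕ) : ℕ := Nat.land (Nat.shiftRight A (Nat.mul n i)) (msk n)

theorem testBit_brow (n A i t : ℕ) :
    (brow n A i).testBit t = (A.testBit (n * i + t) && decide (t < n)) := by
  change ((A >>> (n * i)) &&& msk n).testBit t = _
  rw [Nat.testBit_and, Nat.testBit_shiftRight, testBit_msk]

theorem brow_lt (n A i : ℕ) : brow n A i < 2 ^ n :=
  lt_of_le_of_lt Nat.and_le_right (Nat.sub_lt (Nat.two_pow_pos n) one_pos)

theorem testBit_bstep {s r A B j i k : ℕ} (hi : i < r) (hk : k < s) :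
    (bstep s (rep s 1 r) (msk s) A B j).testBit (s * i + k) =
      (A.testBit (s * i + j) && B.testBit (s * j + k)) := by
  have h := bit_bstep ℤ s r A B j i k hi hk
  rw [rep_eq (by omega), msk_eq]
  simp only [bit] at h
  revert h
  cases Nat.testBit (bstep _ _ _ _ _ _) _ <;> cases A.testBit _ <;> cases B.testBit _ <;> simp

theorem eq_of_testBit_lt {a b n : ℕ} (ha : a < 2 ^ n) (hb : b < 2 ^ n)
    (h : ∀ t < n, a.testBit t = b.testBit t) : a = b := by
  apply Nat.eq_of_testBit_eq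
  intro t
  by_cases ht : t < n
  · exact h t ht
  · rw [Nat.testBit_lt_two_pow (lt_of_lt_of_le ha (Nat.pow_le_pow_right two_pos (by omega))),
      Nat.testBit_lt_two_pow (lt_of_lt_of_le hb (Nat.pow_le_pow_right two_pos (by omega)))]

theorem testBit_diag {n i k : ℕ} (hi : i < n) (hk : k < n) :
    (rep (n + 1) 1 n).testBit (n * i + k) = decide (i = k) := by
  rw [rep_eq (by omega)]
  have key : ∀ t < n * n, (pack (2 ^ (n + 1)) (fun _ => 1) n).testBit t = decide (t % (n + 1) = 0) := by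
    intro t ht
    have h1 : t / (n + 1) < n := Nat.div_lt_of_lt_mul (by nlinarith)
    have h2 := testBit_pack_const (n + 1) n 1 (t / (n + 1)) (t % (n + 1))
      (Nat.one_lt_two_pow (by omega)) h1 (Nat.mod_lt _ (by omega))
    rw [Nat.div_add_mod] at h2
    rw [h2]
    rcases Nat.eq_zero_or_pos (t % (n + 1)) with h | h
    · rw [h]; rfl
    · rw [Nat.testBit_lt_two_pow (Nat.one_lt_two_pow (by omega))]; simp; omega
  rw [key _ (by nlinarith)]
  congr 1
  apply propext
  constructor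
  · intro h
    have h3 : (n + 1) ∣ n * i + k := Nat.dvd_of_mod_eq_zero h
    have h4 : ((n + 1 : ℕ) : ℤ) ∣ (k : ℤ) - i := by
      have : (k : ℤ) - i = ((n * i + k : ℕ) : ℤ) - (n + 1 : ℕ) * i := by push_cast; ring
      rw [this]
      exact dvd_sub (Int.natCast_dvd_natCast.2 h3) (Dvd.intro _ rfl)
    have := Int.eq_zero_of_abs_lt_dvd h4 (by rw [abs_lt]; constructor <;> omega)
    omega
  · rintro rfl
    rw [show n * i + i = (n + 1) * i by ring, Nat.mul_mod_right]

/-! ### characteristic 2 -/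

/-- product of an `r × n` and an `n × n` bit matrix -/
noncomputable def bm2 (n r A B : ℕ) : ℕ :=
  force A fun A => force B fun B => bmul n (rep n 1 r) (msk n) n A B

def one2 (n : ℕ) : ℕ := rep (Nat.succ n) 1 n

noncomputable def mul2 (n a b : ℕ) : ℕ := bm2 n n b a

section two

variable (F : Type*) [CommRing F]

def ev2 (n a : ℕ) : Matrix (Fin n) (Fin n) F := fun i j => bit F a (n * j + i)

def vec2 (n x : ℕ) : Fin n → F := fun i => bit F x i

variable {F}

theorem bit_bm2 [CharP F 2] {n r : ℕ} (A B : ℕ) {i k : ℕ} (hi : i < r) (hk : k < n) :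
    bit F (bm2 n r A B) (n * i + k) = ∑ j ∈ range n, bit F A (n * i + j) * bit F B (n * j + k) := by
  change bit F (bmul n (rep n 1 r) (msk n) n A B) _ = _
  rw [rep_eq (by omega), msk_eq, bit_bmul F n r n A B i k hi hk]

theorem bm2_lt {n : ℕ} (hn : n ≠ 0) (r A B : ℕ) : bm2 n r A B < 2 ^ (n * r) := by
  change bmul n (rep n 1 r) (msk n) n A B < _
  rw [rep_eq hn, msk_eq]; exact bmul_lt n r n A B hn

theorem ev2_mul [CharP F 2] (n a b : ℕ) : ev2 F n (mul2 n a b) = ev2 F n a * ev2 F n b := by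
  funext i k
  simp only [ev2, mul2, Matrix.mul_apply, bit_bm2 b a k.2 i.2]
  rw [← Fin.sum_univ_eq_sum_range (fun j => bit F b (n * k + j) * bit F a (n * j + i))]
  exact sum_congr rfl fun j _ => mul_comm _ _

theorem ev2_one (n : ℕ) : ev2 F n (one2 n) = 1 := by
  funext i k
  have h0 : (one2 n).testBit (n * k + i) = decide (k.1 = i.1) := testBit_diag k.2 i.2
  simp only [ev2, bit, Matrix.one_apply, Fin.ext_iff, h0]
  by_cases h : i.1 = k.1
  · simp [h]
  · simp [h, Ne.symm h]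

theorem bit_brow {n : ℕ} (A i : ℕ) {k : ℕ} (hk : k < n) :
    bit F (brow n A i) k = bit F A (n * i + k) := by
  simp only [bit, testBit_brow, hk, decide_true, Bool.and_true]

theorem vec2_row [CharP F 2] {n r : ℕ} (A B : ℕ) {i : ℕ} (hi : i < r) :
    vec2 F n (brow n (bm2 n r A B) i) = (ev2 F n B).mulVec (vec2 F n (brow n A i)) := by
  funext k
  simp only [vec2, ev2, Matrix.mulVec, dotProduct, bit_brow _ _ k.2, bit_bm2 A B hi k.2]
  rw [← Fin.sum_univ_eq_sum_range (fun j => bit F A (n * i + j) * bit F B (n * j + k))]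
  exact sum_congr rfl fun j _ => by rw [bit_brow _ _ j.2, mul_comm]

theorem bit_inj [Nontrivial F] {a b s t : ℕ} (h : bit F a s = bit F b t) :
    a.testBit s = b.testBit t := by
  simp only [bit] at h
  revert h
  cases a.testBit s <;> cases b.testBit t <;> simp

theorem vec2_inj [Nontrivial F] {n x y : ℕ} (hx : x < 2 ^ n) (hy : y < 2 ^ n)
    (h : vec2 F n x = vec2 F n y) : x = y :=
  eq_of_testBit_lt hx hy fun t ht => bit_inj (congrFun h ⟨t, ht⟩)

/-- the model over a ring of characteristic 2 -/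
noncomputable def md2 (F : Type*) [CommRing F] [CharP F 2] (n : ℕ) {G : Type*} [Group G]
    (φ : G →* Matrix (Fin n) (Fin n) F) (inj : Function.Injective φ) :
    Mdl G (Matrix (Fin n) (Fin n) F) where
  φ := φ
  inj := inj
  ev := ev2 F n
  mul := mul2 n
  ev_mul := ev2_mul n
  one := one2 n
  ev_one := ev2_one n

/-- image of row `i` of the batch `A` under the code `gl s` -/
noncomputable def img2 (n : ℕ) (gl : ℕ → ℕ) (A s _c i : ℕ) : ℕ := brow n (bm2 n 64 A (gl s)) i

def can0 (_A _i : ℕ) : ℕ := 0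

variable {G : Type*} [Group G]

theorem img2_ok [CharP F 2] {n : ℕ} (φ : G →* Matrix (Fin n) (Fin n) F) {gl : ℕ → ℕ} {s : ℕ} {g : G}
    (e : φ g = ev2 F n (gl s)) :
    Img (fun x => (⟨vec2 F n x⟩ : Vc φ)) (img2 n gl) (brow n) s g := fun A _ i hi => Vc.ext (by
  rw [Vc.smul_v, e]; exact vec2_row A _ hi)

theorem canT2 [Nontrivial F] {n : ℕ} (φ : G →* Matrix (Fin n) (Fin n) F) :
    CanT (fun x => (⟨vec2 F n x⟩ : Vc φ)) can0 (brow n) := fun _ _ _ _ _ _ _ _ e =>
  vec2_inj (brow_lt _ _ _) (brow_lt _ _ _) (congrArg Vc.v e)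

end two

/-! ### characteristic 3 -/

/-- a loop with two accumulators -/
noncomputable def loop2 (f : ℕ → ℕ → ℕ → (ℕ → ℕ → ℕ) → ℕ) (k : ℕ → ℕ → ℕ) (n : ℕ) : ℕ → ℕ → ℕ :=
  Nat.rec (motive := fun _ => ℕ → ℕ → ℕ) k (fun j ih p m => f j p m ih) n

/-- addition of ternary digits given by two bit planes -/
def add3 (p m x y : ℕ) (k : ℕ → ℕ → ℕ) : ℕ :=
  (fun t => k (Nat.xor t (Nat.lor m y)) (Nat.xor t (Nat.lor p x)))
    (Nat.xor (Nat.lor p y) (Nat.lor m x))

def step3 (s M R A1 A2 B1 B2 j p m : ℕ) (k : ℕ → ℕ → ℕ) : ℕ :=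
  (fun a1 a2 b1 b2 => add3 p m (Nat.lor (Nat.mul a1 b1) (Nat.mul a2 b2))
      (Nat.lor (Nat.mul a1 b2) (Nat.mul a2 b1)) k)
    (Nat.land (Nat.shiftRight A1 j) M) (Nat.land (Nat.shiftRight A2 j) M)
    (Nat.land (Nat.shiftRight B1 (Nat.mul s j)) R) (Nat.land (Nat.shiftRight B2 (Nat.mul s j)) R)

/-- the plane of the `+1` entries (`S` entries) -/
def pl1 (S A : ℕ) : ℕ :=
  Nat.land (Nat.xor A (Nat.land A (Nat.shiftRight A S))) (msk S)

/-- the plane of the `-1` entries -/
def pl2 (S A : ℕ) : ℕ :=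
  (fun H => Nat.land (Nat.xor H (Nat.land A H)) (msk S)) (Nat.shiftRight A S)

def join (S p m : ℕ) : ℕ := Nat.lor (Nat.land p (msk S)) (Nat.shiftLeft m S)

/-- product of an `r × n` and an `n × n` ternary matrix -/
noncomputable def bm3 (n r A B : ℕ) : ℕ :=
  force A fun A => force B fun B =>
  force (pl1 (Nat.mul n r) A) fun A1 => force (pl2 (Nat.mul n r) A) fun A2 =>
  force (pl1 (Nat.mul n n) B) fun B1 => force (pl2 (Nat.mul n n) B) fun B2 =>
    loop2 (step3 n (rep n 1 r) (msk n) A1 A2 B1 B2) (join (Nat.mul n r)) n 0 0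

noncomputable def mul3 (n a b : ℕ) : ℕ := bm3 n n b a

theorem testBit_pl1 {S t : ℕ} (A : ℕ) (ht : t < S) :
    (pl1 S A).testBit t = (A.testBit t && !A.testBit (S + t)) := by
  change ((A ^^^ (A &&& (A >>> S))) &&& msk S).testBit t = _
  simp only [Nat.testBit_and, Nat.testBit_xor, Nat.testBit_shiftRight, testBit_msk, ht]
  cases A.testBit t <;> cases A.testBit (S + t) <;> rfl

theorem testBit_pl2 {S t : ℕ} (A : ℕ) (ht : t < S) :
    (pl2 S A).testBit t = (A.testBit (S + t) && !A.testBit t) := by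
  change (((A >>> S) ^^^ (A &&& (A >>> S))) &&& msk S).testBit t = _
  simp only [Nat.testBit_and, Nat.testBit_xor, Nat.testBit_shiftRight, testBit_msk, ht]
  cases A.testBit t <;> cases A.testBit (S + t) <;> rfl

theorem testBit_join_lo {S t : ℕ} (p m : ℕ) (ht : t < S) : (join S p m).testBit t = p.testBit t := by
  change ((p &&& msk S) ||| (m <<< S)).testBit t = _
  have : ¬ (t ≥ S) := by omega
  simp [Nat.testBit_shiftLeft, testBit_msk, ht, this]

theorem testBit_join_hi (S t p m : ℕ) : (join S p m).testBit (S + t) = m.testBit t := by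
  change ((p &&& msk S) ||| (m <<< S)).testBit _ = _
  simp [Nat.testBit_shiftLeft, testBit_msk]

section three

variable (F : Type*) [CommRing F]

/-- the digit given by two bits -/
def d3 (a b : Bool) : F := (if a then 1 else 0) - (if b then 1 else 0)

/-- entry `t` of a code with `S` entries -/
def ent3 (S A t : ℕ) : F := d3 F (A.testBit t) (A.testBit (S + t))

def ev3 (n a : ℕ) : Matrix (Fin n) (Fin n) F := fun i j => ent3 F (n * n) a (n * j + i)

def vec3 (n x : ℕ) : Fin n → F := fun i => ent3 F n x i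

variable {F}

theorem d3_san (a b : Bool) : d3 F (a && !b) (b && !a) = d3 F a b := by
  cases a <;> cases b <;> simp [d3]

theorem d3_add [CharP F 3] (p m x y : Bool) (h1 : (p && m) = false) (h2 : (x && y) = false) :
    ((((p || y) ^^ (m || x)) ^^ (m || y)) && (((p || y) ^^ (m || x)) ^^ (p || x))) = false ∧
    d3 F (((p || y) ^^ (m || x)) ^^ (m || y)) (((p || y) ^^ (m || x)) ^^ (p || x)) =
      d3 F p m + d3 F x y := by
  have h3 : (3 : F) = 0 := by exact_mod_cast CharP.cast_eq_zero F 3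
  revert h1 h2
  cases p <;> cases m <;> cases x <;> cases y <;> simp [d3]
  · linear_combination h3
  · linear_combination (-1 : F) * h3

theorem d3_mul (a1 a2 b1 b2 : Bool) (h1 : (a1 && a2) = false) (h2 : (b1 && b2) = false) :
    ((a1 && b1 || a2 && b2) && (a1 && b2 || a2 && b1)) = false ∧
    d3 F (a1 && b1 || a2 && b2) (a1 && b2 || a2 && b1) = d3 F a1 a2 * d3 F b1 b2 := by
  revert h1 h2
  cases a1 <;> cases a2 <;> cases b1 <;> cases b2 <;> simp [d3]

theorem loop3 [CharP F 3] {s r A1 A2 B1 B2 i k N : ℕ} (hi : i < r) (hk : k < s)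
    (hA : ∀ j < N, (A1.testBit (s * i + j) && A2.testBit (s * i + j)) = false)
    (hB : ∀ j < N, (B1.testBit (s * j + k) && B2.testBit (s * j + k)) = false)
    (K : ℕ → ℕ → ℕ) : ∀ p m, (p.testBit (s * i + k) && m.testBit (s * i + k)) = false →
      ∃ p' m', loop2 (step3 s (rep s 1 r) (msk s) A1 A2 B1 B2) K N p m = K p' m' ∧
        d3 F (p'.testBit (s * i + k)) (m'.testBit (s * i + k)) =
          d3 F (p.testBit (s * i + k)) (m.testBit (s * i + k)) +
          ∑ j ∈ range N, d3 F (A1.testBit (s * i + j)) (A2.testBit (s * i + j)) *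
            d3 F (B1.testBit (s * j + k)) (B2.testBit (s * j + k)) := by
  induction N with
  | zero => intro p m _; exact ⟨p, m, rfl, by simp⟩
  | succ N ih =>
    intro p m hpm
    have hm := d3_mul (F := F) _ _ _ _ (hA N (by omega)) (hB N (by omega))
    have ha := d3_add (F := F) _ _ _ _ hpm hm.1
    obtain ⟨p', m', e1, e2⟩ := ih (fun j hj => hA j (by omega)) (fun j hj => hB j (by omega))
      (((p ||| (bstep s (rep s 1 r) (msk s) A1 B2 N ||| bstep s (rep s 1 r) (msk s) A2 B1 N)) ^^^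
        (m ||| (bstep s (rep s 1 r) (msk s) A1 B1 N ||| bstep s (rep s 1 r) (msk s) A2 B2 N))) ^^^
        (m ||| (bstep s (rep s 1 r) (msk s) A1 B2 N ||| bstep s (rep s 1 r) (msk s) A2 B1 N)))
      (((p ||| (bstep s (rep s 1 r) (msk s) A1 B2 N ||| bstep s (rep s 1 r) (msk s) A2 B1 N)) ^^^
        (m ||| (bstep s (rep s 1 r) (msk s) A1 B1 N ||| bstep s (rep s 1 r) (msk s) A2 B2 N))) ^^^
        (p ||| (bstep s (rep s 1 r) (msk s) A1 B1 N ||| bstep s (rep s 1 r) (msk s) A2 B2 N)))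
      (by simp only [Nat.testBit_xor, Nat.testBit_or, testBit_bstep hi hk]; exact ha.1)
    refine ⟨p', m', e1, ?_⟩
    rw [e2, sum_range_succ]
    simp only [Nat.testBit_xor, Nat.testBit_or, testBit_bstep hi hk]
    rw [ha.2, hm.2]; ring

theorem ent3_bm3 [CharP F 3] {n r : ℕ} (A B : ℕ) {i k : ℕ} (hi : i < r) (hk : k < n) :
    ent3 F (n * r) (bm3 n r A B) (n * i + k) =
      ∑ j ∈ range n, ent3 F (n * r) A (n * i + j) * ent3 F (n * n) B (n * j + k) := by
  have l1 : ∀ j < n, n * i + j < n * r := fun j hj => by nlinarith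
  have l2 : ∀ j < n, n * j + k < n * n := fun j hj => by nlinarith
  obtain ⟨p, m, e1, e2⟩ := loop3 (F := F) (A1 := pl1 (n * r) A) (A2 := pl2 (n * r) A)
    (B1 := pl1 (n * n) B) (B2 := pl2 (n * n) B) (N := n) hi hk
    (fun j hj => by
      rw [testBit_pl1 _ (l1 j hj), testBit_pl2 _ (l1 j hj)]
      cases A.testBit _ <;> cases A.testBit _ <;> rfl)
    (fun j hj => by
      rw [testBit_pl1 _ (l2 j hj), testBit_pl2 _ (l2 j hj)]
      cases B.testBit _ <;> cases B.testBit _ <;> rfl) (join (n * r)) 0 0 (by simp)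
  have e : bm3 n r A B = join (n * r) p m := e1
  rw [e, ent3, testBit_join_lo _ _ (l1 k hk), testBit_join_hi, e2]
  simp only [Nat.zero_testBit, d3, Bool.false_eq_true, if_false, sub_self, zero_add]
  refine sum_congr rfl fun j hj => ?_
  have hj' := mem_range.1 hj
  rw [testBit_pl1 _ (l1 j hj'), testBit_pl2 _ (l1 j hj'), testBit_pl1 _ (l2 j hj'),
    testBit_pl2 _ (l2 j hj')]
  exact congrArg₂ (· * ·) (d3_san _ _) (d3_san _ _)

theorem ev3_mul [CharP F 3] (n a b : ℕ) : ev3 F n (mul3 n a b) = ev3 F n a * ev3 F n b := by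
  funext i k
  simp only [ev3, mul3, Matrix.mul_apply, ent3_bm3 b a k.2 i.2]
  rw [← Fin.sum_univ_eq_sum_range
    (fun j => ent3 F (n * n) b (n * k + j) * ent3 F (n * n) a (n * j + i))]
  exact sum_congr rfl fun j _ => mul_comm _ _

theorem ev3_one (n : ℕ) : ev3 F n (one2 n) = 1 := by
  funext i k
  have h1 : (one2 n).testBit (n * n + (n * k + i)) = false := by
    apply Nat.testBit_lt_two_pow
    obtain ⟨n', rfl⟩ : ∃ n', n = n' + 1 := ⟨n - 1, by have := i.2; omega⟩
    change rep (n' + 1 + 1) 1 (n' + 1) < _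
    rw [rep_eq (by omega), pack_succ]
    have h2 : pack (2 ^ (n' + 1 + 1)) (fun _ => 1) n' < (2 ^ (n' + 1 + 1)) ^ n' :=
      pack_lt fun _ _ => Nat.one_lt_two_pow (by omega)
    have h3 : 2 * (2 ^ (n' + 1 + 1)) ^ n' ≤
        2 ^ ((n' + 1) * (n' + 1) + ((n' + 1) * (k : ℕ) + (i : ℕ))) := by
      rw [← pow_mul, ← pow_succ']
      exact Nat.pow_le_pow_right two_pos (by nlinarith)
    omega
  simp only [ev3, ent3, h1, d3, Matrix.one_apply, Fin.ext_iff]
  rw [one2, testBit_diag k.2 i.2]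
  by_cases h : i.1 = k.1
  · simp [h]
  · simp [h, Ne.symm h]

/-- the model over a ring of characteristic 3 -/
noncomputable def md3 (F : Type*) [CommRing F] [CharP F 3] (n : ℕ) {G : Type*} [Group G]
    (φ : G →* Matrix (Fin n) (Fin n) F) (inj : Function.Injective φ) :
    Mdl G (Matrix (Fin n) (Fin n) F) where
  φ := φ
  inj := inj
  ev := ev3 F n
  mul := mul3 n
  ev_mul := ev3_mul n
  one := one2 n
  ev_one := ev3_one n

/-- row `i` of a batch of 64 vectors -/
def row3 (n A i : ℕ) : ℕ :=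
  Nat.lor (brow n A i) (Nat.shiftLeft (brow n (Nat.shiftRight A (Nat.mul n 64)) i) n)

theorem testBit_row3_lo {n t : ℕ} (A i : ℕ) (ht : t < n) :
    (row3 n A i).testBit t = A.testBit (n * i + t) := by
  change (brow n A i ||| (brow n (A >>> (n * 64)) i <<< n)).testBit t = _
  have : ¬ (t ≥ n) := by omega
  simp [Nat.testBit_shiftLeft, testBit_brow, ht, this]

theorem testBit_row3_hi {n t : ℕ} (A i : ℕ) (ht : t < n) :
    (row3 n A i).testBit (n + t) = A.testBit (n * 64 + (n * i + t)) := by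
  change (brow n A i ||| (brow n (A >>> (n * 64)) i <<< n)).testBit _ = _
  simp [Nat.testBit_shiftLeft, testBit_brow, ht]

theorem row3_lt (n A i : ℕ) : row3 n A i < 2 ^ (n + n) := by
  refine Nat.or_lt_two_pow ((brow_lt _ _ _).trans_le (Nat.pow_le_pow_right two_pos (by omega))) ?_
  change _ <<< n < _
  rw [Nat.shiftLeft_eq, pow_add]
  exact Nat.mul_lt_mul_of_pos_right (brow_lt _ _ _) (Nat.two_pow_pos n)

theorem ent3_row3 {n t : ℕ} (A i : ℕ) (ht : t < n) :
    ent3 F n (row3 n A i) t = ent3 F (n * 64) A (n * i + t) := by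
  rw [ent3, ent3, testBit_row3_lo _ _ ht, testBit_row3_hi _ _ ht]

theorem vec3_row [CharP F 3] {n : ℕ} (A B : ℕ) {i : ℕ} (hi : i < 64) :
    vec3 F n (row3 n (bm3 n 64 A B) i) = (ev3 F n B).mulVec (vec3 F n (row3 n A i)) := by
  funext k
  simp only [vec3, ev3, Matrix.mulVec, dotProduct, ent3_row3 _ _ k.2, ent3_bm3 A B hi k.2]
  rw [← Fin.sum_univ_eq_sum_range
    (fun j => ent3 F (n * 64) A (n * i + j) * ent3 F (n * n) B (n * j + k))]
  exact sum_congr rfl fun j _ => by rw [ent3_row3 _ _ j.2, mul_comm]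

/-- zero iff the vector code is canonical -/
def cn3 (n x : ℕ) : ℕ := Nat.land x (Nat.shiftRight x n)

theorem d3_inj [CharP F 3] {a b c d : Bool} (h1 : (a && b) = false) (h2 : (c && d) = false)
    (h : d3 F a b = d3 F c d) : a = c ∧ b = d := by
  have h3 : (3 : F) = 0 := by exact_mod_cast CharP.cast_eq_zero F 3
  have := CharP.nontrivial_of_char_ne_one (R := F) (v := 3) (by norm_num)
  have h4 : (1 : F) ≠ -1 := fun h => one_ne_zero (α := F) (by linear_combination h3 - h)
  revert h1 h2 h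
  cases a <;> cases b <;> cases c <;> cases d <;> simp [d3, h4, h4.symm]

theorem vec3_inj [CharP F 3] {n x y : ℕ} (hx : x < 2 ^ (n + n)) (hy : y < 2 ^ (n + n))
    (cx : cn3 n x = 0) (cy : cn3 n y = 0) (h : vec3 F n x = vec3 F n y) : x = y := by
  have key : ∀ t < n, x.testBit t = y.testBit t ∧ x.testBit (n + t) = y.testBit (n + t) := by
    intro t ht
    have c1 := congrArg (Nat.testBit · t) (show x &&& (x >>> n) = 0 from cx)
    have c2 := congrArg (Nat.testBit · t) (show y &&& (y >>> n) = 0 from cy)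
    simp only [Nat.testBit_and, Nat.testBit_shiftRight, Nat.zero_testBit] at c1 c2
    exact d3_inj (F := F) c1 c2 (congrFun h ⟨t, ht⟩)
  refine eq_of_testBit_lt hx hy fun t ht => ?_
  by_cases h1 : t < n
  · exact (key t h1).1
  · have := (key (t - n) (by omega)).2
    rwa [show n + (t - n) = t by omega] at this

/-- the negative of a vector code -/
def neg3 (n x : ℕ) : ℕ := join n (Nat.shiftRight x n) (Nat.land x (msk n))

theorem testBit_neg3_lo {n t : ℕ} (x : ℕ) (ht : t < n) : (neg3 n x).testBit t = x.testBit (n + t) := by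
  rw [neg3, testBit_join_lo _ _ ht]; exact Nat.testBit_shiftRight _

theorem testBit_neg3_hi {n t : ℕ} (x : ℕ) (ht : t < n) : (neg3 n x).testBit (n + t) = x.testBit t := by
  rw [neg3, testBit_join_hi]
  change (x &&& msk n).testBit t = _
  simp [testBit_msk, ht]

theorem vec3_neg3 (n x : ℕ) : vec3 F n (neg3 n x) = -vec3 F n x := by
  funext t
  simp only [vec3, ent3, testBit_neg3_lo _ t.2, testBit_neg3_hi _ t.2, Pi.neg_apply, d3, neg_sub]

theorem neg3_lt (n x : ℕ) : neg3 n x < 2 ^ (n + n) := by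
  have h : ∀ y, y &&& msk n < 2 ^ n := fun y =>
    lt_of_le_of_lt Nat.and_le_right (Nat.sub_lt (Nat.two_pow_pos n) one_pos)
  refine Nat.or_lt_two_pow ((h _).trans_le (Nat.pow_le_pow_right two_pos (by omega))) ?_
  change _ <<< n < _
  rw [Nat.shiftLeft_eq, pow_add]
  exact Nat.mul_lt_mul_of_pos_right (h _) (Nat.two_pow_pos n)

theorem cn3_neg3 {n x : ℕ} (h : cn3 n x = 0) : cn3 n (neg3 n x) = 0 := by
  apply Nat.eq_of_testBit_eq
  intro t
  change (neg3 n x &&& (neg3 n x >>> n)).testBit t = _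
  rw [Nat.testBit_and, Nat.testBit_shiftRight, Nat.zero_testBit]
  by_cases ht : t < n
  · have c1 := congrArg (Nat.testBit · t) (show x &&& (x >>> n) = 0 from h)
    simp only [Nat.testBit_and, Nat.testBit_shiftRight, Nat.zero_testBit] at c1
    rw [testBit_neg3_lo _ ht, testBit_neg3_hi _ ht, Bool.and_comm, c1]
  · rw [Nat.testBit_lt_two_pow (i := n + t)
      ((neg3_lt n x).trans_le (Nat.pow_le_pow_right two_pos (by omega))), Bool.and_false]

noncomputable def img3 (n : ℕ) (gl : ℕ → ℕ) (A s _c i : ℕ) : ℕ := row3 n (bm3 n 64 A (gl s)) i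

def can3 (n A i : ℕ) : ℕ := cn3 n (row3 n A i)

noncomputable def img3L (n : ℕ) (gl : ℕ → ℕ) (A s c i : ℕ) : ℕ :=
  force (row3 n (bm3 n 64 A (gl s)) i) fun x => ifz c x (neg3 n x)

noncomputable def can3L (n A i : ℕ) : ℕ :=
  force (row3 n A i) fun x => Nat.add (cn3 n x) (Nat.sub x (neg3 n x))

variable {G : Type*} [Group G]

theorem img3_ok [CharP F 3] {n : ℕ} (φ : G →* Matrix (Fin n) (Fin n) F) {gl : ℕ → ℕ} {s : ℕ} {g : G}
    (e : φ g = ev3 F n (gl s)) :
    Img (fun x => (⟨vec3 F n x⟩ : Vc φ)) (img3 n gl) (row3 n) s g := fun A _ i hi => Vc.ext (by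
  rw [Vc.smul_v, e]; exact vec3_row A _ hi)

theorem canT3 [CharP F 3] {n : ℕ} (φ : G →* Matrix (Fin n) (Fin n) F) :
    CanT (fun x => (⟨vec3 F n x⟩ : Vc φ)) (can3 n) (row3 n) := fun _ _ _ _ _ _ c1 c2 e =>
  vec3_inj (row3_lt _ _ _) (row3_lt _ _ _) c1 c2 (congrArg Vc.v e)

theorem img3L_ok [CharP F 3] {n : ℕ} (φ : G →* Matrix (Fin n) (Fin n) F) {gl : ℕ → ℕ} {s : ℕ}
    {g : G} (e : φ g = ev3 F n (gl s)) :
    Img (fun x => ln φ (vec3 F n x)) (img3L n gl) (row3 n) s g := fun A c i hi => by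
  beta_reduce
  rw [smul_ln, e, ← vec3_row A _ hi, img3L, force_eq, ifz_eq]
  split_ifs
  · rfl
  · rw [vec3_neg3, ← ln_smul φ (-1)]; simp

theorem canT3L {n : ℕ} (φ : G →* Matrix (Fin n) (Fin n) (ZMod 3)) :
    CanT (fun x => ln φ (vec3 (ZMod 3) n x)) (can3L n) (row3 n) := fun A i _ B j _ c1 c2 e => by
  obtain ⟨a1, a2⟩ := add_eq_zero' c1
  obtain ⟨b1, b2⟩ := add_eq_zero' c2
  obtain ⟨c, hc⟩ := exists_of_ln_eq e
  have hc' : c = 1 ∨ c = -1 := (by decide : ∀ c : (ZMod 3)ˣ, c = 1 ∨ c = -1) c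
  rcases hc' with rfl | rfl
  · exact vec3_inj (row3_lt _ _ _) (row3_lt _ _ _) a1 b1 (by simpa using hc)
  · have e1 : neg3 n (row3 n A i) = row3 n B j :=
      vec3_inj (F := ZMod 3) (neg3_lt _ _) (row3_lt _ _ _) (cn3_neg3 a1) b1
        (by rw [vec3_neg3]; simpa using hc)
    have e2 : neg3 n (row3 n B j) = row3 n A i :=
      vec3_inj (F := ZMod 3) (neg3_lt _ _) (row3_lt _ _ _) (cn3_neg3 b1) a1
        (by rw [vec3_neg3, ← hc]; simp)
    have a3 : row3 n A i - neg3 n (row3 n A i) = 0 := a2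
    have b3 : row3 n B j - neg3 n (row3 n B j) = 0 := b2
    omega

end three

attribute [irreducible] bm2 bm3 mul2 mul3 one2 brow row3

end Cfsg.Agent.H4
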