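/-
Gaschütz's splitting theorem for an elementary abelian normal 2-subgroup, and the order bound for
groups satisfying power-conjugate relations.
-/
import Cfsg.Agent.H4.SS

set_option autoImplicit false

namespace Cfsg.Agent.H4

/-- Gaschütz's theorem for a normal subgroup of exponent two. -/
theorem gaschutz {E : Type*} [Group E] [Finite E] (N : Subgroup E) [hN : N.Normal]
    (h2 : ∀ n ∈ N, n * n = 1) (H : Subgroup E) (hH : H ⊓ N = ⊥) (hodd : Odd (H ⊔ N).index) :
    ∃ K : Subgroup E, K ⊓ N = ⊥ ∧ K ⊔ N = ⊤ := by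
  classical
  have hinv : ∀ n ∈ N, n⁻¹ = n := fun n hn => inv_eq_of_mul_eq_one_right (h2 n hn)
  let _ : CommGroup N := { (inferInstance : Group N) with
    mul_comm := fun a b => Subtype.ext (by
      have := hinv _ (N.mul_mem a.2 b.2)
      rw [mul_inv_rev, hinv _ a.2, hinv _ b.2] at this
      exact this.symm) }
  set U := H ⊔ N with hU
  have := Fintype.ofFinite (E ⧸ U)
  have hex : ∀ u : E, ∃ n : N, u ∈ U → (n : E)⁻¹ * u ∈ H := fun u => by
    by_cases hu : u ∈ U
    · rw [hU, sup_comm, ← SetLike.mem_coe, Subgroup.normal_mul] at hu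
      obtain ⟨n, hn, h, hh, rfl⟩ := hu
      exact ⟨⟨n, hn⟩, fun _ => by simpa using hh⟩
    · exact ⟨1, fun h => absurd h hu⟩
  choose d hd using hex
  have huniq : ∀ u ∈ U, ∀ n : N, (n : E)⁻¹ * u ∈ H → d u = n := fun u hu n hn => by
    have h1 : ((n : E)⁻¹ * u) * ((d u : E)⁻¹ * u)⁻¹ ∈ H ⊓ N :=
      ⟨H.mul_mem hn (H.inv_mem (hd u hu)), by
        simpa [mul_assoc] using N.mul_mem (N.inv_mem n.2) (d u).2⟩
    rw [hH, Subgroup.mem_bot] at h1
    apply Subtype.ext
    simpa [mul_assoc, inv_mul_eq_one, eq_comm] using h1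
  have hmul : ∀ u ∈ U, ∀ v ∈ U, d (u * v) = d u * MulAut.conjNormal u (d v) := fun u hu v hv => by
    refine huniq _ (U.mul_mem hu hv) _ ?_
    have h1 := H.mul_mem (hd u hu) (hd v hv)
    rw [mul_comm (d u)]
    convert h1 using 1
    simp only [Subgroup.coe_mul, MulAut.conjNormal_apply]
    group
  have hmem : ∀ (g : E) (q : E ⧸ U), (g • q).out⁻¹ * g * q.out ∈ U := fun g q => by
    rw [mul_assoc, ← QuotientGroup.eq, QuotientGroup.out_eq']
    conv_lhs => rw [← q.out_eq']
    rfl
  let D : E → N := fun g => ∏ q : E ⧸ U, MulAut.conjNormal (g • q).out (d ((g • q).out⁻¹ * g * q.out))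
  have hD : ∀ g h, D (g * h) = D g * MulAut.conjNormal g (D h) := fun g h => by
    simp only [D, map_prod]
    rw [← Equiv.prod_comp (MulAction.toPerm h) (fun q : E ⧸ U =>
      MulAut.conjNormal (g • q).out (d ((g • q).out⁻¹ * g * q.out))), ← Finset.prod_mul_distrib]
    refine Finset.prod_congr rfl fun q _ => ?_
    have h1 : ((g * h) • q).out⁻¹ * (g * h) * q.out =
        ((g • h • q).out⁻¹ * g * (h • q).out) * ((h • q).out⁻¹ * h * q.out) := by
      rw [mul_smul]; group
    rw [h1, hmul _ (hmem _ _) _ (hmem _ _), map_mul, mul_smul, MulAction.toPerm_apply]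
    congr 1
    apply Subtype.ext
    simp only [MulAut.conjNormal_apply]
    group
  have hDN : ∀ n : N, D n = n := fun n => by
    have h1 : ∀ q : E ⧸ U, (n : E) • q = q := fun q => by
      conv_rhs => rw [← q.out_eq']
      conv_lhs => rw [← q.out_eq']
      show ((((n : E) * q.out : E)) : E ⧸ U) = _
      rw [QuotientGroup.eq]
      refine (le_sup_right : N ≤ U) ?_
      simpa [mul_assoc] using hN.conj_mem _ (N.inv_mem n.2) q.out⁻¹
    have h3 : ∀ q : E ⧸ U,
        MulAut.conjNormal ((n : E) • q).out (d (((n : E) • q).out⁻¹ * n * q.out)) = n := fun q => by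
      have h4 : q.out⁻¹ * n * q.out ∈ N := by simpa using hN.conj_mem _ n.2 q.out⁻¹
      rw [h1, huniq _ ((le_sup_right : N ≤ U) h4) ⟨_, h4⟩ (by rw [inv_mul_cancel]; exact H.one_mem)]
      apply Subtype.ext
      simp [mul_assoc]
    simp only [D, h3, Finset.prod_const, Finset.card_univ]
    obtain ⟨k, hk⟩ := hodd
    rw [← Nat.card_eq_fintype_card, show Nat.card (E ⧸ U) = 2 * k + 1 from hk, pow_succ, pow_mul,
      show n ^ 2 = 1 from Subtype.ext (by rw [pow_two]; exact h2 n n.2), one_pow, one_mul]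
  have hD1 : D 1 = 1 := hDN 1
  let K : Subgroup E :=
    { carrier := {g | D g = 1}
      one_mem' := hD1
      mul_mem' := fun {a b} ha hb => by
        show D (a * b) = 1
        rw [hD, show D a = 1 from ha, show D b = 1 from hb, map_one, one_mul]
      inv_mem' := fun {a} ha => by
        have := hD a⁻¹ a
        rw [inv_mul_cancel, hD1, show D a = 1 from ha, map_one, mul_one] at this
        exact this.symm }
  refine ⟨K, eq_bot_iff.mpr fun g hg => ?_, eq_top_iff.mpr fun g _ => ?_⟩
  · have := hDN ⟨g, hg.2⟩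
    rw [show D g = 1 from hg.1] at this
    exact (congrArg Subtype.val this).symm
  · have h1 : ((D g : E))⁻¹ * g ∈ K := by
      show D _ = 1
      rw [← Subgroup.coe_inv, hD, hDN]
      apply Subtype.ext
      simp
    have := Subgroup.mul_mem _ ((le_sup_right : N ≤ K ⊔ N) (D g).2) ((le_sup_left : K ≤ K ⊔ N) h1)
    simpa using this

/-- The order bound from power-conjugate relations. -/
theorem card_le_of_pc {E : Type*} [Group E] [Finite E] (x : ℕ → E) (r : ℕ)
    (h1 : ∀ i, i < r → x i * x i ∈ Subgroup.closure {g | ∃ k, i < k ∧ k < r ∧ g = x k})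
    (h2 : ∀ i j, i < j → j < r →
      (x i)⁻¹ * (x j * x i) ∈ Subgroup.closure {g | ∃ k, i < k ∧ k < r ∧ g = x k}) :
    Nat.card (Subgroup.closure {g | ∃ k, k < r ∧ g = x k}) ≤ 2 ^ r := by
  classical
  have key : ∀ m, m ≤ r →
      Nat.card (Subgroup.closure {g | ∃ k, r - m ≤ k ∧ k < r ∧ g = x k}) ≤ 2 ^ m := by
    intro m
    induction m with
    | zero =>
      intro _
      have : {g | ∃ k, r - 0 ≤ k ∧ k < r ∧ g = x k} = ∅ := by
        ext g; simp only [Set.mem_ofPred_eq, Set.mem_empty_iff_false, iff_false]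
        rintro ⟨k, h3, h4, -⟩; omega
      rw [this, Subgroup.closure_empty]; simp
    | succ m ih =>
      intro hm
      have h3 : {g | ∃ k, r - m ≤ k ∧ k < r ∧ g = x k} =
          {g | ∃ k, r - (m + 1) < k ∧ k < r ∧ g = x k} := by
        ext g; exact exists_congr fun k => and_congr_left fun _ => by omega
      have h4 := ih (by omega)
      rw [h3] at h4
      set i := r - (m + 1)
      have h5 := cover_closure {g | ∃ k, i ≤ k ∧ k < r ∧ g = x k}
        (Subgroup.closure {g | ∃ k, i < k ∧ k < r ∧ g = x k}) (({1, x i} : Finset E) : Set E)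
        (fun s _ => isOfFinOrder_of_finite s) (by simp) (by
          rintro u hu _ ⟨k, hk, hk', rfl⟩
          simp only [Finset.coe_insert, Finset.coe_singleton, Set.mem_insert_iff,
            Set.mem_singleton_iff] at hu
          rcases hk.eq_or_lt with rfl | hk <;> rcases hu with rfl | rfl
          · exact ⟨x i, by simp, by simp⟩
          · exact ⟨1, by simp, by simpa using h1 i hk'⟩
          · exact ⟨1, by simp, by
              rw [inv_one, one_mul, mul_one]; exact Subgroup.subset_closure ⟨k, hk, hk', rfl⟩⟩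
          · exact ⟨x i, by simp, h2 i k hk hk'⟩)
      refine (card_le_of_cover _ _ {1, x i} h5).2.trans ?_
      rw [pow_succ']
      exact Nat.mul_le_mul Finset.card_le_two h4
  simpa using key r le_rfl

/-- A complement from a subgroup mapping isomorphically onto a subgroup of odd index. -/
theorem exists_compl_of_card {E G : Type*} [Group E] [Finite E] [Group G] (π : E →* G)
    (h2 : ∀ n ∈ π.ker, n * n = 1) (H : Subgroup E) {a m : ℕ} (hH : Nat.card H ≤ a)
    (hH' : a ≤ Nat.card (H.map π)) (hm : Nat.card π.range = a * m) (hodd : Odd m) :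
    ∃ K : Subgroup E, K ⊓ π.ker = ⊥ ∧ K ⊔ π.ker = ⊤ := by
  have h1 := (π.subgroupMap_surjective H).bijective_of_nat_card_le (hH.trans hH')
  have h3 : Nat.card (H.map π) = a :=
    le_antisymm ((Nat.card_le_card_of_surjective _ h1.2).trans hH) hH'
  refine gaschutz π.ker h2 H (eq_bot_iff.mpr fun g hg => ?_) ?_
  · have : (⟨g, hg.1⟩ : H) = 1 := h1.1 (Subtype.ext (by simpa using hg.2))
    exact congrArg Subtype.val this
  · rw [← Subgroup.comap_map_eq, Subgroup.index_comap]
    have h4 := ((H.map π).subgroupOf π.range).card_mul_index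
    rw [Nat.card_congr (Subgroup.subgroupOfEquivOfLe (Subgroup.map_le_range π H)).toEquiv, h3, hm]
      at h4
    have h5 : 0 < a := h3 ▸ (by
      have := Finite.of_surjective _ h1.2
      exact Nat.card_pos)
    rwa [Subgroup.relIndex, Nat.eq_of_mul_eq_mul_left h5 h4]

end Cfsg.Agent.H4
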