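/-
Codes of vectors.
-/
import Cfsg.Agent.H4.A8

set_option autoImplicit false

namespace Cfsg.Agent.H4

theorem pack_lt (w n : ℕ) (f : ℕ → ℕ) (hf : ∀ i, i < n → f i < 2 ^ w) : pack w n f < 2 ^ (w * n) := by
  refine Nat.lt_pow_two_of_testBit _ fun k hk => ?_
  rw [pack_eq, Bool.eq_false_iff, Ne, testBit_orLt]
  rintro ⟨i, hi, h⟩
  rw [Nat.testBit_shiftLeft, Bool.and_eq_true, decide_eq_true_eq] at h
  have h1 : w * (i + 1) ≤ w * n := Nat.mul_le_mul_left _ hi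
  rw [Nat.testBit_lt_two_pow (lt_of_lt_of_le (hf i hi)
    (Nat.pow_le_pow_right two_pos (by rw [Nat.mul_succ] at h1; omega)))] at h
  exact Bool.false_ne_true h.2

theorem exists_repV {F : Type*} [CommRing F] [Fintype F] {q w : ℕ} {O : Ops} (K : FC F q w O)
    (h : Fintype.card F = q) {n : ℕ} (v : Fin n → F) : ∃ c, c < 2 ^ (w * n) ∧ K.RepV v c := by
  choose a ha1 ha2 using K.surj h
  have h1 : ∀ i, i < n → (if h : i < n then a (v ⟨i, h⟩) else 0) < 2 ^ w := fun i hi => by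
    rw [dif_pos hi]; exact lt_of_lt_of_le (ha1 _) K.le_pow
  refine ⟨_, pack_lt w n _ h1, fun i => ?_⟩
  rw [img_pack w n _ h1 i i.2, dif_pos i.2]
  exact ⟨ha1 _, (ha2 _).symm⟩

end Cfsg.Agent.H4
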