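/-
Symbolic computation in extensions of a permutation group by a binary module: tails of rewriting
rules as unknowns, identities among the rules as linear equations, splitting criteria.
-/
import Cfsg.Agent.H4.Gasch
import Cfsg.Agent.H4.Vec

set_option autoImplicit false
set_option maxRecDepth 100000

namespace Cfsg.Agent.H4

namespace Coh

/-- The value of the linear form with mask `m` at the assignment `τ`. -/
def dot (M m : ℕ) (τ : ℕ → ZMod 2) : ZMod 2 :=
  ∑ t ∈ Finset.range M, if m.testBit t then τ t else 0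

theorem add_self2 (a : ZMod 2) : a + a = 0 := by revert a; decide

theorem add_self_fun {α : Type*} (u : α → ZMod 2) : u + u = 0 := funext fun a => add_self2 (u a)

theorem dot_xor (M a b : ℕ) (τ : ℕ → ZMod 2) : dot M (a ^^^ b) τ = dot M a τ + dot M b τ := by
  rw [dot, dot, dot, ← Finset.sum_add_distrib]
  refine Finset.sum_congr rfl fun t _ => ?_
  rw [Nat.testBit_xor]
  cases a.testBit t <;> cases b.testBit t <;> simp [add_self2]

theorem dot_zero (M : ℕ) (τ : ℕ → ZMod 2) : dot M 0 τ = 0 := by simp [dot]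

theorem dot_zero' (M m : ℕ) : dot M m (fun _ => 0) = 0 := by simp [dot]

theorem dot_add (M m : ℕ) (τ τ' : ℕ → ZMod 2) :
    dot M m (fun t => τ t + τ' t) = dot M m τ + dot M m τ' := by
  rw [dot, dot, dot, ← Finset.sum_add_distrib]
  refine Finset.sum_congr rfl fun t _ => ?_
  split_ifs <;> simp

theorem dot_congr {M m : ℕ} {τ τ' : ℕ → ZMod 2}
    (h : ∀ t, t < M → m.testBit t = true → τ t = τ' t) : dot M m τ = dot M m τ' :=
  Finset.sum_congr rfl fun t ht => by
    split_ifs with h1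
    · exact h t (Finset.mem_range.mp ht) h1
    · rfl

theorem dot_succ (M m : ℕ) (τ : ℕ → ZMod 2) :
    dot (M + 1) m τ = dot M m τ + if m.testBit M then τ M else 0 := Finset.sum_range_succ _ _

theorem dot_shift {d b s M : ℕ} (hb : b < 2 ^ d) (h : s + d ≤ M) (τ : ℕ → ZMod 2) :
    dot M (b <<< s) τ = dot d b fun k => τ (s + k) := by
  obtain ⟨e, rfl⟩ := Nat.exists_eq_add_of_le h
  rw [dot, Finset.sum_range_add, Finset.sum_range_add, Finset.sum_eq_zero, zero_add,
    Finset.sum_eq_zero (s := Finset.range e), add_zero]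
  · exact Finset.sum_congr rfl fun t _ => by simp [Nat.testBit_shiftLeft]
  · intro t _
    rw [Nat.testBit_shiftLeft, Nat.testBit_lt_two_pow (lt_of_lt_of_le hb
      (Nat.pow_le_pow_right two_pos (by omega)))]
    simp
  · intro t ht
    have := Finset.mem_range.mp ht
    simp [Nat.testBit_shiftLeft, not_le.mpr this]

theorem dot_two_pow {s M : ℕ} (h : s < M) (τ : ℕ → ZMod 2) : dot M (2 ^ s) τ = τ s := by
  rw [← Nat.one_shiftLeft, dot_shift (d := 1) (by norm_num) h]
  simp [dot]

theorem dot_eq_cast (M m : ℕ) (f : ℕ → ℕ) :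
    dot M m (fun t => (f t : ZMod 2)) = (sumLt M fun t => ite' (tb m t) (f t) 0 : ℕ) := by
  rw [dot, sumLt_eq, Nat.cast_sum]
  refine Finset.sum_congr rfl fun t _ => ?_
  rw [ite'_eq, tb_eq]
  split_ifs <;> simp

/-- A linear combination of the rows of a table. -/
def lcomb (M m c T : ℕ) : ℕ := xorLt m fun k => Nat.mul (bit c k) (img M T k)

theorem dot_lcomb (M' M m c T : ℕ) (τ : ℕ → ZMod 2) :
    dot M' (lcomb M m c T) τ = dot m c fun k => dot M' (img M T k) τ := by
  induction m with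
  | zero => exact (dot_zero _ _).trans (by simp [dot])
  | succ m ih =>
    have : lcomb M (m + 1) c T = lcomb M m c T ^^^ (bit c m * img M T m) := rfl
    rw [this, dot_xor, ih, dot_succ, bit_eq]
    split_ifs <;> simp [dot_zero]

theorem lcomb_lt (M m c T : ℕ) : lcomb M m c T < 2 ^ M := by
  induction m with
  | zero => exact Nat.two_pow_pos M
  | succ m ih =>
    have : lcomb M (m + 1) c T = lcomb M m c T ^^^ (bit c m * img M T m) := rfl
    rw [this]
    refine Nat.xor_lt_two_pow ih ?_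
    rw [bit_eq]
    split_ifs
    · rw [one_mul]; exact img_lt _ _ _
    · rw [zero_mul]; exact Nat.two_pow_pos M

theorem img_xor (w a b i : ℕ) : img w (a ^^^ b) i = img w a i ^^^ img w b i := by
  apply Nat.eq_of_testBit_eq
  intro k
  simp only [testBit_img, Nat.testBit_xor]
  cases decide (k < w) <;> simp

theorem img_zero (w i : ℕ) : img w 0 i = 0 := by
  show (0 >>> (w * i)) % 2 ^ w = 0
  simp

/-! ### Gaussian elimination -/

/-- Reduction of a row by a list of pivot rows. -/
def red (piv : List (ℕ × ℕ)) (x : ℕ) : ℕ :=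
  List.rec x (fun e _ ih => ite' (tb ih e.1) (Nat.xor ih e.2) ih) piv

/-- Insert rows into a list of pivot rows. -/
def elim (rows : List ℕ) : List (ℕ × ℕ) → List (ℕ × ℕ) :=
  List.rec (fun piv => piv) (fun x _ ih piv =>
    ite' (Nat.beq (red piv x) 0) (ih piv) (ih ((Nat.log2 (red piv x), red piv x) :: piv))) rows

theorem dot_red {M : ℕ} {τ : ℕ → ZMod 2} {piv : List (ℕ × ℕ)} (h : ∀ e ∈ piv, dot M e.2 τ = 0)
    (x : ℕ) : dot M (red piv x) τ = dot M x τ := by
  induction piv with
  | nil => rfl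
  | cons e piv ih =>
    have h1 : red (e :: piv) x = ite' (tb (red piv x) e.1) (red piv x ^^^ e.2) (red piv x) := rfl
    have h2 := ih fun e he => h e (List.mem_cons_of_mem _ he)
    rw [h1, ite'_eq]
    split_ifs
    · rw [dot_xor, h2, h e List.mem_cons_self, add_zero]
    · exact h2

theorem dot_elim {M : ℕ} {τ : ℕ → ZMod 2} {rows : List ℕ} (hr : ∀ x ∈ rows, dot M x τ = 0)
    {piv : List (ℕ × ℕ)} (h : ∀ e ∈ piv, dot M e.2 τ = 0) :
    ∀ e ∈ elim rows piv, dot M e.2 τ = 0 := by
  induction rows generalizing piv with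
  | nil => exact h
  | cons x rows ih =>
    have h1 : elim (x :: rows) piv = ite' (Nat.beq (red piv x) 0) (elim rows piv)
      (elim rows ((Nat.log2 (red piv x), red piv x) :: piv)) := rfl
    have h2 := fun y hy => hr y (List.mem_cons_of_mem _ hy)
    rw [h1, ite'_eq]
    split_ifs
    · exact ih h2 h
    · exact ih h2 (List.forall_mem_cons.mpr ⟨(dot_red h x).trans (hr x List.mem_cons_self), h⟩)

theorem dot_eq_zero_of_red {M : ℕ} {τ : ℕ → ZMod 2} {rows : List ℕ}
    (hr : ∀ x ∈ rows, dot M x τ = 0) {x : ℕ} (h : Nat.beq (red (elim rows []) x) 0 = true) :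
    dot M x τ = 0 := by
  rw [← dot_red (dot_elim hr (piv := []) (by simp)) x, Nat.eq_of_beq_eq_true h, dot_zero]

/-! ### Words and forms -/

/-- Rows scattered along a permutation. -/
def scat (M n w σ : ℕ) (f : ℕ → ℕ) : ℕ :=
  orLt n fun i => Nat.shiftLeft (f i) (Nat.mul M (img w σ i))

/-- Equality of words. -/
def eqL (a : List ℕ) : List ℕ → Bool :=
  List.rec (fun b => List.rec true (fun _ _ _ => false) b)
    (fun x _ ih b => List.rec false (fun y t _ => band (Nat.beq x y) (ih t)) b) a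

theorem eq_of_eqL {a b : List ℕ} (h : eqL a b = true) : a = b := by
  induction a generalizing b with
  | nil => cases b with
    | nil => rfl
    | cons y t => exact absurd h Bool.false_ne_true
  | cons x a ih => cases b with
    | nil => exact absurd h Bool.false_ne_true
    | cons y t =>
      have h1 : band (Nat.beq x y) (eqL a t) = true := h
      rw [band_eq, Bool.and_eq_true] at h1
      rw [Nat.eq_of_beq_eq_true h1.1, ih h1.2]

/-- The numerical data of a computation. -/
structure Par where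
  /-- number of unknowns -/
  M : ℕ
  /-- number of points -/
  n : ℕ
  /-- bits per point -/
  w : ℕ
  /-- dimension of the module -/
  d : ℕ
  /-- the spanning words, by columns -/
  Bt : ℕ
  /-- the coordinate functions -/
  Cm : List ℕ
  /-- codes of the letters -/
  S : List ℕ
  /-- rewriting rules -/
  R : List (List ℕ × List ℕ)

namespace Par

variable (P : Par)

/-- The code of a letter. -/
def lc (a : ℕ) : ℕ := getL (idc P.n P.w) P.S a

/-- The code of the permutation given by a word. -/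
def pcode (u : List ℕ) : ℕ := List.rec (idc P.n P.w) (fun a _ ih => comp P.n P.w (P.lc a) ih) u

/-- Rule number `j`. -/
def rule (j : ℕ) : List ℕ × List ℕ := getL ([], []) P.R j

/-- The form of the tail of rule `j`, moved by the permutation with code `σ`. -/
def tailF (σ j : ℕ) : ℕ :=
  scat P.M P.n P.w σ fun i => Nat.shiftLeft (img P.d P.Bt i) (Nat.mul P.d j)

/-- The side of a rule that is replaced. -/
def sideA (st : ℕ × ℕ × ℕ) : List ℕ := ite' (Nat.beq st.1 0) (P.rule st.2.2).1 (P.rule st.2.2).2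

/-- The side of a rule that is inserted. -/
def sideB (st : ℕ × ℕ × ℕ) : List ℕ := ite' (Nat.beq st.1 0) (P.rule st.2.2).2 (P.rule st.2.2).1

/-- Run a closed chain of rewriting steps `(direction, position, rule)` and add up the tails. -/
def run (u0 : List ℕ) (steps : List (ℕ × ℕ × ℕ)) : List ℕ → ℕ → ℕ :=
  List.rec (fun u acc => ite' (eqL u u0) acc 0) (fun st _ ih u acc =>
    ite' (band (Nat.blt st.2.2 P.R.length)
        (eqL ((u.drop st.2.1).take (P.sideA st).length) (P.sideA st)))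
      (ih (u.take st.2.1 ++ (P.sideB st ++ (u.drop st.2.1).drop (P.sideA st).length))
        (Nat.xor acc (P.tailF (P.pcode (u.take st.2.1)) st.2.2))) 0) steps

/-- The coordinate rows of a form. -/
def rowsOf (acc : ℕ) : List ℕ := P.Cm.map fun c => lcomb P.M P.n c acc

/-- The equations given by a list of closed chains. -/
def eqs (loops : List (List ℕ × List (ℕ × ℕ × ℕ))) : List ℕ :=
  List.rec [] (fun lp _ ih => P.rowsOf (P.run lp.1 lp.2 lp.1 0) ++ ih) loops

/-- The forms of the corrections of the letters. -/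
def ys (K : List ℕ) : List ℕ :=
  K.map fun Ki => pack P.M P.n fun p => lcomb P.M P.d (img P.d P.Bt p) Ki

/-- The form of the correction of a word. -/
def dW (Y : List ℕ) (u : List ℕ) : ℕ :=
  List.rec 0 (fun a _ ih => Nat.xor (getL 0 Y a) (scat P.M P.n P.w (P.lc a) (img P.M ih))) u

/-- The form of the corrected tail of rule `j`. -/
def newT (Y : List ℕ) (j : ℕ) : ℕ :=
  Nat.xor (Nat.xor (P.dW Y (P.rule j).1) (P.tailF (idc P.n P.w) j)) (P.dW Y (P.rule j).2)

/-- All letters of the word lie strictly between `i` and `r`. -/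
def between (i r : ℕ) (u : List ℕ) : Bool := allL u fun k => band (Nat.blt i k) (Nat.blt k r)

/-- The first `r0` rules contain a power-conjugate presentation on the first `r` letters. -/
def pcOK (r r0 : ℕ) : Bool :=
  allLt r fun i => band
    (anyLt r0 fun t => band (eqL (P.rule t).1 [i, i]) (between i r (P.rule t).2))
    (allLt r fun j => bimp (Nat.blt i j) (anyLt r0 fun t => band (eqL (P.rule t).1 [j, i])
      (band (eqL ((P.rule t).2.take 1) [i]) (between i r ((P.rule t).2.drop 1)))))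

/-- The check for the splitting theorem. -/
def splitOK (loops : List (List ℕ × List (ℕ × ℕ × ℕ))) (Hs K : List ℕ) (r r0 : ℕ) : Bool :=
  band (Nat.ble (Nat.mul P.d P.R.length) P.M) (band (Nat.ble r0 P.R.length) (band (P.pcOK r r0)
    (allLt r0 fun j => allL (P.rowsOf (P.newT (P.ys K) j)) fun x =>
      Nat.beq (red (elim (Hs ++ P.eqs loops) []) x) 0)))

/-- The corrections as new unknowns. -/
def unitK (off r : ℕ) : List ℕ :=
  (List.range r).map fun i => pack P.M P.d fun k => Nat.pow 2 (Nat.add (Nat.add off (Nat.mul P.d i)) k)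

/-- The check for the obstruction theorem. -/
def obsOK (μ : ℕ) : Bool :=
  band (Nat.ble (Nat.add (Nat.mul P.d P.R.length) (Nat.mul P.d P.S.length)) P.M)
    (band (Nat.blt μ (Nat.pow 2 (Nat.mul P.d P.R.length)))
      (Nat.beq (red (elim ((List.range P.R.length).flatMap fun j =>
        P.rowsOf (P.newT (P.ys (P.unitK (Nat.mul P.d P.R.length) P.S.length)) j)) []) μ) 0))

/-- Both sides of every rule give the same permutation. -/
def rulesOK : Bool := allL P.R fun r => Nat.beq (P.pcode r.1) (P.pcode r.2)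

end Par

variable {α : Type*} {P : Par} (E0 : Enc α P.n P.w)

/-- The word described by a form. -/
def evF (acc : ℕ) (τ : ℕ → ZMod 2) : α → ZMod 2 := fun a => dot P.M (img P.M acc (E0.ix a)) τ

/-- The combination of the spanning words with coefficients `τ`. -/
def bas (τ : ℕ → ZMod 2) : α → ZMod 2 := fun a => dot P.d (img P.d P.Bt (E0.ix a)) τ

/-- A coordinate function. -/
def co (c : ℕ) (u : α → ZMod 2) : ZMod 2 := dot P.n c fun i => u (E0.pt i)

theorem evF_xor (a b : ℕ) (τ : ℕ → ZMod 2) : evF E0 (a ^^^ b) τ = evF E0 a τ + evF E0 b τ :=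
  funext fun x => by simp only [evF, img_xor, dot_xor, Pi.add_apply]

theorem evF_zero (τ : ℕ → ZMod 2) : evF E0 0 τ = 0 :=
  funext fun x => by simp only [evF, img_zero, dot_zero, Pi.zero_apply]

theorem bas_add (τ τ' : ℕ → ZMod 2) : bas E0 (fun t => τ t + τ' t) = bas E0 τ + bas E0 τ' :=
  funext fun _ => dot_add _ _ _ _

theorem co_evF (c acc : ℕ) (τ : ℕ → ZMod 2) :
    co E0 c (evF E0 acc τ) = dot P.M (lcomb P.M P.n c acc) τ := by
  rw [dot_lcomb]
  exact dot_congr fun t ht _ => by rw [evF, E0.ix_pt t ht]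

variable {E0}

theorem evF_scat {g : Equiv.Perm α} {σ : ℕ} (hg : E0.Rep g σ) {f : ℕ → ℕ}
    (hf : ∀ i, i < P.n → f i < 2 ^ P.M) (τ : ℕ → ZMod 2) :
    evF E0 (scat P.M P.n P.w σ f) τ = (fun a => dot P.M (f (E0.ix a)) τ) ∘ ⇑g⁻¹ := by
  funext a
  obtain ⟨b, rfl⟩ := g.surjective a
  have := img_orLt_scatter P.M P.n f (img P.w σ) hf (fun i hi j hj h => by
    rw [hg.img_eq hi, hg.img_eq hj] at h
    exact E0.pt_inj hi hj (g.injective (E0.ix_inj h))) _ (E0.ix_lt b)
  rw [evF, hg b]
  simp only [Function.comp, Equiv.Perm.coe_inv, Equiv.symm_apply_apply]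
  exact congrArg (dot P.M · τ) this

theorem evF_tailF {g : Equiv.Perm α} {σ : ℕ} (hg : E0.Rep g σ) {j : ℕ}
    (hj : j < P.R.length) (hM : P.d * P.R.length ≤ P.M) (τ : ℕ → ZMod 2) :
    evF E0 (P.tailF σ j) τ = (bas E0 fun k => τ (P.d * j + k)) ∘ ⇑g⁻¹ := by
  have h1 : P.d * j + P.d ≤ P.M := le_trans (Nat.mul_le_mul_left P.d hj) hM
  rw [Par.tailF, evF_scat hg fun i _ => ?_]
  · exact congrArg (· ∘ ⇑g⁻¹) (funext fun a => dot_shift (img_lt _ _ _) h1 τ)
  · show img P.d P.Bt i <<< (P.d * j) < _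
    rw [Nat.shiftLeft_eq]
    calc _ < 2 ^ P.d * 2 ^ (P.d * j) := Nat.mul_lt_mul_of_pos_right (img_lt _ _ _) (by positivity)
      _ ≤ _ := by rw [← pow_add]; exact Nat.pow_le_pow_right two_pos (by omega)

variable (E0)

/-- An extension of a permutation group by a section of the permutation module. -/
structure Data (E : Type*) [Group E] where
  /-- the projection -/
  π : E →* Equiv.Perm α
  /-- the submodule -/
  U : AddSubgroup (α → ZMod 2)
  /-- the parametrisation of the kernel -/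
  ι : (α → ZMod 2) → E
  ι_add : ∀ u ∈ U, ∀ v ∈ U, ι (u + v) = ι u * ι v
  act_mem : ∀ g : E, ∀ u ∈ U, u ∘ ⇑(π g)⁻¹ ∈ U
  ι_act : ∀ g : E, ∀ u ∈ U, ι (u ∘ ⇑(π g)⁻¹) = g * ι u * g⁻¹
  bas_mem : ∀ τ, bas E0 τ ∈ U
  surj : ∀ e, π e = 1 → ∃ τ, ι (bas E0 τ) = e
  π_ι : ∀ u ∈ U, π (ι u) = 1
  coord : ∀ u ∈ U, ι u = 1 ↔ ∀ c ∈ P.Cm, co E0 c u = 0

/-- The value of a word. -/
def ev {E : Type*} [Group E] (x : ℕ → E) (u : List ℕ) : E := (u.map x).prod

theorem ev_cons {E : Type*} [Group E] (x : ℕ → E) (a : ℕ) (u : List ℕ) :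
    ev x (a :: u) = x a * ev x u := by simp [ev]

theorem ev_append {E : Type*} [Group E] (x : ℕ → E) (u v : List ℕ) :
    ev x (u ++ v) = ev x u * ev x v := by simp [ev]

theorem ev_mem {E : Type*} [Group E] {x : ℕ → E} {K : Subgroup E} {u : List ℕ}
    (h : ∀ a ∈ u, x a ∈ K) : ev x u ∈ K :=
  K.list_prod_mem fun _ hg => by
    obtain ⟨a, ha, rfl⟩ := List.mem_map.mp hg
    exact h a ha

theorem map_ev {E E' : Type*} [Group E] [Group E'] (f : E →* E') (x : ℕ → E) (u : List ℕ) :
    f (ev x u) = ev (fun i => f (x i)) u := by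
  simp [ev, map_list_prod, Function.comp_def]

theorem getL_map {C D : Type} (c : C) (f : C → D) (l : List C) (i : ℕ) :
    getL (f c) (l.map f) i = f (getL c l i) := by
  induction l generalizing i with
  | nil => rfl
  | cons a l ih => cases i with
    | zero => rfl
    | succ j => exact ih j

theorem getL_of_lt {C : Type} (c : C) (l : List C) {i : ℕ} (h : i < l.length) :
    getL c l i = l[i] := by
  induction l generalizing i with
  | nil => simp at h
  | cons a l ih => cases i with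
    | zero => rfl
    | succ j => exact ih (by simpa using h)

theorem getL_of_le {C : Type} (c : C) (l : List C) {i : ℕ} (h : l.length ≤ i) :
    getL c l i = c := by
  induction l generalizing i with
  | nil => rfl
  | cons a l ih => cases i with
    | zero => simp at h
    | succ j => exact ih (by simpa using h)

namespace Data

variable {E0} {E : Type*} [Group E] (X : Data E0 E)

theorem ι_zero : X.ι 0 = 1 := by
  have := X.ι_add 0 X.U.zero_mem 0 X.U.zero_mem
  rw [add_zero] at this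
  exact mul_eq_left.mp this.symm

theorem ι_mul_self {u : α → ZMod 2} (hu : u ∈ X.U) : X.ι u * X.ι u = 1 := by
  rw [← X.ι_add u hu u hu, add_self_fun, X.ι_zero]

theorem ker_mul_self (n : E) (hn : n ∈ X.π.ker) : n * n = 1 := by
  obtain ⟨τ, rfl⟩ := X.surj n hn
  exact X.ι_mul_self (X.bas_mem τ)

theorem mul_ι (g : E) {u : α → ZMod 2} (hu : u ∈ X.U) :
    g * X.ι u = X.ι (u ∘ ⇑(X.π g)⁻¹) * g := by
  rw [X.ι_act g u hu, inv_mul_cancel_right]

/-- The elements `x` lie over the letters. -/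
def Lifts (x : ℕ → E) : Prop := ∀ i, E0.Rep (X.π (x i)) (P.lc i)

/-- The assignment `τ` describes the tails of the rules. -/
def Tails (x : ℕ → E) (τ : ℕ → ZMod 2) : Prop :=
  ∀ j, j < P.R.length →
    X.ι (bas E0 fun k => τ (P.d * j + k)) * ev x (P.rule j).2 = ev x (P.rule j).1

variable {X} {x : ℕ → E} {τ : ℕ → ZMod 2}

theorem Lifts.rep_ev (hx : X.Lifts x) (u : List ℕ) : E0.Rep (X.π (ev x u)) (P.pcode u) := by
  induction u with
  | nil => rw [show ev x [] = 1 from rfl, map_one]; exact Enc.rep_one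
  | cons a u ih => rw [ev_cons, map_mul]; exact (hx a).mul ih

theorem Lifts.exists_tails (hx : X.Lifts x) (h : P.rulesOK = true) : ∃ τ, X.Tails x τ := by
  have h1 : ∀ j, ∃ τ, j < P.R.length → X.ι (bas E0 τ) * ev x (P.rule j).2 = ev x (P.rule j).1 := by
    intro j
    by_cases hj : j < P.R.length
    · have h2 := allL_iff.mp h (P.rule j) (by
        rw [Par.rule, getL_of_lt _ _ hj]; exact List.getElem_mem hj)
      obtain ⟨τ, hτ⟩ := X.surj (ev x (P.rule j).1 * (ev x (P.rule j).2)⁻¹) (by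
        rw [map_mul, map_inv, mul_inv_eq_one]
        exact (hx.rep_ev _).unique (Nat.eq_of_beq_eq_true h2 ▸ hx.rep_ev _))
      exact ⟨τ, fun _ => by rw [hτ, inv_mul_cancel_right]⟩
    · exact ⟨0, fun h => absurd h hj⟩
  choose f hf using h1
  refine ⟨fun t => f (t / P.d) (t % P.d), fun j hj => ?_⟩
  rw [← hf j hj]
  congr 2
  funext a
  refine dot_congr fun k hk _ => ?_
  beta_reduce
  rw [Nat.mul_add_div (by omega), Nat.div_eq_of_lt hk, add_zero, Nat.mul_add_mod,
    Nat.mod_eq_of_lt hk]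

theorem run_spec (hx : X.Lifts x) (hτ : X.Tails x τ) (hM : P.d * P.R.length ≤ P.M) (u0 : List ℕ)
    (steps : List (ℕ × ℕ × ℕ)) (u : List ℕ) (acc : ℕ) (h1 : evF E0 acc τ ∈ X.U)
    (h2 : ev x u0 = X.ι (evF E0 acc τ) * ev x u) :
    evF E0 (P.run u0 steps u acc) τ ∈ X.U ∧ X.ι (evF E0 (P.run u0 steps u acc) τ) = 1 := by
  have h0 : evF E0 0 τ ∈ X.U ∧ X.ι (evF E0 0 τ) = 1 := by
    rw [evF_zero]; exact ⟨X.U.zero_mem, X.ι_zero⟩
  induction steps generalizing u acc with
  | nil =>
    have : P.run u0 [] u acc = ite' (eqL u u0) acc 0 := rfl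
    rw [this, ite'_eq]
    split_ifs with h
    · rw [eq_of_eqL h] at h2
      exact ⟨h1, (mul_eq_right.mp h2.symm)⟩
    · exact h0
  | cons st steps ih =>
    have : P.run u0 (st :: steps) u acc = ite' (band (Nat.blt st.2.2 P.R.length)
        (eqL ((u.drop st.2.1).take (P.sideA st).length) (P.sideA st)))
      (P.run u0 steps (u.take st.2.1 ++ (P.sideB st ++ (u.drop st.2.1).drop (P.sideA st).length))
        (acc ^^^ (P.tailF (P.pcode (u.take st.2.1)) st.2.2))) 0 := rfl
    rw [this, ite'_eq]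
    split_ifs with h
    · rw [band_eq, Bool.and_eq_true, Nat.blt_eq] at h
      have h3 := evF_tailF (hx.rep_ev (u.take st.2.1)) h.1 hM τ
      have h4 := X.bas_mem fun k => τ (P.d * st.2.2 + k)
      have h5 := X.act_mem (ev x (u.take st.2.1)) _ h4
      have h6 : ev x (P.sideA st) =
          X.ι (bas E0 fun k => τ (P.d * st.2.2 + k)) * ev x (P.sideB st) := by
        rw [Par.sideA, Par.sideB, ite'_eq, ite'_eq]
        split_ifs
        · exact (hτ _ h.1).symm
        · rw [← hτ _ h.1, ← mul_assoc, X.ι_mul_self h4, one_mul]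
      refine ih _ _ (by rw [evF_xor, h3]; exact X.U.add_mem h1 h5) ?_
      rw [evF_xor, h3, X.ι_add _ h1 _ h5, h2, mul_assoc, ev_append, ev_append, ← mul_assoc _ (ev x _),
        ← X.mul_ι _ h4, mul_assoc, ← mul_assoc _ (ev x (P.sideB st)), ← h6, ← ev_append,
        ← ev_append]
      have h7 := List.take_append_drop (P.sideA st).length (u.drop st.2.1)
      rw [eq_of_eqL h.2] at h7
      rw [h7, List.take_append_drop]
    · exact h0

theorem rowsOf_spec {acc : ℕ} (h1 : evF E0 acc τ ∈ X.U) :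
    X.ι (evF E0 acc τ) = 1 ↔ ∀ y ∈ P.rowsOf acc, dot P.M y τ = 0 := by
  rw [X.coord _ h1, Par.rowsOf, List.forall_mem_map]
  simp only [co_evF]

theorem eqs_spec (hx : X.Lifts x) (hτ : X.Tails x τ) (hM : P.d * P.R.length ≤ P.M)
    (loops : List (List ℕ × List (ℕ × ℕ × ℕ))) : ∀ y ∈ P.eqs loops, dot P.M y τ = 0 := by
  induction loops with
  | nil => simp [Par.eqs]
  | cons lp loops ih =>
    intro y hy
    rcases List.mem_append.mp (show y ∈ P.rowsOf (P.run lp.1 lp.2 lp.1 0) ++ P.eqs loops from hy)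
      with h | h
    · obtain ⟨h1, h2⟩ := run_spec hx hτ hM lp.1 lp.2 lp.1 0 (by rw [evF_zero]; exact X.U.zero_mem)
        (by rw [evF_zero, X.ι_zero, one_mul])
      exact (rowsOf_spec h1).mp h2 y h
    · exact ih y h

variable (X x τ) in
/-- The corrected lifts. -/
def cor (K : List ℕ) : ℕ → E :=
  fun i => X.ι (bas E0 fun k => dot P.M (img P.M (getL 0 K i) k) τ) * x i

theorem π_cor (K : List ℕ) (i : ℕ) : X.π (X.cor x τ K i) = X.π (x i) := by
  rw [cor, map_mul, X.π_ι _ (X.bas_mem _), one_mul]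

theorem evF_ys (K : List ℕ) (i : ℕ) :
    evF E0 (getL 0 (P.ys K) i) τ = bas E0 fun k => dot P.M (img P.M (getL 0 K i) k) τ := by
  funext a
  by_cases hi : i < K.length
  · rw [getL_of_lt _ _ hi, getL_of_lt _ _ (by simpa [Par.ys] using hi)]
    simp only [Par.ys, List.getElem_map, evF, bas]
    rw [img_pack _ _ _ (fun _ _ => lcomb_lt _ _ _ _) _ (E0.ix_lt a), dot_lcomb]
  · rw [getL_of_le _ _ (not_lt.mp hi), getL_of_le _ _ (by simpa [Par.ys] using hi), evF_zero]
    simp only [bas, img_zero, dot_zero, dot_zero', Pi.zero_apply]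

theorem dW_spec (hx : X.Lifts x) (K : List ℕ) (u : List ℕ) :
    evF E0 (P.dW (P.ys K) u) τ ∈ X.U ∧
      ev (X.cor x τ K) u = X.ι (evF E0 (P.dW (P.ys K) u) τ) * ev x u := by
  induction u with
  | nil =>
    rw [show P.dW (P.ys K) [] = 0 from rfl, evF_zero, X.ι_zero, one_mul]
    exact ⟨X.U.zero_mem, rfl⟩
  | cons a u ih =>
    have h1 : P.dW (P.ys K) (a :: u) = getL 0 (P.ys K) a ^^^
      scat P.M P.n P.w (P.lc a) (img P.M (P.dW (P.ys K) u)) := rfl
    have h2 := X.act_mem (x a) _ ih.1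
    rw [h1, evF_xor, evF_scat (hx a) fun _ _ => img_lt _ _ _, evF_ys]
    refine ⟨X.U.add_mem (X.bas_mem _) h2, ?_⟩
    rw [ev_cons, ev_cons, ih.2, cor, mul_assoc, ← mul_assoc (x a), X.mul_ι _ ih.1]
    erw [X.ι_add _ (X.bas_mem _) _ h2]
    simp only [mul_assoc]

theorem newT_spec (hx : X.Lifts x) (hτ : X.Tails x τ) (hM : P.d * P.R.length ≤ P.M) (K : List ℕ)
    {j : ℕ} (hj : j < P.R.length) :
    ev (X.cor x τ K) (P.rule j).1 = ev (X.cor x τ K) (P.rule j).2 ↔
      ∀ y ∈ P.rowsOf (P.newT (P.ys K) j), dot P.M y τ = 0 := by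
  obtain ⟨h1, h2⟩ := dW_spec (τ := τ) hx K (P.rule j).1
  obtain ⟨h3, h4⟩ := dW_spec (τ := τ) hx K (P.rule j).2
  have h5 : evF E0 (P.newT (P.ys K) j) τ = evF E0 (P.dW (P.ys K) (P.rule j).1) τ +
      (bas E0 fun k => τ (P.d * j + k)) + evF E0 (P.dW (P.ys K) (P.rule j).2) τ := by
    show evF E0 (_ ^^^ _ ^^^ _) τ = _
    rw [evF_xor, evF_xor, evF_tailF Enc.rep_one hj hM]
    rfl
  have h6 := X.U.add_mem h1 (X.bas_mem fun k => τ (P.d * j + k))
  rw [← rowsOf_spec (X := X) (h5 ▸ X.U.add_mem h6 h3), h5, X.ι_add _ h6 _ h3,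
    X.ι_add _ h1 _ (X.bas_mem _), h2, h4, ← hτ j hj, ← mul_assoc, mul_left_inj,
    mul_eq_one_iff_eq_inv, inv_eq_of_mul_eq_one_right (X.ι_mul_self h3)]

/-- The splitting theorem. -/
theorem exists_compl [Finite E] (hx : X.Lifts x) (hτ : X.Tails x τ)
    {loops : List (List ℕ × List (ℕ × ℕ × ℕ))} {Hs K : List ℕ} {r r0 m : ℕ}
    (hH : ∀ y ∈ Hs, dot P.M y τ = 0) (h : P.splitOK loops Hs K r r0 = true)
    (h1 : 2 ^ r ≤ Nat.card (Subgroup.closure {g | ∃ k, k < r ∧ g = X.π (x k)}))
    (h2 : Nat.card X.π.range = 2 ^ r * m) (hm : Odd m) :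
    ∃ H : Subgroup E, H ⊓ X.π.ker = ⊥ ∧ H ⊔ X.π.ker = ⊤ := by
  simp only [Par.splitOK, band_eq, Bool.and_eq_true, Nat.ble_eq, allLt_iff, allL_iff] at h
  obtain ⟨hM, hr, hpc, h⟩ := h
  have h3 : ∀ j, j < r0 → ev (X.cor x τ K) (P.rule j).1 = ev (X.cor x τ K) (P.rule j).2 :=
    fun j hj => (newT_spec hx hτ hM K (lt_of_lt_of_le hj hr)).mpr fun y hy =>
      dot_eq_zero_of_red (List.forall_mem_append.mpr ⟨hH, eqs_spec hx hτ hM loops⟩) (h j hj y hy)
  simp only [Par.pcOK, band_eq, Bool.and_eq_true, allLt_iff, anyLt_iff, bimp_iff, Nat.blt_eq,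
    Par.between, allL_iff] at hpc
  refine exists_compl_of_card X.π X.ker_mul_self _ (card_le_of_pc (X.cor x τ K) r ?_ ?_) ?_ h2 hm
  · intro i hi
    obtain ⟨t, ht, h4, h5⟩ := (hpc i hi).1
    have h6 := h3 t ht
    rw [eq_of_eqL h4] at h6
    rw [show X.cor x τ K i * X.cor x τ K i = ev (X.cor x τ K) [i, i] by simp [ev], h6]
    exact ev_mem fun a ha => Subgroup.subset_closure ⟨a, (h5 a ha).1, (h5 a ha).2, rfl⟩
  · intro i j hij hj
    obtain ⟨t, ht, h4, h5, h6⟩ := (hpc i (hij.trans hj)).2 j hj hij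
    have h7 := h3 t ht
    rw [eq_of_eqL h4, ← List.take_append_drop 1 (P.rule t).2, eq_of_eqL h5, ev_append] at h7
    rw [show X.cor x τ K j * X.cor x τ K i = ev (X.cor x τ K) [j, i] by simp [ev], h7,
      show ev (X.cor x τ K) [i] = X.cor x τ K i by simp [ev], inv_mul_cancel_left]
    exact ev_mem fun a ha => Subgroup.subset_closure ⟨a, (h6 a ha).1, (h6 a ha).2, rfl⟩
  · have : Finite ((Subgroup.closure {g | ∃ k, k < r ∧ g = X.cor x τ K k}).map X.π) :=
      Finite.of_surjective _ (X.π.subgroupMap_surjective _)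
    rw [MonoidHom.map_closure] at this ⊢
    refine h1.trans (Subgroup.card_le_of_le (Subgroup.closure_mono ?_))
    rintro _ ⟨k, hk, rfl⟩
    exact ⟨_, ⟨k, hk, rfl⟩, π_cor K k⟩

/-- The obstruction theorem. -/
theorem dot_eq_zero_of_compl (hx : X.Lifts x) (hx1 : ∀ i, P.S.length ≤ i → x i = 1)
    (hR : P.rulesOK = true) (hτ : X.Tails x τ) {μ : ℕ} (h : P.obsOK μ = true)
    {H : Subgroup E} (h1 : H ⊓ X.π.ker = ⊥) (h2 : H ⊔ X.π.ker = ⊤) : dot P.M μ τ = 0 := by
  simp only [Par.obsOK, band_eq, Bool.and_eq_true, Nat.ble_eq, Nat.blt_eq] at h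
  obtain ⟨hM, hμ, h⟩ := h
  have hM' : P.d * P.R.length + P.d * P.S.length ≤ P.M := hM
  have h3 : ∀ i, ∃ y, X.ι (bas E0 y) * x i ∈ H := fun i => by
    have : x i ∈ H ⊔ X.π.ker := h2 ▸ Subgroup.mem_top _
    rw [sup_comm, ← SetLike.mem_coe, Subgroup.normal_mul] at this
    obtain ⟨n, hn, g, hg, h4⟩ := this
    obtain ⟨y, rfl⟩ := X.surj n hn
    exact ⟨y, by rw [← h4, ← mul_assoc, X.ι_mul_self (X.bas_mem y), one_mul]; exact hg⟩
  choose y hy using h3
  set off := P.d * P.R.length with hoff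
  let τ' : ℕ → ZMod 2 := fun t => if t < off then τ t else y ((t - off) / P.d) ((t - off) % P.d)
  have hτ' : X.Tails x τ' := fun j hj => by
    rw [← hτ j hj]
    congr 2
    funext a
    refine dot_congr fun k hk _ => if_pos ?_
    exact lt_of_lt_of_le (by rw [Nat.mul_succ]; omega) (Nat.mul_le_mul_left P.d hj)
  have h4 : ∀ i, X.cor x τ' (P.unitK off P.S.length) i ∈ H := fun i => by
    by_cases hi : i < P.S.length
    · convert hy i using 1
      rw [cor]
      congr 2
      funext a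
      refine dot_congr fun k hk _ => ?_
      have h5 : ∀ k, k < P.d → off + P.d * i + k < P.M := fun k hk =>
        lt_of_lt_of_le (by rw [Nat.mul_succ]; omega)
          (le_trans (Nat.add_le_add_left (Nat.mul_le_mul_left P.d hi) off) hM')
      rw [getL_of_lt _ _ (by simpa [Par.unitK] using hi)]
      simp only [Par.unitK, List.getElem_map, List.getElem_range]
      erw [img_pack _ _ _ (fun k hk => Nat.pow_lt_pow_right one_lt_two (h5 k hk)) _ hk]
      refine (dot_two_pow (h5 k hk) τ').trans ?_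
      show (if off + P.d * i + k < off then _ else _) = _
      rw [if_neg (by omega), Nat.add_assoc, Nat.add_sub_cancel_left, Nat.mul_add_div (by omega),
        Nat.div_eq_of_lt hk, add_zero, Nat.mul_add_mod, Nat.mod_eq_of_lt hk]
    · rw [cor, getL_of_le _ _ (by simpa [Par.unitK] using hi), hx1 i (not_lt.mp hi)]
      simp only [img_zero, dot_zero]
      rw [show bas E0 (fun _ => 0) = 0 from funext fun a => dot_zero' _ _, X.ι_zero, one_mul]
      exact H.one_mem
  have h5 := dot_eq_zero_of_red (M := P.M) (τ := τ') (fun z hz => by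
    obtain ⟨j, hj, hz⟩ := List.mem_flatMap.mp hz
    have hj' := List.mem_range.mp hj
    refine (newT_spec hx hτ' (by omega) _ hj').mp ?_ z hz
    have hx' : X.Lifts (X.cor x τ' (P.unitK off P.S.length)) := fun i => by
      rw [π_cor]; exact hx i
    have h6 := allL_iff.mp hR (P.rule j) (by
      rw [Par.rule, getL_of_lt _ _ hj']; exact List.getElem_mem hj')
    rw [← mul_inv_eq_one, ← Subgroup.mem_bot, ← h1]
    refine ⟨H.mul_mem (ev_mem fun a _ => h4 a) (H.inv_mem (ev_mem fun a _ => h4 a)), ?_⟩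
    show X.π _ = 1
    rw [map_mul, map_inv, mul_inv_eq_one]
    exact (hx'.rep_ev _).unique (Nat.eq_of_beq_eq_true h6 ▸ hx'.rep_ev _)) h
  rw [← h5]
  refine dot_congr fun t _ ht => (if_pos ?_).symm
  by_contra h6
  rw [Nat.testBit_lt_two_pow (lt_of_lt_of_le hμ (Nat.pow_le_pow_right two_pos (not_lt.mp h6)))] at ht
  exact Bool.false_ne_true ht

end Data

end Coh

end Cfsg.Agent.H4
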