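/-
Listing all elements of a computational group, counting elements with a property, element orders,
certificates for solvability and non-solvability.
-/
import Cfsg.Agent.H4.Hom

set_option autoImplicit false
set_option maxRecDepth 100000

open MulAction
open scoped commutatorElement

namespace Cfsg.Agent.H4

theorem card_eq_countP {X D : Type*} [Finite X] (R : X → D → Prop) (l : List D)
    (h1 : ∀ d ∈ l, ∃ x, R x d) (h2 : ∀ x, ∃ d ∈ l, R x d)
    (hu : ∀ x y d, R x d → R y d → x = y) (hc : l.length ≤ Nat.card X) (P : X → Prop)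
    (p : D → Bool) (hp : ∀ x d, d ∈ l → R x d → (P x ↔ p d = true)) :
    Nat.card {x // P x} = l.countP p := by
  classical
  choose f hf using h1
  let F : Fin l.length → X := fun i => f l[i] (List.getElem_mem i.2)
  have hs : Function.Surjective F := fun x => by
    obtain ⟨d, hd, h3⟩ := h2 x
    obtain ⟨i, hi, rfl⟩ := List.getElem_of_mem hd
    exact ⟨⟨i, hi⟩, hu _ _ _ (hf _ _) h3⟩
  have hb : Function.Bijective F := hs.bijective_of_nat_card_le (by simpa using hc)
  have h4 : Nat.card {x // P x} = Nat.card {i : Fin l.length // p l[i] = true} :=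
    Nat.card_congr ((Equiv.ofBijective F hb).symm.subtypeEquiv fun x => by
      obtain ⟨i, rfl⟩ := hs x
      have h5 : (Equiv.ofBijective F hb).symm (F i) = i := (Equiv.ofBijective F hb).symm_apply_apply i
      rw [h5]
      exact hp _ _ (List.getElem_mem i.2) (hf _ _))
  rw [h4, Nat.card_eq_fintype_card, Fintype.card_subtype]
  conv_rhs => rw [← List.ofFn_getElem (xs := l), List.ofFn_eq_map, List.countP_map,
    List.countP_eq_length_filter]
  rw [Finset.card_def, Finset.filter_val, Finset.val_univ_fin, Multiset.filter_coe,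
    Multiset.coe_card]
  simp [Function.comp_def]

theorem commutator_closure_le {G : Type*} [Group G] (S : Set G) (N : Subgroup G)
    (h1 : ∀ a ∈ S, ∀ b ∈ S, ⁅a, b⁆ ∈ N)
    (h2 : Subgroup.closure S ≤ Subgroup.normalizer (N : Set G)) :
    ⁅Subgroup.closure S, Subgroup.closure S⁆ ≤ N := by
  rw [Subgroup.commutator_le]
  have key : ∀ x ∈ Subgroup.closure S, ∀ n ∈ N, x * n * x⁻¹ ∈ N := fun x hx n hn =>
    (Subgroup.mem_normalizer_iff.mp (h2 hx) n).mp hn
  intro a ha b hb
  induction ha, hb using Subgroup.closure_induction₂ with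
  | mem x y hx hy => exact h1 x hx y hy
  | one_left x _ => simp
  | one_right x _ => simp
  | mul_left x y z hx _ _ h3 h4 =>
    have : ⁅x * y, z⁆ = x * ⁅y, z⁆ * x⁻¹ * ⁅x, z⁆ := by simp only [commutatorElement_def]; group
    rw [this]; exact N.mul_mem (key x hx _ h4) h3
  | mul_right y z x hy _ _ h3 h4 =>
    have : ⁅x, y * z⁆ = ⁅x, y⁆ * (y * ⁅x, z⁆ * y⁻¹) := by simp only [commutatorElement_def]; group
    rw [this]; exact N.mul_mem h3 (key y hy _ h4)
  | inv_left x y hx _ h3 =>
    have : ⁅x⁻¹, y⁆ = x⁻¹ * ⁅x, y⁆⁻¹ * x⁻¹⁻¹ := by simp only [commutatorElement_def]; group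
    rw [this]; exact key _ (inv_mem hx) _ (N.inv_mem h3)
  | inv_right x y _ hy h3 =>
    have : ⁅x, y⁻¹⁆ = y⁻¹ * ⁅x, y⁆⁻¹ * y⁻¹⁻¹ := by simp only [commutatorElement_def]; group
    rw [this]; exact key _ (inv_mem hy) _ (N.inv_mem h3)

theorem isSolvable_of_commutator_le {G : Type*} [Group G] (K N : Subgroup G) (h : ⁅K, K⁆ ≤ N)
    [Group.IsSolvable N] : Group.IsSolvable K := by
  have h1 : ∀ x : commutator K, ((x : K) : G) ∈ N := fun x => h (by
    rw [← K.map_subtype_commutator]
    exact ⟨x, x.2, rfl⟩)
  have : Group.IsSolvable (commutator K) := Group.isSolvable_of_isSolvable_injective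
    (f := (K.subtype.comp (commutator K).subtype).codRestrict N h1)
    fun a b hab => Subtype.ext (Subtype.ext (congrArg (fun x : N => (x : G)) hab))
  exact Group.isSolvable_of_ker_le_range (commutator K).subtype (Abelianization.of (G := K))
    (by rw [Abelianization.ker_of, Subgroup.range_subtype])

namespace CG

variable {G : Type*} [Group G] {C : Type} (M : CG G C)

/-- All products of transversal elements. -/
def prodL (T : List (ℕ × List (ℕ × C × C))) : C → List C → List C :=
  List.rec (fun acc r => acc :: r) (fun t _ ih acc r =>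
    List.rec r (fun e _ ih2 => ih (M.mul acc e.2.1) ih2) t.2) T

theorem prodL_cons (t : ℕ × List (ℕ × C × C)) (T : List (ℕ × List (ℕ × C × C))) (acc : C)
    (r : List C) : M.prodL (t :: T) acc r =
      t.2.foldr (fun e r' => M.prodL T (M.mul acc e.2.1) r') r := by
  obtain ⟨b, U⟩ := t
  induction U with
  | nil => rfl
  | cons e U ih => exact congrArg (M.prodL T (M.mul acc e.2.1)) ih

theorem allL_prodL (T : List (ℕ × List (ℕ × C × C))) (p : C → Bool) (acc : C) (r : List C) :
    allL (M.prodL T acc r) p = true ↔ M.allProd T p acc = true ∧ allL r p = true := by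
  induction T generalizing acc r with
  | nil =>
    show allL (acc :: r) p = true ↔ p acc = true ∧ _
    rw [allL_cons, Bool.and_eq_true]
  | cons t T ih =>
    rw [prodL_cons]
    show _ ↔ (allL t.2 fun e => M.allProd T p (M.mul acc e.2.1)) = true ∧ _
    induction t.2 with
    | nil => simp [allL]
    | cons e U ih2 => rw [List.foldr_cons, ih, ih2, allL_cons, Bool.and_eq_true, and_assoc]

theorem length_prodL (L : List (Level C)) (acc : C) (r : List C) :
    (M.prodL (M.transOf L) acc r).length = ssSize L + r.length := by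
  induction L generalizing acc r with
  | nil => exact Nat.add_comm _ _
  | cons lv L ih =>
    have h1 : (M.mkU lv.1 (lv.2.1 ++ gensOf L) lv.2.2 [(lv.1, M.one, M.one)]).length =
        lv.2.2.length + 1 := (M.triv.mkU_spec (K := ⊤) lv.1 (fun _ _ => ⟨1, trivial, trivial⟩) lv.2.2
          (fun _ _ => ⟨1, trivial, trivial, trivial⟩)).2.2
    show (M.prodL ((lv.1, M.mkU lv.1 (lv.2.1 ++ gensOf L) lv.2.2 [(lv.1, M.one, M.one)]) ::
      M.transOf L) acc r).length = (lv.2.2.length + 1) * ssSize L + r.length
    rw [prodL_cons, ← h1]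
    simp only
    induction M.mkU lv.1 (lv.2.1 ++ gensOf L) lv.2.2 [(lv.1, M.one, M.one)] with
    | nil => simp
    | cons e U ih2 => rw [List.foldr_cons, ih, ih2, List.length_cons]; ring

theorem in_prodL {K : Subgroup G} {T : List (ℕ × List (ℕ × C × C))} (hT : ∀ t ∈ T, M.InU K t.2)
    {a : G} (ha : a ∈ K) {acc : C} (h : M.Rep a acc) {r : List C} (hr : M.In K r) :
    M.In K (M.prodL T acc r) := by
  induction T generalizing a acc r with
  | nil =>
    intro c hc
    rcases List.mem_cons.mp hc with rfl | hc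
    · exact ⟨a, ha, h⟩
    · exact hr c hc
  | cons t T ih =>
    rw [prodL_cons]
    have h1 := hT t List.mem_cons_self
    generalize t.2 = U at h1
    induction U with
    | nil => exact hr
    | cons e U ih2 =>
      obtain ⟨g, hg, h2, -⟩ := h1 e List.mem_cons_self
      exact ih (fun t ht => hT t (List.mem_cons_of_mem _ ht)) (K.mul_mem ha hg) (M.rep_mul h h2)
        (ih2 fun e he => h1 e (List.mem_cons_of_mem _ he))

theorem inU_transOf {L : List (Level C)} (hv : M.Valid (gensOf L)) :
    ∀ t ∈ M.transOf L, M.InU (M.gen (gensOf L)) t.2 := by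
  induction L with
  | nil => intro t ht; cases ht
  | cons lv L ih =>
    intro t ht
    rcases List.mem_cons.mp ht with rfl | ht
    · exact (M.mkU_spec lv.1 (hv.in_gen M) lv.2.2 (M.inU_base _ lv.1)).1
    · intro e he
      obtain ⟨g, hg, h1⟩ := ih (M.valid_tail hv) t ht e he
      exact ⟨g, M.gen_mono (List.subset_append_right lv.2.1 _) hg, h1⟩

/-- The list of all elements of the group described by a chain. -/
def elems (L : List (Level C)) : List C := M.prodL (M.transOf L) M.one []

theorem in_elems {L : List (Level C)} (hv : M.Valid (gensOf L)) :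
    M.In (M.gen (gensOf L)) (M.elems L) :=
  M.in_prodL (M.inU_transOf hv) (one_mem _) M.rep_one fun _ h => by cases h

theorem exists_mem_elems [Finite G] {L : List (Level C)} (hv : M.Valid (gensOf L))
    (h : M.ssCheck L = true) {g : G} (hg : g ∈ M.gen (gensOf L)) :
    ∃ c ∈ M.elems L, M.Rep g c := by
  classical
  obtain ⟨c, h1, h2⟩ := M.forall_gen M.fin_order hv h (fun c => decide (c ∈ M.elems L)) M.rep_one
    ((M.allL_prodL _ _ _ []).mp (allL_iff.mpr fun c hc => decide_eq_true hc)).1 g hg
  exact ⟨c, of_decide_eq_true h2, by rwa [one_mul] at h1⟩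

/-- Counting the elements with a property. -/
theorem Keyed.card_eq_countL [Finite G] {M : CG G C} (hk : M.Keyed) (hu : M.Uniq)
    {L : List (Level C)} (hv : M.Valid (gensOf L)) (h : M.lbCheck L = true)
    (h' : M.ssCheck L = true) (P : M.gen (gensOf L) → Prop) (p : C → Bool)
    (hp : ∀ (x : M.gen (gensOf L)) c, c ∈ M.elems L → M.Rep x c → (P x ↔ p c = true)) :
    Nat.card {x // P x} = countL (M.elems L) p := by
  rw [countL_eq]
  refine card_eq_countP (fun (x : M.gen (gensOf L)) c => M.Rep x c) _ (fun c hc => ?_)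
    (fun x => M.exists_mem_elems hv h' x.2) (fun x y c h1 h2 => Subtype.ext (hu _ _ _ h1 h2)) ?_ P p hp
  · obtain ⟨g, hg, h1⟩ := M.in_elems hv c hc
    exact ⟨⟨g, hg⟩, h1⟩
  · rw [elems, length_prodL]
    exact hk.le_card_gen hv inferInstance h

/-- The order of an element by successive multiplication (`0` if the fuel runs out): `a` describes
the power with exponent `k`. -/
def ordF (c : C) (fuel : ℕ) : C → ℕ → ℕ :=
  Nat.rec (fun _ _ => nat_lit 0) (fun _ ih a k =>
    Bool.rec (ih (M.mul a c) (Nat.succ k)) (Nat.succ k) (M.isOne (M.mul a c))) fuel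

theorem Complete.ordF_spec {M : CG G C} (hc : M.Complete) {g : G} {c : C} (hg : M.Rep g c)
    (fuel : ℕ) {a : C} {k : ℕ} (ha : M.Rep (g ^ k) a) (hk : ∀ j, 0 < j → j ≤ k → g ^ j ≠ 1)
    (h : M.ordF c fuel a k ≠ 0) : orderOf g = M.ordF c fuel a k := by
  induction fuel generalizing a k with
  | zero => exact absurd rfl h
  | succ fuel ih =>
    have h1 : M.ordF c (fuel + 1) a k =
      ite' (M.isOne (M.mul a c)) (k + 1) (M.ordF c fuel (M.mul a c) (k + 1)) := rfl
    have h2 := hc.isOne_mul_iff ha hg
    rw [← pow_succ] at h2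
    rw [h1, ite'_eq] at h ⊢
    split_ifs at h ⊢ with h3
    · exact (orderOf_eq_iff (Nat.succ_pos k)).mpr
        ⟨h2.mp h3, fun j hj hj' => hk j hj' (Nat.le_of_lt_succ hj)⟩
    · refine ih (by rw [pow_succ]; exact M.rep_mul ha hg) (fun j hj hj' => ?_) h
      rcases Nat.le_succ_iff.mp hj' with h4 | rfl
      · exact hk j hj h4
      · exact fun h5 => h3 (h2.mpr h5)

/-- The order of an element, if it is at most `fuel`. -/
def ord (fuel : ℕ) (c : C) : ℕ := M.ordF c fuel M.one (nat_lit 0)

theorem Complete.ord_spec {M : CG G C} (hc : M.Complete) {g : G} {c : C} (hg : M.Rep g c)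
    {fuel : ℕ} (h : M.ord fuel c ≠ 0) : orderOf g = M.ord fuel c :=
  hc.ordF_spec hg fuel (k := 0) (by rw [pow_zero]; exact M.rep_one) (fun _ _ _ => by omega) h

/-- The commutator on codes. -/
def cm (a b : C) : C := M.mul (M.mul a b) (M.inv (M.mul b a))

theorem rep_cm {g h : G} {a b : C} (hg : M.Rep g a) (hh : M.Rep h b) : M.Rep ⁅g, h⁆ (M.cm a b) := by
  have := M.rep_mul (M.rep_mul hg hh) (M.rep_inv (M.rep_mul hh hg))
  rwa [mul_inv_rev, ← mul_assoc] at this

theorem gen_le_normalizer' [Finite G] {l : List C} {L : List (Level C)} (hv : M.Valid (gensOf L))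
    (h : (allL l fun a => allL (gensOf L) fun c => M.sift (M.transOf L) (M.conj a c)) = true) :
    M.gen l ≤ Subgroup.normalizer (M.gen (gensOf L) : Set G) :=
  M.gen_le_normalizer _ _ fun s hs t ht _ hg =>
    M.mem_of_sift hv hg (allL_iff.mp (allL_iff.mp h s hs) t ht)

/-- The commutator subgroup of the group generated by `l` lies in the group given by `L`. -/
def derCheck (l : List C) (L : List (Level C)) : Bool :=
  band (allL l fun a => allL l fun b => M.sift (M.transOf L) (M.cm a b))
    (allL l fun a => allL (gensOf L) fun c => M.sift (M.transOf L) (M.conj a c))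

theorem commutator_gen_le [Finite G] {l : List C} {L : List (Level C)} (hv : M.Valid (gensOf L))
    (h : M.derCheck l L = true) : ⁅M.gen l, M.gen l⁆ ≤ M.gen (gensOf L) := by
  rw [derCheck, band_eq, Bool.and_eq_true] at h
  refine commutator_closure_le _ _ ?_ (M.gen_le_normalizer' hv h.2)
  rintro a ⟨c, hc, ha⟩ b ⟨d, hd, hb⟩
  exact M.mem_of_sift hv (M.rep_cm ha hb) (allL_iff.mp (allL_iff.mp h.1 c hc) d hd)

/-- A certificate for solvability: chains for groups containing the derived series. -/
def solvCheck (p : C → Bool) (Ls : List (List (Level C))) : List C → Bool :=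
  List.rec (fun l => M.derCheck l []) (fun L _ ih l =>
    band (band (allL (gensOf L) p) (M.derCheck l L)) (ih (gensOf L))) Ls

theorem isSolvable_gen [Finite G] {p : C → Bool} (vt : M.VT p) {Ls : List (List (Level C))}
    {l : List C} (h : M.solvCheck p Ls l = true) : Group.IsSolvable (M.gen l) := by
  induction Ls generalizing l with
  | nil =>
    have h1 : M.gen (gensOf ([] : List (Level C))) = ⊥ := by simp [gen, gensOf]
    have h2 := M.commutator_gen_le (L := []) (fun _ h => by cases h) h
    rw [h1] at h2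
    exact isSolvable_of_commutator_le _ _ h2
  | cons L Ls ih =>
    have h1 : band (band (allL (gensOf L) p) (M.derCheck l L)) (M.solvCheck p Ls (gensOf L)) = true := h
    simp only [band_eq, Bool.and_eq_true] at h1
    have := ih h1.2
    exact isSolvable_of_commutator_le _ _ (M.commutator_gen_le (vt.valid h1.1.1) h1.1.2)

/-- Every entry of `l` is a commutator of two results of the program `prog` run on `l`. -/
def perfCheck (l : List C) (prog : List (ℕ × ℕ)) : Bool :=
  allL l fun a => anyL (M.slp prog l) fun x => anyL (M.slp prog l) fun y => M.eqc a (M.cm x y)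

theorem in_derivedSeries {l : List C} (hv : M.Valid l) {prog : List (ℕ × ℕ)}
    (h : M.perfCheck l prog = true) (n : ℕ) : M.In (derivedSeries G n) l := by
  induction n with
  | zero => exact fun c hc => (hv c hc).imp fun g hg => ⟨trivial, hg⟩
  | succ n ih =>
    intro c hc
    obtain ⟨x, hx, h1⟩ := anyL_iff.mp (allL_iff.mp h c hc)
    obtain ⟨y, hy, h2⟩ := anyL_iff.mp h1
    obtain ⟨g, hg, h3⟩ := ih.slp M prog x hx
    obtain ⟨k, hk, h4⟩ := ih.slp M prog y hy
    obtain ⟨a, ha⟩ := hv c hc
    exact ⟨a, M.eq_of_eqc ha (M.rep_cm h3 h4) h2 ▸ Subgroup.commutator_mem_commutator hg hk, ha⟩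

end CG

end Cfsg.Agent.H4
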