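/-
Central quotients of matrix groups as keyed and complete computational groups; conjugating
`p`-subgroups into subgroups of index prime to `p`; generated subgroups as computational groups.
-/
import Cfsg.Agent.H4.Vec
import Cfsg.Agent.H4.Count

set_option autoImplicit false
set_option maxRecDepth 100000

open MulAction Matrix
open scoped Pointwise

namespace Cfsg.Agent.H4

/-- The minimum of `d` and the values of `f` on a list. -/
def minL (l : List ℕ) (f : ℕ → ℕ) (d : ℕ) : ℕ :=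
  List.rec d (fun s _ ih => ite' (Nat.ble (f s) ih) (f s) ih) l

theorem minL_spec (l : List ℕ) (f : ℕ → ℕ) (d : ℕ) :
    (minL l f d = d ∨ ∃ s ∈ l, minL l f d = f s) ∧ ∀ s ∈ l, minL l f d ≤ f s := by
  induction l with
  | nil => exact ⟨Or.inl rfl, fun _ h => by cases h⟩
  | cons a l ih =>
    have h : minL (a :: l) f d = ite' (Nat.ble (f a) (minL l f d)) (f a) (minL l f d) := rfl
    rw [h, ite'_eq]
    simp only [Nat.ble_eq, List.mem_cons, forall_eq_or_imp, exists_eq_or_imp]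
    split_ifs with h1
    · exact ⟨Or.inr (Or.inl rfl), le_rfl, fun s hs => h1.trans (ih.2 s hs)⟩
    · exact ⟨ih.1.imp id Or.inr, by omega, ih.2⟩

theorem eq_of_img {w n c c' : ℕ} (h : c < 2 ^ (w * n)) (h' : c' < 2 ^ (w * n))
    (H : ∀ i, i < n → img w c i = img w c' i) : c = c' := by
  refine Nat.eq_of_testBit_eq fun k => ?_
  by_cases hk : k < w * n
  · have hw : 0 < w := Nat.pos_of_ne_zero (by rintro rfl; simp at hk)
    have h1 := congrArg (fun x => x.testBit (k % w)) (H (k / w) (Nat.div_lt_of_lt_mul hk))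
    simpa only [testBit_img, Nat.mod_lt k hw, decide_true, Bool.true_and, Nat.div_add_mod] using h1
  · have := Nat.pow_le_pow_right two_pos (not_lt.mp hk)
    rw [Nat.testBit_lt_two_pow (h.trans_le this), Nat.testBit_lt_two_pow (h'.trans_le this)]

namespace Ops

variable (O : Ops)

/-- Powers on codes. -/
def pw (s k : ℕ) : ℕ := Nat.rec (nat_lit 1) (fun _ ih => O.mul ih s) k

/-- The operations on pairs (matrix, inverse) modulo the scalars in `l`, with keys that only depend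
on the class modulo these scalars. -/
def kpcg (q w n : ℕ) (l : List ℕ) : CG Unit (ℕ × ℕ) :=
  (O.pcg q w n l).withKey fun b c =>
    minL l (fun s => O.mvec w n (scal w n s) ((O.cg q w n).key b c)) ((O.cg q w n).key b c)

/-- The list `l` consists of the codes of the `n`-th roots of unity. -/
def roots (q n : ℕ) (l : List ℕ) : Bool :=
  band (allL l fun s => band (Nat.blt s q) (Nat.beq (O.pw s n) 1))
    (allLt q fun s => bimp (Nat.beq (O.pw s n) 1) (memL l s))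

end Ops

namespace FC

open Ops

variable {F : Type*} [CommRing F] {q w : ℕ} {O : Ops} (K : FC F q w O)

theorem pw_spec {s : ℕ} (hs : s < q) (k : ℕ) : O.pw s k < q ∧ K.val (O.pw s k) = K.val s ^ k := by
  induction k with
  | zero => exact ⟨K.one_lt, K.val_one.trans (pow_zero _).symm⟩
  | succ k ih => exact ⟨K.mul_lt _ _ ih.1 hs, by
      rw [pow_succ, ← ih.2]; exact K.val_mul _ _ ih.1 hs⟩

theorem pw_eq_one_iff {s : ℕ} (hs : s < q) (k : ℕ) : O.pw s k = 1 ↔ K.val s ^ k = 1 := by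
  obtain ⟨h1, h2⟩ := K.pw_spec hs k
  exact ⟨fun h => by rw [← h2, h, K.val_one],
    fun h => K.inj _ _ h1 K.one_lt (by rw [h2, h, K.val_one])⟩

/-- The canonical code of a vector. -/
def Can {n : ℕ} (v : Fin n → F) (c : ℕ) : Prop := K.RepV v c ∧ c < 2 ^ (w * n)

variable {K}

theorem Can.eq {n : ℕ} {v : Fin n → F} {c c' : ℕ} (h : K.Can v c) (h' : K.Can v c') : c = c' :=
  eq_of_img h.2 h'.2 fun i hi => K.inj _ _ (h.1 ⟨i, hi⟩).1 (h'.1 ⟨i, hi⟩).1
    ((h.1 ⟨i, hi⟩).2.symm.trans (h'.1 ⟨i, hi⟩).2)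

theorem RepM.can {n : ℕ} {A : Matrix (Fin n) (Fin n) F} {v : Fin n → F} {a c : ℕ}
    (hA : K.RepM A a) (hv : K.RepV v c) : K.Can (A *ᵥ v) (O.mvec w n a c) :=
  ⟨hA.mulVec hv, pack_lt _ _ _ fun t ht => lt_of_lt_of_le (K.sum_spec n _ fun k hk =>
    K.mul_lt _ _ (hA ⟨t, ht⟩ ⟨k, hk⟩).1 (hv ⟨k, hk⟩).1).1 K.le_pow⟩

theorem RepM.eq_of_lt {n : ℕ} {A : Matrix (Fin n) (Fin n) F} {c c' : ℕ} (h : K.RepM A c)
    (h' : K.RepM A c') (hc : c < 2 ^ (w * (n * n))) (hc' : c' < 2 ^ (w * (n * n))) : c = c' :=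
  eq_of_img hc hc' fun t ht => by
    have hn : 0 < n := Nat.pos_of_ne_zero (by rintro rfl; simp at ht)
    have h3 := h ⟨t / n, Nat.div_lt_of_lt_mul ht⟩ ⟨t % n, Nat.mod_lt _ hn⟩
    have h4 := h' ⟨t / n, Nat.div_lt_of_lt_mul ht⟩ ⟨t % n, Nat.mod_lt _ hn⟩
    simp only [Nat.div_add_mod] at h3 h4
    exact K.inj _ _ h3.1 h4.1 (h3.2.symm.trans h4.2)

theorem RepM.mmul_lt {n : ℕ} {A B : Matrix (Fin n) (Fin n) F} {a b : ℕ} (hA : K.RepM A a)
    (hB : K.RepM B b) : O.mmul w n a b < 2 ^ (w * (n * n)) :=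
  pack_lt _ _ _ fun s hs => by
    have hn : 0 < n := Nat.pos_of_ne_zero (by rintro rfl; simp at hs)
    exact lt_of_lt_of_le (K.sum_spec n _ fun k hk =>
      K.mul_lt _ _ (hA ⟨s / n, Nat.div_lt_of_lt_mul hs⟩ ⟨k, hk⟩).1
        (hB ⟨k, hk⟩ ⟨s % n, Nat.mod_lt _ hn⟩).1).1 K.le_pow

variable (K)

include K in
theorem scal_lt (n : ℕ) {s : ℕ} (hs : s < q) : scal w n s < 2 ^ (w * (n * n)) :=
  pack_lt _ _ _ fun _ _ => by
    rw [ite'_eq]
    split_ifs
    · exact lt_of_lt_of_le hs K.le_pow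
    · exact Nat.two_pow_pos w

/-- The centre consists of the scalars with entry in `l`. -/
def Cen {n : ℕ} {G : Type*} [Group G] (ρ : G →* Matrix (Fin n) (Fin n) F) (l : List ℕ) : Prop :=
  (∀ z ∈ Subgroup.center G, ∃ s ∈ l, ρ z = Matrix.scalar (Fin n) (K.val s)) ∧
    ∀ s ∈ l, s < q ∧ ∃ z ∈ Subgroup.center G, ρ z = Matrix.scalar (Fin n) (K.val s)

/-- The central quotient of a matrix group, with keys. -/
def kpcg (n : ℕ) {G : Type*} [Group G] (ρ : G →* Matrix (Fin n) (Fin n) F)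
    (hρ : Function.Injective ρ) (l : List ℕ) : CG (G ⧸ Subgroup.center G) (ℕ × ℕ) :=
  (K.pcg n ρ hρ l).withKey (O.kpcg q w n l).key

variable {n : ℕ} {G : Type*} [Group G] {ρ : G →* Matrix (Fin n) (Fin n) F}
  {hρ : Function.Injective ρ} {l : List ℕ}

theorem kpcg_triv : (K.kpcg n ρ hρ l).triv = (O.kpcg q w n l).triv := rfl

theorem kpcg_uniq : (K.kpcg n ρ hρ l).Uniq := K.pcg_uniq n ρ hρ l

theorem kpcg_vt {p : ℕ × ℕ → Bool} (h : (K.cg n ρ hρ).VT p) : (K.kpcg n ρ hρ l).VT p :=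
  K.pcg_vt l h

theorem kpcg_rep {g : G} {c : ℕ × ℕ} (h : (K.cg n ρ hρ).Rep g c) :
    (K.kpcg n ρ hρ l).Rep (g : G ⧸ Subgroup.center G) c := ⟨g, rfl, h⟩

theorem kpcg_complete (h : K.Cen ρ l) : (K.kpcg n ρ hρ l).Complete := by
  rintro _ _ a b ⟨x, rfl, hx⟩ ⟨y, rfl, hy⟩ H
  rw [← map_mul] at H
  obtain ⟨s, hs, h1⟩ := h.1 _ ((QuotientGroup.eq_one_iff _).mp H)
  have h2 := hx.1.mul hy.1
  rw [← map_mul, h1] at h2
  have h3 := (h.2 s hs).1
  refine anyL_iff.mpr ⟨s, hs, ?_⟩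
  rw [band_eq, Bool.and_eq_true, Nat.blt_eq, Nat.beq_eq]
  exact ⟨h3, h2.eq_of_lt (repM_scal n h3) (hx.1.mmul_lt hy.1) (K.scal_lt n h3)⟩

theorem minL_can (h : K.Cen ρ l) {u : Fin n → F} {c : ℕ} (hu : K.Can u c) :
    (∃ z ∈ Subgroup.center G,
      K.Can (ρ z *ᵥ u) (minL l (fun s => O.mvec w n (scal w n s) c) c)) ∧
    ∀ z ∈ Subgroup.center G, ∀ d, K.Can (ρ z *ᵥ u) d →
      minL l (fun s => O.mvec w n (scal w n s) c) c ≤ d := by
  obtain ⟨h1, h2⟩ := minL_spec l (fun s => O.mvec w n (scal w n s) c) c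
  refine ⟨?_, fun z hz d hd => ?_⟩
  · rcases h1 with h1 | ⟨s, hs, h1⟩
    · exact ⟨1, one_mem _, by rwa [h1, map_one, Matrix.one_mulVec]⟩
    · obtain ⟨h3, z, hz, h4⟩ := h.2 s hs
      exact ⟨z, hz, by rw [h1, h4]; exact (repM_scal n h3).can hu.1⟩
  · obtain ⟨s, hs, h3⟩ := h.1 z hz
    rw [h3] at hd
    exact (h2 s hs).trans (((repM_scal n (h.2 s hs).1).can hu.1).eq hd).le

theorem kpcg_keyed (h : K.Cen ρ l) : (K.kpcg n ρ hρ l).Keyed := by
  let := vecAction n ρ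
  let v : ℕ → Fin n → F := fun b => K.vecOf n (pack w n fun i => Nat.mod (img w b i) q)
  have hv : ∀ b, K.RepV (v b) (pack w n fun i => Nat.mod (img w b i) q) := fun b i => ⟨by
    rw [img_pack w n (fun i => Nat.mod (img w b i) q)
      (fun i _ => lt_of_lt_of_le (Nat.mod_lt _ K.pos) K.le_pow) _ i.2]
    exact Nat.mod_lt _ K.pos, rfl⟩
  refine ⟨fun b => (stabilizer G (v b)).map (QuotientGroup.mk' _), ?_⟩
  rintro b _ _ c c' ⟨x, rfl, hx⟩ ⟨y, rfl, hy⟩
  obtain ⟨⟨z, hz, h1⟩, h2⟩ := K.minL_can h (hx.1.can (hv b))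
  obtain ⟨⟨z', hz', h3⟩, h4⟩ := K.minL_can h (hy.1.can (hv b))
  have hs : ∀ g k : G, ρ g *ᵥ (ρ k *ᵥ v b) = (g * k) • v b := fun g k => (mul_smul g k (v b)).symm
  rw [hs] at h1 h3
  simp only [hs] at h2 h4
  constructor
  · rintro ⟨g, hg, h5⟩
    rw [← map_inv, ← map_mul] at h5
    obtain ⟨t, ht, h6⟩ := (QuotientGroup.mk'_eq_mk' _).mp h5
    have h7 : y • v b = (t * x) • v b := by
      rw [← Subgroup.mem_center_iff.mp ht, ← mul_inv_cancel_left x y, ← h6,
        Subgroup.mem_center_iff.mp ht g, ← mul_assoc, mul_smul, mem_stabilizer_iff.mp hg]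
    refine le_antisymm (h2 (z' * t) (mul_mem hz' ht) _ ?_) (h4 (z * t⁻¹) (mul_mem hz (inv_mem ht)) _ ?_)
    · rwa [mul_assoc, mul_smul, ← h7, ← mul_smul]
    · rwa [mul_smul, h7, ← mul_smul, mul_assoc, inv_mul_cancel_left]
  · intro h5
    have h6 : (z * x) • v b = (z' * y) • v b :=
      h1.1.unique (Eq.mpr (congrArg (K.RepV _) h5) h3.1)
    refine ⟨(z * x)⁻¹ * (z' * y), by rw [SetLike.mem_coe, mem_stabilizer_iff, mul_smul, ← h6, inv_smul_smul], ?_⟩
    have e1 : QuotientGroup.mk' (Subgroup.center G) z = 1 := (QuotientGroup.eq_one_iff _).mpr hz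
    have e2 : QuotientGroup.mk' (Subgroup.center G) z' = 1 := (QuotientGroup.eq_one_iff _).mpr hz'
    rw [map_mul, map_inv, map_mul, map_mul, e1, e2, one_mul, one_mul]

theorem cen_sl [Fintype F] (hF : Fintype.card F = q) (n : ℕ) {l : List ℕ}
    (h : O.roots q n l = true) : K.Cen (slHom n F) l := by
  simp only [roots, band_eq, Bool.and_eq_true, allL_iff, allLt_iff, bimp_iff, Nat.blt_eq,
    Nat.beq_eq, memL_iff] at h
  refine ⟨fun z hz => ?_, fun s hs => ⟨(h.1 s hs).1, ?_⟩⟩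
  · obtain ⟨r, h1, h2⟩ := Matrix.SpecialLinearGroup.mem_center_iff.mp hz
    obtain ⟨s, hs, rfl⟩ := K.surj hF r
    rw [Fintype.card_fin] at h1
    exact ⟨s, h.2 s hs ((K.pw_eq_one_iff hs n).mpr h1), h2.symm⟩
  · have h1 := (K.pw_eq_one_iff (h.1 s hs).1 n).mp (h.1 s hs).2
    exact ⟨⟨Matrix.scalar (Fin n) (K.val s), by simp [h1]⟩,
      Matrix.SpecialLinearGroup.mem_center_iff.mpr ⟨_, by rwa [Fintype.card_fin], rfl⟩, rfl⟩

theorem Cen.card_center [Nontrivial (Fin n)] (hρ : Function.Injective ρ) (h : K.Cen ρ l)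
    (hl : nodupL l = true) : Nat.card (Subgroup.center G) = l.length := by
  have h1 := nodup_of_nodupL hl
  choose f hf1 hf2 using fun s : {s // s ∈ l} => (h.2 s.1 s.2).2
  have h2 : Function.Bijective fun s => (⟨f s, hf1 s⟩ : Subgroup.center G) := by
    refine ⟨fun a b hab => Subtype.ext (K.inj _ _ (h.2 _ a.2).1 (h.2 _ b.2).1 ?_), fun z => ?_⟩
    · have h3 := hf2 a
      rw [show f a = f b from congrArg Subtype.val hab, hf2 b] at h3
      exact (Matrix.scalar_inj.mp h3).symm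
    · obtain ⟨s, hs, h3⟩ := h.1 z z.2
      exact ⟨⟨s, hs⟩, Subtype.ext (hρ ((hf2 _).trans h3.symm))⟩
  rw [← Nat.card_eq_of_bijective _ h2, Nat.card_eq_fintype_card, ← List.toFinset_card_of_nodup h1,
    ← Fintype.card_coe]
  exact Fintype.card_congr (Equiv.subtypeEquivRight (by simp))

/-- The projective special linear group as a keyed computational group. -/
def pslcg (n : ℕ) (l : List ℕ) : CG (Matrix.ProjectiveSpecialLinearGroup (Fin n) F) (ℕ × ℕ) :=
  K.kpcg n (slHom n F) (slHom_injective n F) l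

end FC

/-- A `p`-subgroup is conjugate into every subgroup of index prime to `p`. -/
theorem exists_conj_le {G : Type*} [Group G] [Finite G] {p : ℕ} (hp : p.Prime) (K X : Subgroup G)
    (h : ¬ p ∣ K.index) (hX : IsPGroup p X) : ∃ g : G, ∀ x ∈ X, g * x * g⁻¹ ∈ K := by
  have := Fact.mk hp
  obtain ⟨a, ha⟩ := hX.nonempty_fixed_point_of_prime_not_dvd_card (G ⧸ K) h
  induction a using QuotientGroup.induction_on with
  | H g =>
    refine ⟨g⁻¹, fun x hx => ?_⟩
    have h1 : ((x * g : G) : G ⧸ K) = g := ha ⟨x, hx⟩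
    have h2 := K.inv_mem (QuotientGroup.eq.mp h1)
    simpa [mul_assoc] using h2

theorem exists_conj_mem {G : Type*} [Group G] [Finite G] {p : ℕ} (hp : p.Prime) (K : Subgroup G)
    (h : ¬ p ∣ K.index) {x : G} {k : ℕ} (hx : x ^ p ^ k = 1) : ∃ g : G, g * x * g⁻¹ ∈ K := by
  have := Fact.mk hp
  obtain ⟨g, hg⟩ := exists_conj_le hp K (Subgroup.zpowers x) h (by
    obtain ⟨j, -, hj⟩ := (Nat.dvd_prime_pow hp).mp (orderOf_dvd_of_pow_eq_one hx)
    exact IsPGroup.of_card (n := j) (by rw [Nat.card_zpowers, hj]))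
  exact ⟨g, hg x (Subgroup.mem_zpowers x)⟩

theorem index_eq_of_card {G : Type*} [Group G] (K : Subgroup G) {a b : ℕ} (ha : 0 < a)
    (h1 : Nat.card K = a) (h2 : Nat.card G = b * a) : K.index = b :=
  Nat.eq_of_mul_eq_mul_right ha (by rw [← h2, ← h1, K.index_mul_card])

namespace CG

variable {G G₀ : Type*} [Group G] [Group G₀] {C : Type} {M : CG G C}

theorem VT.gen {p : C → Bool} (h : M.VT p) {L : List (Level C)} (hv : M.Valid (gensOf L)) :
    (M.sub (M.gen (gensOf L))).VT fun c => band (p c) (M.sift (M.transOf L) c) :=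
  h.sub fun _ _ hg hc => M.mem_of_sift hv hg hc

/-- The check for the exact order of the group given by a chain. -/
def ordCheck (N : CG G₀ C) (p : C → Bool) (L : List (Level C)) (n : ℕ) : Bool :=
  band (band (allL (gensOf L) p) (N.lbCheck L)) (band (N.ssCheck L) (Nat.beq (ssSize L) n))

theorem ordCheck_spec [Finite G] (hk : M.Keyed) (hu : M.Uniq) {p : C → Bool} (vt : M.VT p)
    {N : CG G₀ C} (hM : M.triv = N.triv) {L : List (Level C)} {n : ℕ}
    (h : N.ordCheck p L n = true) : M.Valid (gensOf L) ∧ M.ssCheck L = true ∧ M.lbCheck L = true ∧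
      Nat.card (M.gen (gensOf L)) = n := by
  simp only [ordCheck, band_eq, Bool.and_eq_true, Nat.beq_eq] at h
  rw [← lbCheck_eq hM, ← ssCheck_eq hM] at h
  exact ⟨vt.valid h.1.1, h.2.1, h.1.2, (hk.card_gen hu (vt.valid h.1.1) h.1.2 h.2.1).trans h.2.2⟩

theorem forall_gen' [Finite G] {L : List (Level C)} (hv : M.Valid (gensOf L))
    (h : M.ssCheck L = true) {N : CG G₀ C} (hM : M.triv = N.triv) (p : C → Bool)
    (hp : N.allProd (N.transOf L) p N.one = true) :
    ∀ g ∈ M.gen (gensOf L), ∃ c, M.Rep g c ∧ p c = true := fun g hg => by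
  rw [← allProd_eq hM, ← transOf_eq hM, ← one_eq hM] at hp
  simpa only [one_mul] using M.forall_gen M.fin_order hv h p M.rep_one hp g hg

/-- The code `c` is conjugate to `d` by an entry of `l`. -/
def conjTo (M : CG G C) (l : List C) (d c : C) : Bool := anyL l fun t => M.eqc (M.conj t c) d

theorem isConj_of_conjTo {l : List C} (hv : M.Valid l) {x y : G} {c d : C} (hx : M.Rep x c)
    (hy : M.Rep y d) (h : M.conjTo l d c = true) : IsConj x y := by
  obtain ⟨t, ht, h1⟩ := anyL_iff.mp h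
  obtain ⟨g, hg⟩ := hv t ht
  exact isConj_iff.mpr ⟨g, M.eq_of_eqc (M.rep_conj hg hx) hy h1⟩

end CG

end Cfsg.Agent.H4
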