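/-
Covering a group by cosets, double transitivity on cosets, counting conjugate subgroups.
-/
import Cfsg.Agent.H4.Proj

set_option autoImplicit false
set_option maxRecDepth 100000

open MulAction
open scoped Pointwise commutatorElement

namespace Cfsg.Agent.H4

theorem two_pretransitive_quotient {G : Type*} [Group G] (H : Subgroup G) (g₀ : G)
    (h : ∀ g, g ∈ H ∨ ∃ k ∈ H, (k * g₀)⁻¹ * g ∈ H) : IsMultiplyPretransitive G (G ⧸ H) 2 := by
  have key : ∀ a b : G ⧸ H, a ≠ b → ∃ g : G, g • a = ((1 : G) : G ⧸ H) ∧ g • b = (g₀ : G ⧸ H) := by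
    intro a b hab
    induction a using QuotientGroup.induction_on with
    | H a =>
    induction b using QuotientGroup.induction_on with
    | H b =>
    rcases h (a⁻¹ * b) with h1 | ⟨k, hk, h1⟩
    · exact absurd (QuotientGroup.eq.mpr h1) hab
    · refine ⟨k⁻¹ * a⁻¹, QuotientGroup.eq.mpr ?_, Eq.symm (QuotientGroup.eq.mpr ?_)⟩
      · simpa using hk
      · simpa [mul_assoc] using h1
  refine is_two_pretransitive_iff.mpr fun hab hcd => ?_
  obtain ⟨g, h1, h2⟩ := key _ _ hab
  obtain ⟨g', h3, h4⟩ := key _ _ hcd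
  exact ⟨g'⁻¹ * g, by rw [mul_smul, h1, ← h3, inv_smul_smul], by rw [mul_smul, h2, ← h4, inv_smul_smul]⟩

theorem mem_conj_smul {G : Type*} [Group G] (g x : G) (H : Subgroup G) :
    x ∈ MulAut.conj g • H ↔ g⁻¹ * x * g ∈ H := by
  rw [Subgroup.mem_pointwise_smul_iff_inv_smul_mem, ← map_inv, MulAut.smul_def, MulAut.conj_apply,
    inv_inv]

theorem conj_smul_of_mem {G : Type*} [Group G] {g : G} {H : Subgroup G} (h : g ∈ H) :
    MulAut.conj g • H = H := by
  ext x
  rw [mem_conj_smul, H.mul_mem_cancel_right h, H.mul_mem_cancel_left (H.inv_mem h)]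

theorem card_conj_smul' {G : Type*} [Group G] (g : G) (H : Subgroup G) :
    Nat.card (MulAut.conj g • H : Subgroup G) = Nat.card H :=
  (Nat.card_congr (H.equivSMul (MulAut.conj g)).toEquiv).symm

theorem ncard_conj_subgroup {G : Type*} [Group G] (H : Subgroup G) :
    {L | ∃ g : G, MulAut.conj g • H = L}.ncard = (Subgroup.normalizer (H : Set G)).index := by
  let := MulAction.compHom (Subgroup G) (MulAut.conj (G := G))
  have h1 : {L | ∃ g : G, MulAut.conj g • H = L} = orbit G H := rfl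
  have h2 : stabilizer G H = Subgroup.normalizer (H : Set G) := by
    ext g
    rw [← Subgroup.conjAct_pointwise_smul_iff]
    rfl
  rw [h1, ← index_stabilizer, h2]

theorem normalizer_eq_self_of_prime_index {G : Type*} [Group G] [IsSimpleGroup G] (H : Subgroup G)
    (hp : H.index.Prime) (hb : H ≠ ⊥) : Subgroup.normalizer (H : Set G) = H := by
  have h1 := Subgroup.relIndex_mul_index (H.le_normalizer)
  rcases (Nat.dvd_prime hp).mp (Dvd.intro_left _ h1) with h2 | h2
  · rw [Subgroup.index_eq_one, Subgroup.normalizer_eq_top_iff] at h2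
    rcases h2.eq_bot_or_eq_top with h3 | h3
    · exact absurd h3 hb
    · rw [h3, Subgroup.index_top] at hp
      exact absurd hp Nat.not_prime_one
  · rw [h2] at h1
    exact le_antisymm (Subgroup.relIndex_eq_one.mp
      (Nat.eq_of_mul_eq_mul_right hp.pos (h1.trans (one_mul _).symm))) H.le_normalizer

theorem commutator_mem_of_isComplement_center {G : Type*} [Group G] {K : Subgroup G}
    (h : (Subgroup.center G).IsComplement' K) (a b : G) : ⁅a, b⁆ ∈ K := by
  obtain ⟨⟨z, k⟩, rfl, -⟩ := h.existsUnique a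
  obtain ⟨⟨z', k'⟩, rfl, -⟩ := h.existsUnique b
  have h1 := Subgroup.mem_center_iff.mp z.2
  have h2 := Subgroup.mem_center_iff.mp z'.2
  have h3 : ∀ x y t : G, (∀ g, g * t = t * g) → ⁅t * x, y⁆ = ⁅x, y⁆ := fun x y t ht => by
    simp only [commutatorElement_def, mul_inv_rev]
    rw [mul_assoc t x y, ← mul_assoc _ x⁻¹, mul_assoc t, ← ht, mul_inv_cancel_right]
  have : ⁅(z : G) * k, (z' : G) * k'⁆ = ⁅(k : G), (k' : G)⁆ := by
    rw [h3 _ _ _ h1, ← commutatorElement_inv, h3 _ _ _ h2, commutatorElement_inv]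
  rw [this]
  exact K.mul_mem (K.mul_mem (K.mul_mem k.2 k'.2) (K.inv_mem k.2)) (K.inv_mem k'.2)

namespace CG

variable {G G₀ : Type*} [Group G] [Group G₀] {C : Type} {M : CG G C}

/-- The cosets of the entries of `U` modulo the group given by `L` are permuted by `gens`. -/
def coverCheck (N : CG G₀ C) (gens : List C) (L : List (Level C)) (U : List C) : Bool :=
  allL (N.one :: U) fun u => allL gens fun s => anyL (N.one :: U) fun u' =>
    N.sift (N.transOf L) (N.mul (N.inv u') (N.mul s u))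

theorem cover_of_check [Finite G] {N : CG G₀ C} (hM : M.triv = N.triv) {gens U : List C}
    {L : List (Level C)} (hL : M.Valid (gensOf L)) (hU : M.Valid U)
    (h : N.coverCheck gens L U = true) : ∀ g ∈ M.gen gens,
      g ∈ M.gen (gensOf L) ∨ ∃ c ∈ U, ∃ u, M.Rep u c ∧ u⁻¹ * g ∈ M.gen (gensOf L) := by
  rw [coverCheck, ← sift_eq hM, ← transOf_eq hM, ← mul_eq hM, ← inv_eq hM, ← one_eq hM] at h
  intro g hg
  obtain ⟨u, hu, h1⟩ := cover_closure {g | ∃ c ∈ gens, M.Rep g c} (M.gen (gensOf L))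
    {u | u = 1 ∨ ∃ c ∈ U, M.Rep u c} (fun s _ => isOfFinOrder_of_finite s) (Or.inl rfl) (by
      rintro u hu s ⟨c, hc, hs⟩
      obtain ⟨d, hd, h1⟩ : ∃ d ∈ M.one :: U, M.Rep u d := by
        rcases hu with rfl | ⟨d, hd, h1⟩
        · exact ⟨_, List.mem_cons_self, M.rep_one⟩
        · exact ⟨d, List.mem_cons_of_mem _ hd, h1⟩
      obtain ⟨e, he, h2⟩ := anyL_iff.mp (allL_iff.mp (allL_iff.mp h d hd) c hc)
      rcases List.mem_cons.mp he with rfl | he
      · exact ⟨1, Or.inl rfl, M.mem_of_sift hL (M.rep_mul (M.rep_inv M.rep_one) (M.rep_mul hs h1)) h2⟩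
      · obtain ⟨u', hu'⟩ := hU e he
        exact ⟨u', Or.inr ⟨e, he, hu'⟩,
          M.mem_of_sift hL (M.rep_mul (M.rep_inv hu') (M.rep_mul hs h1)) h2⟩) g hg
  rcases hu with rfl | ⟨c, hc, h2⟩
  · exact Or.inl (by simpa using h1)
  · exact Or.inr ⟨c, hc, u, h2, h1⟩

/-- Every entry of `l'` is among the results of the program `prog` run on `l`. -/
def slpCheck (N : CG G₀ C) (l : List C) (prog : List (ℕ × ℕ)) (l' : List C) : Bool :=
  allL l' fun c => anyL (N.slp prog l) (N.eqc c)

theorem gen_le_of_slp {N : CG G₀ C} (hM : M.triv = N.triv) {K : Subgroup G} {l l' : List C}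
    (hl : M.In K l) {prog : List (ℕ × ℕ)} (h : N.slpCheck l prog l' = true) : M.gen l' ≤ K := by
  rw [gen, Subgroup.closure_le]
  rintro g ⟨c, hc, hg⟩
  obtain ⟨d, hd, h1⟩ := anyL_iff.mp (allL_iff.mp h c hc)
  rw [← slp_eq hM] at hd
  obtain ⟨k, hk, h2⟩ := hl.slp M prog d hd
  rw [show N.eqc = M.eqc from (congrArg CG.eqc hM).symm] at h1
  rwa [M.eq_of_eqc hg h2 h1]

theorem Complete.ord_eq (hc : M.Complete) {N : CG G₀ C} (hM : M.triv = N.triv) {g : G} {c : C}
    (hg : M.Rep g c) {fuel n : ℕ} (hn : n ≠ 0) (h : Nat.beq (N.ord fuel c) n = true) :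
    orderOf g = n := by
  rw [show N.ord = M.ord from (congrArg CG.ord hM).symm, Nat.beq_eq] at h
  rw [hc.ord_spec hg (h ▸ hn), h]

theorem Complete.not_mem_center (hc : M.Complete) {g x : G} {c d : C} (hg : M.Rep g c)
    (hx : M.Rep x d) (h : M.comm d c = false) : g ∉ Subgroup.center G := fun h1 => by
  have := hc _ _ _ _ (M.rep_mul hg hx) (M.rep_inv (M.rep_mul hx hg))
    (by rw [Subgroup.mem_center_iff.mp h1, mul_inv_cancel])
  exact Bool.false_ne_true (h.symm.trans this)

end CG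

end Cfsg.Agent.H4
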