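import Cfsg.Agent.H4.DCZ

/-! Core arguments, exact double coset sizes, permutation representations. -/

set_option autoImplicit false

namespace Cfsg.Agent.H4

open Subgroup Cfsg.Agent.H5 Cfsg.Agent.H5.Mdl

section pure

variable {G : Type*} [Group G] {X : Type*} [MulAction G X]

theorem fix_of_reach {G' N : Subgroup G} (hN : Nm G' N) {Y : ℕ → X} {n r : ℕ}
    (hR : Reach G' Y n [r]) (h : N ≤ MulAction.stabilizer G (Y r)) :
    ∀ g ∈ N, ∀ j < n, g • Y j = Y j := fun g hg j hj =>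
  hN.le_stab h (hR.sub (fun r' hr => ⟨1, one_mem _, by
    rw [List.mem_singleton.1 hr, one_smul]⟩) ⟨j, hj, rfl⟩) hg

theorem map_id_le (H : Subgroup G) : H.map (MonoidHom.id G) ≤ H := (Subgroup.map_id H).le

theorem le_map_id (H : Subgroup G) : H ≤ H.map (MonoidHom.id G) := (Subgroup.map_id H).ge

theorem card_map_id (H : Subgroup G) : Nat.card (H.map (MonoidHom.id G)) = Nat.card H := by
  rw [Subgroup.map_id]

theorem perm_rep_rel [Finite G] {G' K : Subgroup G} (hK : K ≤ G') (hs : IsSimpleGroup G') {n : ℕ}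
    (hn : 0 < n) (h : Nat.card G' = (n + 1) * Nat.card K) :
    ∃ H : Subgroup (Equiv.Perm (Fin (n + 1))), Nonempty (G' ≃* H) ∧
      MulAction.IsPretransitive H (Fin (n + 1)) ∧
        Nonempty (K ≃* MulAction.stabilizer H (0 : Fin (n + 1))) := by
  have hi := index_subgroupOf hK h
  obtain ⟨H, e, h1, h2⟩ := exists_perm_rep (K.subgroupOf G') n hi
    (fun e => by rw [e, index_top] at hi; omega)
  refine ⟨H, ⟨e⟩, h1, ⟨(subgroupOfEquivOfLe hK).symm.trans ?_⟩⟩
  rw [h2]
  exact (K.subgroupOf G').equivMapOfInjective _ e.injective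

theorem perm_rep' [Finite G] {G' K : Subgroup G} (hK : K ≤ G') (hs : IsSimpleGroup G') (n : ℕ)
    [NeZero n] (hn : 1 < n) (h : Nat.card G' = n * Nat.card K) :
    ∃ H : Subgroup (Equiv.Perm (Fin n)), Nonempty (G' ≃* H) ∧
      MulAction.IsPretransitive H (Fin n) ∧ Nonempty (K ≃* MulAction.stabilizer H (0 : Fin n)) := by
  obtain ⟨k, rfl⟩ : ∃ k, n = k + 1 := ⟨n - 1, by omega⟩
  exact perm_rep_rel hK hs (by omega) h

theorem exists_sub_of_equiv [Finite G] {K N : Subgroup G} (hN : N ≤ K) {S : Type*} [Group S]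
    (e : K ≃* S) {n : ℕ} (h : Nat.card K = n * Nat.card N) :
    ∃ N' : Subgroup S, N'.index = n ∧ Nonempty (N ≃* N') :=
  ⟨(N.subgroupOf K).map e.toMonoidHom, by
    rw [index_map_of_bijective e.bijective, index_subgroupOf hN h],
    ⟨(subgroupOfEquivOfLe hN).symm.trans ((N.subgroupOf K).equivMapOfInjective _ e.injective)⟩⟩

theorem simple_card_of_equiv {A B : Type*} [Group A] [Group B] (e : A ≃* B) {n : ℕ}
    (h : IsSimpleGroup A ∧ Nat.card A = n) : IsSimpleGroup B ∧ Nat.card B = n :=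
  ⟨by have := h.1; exact e.symm.isSimpleGroup, (Nat.card_congr e.toEquiv).symm.trans h.2⟩

end pure

section vec

variable {F : Type*} [CommRing F] {n : ℕ} {G : Type*} [Group G]

theorem eq_one_of_fix_cols {g A B : Matrix (Fin n) (Fin n) F} (hAB : A * B = 1)
    (h : ∀ j, g.mulVec (fun i => A i j) = fun i => A i j) : g = 1 := by
  have : g * A = A := by
    funext i j
    exact congrFun (h j) i
  rw [← mul_one g, ← hAB, ← mul_assoc, this]

/-- the listed vectors are the columns of `A` -/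
noncomputable def chkV (row : ℕ → ℕ → ℕ) (ch : ℕ → ℕ) (n A j : ℕ) : ℕ :=
  Nat.xor (pt row ch j) (brow n A j)

theorem fix_basis2 [CharP F 2] (ψ : G →* Matrix (Fin n) (Fin n) F) {ch : ℕ → ℕ} {A B : ℕ}
    (hAB : mul2 n A B = one2 n) (hA : ∀ j < n, chkV (brow n) ch n A j = 0) {g : G}
    (hg : ∀ j < n, g • (⟨vec2 F n (pt (brow n) ch j)⟩ : Vc ψ) = ⟨vec2 F n (pt (brow n) ch j)⟩) :
    ψ g = 1 := by
  refine eq_one_of_fix_cols (A := ev2 F n A) (B := ev2 F n B)
    (by rw [← ev2_mul, hAB, ev2_one]) fun j => ?_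
  have h1 := congrArg Vc.v (hg j j.2)
  have h2 : vec2 F n (pt (brow n) ch j) = fun i => ev2 F n A i j := by
    rw [xor_eq_zero' (hA j j.2)]
    funext i
    exact bit_brow A j i.2
  rwa [Vc.smul_v, h2] at h1

theorem core_vec2 [CharP F 2] (ψ : G →* Matrix (Fin n) (Fin n) F) (inj : Function.Injective ψ)
    {ch : ℕ → ℕ} {A B r : ℕ} (hAB : mul2 n A B = one2 n) (hA : ∀ j < n, chkV (brow n) ch n A j = 0)
    {G' K : Subgroup G}
    (hR : Reach G' (fun i => (⟨vec2 F n (pt (brow n) ch i)⟩ : Vc ψ)) n [r])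
    (hK : K ≤ MulAction.stabilizer G (⟨vec2 F n (pt (brow n) ch r)⟩ : Vc ψ)) :
    ∀ N : Subgroup G, Nm G' N → N ≤ K → N ≤ ⊥ := fun _ hN h g hg =>
  inj ((fix_basis2 ψ hAB hA (fix_of_reach hN hR (h.trans hK) g hg)).trans (map_one ψ).symm)

end vec

section dc

variable {G1 G : Type*} [Group G1] [Group G] {f : G1 →* G}

/-- once the order of the group is known, the bounds for the double cosets are sharp -/
theorem dc_eq [Finite G1] [Finite G] {H : Subgroup G1} {G' : Subgroup G} {d : ℕ → G} {n : ℕ}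
    (h : ∀ g ∈ G', ∃ i < n, DCos (H.map f) (d i) g) {A : ℕ} (hA : Nat.card H ≤ A) (B C : ℕ → ℕ)
    (hB : ∀ i < n, B i ≤ Nat.card (Lf f H (d i))) (e : ∀ i < n, A = B i * C i)
    (hG : Nat.card (H.map f) * ∑ i ∈ Finset.range n, C i ≤ Nat.card G') :
    ∀ i < n, Nat.card (Lf f H (d i)) ≤ B i := by
  intro i hi
  have h1 := hG.trans (dc_card h)
  rw [← Finset.mul_sum] at h1
  have h2 := Nat.le_of_mul_le_mul_left h1 Nat.card_pos
  have h3 : ∀ j ∈ Finset.range n, (Lc (H.map f) (d j)).relIndex (H.map f) ≤ C j := fun j hj => by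
    rw [relIndex_Lf]
    exact relIndex_le inf_le_left hA (hB j (Finset.mem_range.1 hj)) (e j (Finset.mem_range.1 hj))
  have h4 := (Finset.sum_eq_sum_iff_of_le h3).1 (le_antisymm (Finset.sum_le_sum h3) h2) i
    (Finset.mem_range.2 hi)
  rw [relIndex_Lf] at h4
  have h5 := relIndex_mul_card (H := H) (L := Lf f H (d i)) inf_le_left
  rw [h4] at h5
  have h6 : 0 < C i := Nat.pos_of_ne_zero fun h0 => by
    rw [h0, mul_zero] at h5; exact absurd h5.symm Nat.card_pos.ne'
  exact Nat.le_of_mul_le_mul_right (h5.le.trans (hA.trans (e i hi).le)) h6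

end dc

end Cfsg.Agent.H4
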