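import Cfsg.Agent.H4.BM

/-! Extensions of the certificate engine: cheaper Schreier checks, element pools, product models,
double cosets through a homomorphism. -/

set_option autoImplicit false

namespace Cfsg.Agent.H4

open Subgroup Cfsg.Agent.H5 Cfsg.Agent.H5.Mdl

/-- entry `i` of a table whose entries are stored in `k` pieces of `w` bits -/
noncomputable def catT (t : Tr) (k w i : ℕ) : ℕ :=
  force (Nat.mul i k) fun b => Nat.rec (motive := fun _ => ℕ) 0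
    (fun u ih => Nat.lor ih (Nat.shiftLeft (force (Nat.add b u) t.get) (Nat.mul w u))) k

attribute [irreducible] catT

/-- an element of a chain -/
noncomputable def cel1 (mul : ℕ → ℕ → ℕ) (T : ℕ → ℕ) (b : ℕ) (e : ℕ → ℕ) (m : ℕ) : ℕ :=
  force (Nat.land m (msk b)) fun i => force (Nat.shiftRight m b) fun m' =>
    ifz m' (T i) (ifz i (e m') (mul (T i) (e m')))

/-- an element of a double coset -/
noncomputable def del1 (mul : ℕ → ℕ → ℕ) (D : ℕ → ℕ) (b W : ℕ) (e : ℕ → ℕ) (m : ℕ) : ℕ :=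
  force (Nat.land m (msk b)) fun i =>
    force (Nat.land (Nat.shiftRight m b) (msk W)) fun m1 =>
    force (Nat.shiftRight m (Nat.add b W)) fun m2 =>
      ifz i (e m1) (ifz m2 (ifz m1 (D i) (mul (e m1) (D i)))
        (ifz m1 (mul (D i) (e m2)) (mul (e m1) (mul (D i) (e m2)))))

/-- a word without the final multiplication by one -/
noncomputable def wd1 (mul : ℕ → ℕ → ℕ) (gl : ℕ → ℕ) (x : ℕ) (w : List ℕ) : ℕ :=
  List.rec (motive := fun _ => ℕ) x (fun a _ ih => mul (gl a) ih) w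

/-- The Schreier check: `ct (i * ng + s) = (j, m)` with `gl s * T i = T j * e m`. -/
noncomputable def chkS2 (mul : ℕ → ℕ → ℕ) (gl : ℕ → ℕ) (ng : ℕ) (T e ct : ℕ → ℕ) (jb n i : ℕ) : ℕ :=
  force i fun i => Nat.add
    (sumTo (fun s => force (ct (Nat.add (Nat.mul i ng) s)) fun x =>
      force (Nat.land x (msk jb)) fun j => force (Nat.shiftRight x jb) fun mm =>
        Nat.add (Nat.xor (mul (gl s) (T i)) (ifz mm (T j) (mul (T j) (e mm)))) (lt0 j n)) ng)
    (ifz i 0 (mulTo (fun s => lt0 (ct (Nat.add (Nat.mul i ng) s)) i) ng))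

/-- `w * T i = T j * gK u` for the entry `i :: j :: w` -/
noncomputable def chkG (mul : ℕ → ℕ → ℕ) (gl T gK : ℕ → ℕ) (ws : List (List ℕ)) (u : ℕ) : ℕ :=
  force (getN (getW ws u) 0) fun i => force (getN (getW ws u) 1) fun j =>
    Nat.xor (wd1 mul gl (T i) (getW ws u).tail.tail) (mul (T j) (gK u))

/-- pool entry `u` is a word in earlier entries -/
noncomputable def chkPl (mul : ℕ → ℕ → ℕ) (P : ℕ → ℕ) (ws : List (List ℕ)) (a v : ℕ) : ℕ :=
  force (Nat.add a v) fun u => force (getN (getW ws v) 0) fun x =>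
    Nat.add (Nat.xor (wd1 mul P (P x) (getW ws v).tail) (P u))
      (Nat.add (lt0 x u) (sumL' (getW ws v).tail fun y => lt0 y u))

noncomputable def shf (P : ℕ → ℕ) (a s : ℕ) : ℕ := force (Nat.add a s) P

/-- pool entry `a + v` fixes point `r` -/
noncomputable def chkFx (img : ℕ → ℕ → ℕ → ℕ → ℕ) (row : ℕ → ℕ → ℕ) (ch : ℕ → ℕ) (r : ℕ)
    (cs : List ℕ) (a v : ℕ) : ℕ :=
  force (Nat.shiftRight r (nat_lit 6)) fun q => force (getN cs v) fun c => force (Nat.add a v) fun u =>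
    Nat.xor (img (ch q) u c (Nat.land r (nat_lit 63))) (pt row ch r)

section mdl

variable {G M : Type*} [Group G] [Monoid M] {m : Mdl G M}

theorem el_cel1 {H : Subgroup G} {T e : ℕ → ℕ} (hT : m.El H T) (he : m.El H e) (b : ℕ) :
    m.El H (cel1 m.mul T b e) := fun x => by
  simp only [cel1, force_eq, ifz_eq]
  split_ifs
  exacts [hT _, he _, (hT _).mul (he _)]

theorem el_del1 {H : Subgroup G} {D e : ℕ → ℕ} (hD : m.El H D) (he : m.El H e) (b W : ℕ) :
    m.El H (del1 m.mul D b W e) := fun x => by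
  simp only [del1, force_eq, ifz_eq]
  split_ifs
  exacts [he _, hD _, (he _).mul (hD _), (hD _).mul (he _), (he _).mul ((hD _).mul (he _))]

theorem in_wd1 {H : Subgroup G} {gl : ℕ → ℕ} {x : ℕ} (hx : m.In H x) {w : List ℕ}
    (h : ∀ a ∈ w, m.In H (gl a)) : m.In H (wd1 m.mul gl x w) := by
  induction w with
  | nil => exact hx
  | cons a l ih =>
    exact (h a List.mem_cons_self).mul (ih fun b hb => h b (List.mem_cons_of_mem _ hb))

theorem st_of_chkS2 {gl T e ct : ℕ → ℕ} {ng jb n i s : ℕ}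
    (h : chkS2 m.mul gl ng T e ct jb n i = 0) (hs : s < ng) :
    Nat.land (ct (i * ng + s)) (msk jb) < n ∧ m.mul (gl s) (T i) =
      ifz (Nat.shiftRight (ct (i * ng + s)) jb) (T (Nat.land (ct (i * ng + s)) (msk jb)))
        (m.mul (T (Nat.land (ct (i * ng + s)) (msk jb))) (e (Nat.shiftRight (ct (i * ng + s)) jb))) := by
  obtain ⟨h2, h3⟩ := add_eq_zero' (sumTo_zero (add_eq_zero' h).1 s hs)
  exact ⟨lt_of_lt0 h3, xor_eq_zero' h2⟩

/-- the transversal lies in the group -/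
theorem inT_of_chkS2 {gl T e ct : ℕ → ℕ} {ng jb n : ℕ} {H : Subgroup G} (h0 : T 0 = m.one)
    (hn : n ≤ 2 ^ jb) (hg : ∀ s < ng, m.In H (gl s))
    (h : ∀ i < n, chkS2 m.mul gl ng T e ct jb n i = 0) : ∀ i < n, m.In H (T i) := by
  refine in_of_desc (K := ⊥) bot_le fun i hi => ?_
  have h2 := (add_eq_zero' (h i hi)).2
  rw [ifz_eq] at h2
  split_ifs at h2 with h3
  · left; rw [h3, h0]; exact in_one _
  · obtain ⟨s, hs, e1⟩ := mulTo_zero h2
    have e2 : ct (i * ng + s) < i := lt_of_lt0 e1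
    have e3 := (st_of_chkS2 (h i hi) hs).2
    have e4 : Nat.shiftRight (ct (i * ng + s)) jb = 0 := by
      change _ >>> jb = 0
      rw [Nat.shiftRight_eq_div_pow]; exact Nat.div_eq_of_lt (by omega)
    rw [e4] at e3
    exact Or.inr ⟨gl s, hg s hs, _, lt_of_le_of_lt Nat.and_le_left e2, step_of_eq' e3⟩

theorem cover_of_chkS2 [Finite G] {gl T e ct : ℕ → ℕ} {ng jb n : ℕ} {K : Subgroup G}
    (he : m.El K e) (hn : 0 < n) (h0 : T 0 = m.one)
    (h : ∀ i < n, chkS2 m.mul gl ng T e ct jb n i = 0) :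
    ∀ g ∈ m.gn gl ng, ∃ i < n, m.Cos K T g i := by
  have h0' : m.ev (T 0) = 1 := by rw [h0, m.ev_one]
  refine closure_ind_fin (fun g _ => isOfFinOrder_of_finite g)
    ⟨0, hn, 1, K.one_mem, by simp [h0']⟩ ?_
  rintro s' ⟨s, hs, e1⟩ g ⟨i, hi, hc⟩
  obtain ⟨a1, a2⟩ := st_of_chkS2 (h i hi) hs
  refine ⟨_, a1, hc.step e1 ?_⟩
  rw [ifz_eq] at a2
  split_ifs at a2
  exacts [step_of_eq' a2, step_of_eq (he _) a2]

theorem ub_of_chkS2 [Finite G] {gl T e ct : ℕ → ℕ} {ng jb n B : ℕ} {K : Subgroup G}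
    (he : m.El K e) (hn : 0 < n) (h0 : T 0 = m.one)
    (h : ∀ i < n, chkS2 m.mul gl ng T e ct jb n i = 0) (hB : Nat.card K ≤ B) :
    Nat.card (m.gn gl ng) ≤ n * B :=
  upper (card_le_of_cover (cover_of_chkS2 he hn h0 h)).2 hB

theorem in_of_chkG {H : Subgroup G} {gl T gK : ℕ → ℕ} {ws : List (List ℕ)} {n : ℕ}
    (hg : m.El H gl) (hT : m.El H T) (h : ∀ u < n, chkG m.mul gl T gK ws u = 0) :
    ∀ u < n, m.In H (gK u) := fun u hu =>
  (hT _).of_mul_eq (in_wd1 (hT _) fun _ _ => hg _) (xor_eq_zero' (h u hu)).symm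

theorem in_pool {H : Subgroup G} {P : ℕ → ℕ} {ws : List (List ℕ)} {a k : ℕ}
    (h0 : ∀ u < a, m.In H (P u)) (h : ∀ v < k, chkPl m.mul P ws a v = 0) :
    ∀ u < a + k, m.In H (P u) := by
  intro u
  induction u using Nat.strong_induction_on with
  | _ u ih =>
    intro hu
    by_cases ha : u < a
    · exact h0 u ha
    · obtain ⟨v, rfl⟩ : ∃ v, u = a + v := ⟨u - a, by omega⟩
      obtain ⟨h1, h2⟩ := add_eq_zero' (h v (by omega))
      obtain ⟨h3, h4⟩ := add_eq_zero' h2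
      have l3 := lt_of_lt0 h3
      refine (in_wd1 (ih _ l3 (lt_trans l3 hu)) fun y hy => ?_).of_eq h1
      have l4 := lt_of_lt0 (sumL'_zero h4 y hy)
      exact ih _ l4 (lt_trans l4 hu)

/-- all pool entries from `a` on lie in `K` -/
def Suf (m : Mdl G M) (K : Subgroup G) (P : ℕ → ℕ) (a : ℕ) : Prop := ∀ u, a ≤ u → m.In K (P u)

theorem suf0 {K : Subgroup G} {P : ℕ → ℕ} (h : m.El K P) : Suf m K P 0 := fun u _ => h u

theorem Suf.el {K : Subgroup G} {P : ℕ → ℕ} {a : ℕ} (h : Suf m K P a) : m.El K (shf P a) :=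
  fun s => h (a + s) (Nat.le_add_right _ _)

variable {X : Type*} [MulAction G X]

theorem Suf.step {pv : ℕ → X} {img : ℕ → ℕ → ℕ → ℕ → ℕ} {row : ℕ → ℕ → ℕ} {ch P0 : ℕ → ℕ}
    {K : Subgroup G} {a a' k N r : ℕ} {cs : List ℕ} (h : Suf m K (pad m.one N P0) a) (ha : a ≤ a')
    (hN : N ≤ a' + k) (acts : m.Acts pv img row (pad m.one N P0))
    (hc : ∀ v < k, chkFx img row ch r cs a' v = 0) :
    Suf m (K ⊓ MulAction.stabilizer G (pv (pt row ch r))) (pad m.one N P0) a' := by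
  intro u hu
  by_cases hlt : u < N
  · obtain ⟨v, rfl⟩ : ∃ v, u = a' + v := ⟨u - a', by omega⟩
    obtain ⟨g, hg, e⟩ := h (a' + v) (by omega)
    refine ⟨g, ⟨hg, ?_⟩, e⟩
    have h1 : img _ (a' + v) _ _ = pt row ch r := xor_eq_zero' (hc v (by omega))
    change g • _ = _
    conv_rhs => rw [← h1, acts _ g e _ _ _ (land63 r)]
    rfl
  · rw [pad_eq, if_neg hlt]; exact in_one _

/-- upper bound for the stabiliser from a lower bound for the orbit -/
theorem stab_le [Finite G] {H : Subgroup G} {Y : ℕ → X} {n r U : ℕ} (hY : Dist Y n)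
    (h : Reach H Y n [r]) (hn : 0 < n) (hU : Nat.card H ≤ n * U) :
    Nat.card (H ⊓ MulAction.stabilizer G (Y r) : Subgroup G) ≤ U :=
  Nat.le_of_mul_le_mul_left ((card_ge hY h le_rfl).trans hU) hn

theorem two_le_card [Finite G] {K : Subgroup G} {g : G} (hg : g ∈ K) (h1 : g ≠ 1) :
    2 ≤ Nat.card K := by
  have : Nontrivial K := ⟨⟨⟨g, hg⟩, 1, fun h => h1 (congrArg Subtype.val h)⟩⟩
  exact Finite.one_lt_card

theorem prime_dvd_card {K : Subgroup G} {g : G} (hg : g ∈ K) (h1 : g ≠ 1) {p : ℕ} (hp : p.Prime)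
    (h : g ^ p = 1) : p ∣ Nat.card K := by
  have := Fact.mk hp
  rw [← orderOf_eq_prime h h1]
  exact orderOf_dvd_natCard _ hg

/-- `key` separates codes of different elements -/
def Key (m : Mdl G M) (key : ℕ → ℕ) : Prop := ∀ a b, m.ev a = m.ev b → key a = key b

/-- zero iff the keys differ -/
def chkN (key : ℕ → ℕ) (a b : ℕ) : ℕ := lt0 0 (Nat.xor (key a) (key b))

theorem Key.ne {key : ℕ → ℕ} (hk : Key m key) {a b : ℕ} (h : chkN key a b = 0) {g g' : G}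
    (e : m.φ g = m.ev a) (e' : m.φ g' = m.ev b) : g ≠ g' := by
  rintro rfl
  have h1 := lt_of_lt0 h
  rw [hk a b (e.symm.trans e')] at h1
  exact absurd h1 (by simp)

theorem Key.ne_one {key : ℕ → ℕ} (hk : Key m key) {a : ℕ} (h : chkN key a m.one = 0) {g : G}
    (e : m.φ g = m.ev a) : g ≠ 1 := hk.ne h e (by rw [map_one, m.ev_one])

/-- an element of prime order -/
noncomputable def chkQ (mul : ℕ → ℕ → ℕ) (one : ℕ) (key : ℕ → ℕ) (a p : ℕ) : ℕ :=
  Nat.add (Nat.xor (pw mul one a p) one) (chkN key a one)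

theorem dvd_of_chkQ {key : ℕ → ℕ} (hk : Key m key) {K : Subgroup G} {a p : ℕ} (ha : m.In K a)
    (hp : p.Prime) (h : chkQ m.mul m.one key a p = 0) : p ∣ Nat.card K := by
  obtain ⟨g, hg, e⟩ := ha
  obtain ⟨h1, h2⟩ := add_eq_zero' h
  exact prime_dvd_card hg (hk.ne_one h2 e) hp (pow_eq_one_of_powC e (xor_eq_zero' h1))

end mdl

theorem key2 (F : Type*) [CommRing F] [CharP F 2] [Nontrivial F] (n : ℕ) {G : Type*} [Group G]
    (φ : G →* Matrix (Fin n) (Fin n) F) (inj : Function.Injective φ) :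
    Key (md2 F n φ inj) fun a => Nat.land a (msk (Nat.mul n n)) := by
  intro a b h
  apply Nat.eq_of_testBit_eq
  intro t
  change (a &&& msk (n * n)).testBit t = (b &&& msk (n * n)).testBit t
  rw [Nat.testBit_and, Nat.testBit_and, testBit_msk]
  by_cases ht : t < n * n
  · have hn : 0 < n := Nat.pos_of_ne_zero (by rintro rfl; simp at ht)
    have := bit_inj (congrFun (congrFun h ⟨t % n, Nat.mod_lt _ hn⟩)
      ⟨t / n, Nat.div_lt_of_lt_mul ht⟩)
    simp only [Nat.div_add_mod] at this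
    rw [this]
  · simp [ht]

theorem key3 (F : Type*) [CommRing F] [CharP F 3] (n : ℕ) {G : Type*} [Group G]
    (φ : G →* Matrix (Fin n) (Fin n) F) (inj : Function.Injective φ) :
    Key (md3 F n φ inj) (pl1 (Nat.mul n n)) := by
  intro a b h
  have hl : ∀ x, pl1 (n * n) x < 2 ^ (n * n) := fun x =>
    lt_of_le_of_lt Nat.and_le_right (Nat.sub_lt (Nat.two_pow_pos _) one_pos)
  refine eq_of_testBit_lt (hl a) (hl b) fun t ht => ?_
  have hn : 0 < n := Nat.pos_of_ne_zero (by rintro rfl; simp at ht)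
  have h1 : ent3 F (n * n) a (n * (t / n) + t % n) = ent3 F (n * n) b (n * (t / n) + t % n) :=
    congrFun (congrFun h ⟨t % n, Nat.mod_lt _ hn⟩) ⟨t / n, Nat.div_lt_of_lt_mul ht⟩
  rw [Nat.div_add_mod, ent3, ent3, ← d3_san, ← d3_san (b.testBit t)] at h1
  change (pl1 (n * n) a).testBit t = (pl1 (n * n) b).testBit t
  rw [testBit_pl1 _ ht, testBit_pl1 _ ht]
  exact (d3_inj (by cases a.testBit t <;> cases a.testBit (n * n + t) <;> rfl)
    (by cases b.testBit t <;> cases b.testBit (n * n + t) <;> rfl) h1).1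

/-! ### product models -/

def hi (k a : ℕ) : ℕ := Nat.shiftRight a k
def lo (k a : ℕ) : ℕ := Nat.land a (msk k)

noncomputable def pmul (mul1 mul2 : ℕ → ℕ → ℕ) (k a b : ℕ) : ℕ :=
  force a fun a => force b fun b => join k (mul2 (lo k a) (lo k b)) (mul1 (hi k a) (hi k b))

theorem hi_join (k p x : ℕ) : hi k (join k p x) = x := by
  apply Nat.eq_of_testBit_eq
  intro t
  change (join k p x >>> k).testBit t = _
  rw [Nat.testBit_shiftRight, testBit_join_hi]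

theorem lo_join {k p : ℕ} (x : ℕ) (hp : p < 2 ^ k) : lo k (join k p x) = p := by
  refine eq_of_testBit_lt
    (lt_of_le_of_lt Nat.and_le_right (Nat.sub_lt (Nat.two_pow_pos _) one_pos)) hp fun t ht => ?_
  change (join k p x &&& msk k).testBit t = _
  rw [Nat.testBit_and, testBit_join_lo _ _ ht, testBit_msk]; simp [ht]

section pair

variable {G1 M1 G2 M2 : Type*} [Group G1] [Monoid M1] [Group G2] [Monoid M2]

/-- the product of two models -/
noncomputable def pair (m1 : Mdl G1 M1) (m2 : Mdl G2 M2) (k : ℕ)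
    (h : (∀ a b, m2.mul a b < 2 ^ k) ∧ m2.one < 2 ^ k) : Mdl (G1 × G2) (M1 × M2) where
  φ := m1.φ.prodMap m2.φ
  inj := m1.inj.prodMap m2.inj
  ev a := (m1.ev (hi k a), m2.ev (lo k a))
  mul := pmul m1.mul m2.mul k
  ev_mul a b := by
    simp only [pmul, force_eq, hi_join, lo_join _ (h.1 _ _), m1.ev_mul, m2.ev_mul, Prod.mk_mul_mk]
  one := join k m2.one m1.one
  ev_one := by simp only [hi_join, lo_join _ h.2, m1.ev_one, m2.ev_one]; rfl

/-- `pr` describes the homomorphism `f` on codes -/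
def Pr (m1 : Mdl G1 M1) (m2 : Mdl G2 M2) (f : G1 →* G2) (pr : ℕ → ℕ) : Prop :=
  ∀ g a, m1.φ g = m1.ev a → m2.φ (f g) = m2.ev (pr a)

theorem pr_id (m : Mdl G1 M1) : Pr m m (MonoidHom.id _) fun a => a := fun _ _ h => h

theorem pr_fst (m1 : Mdl G1 M1) (m2 : Mdl G2 M2) (k : ℕ) (h) :
    Pr (pair m1 m2 k h) m1 (MonoidHom.fst _ _) (hi k) := fun _ _ e => congrArg Prod.fst e

theorem pr_snd (m1 : Mdl G1 M1) (m2 : Mdl G2 M2) (k : ℕ) (h) :
    Pr (pair m1 m2 k h) m2 (MonoidHom.snd _ _) (lo k) := fun _ _ e => congrArg Prod.snd e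

theorem in_pair {m1 : Mdl G1 M1} {m2 : Mdl G2 M2} {k : ℕ} {h} {a : ℕ} (h1 : m1.In ⊤ (hi k a))
    (h2 : m2.In ⊤ (lo k a)) : (pair m1 m2 k h).In ⊤ a :=
  let ⟨g, _, e⟩ := h1; let ⟨g', _, e'⟩ := h2; ⟨(g, g'), mem_top _, Prod.ext e e'⟩

variable {m1 : Mdl G1 M1} {m2 : Mdl G2 M2} {f : G1 →* G2} {pr : ℕ → ℕ}

theorem Pr.in (h : Pr m1 m2 f pr) {H : Subgroup G1} {a : ℕ} (ha : m1.In H a) :
    m2.In (H.map f) (pr a) := let ⟨g, hg, e⟩ := ha; ⟨f g, ⟨g, hg, rfl⟩, h g a e⟩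

theorem Pr.el (h : Pr m1 m2 f pr) {H : Subgroup G1} {e : ℕ → ℕ} (he : m1.El H e) :
    m2.El (H.map f) fun x => pr (e x) := fun x => h.in (he x)

theorem Pr.map_gn (h : Pr m1 m2 f pr) {gl : ℕ → ℕ} {ng : ℕ} (hg : ∀ s < ng, m1.In ⊤ (gl s)) :
    (m1.gn gl ng).map f = m2.gn (fun s => pr (gl s)) ng := by
  rw [gn, gn, MonoidHom.map_closure]
  congr 1
  ext x
  constructor
  · rintro ⟨g, ⟨s, hs, e⟩, rfl⟩; exact ⟨s, hs, h g _ e⟩
  · rintro ⟨s, hs, e⟩
    obtain ⟨g, -, eg⟩ := hg s hs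
    exact ⟨g, ⟨s, hs, eg⟩, m2.inj ((h g _ eg).trans e.symm)⟩

theorem Pr.in_comap (h : Pr m1 m2 f pr) {H : Subgroup G1} {K : Subgroup G2} {a : ℕ}
    (ha : m1.In H a) (hb : m2.In K (pr a)) : m1.In (H ⊓ K.comap f) a :=
  let ⟨g, hg, e⟩ := ha; ⟨g, ⟨hg, hb.mem (h g a e)⟩, e⟩

end pair

/-! ### actions through a homomorphism on codes -/

section acts

variable {G M F : Type*} [Group G] [Monoid M] [CommRing F] {n : ℕ} {m : Mdl G M}

theorem acts2 [CharP F 2] (ψ : G →* Matrix (Fin n) (Fin n) F) {pr : ℕ → ℕ}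
    (h : ∀ g a, m.φ g = m.ev a → ψ g = ev2 F n (pr a)) (gl : ℕ → ℕ) :
    m.Acts (fun x => (⟨vec2 F n x⟩ : Vc ψ)) (img2 n fun s => pr (gl s)) (brow n) gl :=
  fun _ g e => img2_ok ψ (h g _ e)

theorem acts3 [CharP F 3] (ψ : G →* Matrix (Fin n) (Fin n) F) {pr : ℕ → ℕ}
    (h : ∀ g a, m.φ g = m.ev a → ψ g = ev3 F n (pr a)) (gl : ℕ → ℕ) :
    m.Acts (fun x => (⟨vec3 F n x⟩ : Vc ψ)) (img3 n fun s => pr (gl s)) (row3 n) gl :=
  fun _ g e => img3_ok ψ (h g _ e)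

theorem acts3L [CharP F 3] (ψ : G →* Matrix (Fin n) (Fin n) F) {pr : ℕ → ℕ}
    (h : ∀ g a, m.φ g = m.ev a → ψ g = ev3 F n (pr a)) (gl : ℕ → ℕ) :
    m.Acts (fun x => ln ψ (vec3 F n x)) (img3L n fun s => pr (gl s)) (row3 n) gl :=
  fun _ g e => img3L_ok ψ (h g _ e)

end acts

/-! ### double cosets -/

/-- orbit check whose roots are images of the rows of the batch `B`: a root entry holds the number
of an identity (24 bits), a row (6 bits) and a scalar -/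
noncomputable def chkR (img imgE : ℕ → ℕ → ℕ → ℕ → ℕ) (row : ℕ → ℕ → ℕ) (ch : ℕ → ℕ) (A : Tr)
    (n B : ℕ) (ws : List (List ℕ)) (nid i : ℕ) : ℕ :=
  force (aux A i) fun e =>
    force (Nat.land (Nat.shiftRight e (nat_lit 24)) (nat_lit 63)) fun s =>
    force (Nat.land (Nat.shiftRight e (nat_lit 30)) (nat_lit 15)) fun c =>
    force (Nat.land e (nat_lit 16777215)) fun j =>
    ifz (Nat.shiftRight e (nat_lit 34))
      (force (getN (getW ws j) 1) fun a => Nat.add (Nat.xor (imgE B a c s) (pt row ch i)) (lt0 j nid))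
      (force (Nat.shiftRight i (nat_lit 6)) fun q =>
        Nat.add (Nat.add (Nat.xor (img (ch q) s c (Nat.land i (nat_lit 63))) (pt row ch j)) (lt0 j n))
          (lt0 (Nat.shiftRight (aux A j) (nat_lit 34)) (Nat.shiftRight e (nat_lit 34))))

/-- the identity `D i * e a * D 1 = e b * D k * e c` -/
noncomputable def chkD1 (mul : ℕ → ℕ → ℕ) (D e : ℕ → ℕ) (ws : List (List ℕ)) (i r s : ℕ) : ℕ :=
  Nat.add (chkD mul D e ws s) (Nat.add (Nat.xor (getN (getW ws s) 0) i)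
    (Nat.add (Nat.xor (getN (getW ws s) 2) 1) (lt0 (getN (getW ws s) 4) r)))

section dc

variable {G1 M1 G M : Type*} [Group G1] [Monoid M1] [Group G] [Monoid M]
  {m1 : Mdl G1 M1} {m : Mdl G M} {f : G1 →* G} {pr : ℕ → ℕ} {X : Type*} [MulAction G1 X]

/-- the preimage of `Lc` -/
abbrev Lf (f : G1 →* G) (H : Subgroup G1) (d : G) : Subgroup G1 := H ⊓ (Lc (H.map f) d).comap f

theorem in_Lf (hp : Pr m1 m f pr) {H : Subgroup G1} {gl e : ℕ → ℕ} {a : List ℕ} {ng D : ℕ}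
    (h : m1.El H e) (hD : m.In ⊤ D) (hg : ∀ s < ng, m1.In H (gl s))
    (hc : ∀ s < ng, chkL m.mul D (fun s => pr (gl s)) (fun x => pr (e x)) a s = 0) :
    ∀ s < ng, m1.In (Lf f H (m.elt D)) (gl s) := fun s hs =>
  hp.in_comap (hg s hs) (in_of_chkL (hp.el h) hD (fun s hs => hp.in (hg s hs)) hc s hs)

theorem in_Kf (hp : Pr m1 m f pr) {H : Subgroup G1} {gl e : ℕ → ℕ} {a : List ℕ} {ng D : ℕ}
    (h : m1.El H e) (hD : m.In ⊤ D) (hg : ∀ s < ng, m1.In H (gl s))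
    (hc : ∀ s < ng, chkK m.mul D (fun s => pr (gl s)) (fun x => pr (e x)) a s = 0) :
    ∀ s < ng, m1.In (Lf f H (m.elt D)⁻¹) (gl s) := fun s hs =>
  hp.in_comap (hg s hs) (in_of_chkK (hp.el h) hD (fun s hs => hp.in (hg s hs)) hc s hs)

/-- the rows of `B` are images of `x` under `K` -/
def Rows (K : Subgroup G1) (pv : ℕ → X) (row : ℕ → ℕ → ℕ) (B : ℕ) (x : X) : Prop :=
  ∀ u < 64, ∃ k ∈ K, k • x = pv (row B u)

/-- row `u` of `B` is the image of point `r` under `gl (getN ss u)` -/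
noncomputable def chkB (img : ℕ → ℕ → ℕ → ℕ → ℕ) (row : ℕ → ℕ → ℕ) (ch : ℕ → ℕ) (r B : ℕ)
    (ss cs : List ℕ) (u : ℕ) : ℕ :=
  force (Nat.shiftRight r (nat_lit 6)) fun q => force (getN cs u) fun c => force (getN ss u) fun s =>
    Nat.xor (img (ch q) s c (Nat.land r (nat_lit 63))) (row B u)

theorem rows_of_chkB {pv : ℕ → X} {img : ℕ → ℕ → ℕ → ℕ → ℕ} {row : ℕ → ℕ → ℕ} {ch gl : ℕ → ℕ}
    {K : Subgroup G1} {r B : ℕ} {ss cs : List ℕ} (acts : m1.Acts pv img row gl) (he : m1.El K gl)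
    (h : ∀ u < 64, chkB img row ch r B ss cs u = 0) : Rows K pv row B (pv (pt row ch r)) := by
  intro u hu
  obtain ⟨g, hg, e⟩ := he (getN ss u)
  refine ⟨g, hg, ?_⟩
  have h1 : img _ (getN ss u) _ _ = row B u := xor_eq_zero' (h u hu)
  rw [← h1, acts _ g e _ _ _ (land63 r)]
  rfl

theorem dc_row (hp : Pr m1 m f pr) {H : Subgroup G1} {pv : ℕ → X} {img imgE : ℕ → ℕ → ℕ → ℕ → ℕ}
    {row : ℕ → ℕ → ℕ} {ch gl e D : ℕ → ℕ} {A : Tr} {n B nid i r : ℕ} {ws : List (List ℕ)} {x : X}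
    (hD : m.El ⊤ D) (he : m1.El H e)
    (ho : MulAction.orbit H x ⊆ (fun i => pv (pt row ch i)) '' {i | i < n})
    (hK : H ⊓ MulAction.stabilizer G1 x ≤ Lf f H (m.elt (D 1))⁻¹)
    (hB : Rows (Lf f H (m.elt (D 1))⁻¹) pv row B x)
    (a1 : m1.Acts pv img row gl) (hg : m1.El (Lf f H (m.elt (D i))) gl) (a2 : m1.Acts pv imgE row e)
    (h1 : ∀ j < n, chkR img imgE row ch A n B ws nid j = 0)
    (h2 : ∀ s < nid, chkD1 m.mul D (fun x => pr (e x)) ws i r s = 0) :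
    ∀ h ∈ H.map f, ∃ j < r, DCos (H.map f) (m.elt (D j)) (m.elt (D i) * h * m.elt (D 1)) := by
  have key : ∀ y < n, ∃ l ∈ Lf f H (m.elt (D i)), ∃ g ∈ H, ∃ k ∈ Lf f H (m.elt (D 1))⁻¹,
      l • pv (pt row ch y) = g • k • x ∧
        ∃ j < r, DCos (H.map f) (m.elt (D j)) (m.elt (D i) * f g * m.elt (D 1)) := by
    refine descent (fun i => i < n) _ (fun i => Nat.shiftRight (aux A i) 34) fun y hy => ?_
    have h3 := h1 y hy
    simp only [chkR, force_eq, ifz_eq] at h3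
    split_ifs at h3 with h4
    · left
      obtain ⟨h5, h6⟩ := add_eq_zero' h3
      obtain ⟨b1, b2⟩ := add_eq_zero' (h2 _ (lt_of_lt0 h6))
      obtain ⟨b3, b4⟩ := add_eq_zero' b2
      obtain ⟨b5, b6⟩ := add_eq_zero' b4
      obtain ⟨a, ha, b, hb, c, hc, e1, e2⟩ := eq_of_chkD hD (hp.el he) b1
      rw [xor_eq_zero' b3, xor_eq_zero' b5] at e2
      obtain ⟨g, hg, eg⟩ := he (getN (getW ws (Nat.land (aux A y) 16777215)) 1)
      obtain ⟨k, hk, ek⟩ := hB _ (land63 (Nat.shiftRight (aux A y) 24))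
      refine ⟨1, one_mem _, g, hg, k, hk, ?_, _, lt_of_lt0 b6, b, hb, c, hc, ?_⟩
      · rw [one_smul, ← xor_eq_zero' h5, a2 _ g eg _ _ _ (land63 _), ek]
      · rw [← e2, m.inj ((hp g _ eg).trans e1.symm)]
    · obtain ⟨h5, h6⟩ := add_eq_zero' h3
      obtain ⟨h7, h8⟩ := add_eq_zero' h5
      refine Or.inr ⟨_, lt_of_lt0 h8, lt_of_lt0 h6, ?_⟩
      rintro ⟨l, hl, g, hg', k, hk, e1, e2⟩
      obtain ⟨g', hg'', e'⟩ := a1.ex hg (Nat.land (Nat.shiftRight (aux A y) 24) 63)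
      refine ⟨l * g', mul_mem hl hg'', g, hg', k, hk, ?_, e2⟩
      rw [← e1, mul_smul, ← xor_eq_zero' h7, e' _ _ _ (land63 y)]
      rfl
  rintro _ ⟨h, hh, rfl⟩
  obtain ⟨y, hy, ey⟩ := ho ⟨⟨h, hh⟩, rfl⟩
  obtain ⟨l, hl, g, hg', k, hk, e1, j, hj, e2⟩ := key y hy
  have ey' : pv (pt row ch y) = h • x := ey
  have hp' : k⁻¹ * g⁻¹ * l * h ∈ Lf f H (m.elt (D 1))⁻¹ := hK ⟨H.mul_mem (H.mul_mem
    (H.mul_mem (H.inv_mem hk.1) (H.inv_mem hg')) hl.1) hh, by
      change (k⁻¹ * g⁻¹ * l * h) • x = x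
      rw [mul_smul, mul_smul, ← ey', e1, mul_smul, inv_smul_smul, inv_smul_smul]⟩
  refine ⟨j, hj, ?_⟩
  have := dc_step (l := f l⁻¹) (r := f g) (k := f (k * (k⁻¹ * g⁻¹ * l * h))) (inv_mem hl).2
    (mul_mem hk hp').2 e2
  rwa [← map_mul, ← map_mul, show l⁻¹ * g * (k * (k⁻¹ * g⁻¹ * l * h)) = h by group] at this

theorem relIndex_Lf (H : Subgroup G1) (d : G) :
    (Lc (H.map f) d).relIndex (H.map f) = (Lf f H d).relIndex H := by
  rw [← relIndex_comap, inf_relIndex_left]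

theorem relIndex_mul_card [Finite G1] {H L : Subgroup G1} (hL : L ≤ H) :
    Nat.card L * L.relIndex H = Nat.card H := by
  rw [← Nat.card_congr (subgroupOfEquivOfLe hL).toEquiv]; exact (L.subgroupOf H).card_mul_index

theorem dc_ub [Finite G1] [Finite G] {H : Subgroup G1} {G' : Subgroup G} {d : ℕ → G} {n : ℕ}
    (h : ∀ g ∈ G', ∃ i < n, DCos (H.map f) (d i) g) {A : ℕ} (hA : Nat.card H ≤ A) (B C : ℕ → ℕ)
    (hB : ∀ i < n, B i ≤ Nat.card (Lf f H (d i))) (e : ∀ i < n, A = B i * C i) :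
    Nat.card G' ≤ Nat.card (H.map f) * ∑ i ∈ Finset.range n, C i := by
  refine (dc_card h).trans ?_
  rw [Finset.mul_sum]
  refine Finset.sum_le_sum fun i hi => Nat.mul_le_mul_left _ ?_
  rw [relIndex_Lf]
  exact relIndex_le inf_le_left hA (hB i (Finset.mem_range.1 hi)) (e i (Finset.mem_range.1 hi))

theorem Lf_one (H : Subgroup G1) : Lf f H 1 = H := by
  refine le_antisymm inf_le_left fun g hg => ⟨hg, ?_⟩
  exact mem_Lc.2 ⟨⟨g, hg, rfl⟩, by simpa using ⟨g, hg, rfl⟩⟩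

end dc

section pure

variable {G : Type*} [Group G]

theorem all_nil {P : ℕ → Prop} : ∀ i < 0, P i := fun _ h => absurd h (Nat.not_lt_zero _)

theorem all_succ {P : ℕ → Prop} {n : ℕ} (h : ∀ i < n, P i) (hn : P n) : ∀ i < n + 1, P i :=
  fun i hi => (Nat.lt_succ_iff_lt_or_eq.1 hi).elim (h i) fun e => e ▸ hn

theorem mem3 {H N : Subgroup G} (hN : H ≤ N) {a b c x y z : G} (ha : a ∈ H) (hb : b ∈ H)
    (hc : c ∈ H) (e : x * a * y = b * z * c) :
    (x ∈ N → y ∈ N → z ∈ N) ∧ (x ∈ N → z ∈ N → y ∈ N) := by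
  constructor
  · intro hx hy
    have := N.mul_mem (N.mul_mem hx (hN ha)) hy
    rwa [e, N.mul_mem_cancel_right (hN hc), N.mul_mem_cancel_left (hN hb)] at this
  · intro hx hz
    have := N.mul_mem (N.mul_mem (hN hb) hz) (hN hc)
    rwa [← e, N.mul_mem_cancel_left (N.mul_mem hx (hN ha))] at this

/-- `N` is normalised by `H` -/
def Nm (H N : Subgroup G) : Prop := ∀ h ∈ H, ∀ x ∈ N, h * x * h⁻¹ ∈ N

theorem Nm.mono {H H' N : Subgroup G} (h : Nm H N) (hle : H' ≤ H) : Nm H' N :=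
  fun g hg => h g (hle hg)

theorem Nm.le_stab {X : Type*} [MulAction G X] {H N : Subgroup G} (hN : Nm H N) {x y : X}
    (h : N ≤ MulAction.stabilizer G x) (hy : y ∈ MulAction.orbit H x) :
    N ≤ MulAction.stabilizer G y := by
  obtain ⟨⟨g, hg⟩, rfl⟩ := hy
  intro a ha
  have := h (hN g⁻¹ (H.inv_mem hg) a ha)
  change a • g • x = g • x
  rw [MulAction.mem_stabilizer_iff, inv_inv, mul_smul, mul_smul, inv_smul_eq_iff] at this
  exact this

theorem Nm.le_Lc {G' H N : Subgroup G} (hN : Nm G' N) (h : N ≤ H) {d : G} (hd : d ∈ G') :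
    N ≤ Lc H d := fun x hx => mem_Lc.2 ⟨h hx, h (hN d hd x hx)⟩

theorem nm_map_subtype {H : Subgroup G} (N : Subgroup H) (hN : N.Normal) :
    Nm H (N.map H.subtype) := by
  rintro h hh _ ⟨x, hx, rfl⟩
  exact ⟨_, hN.conj_mem x hx ⟨h, hh⟩, rfl⟩

/-- normal subgroups of a primitive group generated by its `p`-elements -/
theorem dich_rel [Finite G] {H K Z : Subgroup G} (hK : K ≤ H) (p : ℕ)
    (hp : Nat.Coprime p (Nat.card K))
    (hmax : ∀ M : Subgroup G, K ≤ M → M ≤ H → M = K ∨ M = H)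
    (hcore : ∀ N : Subgroup G, Nm H N → N ≤ K → N ≤ Z)
    (hgen : ∀ N : Subgroup G, Nm H N → (∀ x ∈ H, x ^ p = 1 → x ∈ N) → H ≤ N)
    (N : Subgroup H) (hN : N.Normal) : N ≤ Z.subgroupOf H ∨ N = ⊤ := by
  have h := normal_dichotomy (G := H) (Z.subgroupOf H) (K.subgroupOf H) p
    (by rwa [Nat.card_congr (subgroupOfEquivOfLe hK).toEquiv]) (fun M hM => ?_) (fun N hN h => ?_)
    (fun N hN h => ?_) N hN
  · by_cases h1 : N ≤ K.subgroupOf H
    · left
      intro x hx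
      exact hcore _ (nm_map_subtype N hN) (by rintro _ ⟨y, hy, rfl⟩; exact h1 hy) ⟨x, hx, rfl⟩
    · right
      have h2 : K.subgroupOf H ⊔ N = ⊤ := by
        rcases hmax ((K.subgroupOf H ⊔ N).map H.subtype)
          (fun x hx => ⟨⟨x, hK hx⟩, mem_sup_left hx, rfl⟩) (map_subtype_le _) with h3 | h3
        · exact absurd (fun x hx => by
            have : (x : G) ∈ K := h3 ▸ ⟨x, mem_sup_right hx, rfl⟩
            exact this) h1
        · rw [eq_top_iff]; intro x _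
          obtain ⟨y, hy, e⟩ : (x : G) ∈ (K.subgroupOf H ⊔ N).map H.subtype := h3.symm ▸ x.2
          rwa [← Subtype.ext e]
      have h4 : N.index ∣ Nat.card K := by
        have := relIndex_sup_right (K.subgroupOf H) N
        rw [h2, relIndex_top_right] at this
        rw [this, ← Nat.card_congr (subgroupOfEquivOfLe hK).toEquiv]; exact relIndex_dvd_card _ _
      rw [eq_top_iff]; intro x _
      obtain ⟨y, hy, e⟩ := hgen _ (nm_map_subtype N hN) (fun x hx e => ⟨⟨x, hx⟩,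
        mem_of_coprime_index N (Subtype.ext e) (hp.coprime_dvd_right h4), rfl⟩) x.2
      rwa [← Subtype.ext e]
  · rcases hmax (M.map H.subtype) (fun x hx => ⟨⟨x, hK hx⟩, hM hx, rfl⟩) (map_subtype_le _)
      with h3 | h3
    · left; refine le_antisymm (fun x hx => ?_) hM
      have : (x : G) ∈ K := h3 ▸ ⟨x, hx, rfl⟩
      exact this
    · right; rw [eq_top_iff]; intro x _
      obtain ⟨y, hy, e⟩ : (x : G) ∈ M.map H.subtype := h3.symm ▸ x.2
      rwa [← Subtype.ext e]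
  · intro x hx
    exact hcore _ (nm_map_subtype N hN) (by rintro _ ⟨y, hy, rfl⟩; exact h hy) ⟨x, hx, rfl⟩
  · rw [eq_top_iff]; intro x _
    obtain ⟨y, hy, e⟩ := hgen _ (nm_map_subtype N hN)
      (fun x hx e => ⟨⟨x, hx⟩, h _ (Subtype.ext e), rfl⟩) x.2
    exact mem_sup_left (by rwa [← Subtype.ext e])

theorem simple_rel [Finite G] {H : Subgroup G} (hne : 2 ≤ Nat.card H)
    (h : ∀ N : Subgroup H, N.Normal → N ≤ (⊥ : Subgroup G).subgroupOf H ∨ N = ⊤) :
    IsSimpleGroup H := by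
  have : Nontrivial H := Finite.one_lt_card_iff_nontrivial.1 hne
  refine ⟨fun N hN => (h N hN).imp_left fun h => ?_⟩
  rwa [bot_subgroupOf, le_bot_iff] at h

end pure

attribute [irreducible] pmul

end Cfsg.Agent.H4
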