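import Cfsg.Agent.H4.DCX

/-! More glue for double coset certificates; the model over the field with four elements. -/

set_option autoImplicit false

namespace Cfsg.Agent.H4

open Subgroup Cfsg.Agent.H5 Cfsg.Agent.H5.Mdl

section mdl

variable {G M : Type*} [Group G] [Monoid M] {m : Mdl G M}

theorem elt_of_eq_one {a : ℕ} (h : a = m.one) : m.elt a = 1 := h ▸ elt_one

theorem elt_inv_self {a : ℕ} (ha : m.In ⊤ a) (h : m.mul a a = m.one) : (m.elt a)⁻¹ = m.elt a :=
  inv_eq_of_mul_eq_one_right (m.inj (by rw [rep_mul ha.elt ha.elt, h, m.ev_one, map_one]))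

theorem dc_row0 {H : Subgroup G} {d : ℕ → G} {r : ℕ} (hr : 1 < r) (h0 : d 0 = 1) :
    ∀ h ∈ H, ∃ j < r, DCos H (d j) (d 0 * h * d 1) := fun h hh =>
  ⟨1, hr, h, hh, 1, H.one_mem, by rw [h0, one_mul, mul_one]⟩

theorem in_of_elt {K : Subgroup G} {D : ℕ → ℕ} {n : ℕ} (hD : m.El ⊤ D)
    (h : ∀ i < n, m.elt (D i) ∈ K) : ∀ i < n, m.In K (D i) := fun i hi => ⟨_, h i hi, (hD i).elt⟩

end mdl

/-! ### the field with four elements -/

/-- product of an `r × d` and a `d × d` matrix -/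
noncomputable def bm4 (d r A B : ℕ) : ℕ :=
  force B fun B => bm2 (Nat.mul 2 d) r A
    (tilde4 d (rep (Nat.mul 2 d) (msk d) d) (msk (Nat.mul (Nat.mul 2 d) d)) (Nat.mul (Nat.mul 2 d) d) B)

theorem bm4_eq {d : ℕ} (hd : d ≠ 0) (r A B : ℕ) : bm4 d r A B = H5.mul4 d r A B := by
  rw [bm4, force_eq, bm2, force_eq, force_eq, H5.mul4, rep_eq (show Nat.mul 2 d ≠ 0 from by
    change 2 * d ≠ 0; omega), rep_eq (show Nat.mul 2 d ≠ 0 from by change 2 * d ≠ 0; omega)]
  rfl

noncomputable def mulF (d a b : ℕ) : ℕ := bm4 d d b a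

def oneF (d : ℕ) : ℕ := rep (Nat.succ (Nat.mul 2 d)) 1 d

section four

open Finset

variable {F : Type*} [Field F] (ω : F) {ι : Type*} {d : ℕ} (e : ι ≃ Fin d)

def ev4 (a : ℕ) : Matrix ι ι F := fun i j => ent4 F ω d a (e j) (e i)

def vec4 (x : ℕ) : ι → F := fun i => ent4 F ω d x 0 (e i)

variable {ω} [CharP F 2] [Fintype ι]

theorem ev4_mul (hω : ω ^ 2 + ω + 1 = 0) (a b : ℕ) :
    ev4 ω e (mulF d a b) = ev4 ω e a * ev4 ω e b := by
  funext i k
  have hd : d ≠ 0 := by have := (e i).2; omega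
  simp only [ev4, mulF, bm4_eq hd, Matrix.mul_apply, ent4_mul4 hω b a (e k).2 (e i).2]
  rw [← Fin.sum_univ_eq_sum_range (fun j => ent4 F ω d b (e k) j * ent4 F ω d a j (e i)),
    ← e.sum_comp]
  exact sum_congr rfl fun j _ => mul_comm _ _

theorem testBit_oneF {i k : ℕ} (hi : i < d) (hk : k < 2 * d) :
    (oneF d).testBit (2 * d * i + k) = decide (i = k) := by
  have h := testBit_diag (n := 2 * d) (i := i) (by omega) hk
  rw [← h, oneF, rep_eq (by omega), rep_eq (by omega), two_mul d, pack_add_index]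
  have h1 : pack (2 ^ (d + d + 1)) (fun _ => 1) d < (2 ^ (d + d + 1)) ^ d :=
    pack_lt fun _ _ => Nat.one_lt_two_pow (by omega)
  rw [← pow_mul] at h1
  rw [← pow_mul, add_comm (pack _ _ _), Nat.testBit_two_pow_mul_add _ h1, if_pos (by nlinarith)]
  congr 3
  change 2 * d + 1 = _
  omega

omit [CharP F 2] [Fintype ι] in
theorem ev4_one [DecidableEq ι] : ev4 ω e (oneF d) = 1 := by
  funext i k
  have h1 := testBit_oneF (e k).2 (show (e i : ℕ) < 2 * d by have := (e i).2; omega)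
  have h2 := testBit_oneF (e k).2 (show d + (e i : ℕ) < 2 * d by have := (e i).2; omega)
  have h3 : ¬ ((e k : ℕ) = d + e i) := by have := (e k).2; omega
  simp only [ev4, ent4, bit, h1, h2, h3, Matrix.one_apply, decide_eq_true_eq, Fin.val_inj,
    e.apply_eq_iff_eq, if_false, zero_mul, add_zero, eq_comm (a := k)]

/-- the model over the field with four elements -/
noncomputable def md4 [DecidableEq ι] (hω : ω ^ 2 + ω + 1 = 0) {G : Type*} [Group G]
    (φ : G →* Matrix ι ι F) (inj : Function.Injective φ) : Mdl G (Matrix ι ι F) where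
  φ := φ
  inj := inj
  ev := ev4 ω e
  mul := mulF d
  ev_mul := ev4_mul e hω
  one := oneF d
  ev_one := ev4_one e

omit [CharP F 2] [Fintype ι] in
theorem ent4_brow (A i : ℕ) {k : ℕ} (hk : k < d) :
    ent4 F ω d (brow (2 * d) A i) 0 k = ent4 F ω d A i k := by
  simp only [ent4, mul_zero, zero_add, bit_brow A i (show k < 2 * d by omega),
    bit_brow A i (show d + k < 2 * d by omega)]

theorem vec4_row (hω : ω ^ 2 + ω + 1 = 0) {r : ℕ} (A B : ℕ) {i : ℕ} (hi : i < r) :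
    vec4 ω e (brow (2 * d) (bm4 d r A B) i) =
      (ev4 ω e B).mulVec (vec4 ω e (brow (2 * d) A i)) := by
  funext k
  have hd : d ≠ 0 := by have := (e k).2; omega
  simp only [vec4, ev4, Matrix.mulVec, dotProduct, ent4_brow _ _ (e _).2, bm4_eq hd,
    ent4_mul4 hω A B hi (e k).2]
  rw [← Fin.sum_univ_eq_sum_range (fun j => ent4 F ω d A i j * ent4 F ω d B j (e k)), ← e.sum_comp]
  exact sum_congr rfl fun j _ => mul_comm _ _

omit [Fintype ι] in
theorem vec4_inj (hω : ω ^ 2 + ω + 1 = 0) {x y : ℕ} (hx : x < 2 ^ (2 * d)) (hy : y < 2 ^ (2 * d))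
    (h : vec4 ω e x = vec4 ω e y) : x = y := by
  refine eq_of_e4 (d := d) (r := 1) (by rwa [mul_one]) (by rwa [mul_one]) fun i hi j hj => ?_
  obtain rfl : i = 0 := by omega
  have := congrFun h (e.symm ⟨j, hj⟩)
  simp only [vec4, Equiv.apply_symm_apply, ent4_eq_el4] at this
  exact el4_inj hω (e4_lt _ _ _ _) (e4_lt _ _ _ _) this

omit [Fintype ι] in
theorem vec4_surj [Fintype F] (hF : Fintype.card F = 4) (hω : ω ^ 2 + ω + 1 = 0) (v : ι → F) :
    ∃ x < 2 ^ (2 * d), vec4 ω e x = v := by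
  choose a ha ea using fun i => el4_surj hF hω (v i)
  refine ⟨mk4 d 1 fun _ j => if h : j < d then a (e.symm ⟨j, h⟩) else 0,
    by simpa using mk4_lt d 1 _, ?_⟩
  funext i
  rw [vec4, ent4_eq_el4, e4_mk4 _ one_pos (e i).2 (by rw [dif_pos (e i).2]; exact ha _),
    dif_pos (e i).2]
  simp [ea]

/-- vectors with the action through `ψ` -/
@[ext] structure Vi {G : Type*} [Group G] [DecidableEq ι] (ψ : G →* Matrix ι ι F) where
  v : ι → F

instance instMulActionVi {G : Type*} [Group G] [DecidableEq ι] (ψ : G →* Matrix ι ι F) :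
    MulAction G (Vi ψ) where
  smul g v := ⟨(ψ g).mulVec v.v⟩
  one_smul v := Vi.ext (by change (ψ 1).mulVec v.v = v.v; rw [map_one, Matrix.one_mulVec])
  mul_smul g h v := Vi.ext (by
    change (ψ (g * h)).mulVec v.v = (ψ g).mulVec ((ψ h).mulVec v.v)
    rw [map_mul, Matrix.mulVec_mulVec])

noncomputable def img4 (d : ℕ) (gl : ℕ → ℕ) (A s _c i : ℕ) : ℕ :=
  brow (Nat.mul 2 d) (bm4 d 64 A (gl s)) i

variable {G M : Type*} [Group G] [Monoid M] [DecidableEq ι] {m : Mdl G M}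

theorem acts4 (hω : ω ^ 2 + ω + 1 = 0) (ψ : G →* Matrix ι ι F) {pr : ℕ → ℕ}
    (h : ∀ g a, m.φ g = m.ev a → ψ g = ev4 ω e (pr a)) (gl : ℕ → ℕ) :
    m.Acts (fun x => (⟨vec4 ω e x⟩ : Vi ψ)) (img4 d fun s => pr (gl s)) (brow (Nat.mul 2 d)) gl :=
  fun _ g eg A _ i hi => Vi.ext (by
    change _ = (ψ g).mulVec _
    rw [h g _ eg]; exact vec4_row e hω A _ hi)

theorem canT4 (hω : ω ^ 2 + ω + 1 = 0) (ψ : G →* Matrix ι ι F) :
    CanT (fun x => (⟨vec4 ω e x⟩ : Vi ψ)) can0 (brow (Nat.mul 2 d)) := fun _ _ _ _ _ _ _ _ h =>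
  vec4_inj e hω (brow_lt _ _ _) (brow_lt _ _ _) (congrArg Vi.v h)

end four

theorem mulF_lt {d : ℕ} (hd : d ≠ 0) (a b : ℕ) : mulF d a b < 2 ^ (2 * d * d) := by
  rw [mulF, bm4_eq hd]; exact mul4_lt _ _ _ _ hd

theorem mul2_lt {n : ℕ} (hn : n ≠ 0) (a b : ℕ) : mul2 n a b < 2 ^ (n * n) := by
  rw [mul2]; exact bm2_lt hn _ _ _

attribute [irreducible] bm4 mulF oneF

/-- upper bound for an orbit from a test on codes -/
theorem card_le_of_codes {G X : Type*} [Group G] [MulAction G X] {H : Subgroup G} {x : X}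
    (pv : ℕ → X) (N : ℕ) (c : ℕ → Bool) (h : ∀ g ∈ H, ∃ a < N, c a = true ∧ g • x = pv a) {n B : ℕ}
    (hn : (List.range N).countP c = n)
    (hB : Nat.card (H ⊓ MulAction.stabilizer G x : Subgroup G) ≤ B) : Nat.card H ≤ n * B := by
  rw [card_eq_orbit H x]
  refine Nat.mul_le_mul ?_ hB
  have h1 : MulAction.orbit H x ⊆ pv '' ↑((List.range N).filter c).toFinset := by
    rintro _ ⟨⟨g, hg⟩, rfl⟩
    obtain ⟨a, ha, hc, e⟩ := h g hg
    exact ⟨a, by simp [ha, hc], e.symm⟩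
  refine (Set.ncard_le_ncard h1 (Set.toFinite _)).trans ((Set.ncard_image_le (Set.toFinite _)).trans ?_)
  rw [Set.ncard_coe_finset, ← hn, List.countP_eq_length_filter]
  exact List.toFinset_card_le _

/-- the two projections of a subgroup of a product are isomorphic when all orders agree -/
theorem equiv_of_card {G1 G2 : Type*} [Group G1] [Group G2] [Finite G1] [Finite G2]
    (P : Subgroup (G1 × G2)) {n : ℕ} (h : Nat.card P ≤ n)
    (h1 : n ≤ Nat.card (P.map (MonoidHom.fst G1 G2))) (h2 : n ≤ Nat.card (P.map (MonoidHom.snd G1 G2)))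
    (h3 : Nat.card G2 ≤ n) : Nonempty (P.map (MonoidHom.fst G1 G2) ≃* G2) := by
  have b1 : Function.Bijective ((MonoidHom.fst G1 G2).subgroupMap P) :=
    (Function.Surjective.bijective_of_nat_card_le (MonoidHom.subgroupMap_surjective _ _) (by omega))
  have b2 : Function.Bijective ((MonoidHom.snd G1 G2).subgroupMap P) :=
    (Function.Surjective.bijective_of_nat_card_le (MonoidHom.subgroupMap_surjective _ _) (by omega))
  have e3 : P.map (MonoidHom.snd G1 G2) = ⊤ := eq_top_of_le_card _ (by omega)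
  exact ⟨((MulEquiv.ofBijective _ b1).symm.trans (MulEquiv.ofBijective _ b2)).trans
    ((MulEquiv.subgroupCongr e3).trans topEquiv)⟩

end Cfsg.Agent.H4
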