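import Cfsg.Agent.H4.DCY

/-! Further glue lemmas. -/

set_option autoImplicit false

namespace Cfsg.Agent.H4

open Subgroup Cfsg.Agent.H5 Cfsg.Agent.H5.Mdl

section mdl

variable {G M : Type*} [Group G] [Monoid M] {m : Mdl G M}

theorem elt_inv_eq {a b : ℕ} (ha : m.In ⊤ a) (hb : m.In ⊤ b) (h : m.mul a b = m.one) :
    (m.elt a)⁻¹ = m.elt b :=
  inv_eq_of_mul_eq_one_right (m.inj (by rw [rep_mul ha.elt hb.elt, h, m.ev_one, map_one]))

/-- relative version of `in_of_chkP` -/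
theorem in_of_chkP' {H N : Subgroup G} {p : ℕ} (hN : ∀ x ∈ H, x ^ p = 1 → x ∈ N) {gl e : ℕ → ℕ}
    (he : m.El H e) {ws : List (List ℕ)} {ng : ℕ}
    (hc : ∀ s < ng, chkP m.mul m.one gl e ws p s = 0) : ∀ s < ng, m.In N (gl s) := by
  intro s hs
  obtain ⟨h1, h2⟩ := add_eq_zero' (hc s hs)
  have h3 := sumL'_zero h2
  refine In.of_eq ?_ h1
  generalize getW ws s = w at h3
  induction w with
  | nil => exact in_one _
  | cons a l ih =>
    refine In.mul ?_ (ih fun b hb => h3 b (List.mem_cons_of_mem _ hb))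
    obtain ⟨g, hg, eg⟩ := he a
    exact ⟨g, hN g hg (pow_eq_one_of_powC eg (xor_eq_zero' (h3 a List.mem_cons_self))), eg⟩

/-- `a * x = y * a` -/
noncomputable def chkJ (mul : ℕ → ℕ → ℕ) (a x y : ℕ) : ℕ := Nat.xor (mul a x) (mul y a)

theorem conj_of_chkJ {a x y : ℕ} (h : chkJ m.mul a x y = 0) {g u v : G} (eg : m.φ g = m.ev a)
    (eu : m.φ u = m.ev x) (ev : m.φ v = m.ev y) : g * u * g⁻¹ = v := by
  rw [mul_inv_eq_iff_eq_mul]
  exact m.inj (by rw [rep_mul eg eu, rep_mul ev eg, xor_eq_zero' h])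

theorem In.conj {H N : Subgroup G} (hN : Nm H N) {a x y : ℕ} (ha : m.In H a) (hx : m.In N x)
    (hy : m.In ⊤ y) (h : chkJ m.mul a x y = 0) : m.In N y := by
  obtain ⟨g, hg, eg⟩ := ha
  obtain ⟨u, hu, eu⟩ := hx
  obtain ⟨v, -, ev⟩ := hy
  exact ⟨v, conj_of_chkJ h eg eu ev ▸ hN g hg u hu, ev⟩

theorem gn_le_cent {gl : ℕ → ℕ} {ng z : ℕ} {g : G} (eg : m.φ g = m.ev z)
    (h : ∀ s < ng, chkJ m.mul (gl s) z z = 0) : m.gn gl ng ≤ centralizer {g} := by
  rw [gn, closure_le]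
  rintro x ⟨s, hs, e⟩
  refine mem_centralizer_singleton_iff.2 ?_
  have := conj_of_chkJ (h s hs) e eg eg
  rwa [mul_inv_eq_iff_eq_mul] at this

/-- `gn gl ng` normalises `N = gn gN nN`: `gl s * gN u = e a * gl s` with `e a ∈ N` -/
theorem nm_gn [Finite G] {gl gN : ℕ → ℕ} {ng nN : ℕ}
    (h : ∀ s < ng, ∀ u < nN, ∃ y, m.In (m.gn gN nN) y ∧ chkJ m.mul (gl s) (gN u) y = 0) :
    Nm (m.gn gl ng) (m.gn gN nN) := by
  intro g hg
  refine closure_ind_fin (P := fun g => ∀ x ∈ m.gn gN nN, g * x * g⁻¹ ∈ m.gn gN nN)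
    (fun s _ => isOfFinOrder_of_finite s) (fun x hx => by simpa using hx) ?_ g hg
  rintro a ⟨s, hs, e⟩ g ih x hx
  have key : ∀ y ∈ m.gn gN nN, a * y * a⁻¹ ∈ m.gn gN nN := by
    have : m.gn gN nN ≤ (m.gn gN nN).comap (MulAut.conj a).toMonoidHom := by
      rw [gn, closure_le]
      rintro y ⟨u, hu, ey⟩
      obtain ⟨z, ⟨v, hv, ev⟩, hz⟩ := h s hs u hu
      change a * y * a⁻¹ ∈ m.gn gN nN
      rw [conj_of_chkJ hz e ey ev]; exact hv
    exact this
  have := key _ (ih x hx)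
  rwa [show a * (g * x * g⁻¹) * a⁻¹ = a * g * x * (a * g)⁻¹ by group] at this

/-- all conjugates `gl s * gN u * (gl s)⁻¹` are chain elements -/
noncomputable def chkNm (mul : ℕ → ℕ → ℕ) (gl gN e : ℕ → ℕ) (nN : ℕ) (a : List ℕ) (i : ℕ) : ℕ :=
  force (Nat.div i nN) fun s => force (Nat.mod i nN) fun u => force (getN a i) fun x =>
    chkJ mul (gl s) (gN u) (e x)

theorem nm_of_chkNm [Finite G] {gl gN e : ℕ → ℕ} {ng nN : ℕ} {a : List ℕ}
    (he : m.El (m.gn gN nN) e) (h : ∀ i < ng * nN, chkNm m.mul gl gN e nN a i = 0) :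
    Nm (m.gn gl ng) (m.gn gN nN) := nm_gn fun s hs u hu => by
  have h1 := h (nN * s + u) (by nlinarith)
  simp only [chkNm, force_eq] at h1
  have e1 : Nat.div (nN * s + u) nN = s := by
    change (nN * s + u) / nN = s
    rw [Nat.mul_add_div (by omega), Nat.div_eq_of_lt hu, add_zero]
  have e2 : Nat.mod (nN * s + u) nN = u := by
    change (nN * s + u) % nN = u
    rw [Nat.mul_add_mod, Nat.mod_eq_of_lt hu]
  rw [e1, e2] at h1
  exact ⟨_, he _, h1⟩

end mdl

section pure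

variable {G : Type*} [Group G] {X : Type*} [MulAction G X]

theorem le_bot_of_card [Finite G] {K : Subgroup G} (h : Nat.card K ≤ 1) : K ≤ ⊥ :=
  (eq_bot_of_card_le K h).le

theorem core_step {H N K : Subgroup G} (hN : Nm H N) {x y : X}
    (hx : N ≤ MulAction.stabilizer G x) (hK : N ≤ K) (hy : y ∈ MulAction.orbit H x) :
    N ≤ K ⊓ MulAction.stabilizer G y := le_inf hK (hN.le_stab hx hy)

theorem sup_zpowers_le {H N : Subgroup G} {t : G} (h : H ≤ N) (ht : t ∈ N) : H ⊔ zpowers t ≤ N :=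
  sup_le h (zpowers_le.2 ht)

theorem index_subgroupOf [Finite G] {H K : Subgroup G} (hK : K ≤ H) {n : ℕ}
    (h : Nat.card H = n * Nat.card K) : (K.subgroupOf H).index = n := by
  have h1 := (K.subgroupOf H).card_mul_index
  rw [Nat.card_congr (subgroupOfEquivOfLe hK).toEquiv, h, mul_comm] at h1
  exact Nat.eq_of_mul_eq_mul_right Nat.card_pos h1

theorem card_map_le [Finite G] {G' : Type*} [Group G'] (f : G →* G') (H : Subgroup G) :
    Nat.card (H.map f) ≤ Nat.card H :=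
  Nat.card_le_card_of_surjective _ (f.subgroupMap_surjective H)

/-- the order of a group from an upper bound and coprime divisors -/
theorem eq_of_dvd_of_le {n N : ℕ} (hn : 0 < n) (h1 : N ∣ n) (h2 : n ≤ N) : n = N :=
  le_antisymm h2 (Nat.le_of_dvd hn h1)

end pure

end Cfsg.Agent.H4
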