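import Cfsg.Agent.H4.F22F

set_option autoImplicit false
set_option maxRecDepth 100000
set_option Elab.async false

namespace Cfsg.Agent.H4.F22

open Subgroup Cfsg.Agent.H5 Cfsg.Agent.H5.Mdl 

theorem cN0S_0 : rng cN0Sf (nat_lit 0) (nat_lit 421) = 0 := by decide +kernel
theorem cN0S_1 : rng cN0Sf (nat_lit 421) (nat_lit 272) = 0 := by decide +kernel
theorem cN1S_0 : rng cN1Sf (nat_lit 0) (nat_lit 180) = 0 := by decide +kernel
theorem cN4S_0 : rng cN4Sf (nat_lit 0) (nat_lit 32) = 0 := by decide +kernel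
theorem ZRO_0 : rngB ZROf (nat_lit 3510) (nat_lit 0) (nat_lit 55) = 0 := by decide +kernel
theorem cN3S_0 : rng cN3Sf (nat_lit 0) (nat_lit 48) = 0 := by decide +kernel
theorem NJ_0 : rng NJf (nat_lit 0) (nat_lit 2) = 0 := by decide +kernel
theorem cN5S_0 : rng cN5Sf (nat_lit 0) (nat_lit 32) = 0 := by decide +kernel
theorem S0RO_0 : rngB S0ROf (nat_lit 2079) (nat_lit 0) (nat_lit 33) = 0 := by decide +kernel
theorem qL20RO_0 : rngB qL20ROf (nat_lit 1680) (nat_lit 0) (nat_lit 27) = 0 := by decide +kernel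
theorem ZY_0 : rngB ZYf (nat_lit 3510) (nat_lit 0) (nat_lit 55) = 0 := by decide +kernel
theorem GP_0 : rng GPf (nat_lit 0) (nat_lit 3) = 0 := by decide +kernel
theorem S0yY_0 : rngB S0yYf (nat_lit 2079) (nat_lit 0) (nat_lit 33) = 0 := by decide +kernel
theorem qL20yY_0 : rngB qL20yYf (nat_lit 1680) (nat_lit 0) (nat_lit 27) = 0 := by decide +kernel
theorem qR1O_0 : rngB qR1Of (nat_lit 693) (nat_lit 0) (nat_lit 11) = 0 := by decide +kernel
theorem qR2O_0 : rngB qR2Of (nat_lit 693) (nat_lit 0) (nat_lit 11) = 0 := by decide +kernel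
theorem qRHO_0 : rngB qRHOf (nat_lit 693) (nat_lit 0) (nat_lit 11) = 0 := by decide +kernel
theorem hmRO_0 : rngB hmROf (nat_lit 693) (nat_lit 0) (nat_lit 11) = 0 := by decide +kernel
theorem hmR1O_0 : rngB hmR1Of (nat_lit 693) (nat_lit 0) (nat_lit 11) = 0 := by decide +kernel
theorem hmR0O_0 : rngB hmR0Of (nat_lit 693) (nat_lit 0) (nat_lit 11) = 0 := by decide +kernel
theorem qL11RO_0 : rngB qL11ROf (nat_lit 512) (nat_lit 0) (nat_lit 8) = 0 := by decide +kernel
theorem S1RO_0 : rngB S1ROf (nat_lit 540) (nat_lit 0) (nat_lit 9) = 0 := by decide +kernel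
theorem qL1W_0 : rng qL1Wf (nat_lit 0) (nat_lit 8) = 0 := by decide +kernel
theorem qL2W_0 : rng qL2Wf (nat_lit 0) (nat_lit 6) = 0 := by decide +kernel
theorem YY_0 : rngB YYf (nat_lit 693) (nat_lit 0) (nat_lit 11) = 0 := by decide +kernel
theorem cN0T0 : cNT0 0 = (join (nat_lit 72) (oneF (nat_lit 6)) (one2 (nat_lit 78))) := by decide +kernel
theorem cN1T0 : cNT1 0 = (join (nat_lit 72) (oneF (nat_lit 6)) (one2 (nat_lit 78))) := by decide +kernel
theorem cN2T0 : cNT2 0 = (join (nat_lit 72) (oneF (nat_lit 6)) (one2 (nat_lit 78))) := by decide +kernel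
theorem cN3T0 : cNT3 0 = (join (nat_lit 72) (oneF (nat_lit 6)) (one2 (nat_lit 78))) := by decide +kernel
theorem cN4T0 : cNT4 0 = (join (nat_lit 72) (oneF (nat_lit 6)) (one2 (nat_lit 78))) := by decide +kernel
theorem cN5T0 : cNT5 0 = (join (nat_lit 72) (oneF (nat_lit 6)) (one2 (nat_lit 78))) := by decide +kernel
theorem cN6T0 : cNT6 0 = (join (nat_lit 72) (oneF (nat_lit 6)) (one2 (nat_lit 78))) := by decide +kernel
theorem Z0 : lo (nat_lit 72) (Zc 0) = (oneF (nat_lit 6)) := by decide +kernel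
theorem Z1 : hi (nat_lit 72) (Zc 1) = (one2 (nat_lit 78)) := by decide +kernel
theorem dQ : chkQ (mul2 (nat_lit 78)) (one2 (nat_lit 78)) kA dc 2 = 0 := by decide +kernel
theorem wQ : chkQ (mulF (nat_lit 6)) (oneF (nat_lit 6)) kU wc 3 = 0 := by decide +kernel
theorem qD0 : qD 0 = (one2 (nat_lit 78)) := by decide +kernel
theorem tE : qL1P 9 = dc := by decide +kernel
theorem qhx : pt (brow (nat_lit 78)) qL10y (nat_lit 0) = pt (brow (nat_lit 78)) Y (nat_lit 473) := by decide +kernel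
theorem hcx1 : pt (brow (nat_lit 78)) qL11y (nat_lit 409) = pt (brow (nat_lit 78)) Y (nat_lit 549) := by decide +kernel
theorem hcx2 : pt (brow (nat_lit 78)) qL12y (nat_lit 30) = pt (brow (nat_lit 78)) Y (nat_lit 197) := by decide +kernel
theorem hcx3 : pt (brow (nat_lit 78)) qL13y (nat_lit 31) = pt (brow (nat_lit 78)) Y (nat_lit 687) := by decide +kernel
theorem hcx4 : pt (brow (nat_lit 78)) qL14y (nat_lit 3) = pt (brow (nat_lit 78)) Y (nat_lit 322) := by decide +kernel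
theorem qR1I_0 : rng qR1If (nat_lit 0) (nat_lit 3) = 0 := by decide +kernel
theorem cN3G_0 : rng cN3Gf (nat_lit 0) (nat_lit 10) = 0 := by decide +kernel
theorem S1yY_0 : rngB S1yYf (nat_lit 540) (nat_lit 0) (nat_lit 9) = 0 := by decide +kernel
theorem qL21RO_0 : rngB qL21ROf (nat_lit 243) (nat_lit 0) (nat_lit 4) = 0 := by decide +kernel
theorem qL11yY_0 : rngB qL11yYf (nat_lit 512) (nat_lit 0) (nat_lit 8) = 0 := by decide +kernel
theorem qR2I_0 : rng qR2If (nat_lit 0) (nat_lit 2) = 0 := by decide +kernel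
theorem qL12RO_0 : rngB qL12ROf (nat_lit 135) (nat_lit 0) (nat_lit 3) = 0 := by decide +kernel
theorem HP_0 : rng HPf (nat_lit 0) (nat_lit 2) = 0 := by decide +kernel
theorem cN2S_0 : rng cN2Sf (nat_lit 0) (nat_lit 3) = 0 := by decide +kernel
theorem cN4G_0 : rng cN4Gf (nat_lit 0) (nat_lit 5) = 0 := by decide +kernel
theorem crO_0 : rngB crOf (nat_lit 78) (nat_lit 0) (nat_lit 2) = 0 := by decide +kernel
theorem ZE_0 : rng ZEf (nat_lit 0) (nat_lit 2) = 0 := by decide +kernel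
theorem TT_0 : rng TTf (nat_lit 0) (nat_lit 3) = 0 := by decide +kernel
theorem SW_0 : rng SWf (nat_lit 0) (nat_lit 10) = 0 := by decide +kernel
theorem qL21yY_0 : rngB qL21yYf (nat_lit 243) (nat_lit 0) (nat_lit 4) = 0 := by decide +kernel
theorem S2RO_0 : rngB S2ROf (nat_lit 128) (nat_lit 0) (nat_lit 2) = 0 := by decide +kernel
theorem qL2C_0 : rng qL2Cf (nat_lit 0) (nat_lit 2) = 0 := by decide +kernel
theorem qL12yY_0 : rngB qL12yYf (nat_lit 135) (nat_lit 0) (nat_lit 3) = 0 := by decide +kernel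
theorem cN2G_0 : rng cN2Gf (nat_lit 0) (nat_lit 3) = 0 := by decide +kernel
theorem hmE_0 : rng hmEf (nat_lit 0) (nat_lit 2) = 0 := by decide +kernel
theorem qL1C_0 : rng qL1Cf (nat_lit 0) (nat_lit 2) = 0 := by decide +kernel
theorem qL10X_0 : rng qL10Xf (nat_lit 0) (nat_lit 10) = 0 := by decide +kernel
theorem qL13RO_0 : rngB qL13ROf (nat_lit 32) (nat_lit 0) (nat_lit 1) = 0 := by decide +kernel
theorem qL22RO_0 : rngB qL22ROf (nat_lit 16) (nat_lit 0) (nat_lit 1) = 0 := by decide +kernel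
theorem cN0G_0 : rng cN0Gf (nat_lit 0) (nat_lit 2) = 0 := by decide +kernel
theorem cN1G_0 : rng cN1Gf (nat_lit 0) (nat_lit 2) = 0 := by decide +kernel
theorem qL14RO_0 : rngB qL14ROf (nat_lit 6) (nat_lit 0) (nat_lit 1) = 0 := by decide +kernel
theorem SE_0 : rng SEf (nat_lit 0) (nat_lit 2) = 0 := by decide +kernel
theorem UJ_0 : rng UJf (nat_lit 0) (nat_lit 2) = 0 := by decide +kernel
theorem qL1E_0 : rng qL1Ef (nat_lit 0) (nat_lit 2) = 0 := by decide +kernel
theorem qL2E_0 : rng qL2Ef (nat_lit 0) (nat_lit 2) = 0 := by decide +kernel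
theorem S2yY_0 : rngB S2yYf (nat_lit 128) (nat_lit 0) (nat_lit 2) = 0 := by decide +kernel
theorem qL11X_0 : rng qL11Xf (nat_lit 0) (nat_lit 8) = 0 := by decide +kernel
theorem qL10RO_0 : rngB qL10ROf (nat_lit 1) (nat_lit 0) (nat_lit 1) = 0 := by decide +kernel
theorem cN6S_0 : rng cN6Sf (nat_lit 0) (nat_lit 3) = 0 := by decide +kernel
theorem S3RO_0 : rngB S3ROf (nat_lit 32) (nat_lit 0) (nat_lit 1) = 0 := by decide +kernel
theorem S4RO_0 : rngB S4ROf (nat_lit 6) (nat_lit 0) (nat_lit 1) = 0 := by decide +kernel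
theorem crV_0 : rng crVf (nat_lit 0) (nat_lit 78) = 0 := by decide +kernel
theorem qDI_0 : rng qDIf (nat_lit 0) (nat_lit 3) = 0 := by decide +kernel
theorem qL12X_0 : rng qL12Xf (nat_lit 0) (nat_lit 6) = 0 := by decide +kernel
theorem qL20X_0 : rng qL20Xf (nat_lit 0) (nat_lit 6) = 0 := by decide +kernel
theorem cN5G_0 : rng cN5Gf (nat_lit 0) (nat_lit 2) = 0 := by decide +kernel
theorem qBk_0 : rng qBkf (nat_lit 0) (nat_lit 64) = 0 := by decide +kernel
theorem S3yY_0 : rngB S3yYf (nat_lit 32) (nat_lit 0) (nat_lit 1) = 0 := by decide +kernel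
theorem S4yY_0 : rngB S4yYf (nat_lit 6) (nat_lit 0) (nat_lit 1) = 0 := by decide +kernel
theorem qL10yY_0 : rngB qL10yYf (nat_lit 1) (nat_lit 0) (nat_lit 1) = 0 := by decide +kernel
theorem qL13yY_0 : rngB qL13yYf (nat_lit 32) (nat_lit 0) (nat_lit 1) = 0 := by decide +kernel
theorem qL14yY_0 : rngB qL14yYf (nat_lit 6) (nat_lit 0) (nat_lit 1) = 0 := by decide +kernel
theorem qL22yY_0 : rngB qL22yYf (nat_lit 16) (nat_lit 0) (nat_lit 1) = 0 := by decide +kernel
theorem NI_0 : rng NIf (nat_lit 0) (nat_lit 2) = 0 := by decide +kernel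
theorem HJ_0 : rng HJf (nat_lit 0) (nat_lit 2) = 0 := by decide +kernel
theorem qL13X_0 : rng qL13Xf (nat_lit 0) (nat_lit 3) = 0 := by decide +kernel
theorem qL21X_0 : rng qL21Xf (nat_lit 0) (nat_lit 3) = 0 := by decide +kernel
theorem S0X_0 : rng S0Xf (nat_lit 0) (nat_lit 10) = 0 := by decide +kernel
theorem tQ : chkQ (mul2 (nat_lit 78)) (one2 (nat_lit 78)) kA (qL1P 9) 2 = 0 := by decide +kernel
theorem Hn : chkN kA ((mul2 (nat_lit 78)) (Hg 0) (Hg 1)) ((mul2 (nat_lit 78)) (Hg 1) (Hg 0)) = 0 := by decide +kernel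
theorem tn : chkN kA ((mul2 (nat_lit 78)) (qD 1) dc) ((mul2 (nat_lit 78)) dc (qD 1)) = 0 := by decide +kernel
theorem ZF_0 : rng ZFf (nat_lit 0) (nat_lit 2) = 0 := by decide +kernel
theorem crF_0 : rng crFf (nat_lit 0) (nat_lit 2) = 0 := by decide +kernel
theorem S1X_0 : rng S1Xf (nat_lit 0) (nat_lit 8) = 0 := by decide +kernel
theorem qL14X_0 : rng qL14Xf (nat_lit 0) (nat_lit 1) = 0 := by decide +kernel
theorem qtt : (mul2 (nat_lit 78)) (qD 1) (qD 1) = (one2 (nat_lit 78)) := by decide +kernel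
theorem crAB : (mul2 (nat_lit 78)) (crm 0) (crm 1) = (one2 (nat_lit 78)) := by decide +kernel
theorem hmM1 : chkM (img2 (nat_lit 78) hmg1) (brow (nat_lit 78)) Y (nat_lit 473) Y [nat_lit 304] [nat_lit 0] 0 = 0 := by decide +kernel
theorem hmM0 : chkM (img2 (nat_lit 78) hmg0) (brow (nat_lit 78)) Y (nat_lit 473) Y [nat_lit 54] [nat_lit 0] 0 = 0 := by decide +kernel
theorem S2X_0 : rng S2Xf (nat_lit 0) (nat_lit 4) = 0 := by decide +kernel
theorem S3X_0 : rng S3Xf (nat_lit 0) (nat_lit 2) = 0 := by decide +kernel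

end Cfsg.Agent.H4.F22
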