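import Cfsg.Agent.H4.F22D0

set_option autoImplicit false
set_option maxRecDepth 100000

namespace Cfsg.Agent.H4.F22

open Subgroup Cfsg.Agent.H5 Cfsg.Agent.H5.Mdl 

noncomputable abbrev pvA : ℕ → Vc φA := fun x => (⟨vec2 (ZMod 2) 78 x⟩ : Vc φA)
noncomputable abbrev pvU : ℕ → Vi suφ := fun x => (⟨vec4 om (Equiv.refl _) x⟩ : Vi suφ)
noncomputable abbrev N : Subgroup (GA × SU6) := mP.gn Ng 2
noncomputable def NIf : ℕ → ℕ := chkI (mul2 (nat_lit 78)) (one2 (nat_lit 78)) (fun s => hi (nat_lit 72) (Ng s)) Ni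
noncomputable def NJf : ℕ → ℕ := fun s => chkU (lo (nat_lit 72) (Ng s)) 11
noncomputable abbrev cNK1 : Subgroup (GA × SU6) := mP.gn cNK1g 2
noncomputable abbrev cNK2 : Subgroup (GA × SU6) := mP.gn cNK2g 2
noncomputable abbrev cNK3 : Subgroup (GA × SU6) := mP.gn cNK3g 3
noncomputable abbrev cNK4 : Subgroup (GA × SU6) := mP.gn cNK4g 10
noncomputable abbrev cNK5 : Subgroup (GA × SU6) := mP.gn cNK5g 5
noncomputable abbrev cNK6 : Subgroup (GA × SU6) := mP.gn cNK6g 2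
noncomputable def cNe6 : ℕ → ℕ := cel1 (pmul (mul2 (nat_lit 78)) (mulF (nat_lit 6)) (nat_lit 72)) cNT6 (nat_lit 2) (fun _ => (join (nat_lit 72) (oneF (nat_lit 6)) (one2 (nat_lit 78))))
noncomputable def cNe5 : ℕ → ℕ := cel1 (pmul (mul2 (nat_lit 78)) (mulF (nat_lit 6)) (nat_lit 72)) cNT5 (nat_lit 5) cNe6
noncomputable def cNe4 : ℕ → ℕ := cel1 (pmul (mul2 (nat_lit 78)) (mulF (nat_lit 6)) (nat_lit 72)) cNT4 (nat_lit 5) cNe5
noncomputable def cNe3 : ℕ → ℕ := cel1 (pmul (mul2 (nat_lit 78)) (mulF (nat_lit 6)) (nat_lit 72)) cNT3 (nat_lit 6) cNe4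
noncomputable def cNe2 : ℕ → ℕ := cel1 (pmul (mul2 (nat_lit 78)) (mulF (nat_lit 6)) (nat_lit 72)) cNT2 (nat_lit 2) cNe3
noncomputable def cNe1 : ℕ → ℕ := cel1 (pmul (mul2 (nat_lit 78)) (mulF (nat_lit 6)) (nat_lit 72)) cNT1 (nat_lit 8) cNe2
noncomputable def cNe0 : ℕ → ℕ := cel1 (pmul (mul2 (nat_lit 78)) (mulF (nat_lit 6)) (nat_lit 72)) cNT0 (nat_lit 10) cNe1
noncomputable def cN0Sf : ℕ → ℕ := chkS2 (pmul (mul2 (nat_lit 78)) (mulF (nat_lit 6)) (nat_lit 72)) Ng (nat_lit 2) cNT0 cNe1 cN0c (nat_lit 10) (nat_lit 693)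
noncomputable def cN0Gf : ℕ → ℕ := chkG (pmul (mul2 (nat_lit 78)) (mulF (nat_lit 6)) (nat_lit 72)) Ng cNT0 cNK1g [[nat_lit 480, nat_lit 579, nat_lit 1, nat_lit 1, nat_lit 1],
  [nat_lit 466, nat_lit 148, nat_lit 0, nat_lit 0, nat_lit 1]]
noncomputable def cN1Sf : ℕ → ℕ := chkS2 (pmul (mul2 (nat_lit 78)) (mulF (nat_lit 6)) (nat_lit 72)) cNK1g (nat_lit 2) cNT1 cNe2 cN1c (nat_lit 8) (nat_lit 180)
noncomputable def cN1Gf : ℕ → ℕ := chkG (pmul (mul2 (nat_lit 78)) (mulF (nat_lit 6)) (nat_lit 72)) cNK1g cNT1 cNK2g [[nat_lit 22, nat_lit 86, nat_lit 0, nat_lit 0, nat_lit 0],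
  [nat_lit 1, nat_lit 157, nat_lit 0, nat_lit 1, nat_lit 1]]
noncomputable def cN2Sf : ℕ → ℕ := chkS2 (pmul (mul2 (nat_lit 78)) (mulF (nat_lit 6)) (nat_lit 72)) cNK2g (nat_lit 2) cNT2 cNe3 cN2c (nat_lit 2) (nat_lit 3)
noncomputable def cN2Gf : ℕ → ℕ := chkG (pmul (mul2 (nat_lit 78)) (mulF (nat_lit 6)) (nat_lit 72)) cNK2g cNT2 cNK3g [[nat_lit 2, nat_lit 0, nat_lit 1, nat_lit 1],
  [nat_lit 2, nat_lit 0, nat_lit 0, nat_lit 1],
  [nat_lit 0, nat_lit 0, nat_lit 0, nat_lit 0, nat_lit 0]]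
noncomputable def cN3Sf : ℕ → ℕ := chkS2 (pmul (mul2 (nat_lit 78)) (mulF (nat_lit 6)) (nat_lit 72)) cNK3g (nat_lit 3) cNT3 cNe4 cN3c (nat_lit 6) (nat_lit 48)
noncomputable def cN3Gf : ℕ → ℕ := chkG (pmul (mul2 (nat_lit 78)) (mulF (nat_lit 6)) (nat_lit 72)) cNK3g cNT3 cNK4g [[nat_lit 12, nat_lit 13, nat_lit 2, nat_lit 1],
  [nat_lit 3, nat_lit 40, nat_lit 1, nat_lit 2, nat_lit 0],
  [nat_lit 30, nat_lit 39, nat_lit 1, nat_lit 0, nat_lit 0],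
  [nat_lit 20, nat_lit 28, nat_lit 1, nat_lit 0],
  [nat_lit 37, nat_lit 39, nat_lit 1, nat_lit 0],
  [nat_lit 44, nat_lit 37, nat_lit 0, nat_lit 2, nat_lit 0],
  [nat_lit 38, nat_lit 36, nat_lit 1, nat_lit 0],
  [nat_lit 23, nat_lit 18, nat_lit 1],
  [nat_lit 6, nat_lit 13, nat_lit 0, nat_lit 2, nat_lit 0],
  [nat_lit 32, nat_lit 47, nat_lit 0, nat_lit 1]]
noncomputable def cN4Sf : ℕ → ℕ := chkS2 (pmul (mul2 (nat_lit 78)) (mulF (nat_lit 6)) (nat_lit 72)) cNK4g (nat_lit 10) cNT4 cNe5 cN4c (nat_lit 5) (nat_lit 32)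
noncomputable def cN4Gf : ℕ → ℕ := chkG (pmul (mul2 (nat_lit 78)) (mulF (nat_lit 6)) (nat_lit 72)) cNK4g cNT4 cNK5g [[nat_lit 0, nat_lit 1, nat_lit 4, nat_lit 2, nat_lit 3],
  [nat_lit 24, nat_lit 30, nat_lit 1],
  [nat_lit 3, nat_lit 10, nat_lit 8, nat_lit 1],
  [nat_lit 26, nat_lit 11, nat_lit 9, nat_lit 9, nat_lit 6],
  [nat_lit 16, nat_lit 5, nat_lit 7, nat_lit 9]]
noncomputable def cN5Sf : ℕ → ℕ := chkS2 (pmul (mul2 (nat_lit 78)) (mulF (nat_lit 6)) (nat_lit 72)) cNK5g (nat_lit 5) cNT5 cNe6 cN5c (nat_lit 5) (nat_lit 32)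
noncomputable def cN5Gf : ℕ → ℕ := chkG (pmul (mul2 (nat_lit 78)) (mulF (nat_lit 6)) (nat_lit 72)) cNK5g cNT5 cNK6g [[nat_lit 14, nat_lit 25, nat_lit 3],
  [nat_lit 20, nat_lit 29, nat_lit 3]]
noncomputable def cN6Sf : ℕ → ℕ := chkS2 (pmul (mul2 (nat_lit 78)) (mulF (nat_lit 6)) (nat_lit 72)) cNK6g (nat_lit 2) cNT6 (fun _ => (join (nat_lit 72) (oneF (nat_lit 6)) (one2 (nat_lit 78)))) cN6c (nat_lit 2) (nat_lit 3)
noncomputable abbrev Hg : ℕ → ℕ := fun s => hi (nat_lit 72) (Ng s)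
noncomputable abbrev H : Subgroup GA := Subgroup.map (MonoidHom.fst GA SU6) N
noncomputable def ZEf : ℕ → ℕ := chkE Zc cNe0 [nat_lit 25232932864, nat_lit 68719476736]
noncomputable abbrev dc : ℕ := hi (nat_lit 72) (Zc 0)
noncomputable abbrev wc : ℕ := lo (nat_lit 72) (Zc 1)
noncomputable abbrev Ug : ℕ → ℕ := fun s => lo (nat_lit 72) (Ng s)
noncomputable abbrev U : Subgroup SU6 := Subgroup.map (MonoidHom.snd GA SU6) N
noncomputable def SEf : ℕ → ℕ := fun s => Nat.xor (Ug s) (SP s)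
noncomputable def SWf : ℕ → ℕ := chkPl (mulF (nat_lit 6)) SP [[nat_lit 1, nat_lit 1, nat_lit 0, nat_lit 1, nat_lit 0, nat_lit 0, nat_lit 0, nat_lit 1, nat_lit 1, nat_lit 1, nat_lit 1],
  [nat_lit 0, nat_lit 1, nat_lit 0, nat_lit 1, nat_lit 1, nat_lit 0, nat_lit 1, nat_lit 0, nat_lit 1, nat_lit 1, nat_lit 1, nat_lit 1],
  [nat_lit 3, nat_lit 3, nat_lit 2, nat_lit 2, nat_lit 3, nat_lit 2, nat_lit 2, nat_lit 3, nat_lit 3, nat_lit 3, nat_lit 3, nat_lit 2, nat_lit 3, nat_lit 2],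
  [nat_lit 3, nat_lit 2, nat_lit 2, nat_lit 2, nat_lit 2, nat_lit 2, nat_lit 2, nat_lit 3, nat_lit 2, nat_lit 2, nat_lit 3, nat_lit 2, nat_lit 2, nat_lit 2, nat_lit 3],
  [nat_lit 3, nat_lit 3, nat_lit 3, nat_lit 3, nat_lit 2, nat_lit 2, nat_lit 2],
  [nat_lit 3, nat_lit 3, nat_lit 2, nat_lit 2, nat_lit 2, nat_lit 3, nat_lit 3],
  [nat_lit 6, nat_lit 5, nat_lit 7, nat_lit 6, nat_lit 7],
  [nat_lit 4, nat_lit 6, nat_lit 5, nat_lit 7],
  [nat_lit 8, nat_lit 8, nat_lit 8, nat_lit 9, nat_lit 9, nat_lit 8, nat_lit 9, nat_lit 9],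
  [nat_lit 9, nat_lit 9, nat_lit 8, nat_lit 8, nat_lit 9, nat_lit 8, nat_lit 9, nat_lit 8, nat_lit 9]] (nat_lit 2)
noncomputable def S0yYf : ℕ → ℕ := chkY can0 (brow (Nat.mul 2 (nat_lit 6))) S0y (nat_lit 2079)
noncomputable def S0ROf : ℕ → ℕ := chkO (img4 (nat_lit 6) (shf SP (nat_lit 0))) (brow (Nat.mul 2 (nat_lit 6))) S0y S0Ra (nat_lit 2079) [nat_lit 0]
noncomputable def S0Xf : ℕ → ℕ := chkFx (img4 (nat_lit 6) SP) (brow (Nat.mul 2 (nat_lit 6))) S0y (nat_lit 0) [nat_lit 0, nat_lit 0, nat_lit 0, nat_lit 0, nat_lit 0, nat_lit 0, nat_lit 0, nat_lit 0, nat_lit 0, nat_lit 0] (nat_lit 2)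
noncomputable abbrev SK1 : Subgroup SU6 := U ⊓ MulAction.stabilizer SU6 (pvU (pt (brow (Nat.mul 2 (nat_lit 6))) S0y (nat_lit 0)))
noncomputable def S1yYf : ℕ → ℕ := chkY can0 (brow (Nat.mul 2 (nat_lit 6))) S1y (nat_lit 540)
noncomputable def S1ROf : ℕ → ℕ := chkO (img4 (nat_lit 6) (shf SP (nat_lit 2))) (brow (Nat.mul 2 (nat_lit 6))) S1y S1Ra (nat_lit 540) [nat_lit 0]
noncomputable def S1Xf : ℕ → ℕ := chkFx (img4 (nat_lit 6) SP) (brow (Nat.mul 2 (nat_lit 6))) S1y (nat_lit 0) [nat_lit 0, nat_lit 0, nat_lit 0, nat_lit 0, nat_lit 0, nat_lit 0, nat_lit 0, nat_lit 0] (nat_lit 4)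
noncomputable abbrev SK2 : Subgroup SU6 := SK1 ⊓ MulAction.stabilizer SU6 (pvU (pt (brow (Nat.mul 2 (nat_lit 6))) S1y (nat_lit 0)))
noncomputable def S2yYf : ℕ → ℕ := chkY can0 (brow (Nat.mul 2 (nat_lit 6))) S2y (nat_lit 128)
noncomputable def S2ROf : ℕ → ℕ := chkO (img4 (nat_lit 6) (shf SP (nat_lit 4))) (brow (Nat.mul 2 (nat_lit 6))) S2y S2Ra (nat_lit 128) [nat_lit 0]
noncomputable def S2Xf : ℕ → ℕ := chkFx (img4 (nat_lit 6) SP) (brow (Nat.mul 2 (nat_lit 6))) S2y (nat_lit 0) [nat_lit 0, nat_lit 0, nat_lit 0, nat_lit 0] (nat_lit 8)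
noncomputable abbrev SK3 : Subgroup SU6 := SK2 ⊓ MulAction.stabilizer SU6 (pvU (pt (brow (Nat.mul 2 (nat_lit 6))) S2y (nat_lit 0)))
noncomputable def S3yYf : ℕ → ℕ := chkY can0 (brow (Nat.mul 2 (nat_lit 6))) S3y (nat_lit 32)
noncomputable def S3ROf : ℕ → ℕ := chkO (img4 (nat_lit 6) (shf SP (nat_lit 8))) (brow (Nat.mul 2 (nat_lit 6))) S3y S3Ra (nat_lit 32) [nat_lit 0]
noncomputable def S3Xf : ℕ → ℕ := chkFx (img4 (nat_lit 6) SP) (brow (Nat.mul 2 (nat_lit 6))) S3y (nat_lit 0) [nat_lit 0, nat_lit 0] (nat_lit 10)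
noncomputable abbrev SK4 : Subgroup SU6 := SK3 ⊓ MulAction.stabilizer SU6 (pvU (pt (brow (Nat.mul 2 (nat_lit 6))) S3y (nat_lit 0)))
noncomputable def S4yYf : ℕ → ℕ := chkY can0 (brow (Nat.mul 2 (nat_lit 6))) S4y (nat_lit 6)
noncomputable def S4ROf : ℕ → ℕ := chkO (img4 (nat_lit 6) (shf SP (nat_lit 10))) (brow (Nat.mul 2 (nat_lit 6))) S4y S4Ra (nat_lit 6) [nat_lit 0]
noncomputable def S4Xf : ℕ → ℕ := chkFx (img4 (nat_lit 6) SP) (brow (Nat.mul 2 (nat_lit 6))) S4y (nat_lit 0) [] (nat_lit 12)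
noncomputable abbrev SK5 : Subgroup SU6 := SK4 ⊓ MulAction.stabilizer SU6 (pvU (pt (brow (Nat.mul 2 (nat_lit 6))) S4y (nat_lit 0)))
noncomputable def UJf : ℕ → ℕ := fun s => chkJ (mulF (nat_lit 6)) (Ug s) wc wc
noncomputable def HJf : ℕ → ℕ := fun s => chkJ (mul2 (nat_lit 78)) (Hg s) dc dc
noncomputable def YYf : ℕ → ℕ := chkY can0 (brow (nat_lit 78)) Y (nat_lit 693)
noncomputable def qDIf : ℕ → ℕ := chkI (mul2 (nat_lit 78)) (one2 (nat_lit 78)) qD qDi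
noncomputable def qRHOf : ℕ → ℕ := chkO (img2 (nat_lit 78) Hg) (brow (nat_lit 78)) Y qRHa (nat_lit 693) [nat_lit 473]
noncomputable abbrev qL1 : Subgroup GA := Lf (MonoidHom.id GA) H (mA.elt (qD 1))
noncomputable def qL1Ef : ℕ → ℕ := chkE qL1P (fun x => hi (nat_lit 72) (cNe0 x)) [nat_lit 14608046080, nat_lit 37667252224]
noncomputable def qL1Cf : ℕ → ℕ := chkL (mul2 (nat_lit 78)) (qD 1) qL1P (fun x => hi (nat_lit 72) (cNe0 x)) [nat_lit 21813922816, nat_lit 306186240]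
noncomputable def qL1Wf : ℕ → ℕ := chkPl (mul2 (nat_lit 78)) qL1P [[nat_lit 0, nat_lit 0, nat_lit 0, nat_lit 0, nat_lit 0, nat_lit 1, nat_lit 0, nat_lit 1, nat_lit 0, nat_lit 0, nat_lit 1],
  [nat_lit 1, nat_lit 1, nat_lit 1, nat_lit 0, nat_lit 0, nat_lit 1, nat_lit 0],
  [nat_lit 3, nat_lit 2, nat_lit 2, nat_lit 2, nat_lit 3, nat_lit 3, nat_lit 2],
  [nat_lit 3, nat_lit 2, nat_lit 3, nat_lit 2, nat_lit 3, nat_lit 2, nat_lit 3, nat_lit 2, nat_lit 3, nat_lit 3, nat_lit 2, nat_lit 3],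
  [nat_lit 2, nat_lit 3, nat_lit 2, nat_lit 3, nat_lit 3, nat_lit 3, nat_lit 2, nat_lit 2, nat_lit 3, nat_lit 3, nat_lit 2],
  [nat_lit 6, nat_lit 6, nat_lit 4, nat_lit 6],
  [nat_lit 4, nat_lit 6, nat_lit 6, nat_lit 5, nat_lit 5, nat_lit 6],
  [nat_lit 0, nat_lit 8, nat_lit 0, nat_lit 8, nat_lit 0, nat_lit 8, nat_lit 0, nat_lit 8, nat_lit 0, nat_lit 8]] (nat_lit 2)
noncomputable def qL10yYf : ℕ → ℕ := chkY can0 (brow (nat_lit 78)) qL10y (nat_lit 1)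
noncomputable def qL10ROf : ℕ → ℕ := chkO (img2 (nat_lit 78) (shf qL1P (nat_lit 0))) (brow (nat_lit 78)) qL10y qL10Ra (nat_lit 1) [nat_lit 0]
noncomputable def qL10Xf : ℕ → ℕ := chkFx (img2 (nat_lit 78) qL1P) (brow (nat_lit 78)) qL10y (nat_lit 0) [nat_lit 0, nat_lit 0, nat_lit 0, nat_lit 0, nat_lit 0, nat_lit 0, nat_lit 0, nat_lit 0, nat_lit 0, nat_lit 0] (nat_lit 0)
noncomputable abbrev qL1K1 : Subgroup GA := qL1 ⊓ MulAction.stabilizer GA (pvA (pt (brow (nat_lit 78)) qL10y (nat_lit 0)))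
noncomputable def qL11yYf : ℕ → ℕ := chkY can0 (brow (nat_lit 78)) qL11y (nat_lit 512)
noncomputable def qL11ROf : ℕ → ℕ := chkO (img2 (nat_lit 78) (shf qL1P (nat_lit 0))) (brow (nat_lit 78)) qL11y qL11Ra (nat_lit 512) [nat_lit 409]
noncomputable def qL11Xf : ℕ → ℕ := chkFx (img2 (nat_lit 78) qL1P) (brow (nat_lit 78)) qL11y (nat_lit 409) [nat_lit 0, nat_lit 0, nat_lit 0, nat_lit 0, nat_lit 0, nat_lit 0, nat_lit 0, nat_lit 0] (nat_lit 2)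
noncomputable abbrev qL1K2 : Subgroup GA := qL1K1 ⊓ MulAction.stabilizer GA (pvA (pt (brow (nat_lit 78)) qL11y (nat_lit 409)))
noncomputable def qL12yYf : ℕ → ℕ := chkY can0 (brow (nat_lit 78)) qL12y (nat_lit 135)
noncomputable def qL12ROf : ℕ → ℕ := chkO (img2 (nat_lit 78) (shf qL1P (nat_lit 2))) (brow (nat_lit 78)) qL12y qL12Ra (nat_lit 135) [nat_lit 30]
noncomputable def qL12Xf : ℕ → ℕ := chkFx (img2 (nat_lit 78) qL1P) (brow (nat_lit 78)) qL12y (nat_lit 30) [nat_lit 0, nat_lit 0, nat_lit 0, nat_lit 0, nat_lit 0, nat_lit 0] (nat_lit 4)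
noncomputable abbrev qL1K3 : Subgroup GA := qL1K2 ⊓ MulAction.stabilizer GA (pvA (pt (brow (nat_lit 78)) qL12y (nat_lit 30)))
noncomputable def qL13yYf : ℕ → ℕ := chkY can0 (brow (nat_lit 78)) qL13y (nat_lit 32)
noncomputable def qL13ROf : ℕ → ℕ := chkO (img2 (nat_lit 78) (shf qL1P (nat_lit 4))) (brow (nat_lit 78)) qL13y qL13Ra (nat_lit 32) [nat_lit 31]
noncomputable def qL13Xf : ℕ → ℕ := chkFx (img2 (nat_lit 78) qL1P) (brow (nat_lit 78)) qL13y (nat_lit 31) [nat_lit 0, nat_lit 0, nat_lit 0] (nat_lit 7)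
noncomputable abbrev qL1K4 : Subgroup GA := qL1K3 ⊓ MulAction.stabilizer GA (pvA (pt (brow (nat_lit 78)) qL13y (nat_lit 31)))
noncomputable def qL14yYf : ℕ → ℕ := chkY can0 (brow (nat_lit 78)) qL14y (nat_lit 6)
noncomputable def qL14ROf : ℕ → ℕ := chkO (img2 (nat_lit 78) (shf qL1P (nat_lit 7))) (brow (nat_lit 78)) qL14y qL14Ra (nat_lit 6) [nat_lit 3]
noncomputable def qL14Xf : ℕ → ℕ := chkFx (img2 (nat_lit 78) qL1P) (brow (nat_lit 78)) qL14y (nat_lit 3) [nat_lit 0] (nat_lit 9)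
noncomputable abbrev qL1K5 : Subgroup GA := qL1K4 ⊓ MulAction.stabilizer GA (pvA (pt (brow (nat_lit 78)) qL14y (nat_lit 3)))
noncomputable abbrev qL2 : Subgroup GA := Lf (MonoidHom.id GA) H (mA.elt (qD 2))
noncomputable def qL2Ef : ℕ → ℕ := chkE qL2P (fun x => hi (nat_lit 72) (cNe0 x)) [nat_lit 47354806395, nat_lit 22827604434]
noncomputable def qL2Cf : ℕ → ℕ := chkL (mul2 (nat_lit 78)) (qD 2) qL2P (fun x => hi (nat_lit 72) (cNe0 x)) [nat_lit 47354806395, nat_lit 22827604434]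
noncomputable def qL2Wf : ℕ → ℕ := chkPl (mul2 (nat_lit 78)) qL2P [[nat_lit 1, nat_lit 0, nat_lit 0, nat_lit 0, nat_lit 1, nat_lit 1, nat_lit 0, nat_lit 1, nat_lit 0, nat_lit 0, nat_lit 1, nat_lit 0, nat_lit 0, nat_lit 0],
  [nat_lit 0, nat_lit 0, nat_lit 1, nat_lit 1, nat_lit 1, nat_lit 1, nat_lit 1, nat_lit 0, nat_lit 0, nat_lit 1, nat_lit 1, nat_lit 1, nat_lit 1, nat_lit 1],
  [nat_lit 1, nat_lit 1, nat_lit 0, nat_lit 0, nat_lit 0, nat_lit 0, nat_lit 1, nat_lit 1, nat_lit 0, nat_lit 0, nat_lit 0, nat_lit 0, nat_lit 1, nat_lit 1],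
  [nat_lit 4, nat_lit 3, nat_lit 2, nat_lit 3, nat_lit 4, nat_lit 4, nat_lit 2],
  [nat_lit 4, nat_lit 2, nat_lit 3, nat_lit 4],
  [nat_lit 3, nat_lit 3, nat_lit 4, nat_lit 2, nat_lit 4, nat_lit 3, nat_lit 2]] (nat_lit 2)
noncomputable def qL20yYf : ℕ → ℕ := chkY can0 (brow (nat_lit 78)) qL20y (nat_lit 1680)
noncomputable def qL20ROf : ℕ → ℕ := chkO (img2 (nat_lit 78) (shf qL2P (nat_lit 0))) (brow (nat_lit 78)) qL20y qL20Ra (nat_lit 1680) [nat_lit 1413]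
noncomputable def qL20Xf : ℕ → ℕ := chkFx (img2 (nat_lit 78) qL2P) (brow (nat_lit 78)) qL20y (nat_lit 1413) [nat_lit 0, nat_lit 0, nat_lit 0, nat_lit 0, nat_lit 0, nat_lit 0] (nat_lit 2)
noncomputable abbrev qL2K1 : Subgroup GA := qL2 ⊓ MulAction.stabilizer GA (pvA (pt (brow (nat_lit 78)) qL20y (nat_lit 1413)))
noncomputable def qL21yYf : ℕ → ℕ := chkY can0 (brow (nat_lit 78)) qL21y (nat_lit 243)
noncomputable def qL21ROf : ℕ → ℕ := chkO (img2 (nat_lit 78) (shf qL2P (nat_lit 2))) (brow (nat_lit 78)) qL21y qL21Ra (nat_lit 243) [nat_lit 225]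
noncomputable def qL21Xf : ℕ → ℕ := chkFx (img2 (nat_lit 78) qL2P) (brow (nat_lit 78)) qL21y (nat_lit 225) [nat_lit 0, nat_lit 0, nat_lit 0] (nat_lit 5)
noncomputable abbrev qL2K2 : Subgroup GA := qL2K1 ⊓ MulAction.stabilizer GA (pvA (pt (brow (nat_lit 78)) qL21y (nat_lit 225)))
noncomputable def qL22yYf : ℕ → ℕ := chkY can0 (brow (nat_lit 78)) qL22y (nat_lit 16)
noncomputable def qL22ROf : ℕ → ℕ := chkO (img2 (nat_lit 78) (shf qL2P (nat_lit 5))) (brow (nat_lit 78)) qL22y qL22Ra (nat_lit 16) [nat_lit 3]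
noncomputable def qL22Xf : ℕ → ℕ := chkFx (img2 (nat_lit 78) qL2P) (brow (nat_lit 78)) qL22y (nat_lit 3) [] (nat_lit 8)
noncomputable abbrev qL2K3 : Subgroup GA := qL2K2 ⊓ MulAction.stabilizer GA (pvA (pt (brow (nat_lit 78)) qL22y (nat_lit 3)))
noncomputable def qB : ℕ := (nat_lit 0xac82300d8fd21064915eb208c0363f484192457ac82300d8fd21064915eb208c0363f484192457ac82300d8fd21064915eb208c0363f484192457ac82300d8fd21064915eb208c0363f484192457ac82300d8fd21064915eb208c0363f484192457ac82300d8fd21064915eb208c0363f484192457ac82300d8fd21064915eb208c0363f484192457ac82300d8fd21064915eb208c0363f484192457ac82300d8fd21064915eb208c0363f484192457ac82300d8fd21064915eb208c0363f484192457ac82300d8fd21064915eb208c0363f484192457ac82300d8fd21064915eb208c0363f484192457ac82300d8fd21064915eb208c0363f484192457ac82300d8fd21064915eb208c0363f484192457ac82300d8fd21064915eb208c0363f484192457ac82300d8fd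21064915eb208c0363f484192457ac82300d8fd21064915eb208c0363f484192457ac82300d8fd21064915eb208c0363f484192457ac82300d8fd21064915eb208c0363f484192457ac82300d8fd21064915eb208c0363f484192457ac82300d8fd21064915eb208c0363f484192457ac82300d8fd21064915eb208c0363f484192457ac82300d8fd21064915eb208c0363f484192457ac82300d8fd21064915eb208c0363f484192457ac82300d8fd21064915eb208c0363f484192457ac82300d8fd21064915eb208c0363f484192457ac82300d8fd21064915eb208c0363f484192457ac82300d8fd21064915eb208c0363f484192457ac82300d8fd21064915eb208c0363f484192457ac82300d8fd21064915eb208c0363f484192457ac82300d8fd21064915eb208c0363f484192457ac82300d8fd21064915eb208c0363f484192457)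
noncomputable def qBkf : ℕ → ℕ := chkB (img2 (nat_lit 78) (cel1 (mul2 (nat_lit 78)) qL1P (nat_lit 4) qL1P)) (brow (nat_lit 78)) Y (nat_lit 473) qB [nat_lit 10, nat_lit 10, nat_lit 10, nat_lit 10, nat_lit 10, nat_lit 10, nat_lit 10, nat_lit 10, nat_lit 10, nat_lit 10, nat_lit 10, nat_lit 10, nat_lit 10, nat_lit 10, nat_lit 10, nat_lit 10, nat_lit 10, nat_lit 10, nat_lit 10, nat_lit 10, nat_lit 10, nat_lit 10, nat_lit 10, nat_lit 10, nat_lit 10, nat_lit 10, nat_lit 10, nat_lit 10, nat_lit 10, nat_lit 10, nat_lit 10, nat_lit 10, nat_lit 10, nat_lit 10, nat_lit 10, nat_lit 10, nat_lit 10, nat_lit 10, nat_lit 10, nat_lit 10, nat_lit 10, nat_lit 10, nat_lit 10, nat_lit 10, nat_lit 10, nat_lit 10, nat_lit 10, nat_lit 10, nat_lit 10, nat_lit 10, nat_lit 10, nat_lit 10, nat_lit 10, nat_lit 10, nat_lit 10, nat_lit 10, nat_lit 10, nat_lit 10, nat_lit 10, nat_lit 10, nat_lit 10, nat_lit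 10, nat_lit 10, nat_lit 10] [nat_lit 0, nat_lit 0, nat_lit 0, nat_lit 0, nat_lit 0, nat_lit 0, nat_lit 0, nat_lit 0, nat_lit 0, nat_lit 0, nat_lit 0, nat_lit 0, nat_lit 0, nat_lit 0, nat_lit 0, nat_lit 0, nat_lit 0, nat_lit 0, nat_lit 0, nat_lit 0, nat_lit 0, nat_lit 0, nat_lit 0, nat_lit 0, nat_lit 0, nat_lit 0, nat_lit 0, nat_lit 0, nat_lit 0, nat_lit 0, nat_lit 0, nat_lit 0, nat_lit 0, nat_lit 0, nat_lit 0, nat_lit 0, nat_lit 0, nat_lit 0, nat_lit 0, nat_lit 0, nat_lit 0, nat_lit 0, nat_lit 0, nat_lit 0, nat_lit 0, nat_lit 0, nat_lit 0, nat_lit 0, nat_lit 0, nat_lit 0, nat_lit 0, nat_lit 0, nat_lit 0, nat_lit 0, nat_lit 0, nat_lit 0, nat_lit 0, nat_lit 0, nat_lit 0, nat_lit 0, nat_lit 0, nat_lit 0, nat_lit 0, nat_lit 0]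
noncomputable def qR1w : List (List ℕ) := [[nat_lit 1, nat_lit 56237341950, nat_lit 1, nat_lit 18569599257, nat_lit 2, nat_lit 24229028892],
  [nat_lit 1, nat_lit 578937470, nat_lit 1, nat_lit 45801134718, nat_lit 1, nat_lit 112],
  [nat_lit 1, nat_lit 18589504512, nat_lit 1, nat_lit 35325756416, nat_lit 0, nat_lit 0]]
noncomputable def qR1If : ℕ → ℕ := chkD1 (mul2 (nat_lit 78)) qD (fun x => hi (nat_lit 72) (cNe0 x)) qR1w (nat_lit 1) (nat_lit 3)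
noncomputable def qR1Of : ℕ → ℕ := chkR (img2 (nat_lit 78) qL1P) (img2 (nat_lit 78) (fun x => hi (nat_lit 72) (cNe0 x))) (brow (nat_lit 78)) Y qR1a (nat_lit 693) qB qR1w (nat_lit 3)
noncomputable def qR2w : List (List ℕ) := [[nat_lit 2, nat_lit 56237341950, nat_lit 1, nat_lit 30749638223, nat_lit 2, nat_lit 3300401522],
  [nat_lit 2, nat_lit 2769405045, nat_lit 1, nat_lit 60233626741, nat_lit 1, nat_lit 142]]
noncomputable def qR2If : ℕ → ℕ := chkD1 (mul2 (nat_lit 78)) qD (fun x => hi (nat_lit 72) (cNe0 x)) qR2w (nat_lit 2) (nat_lit 3)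
noncomputable def qR2Of : ℕ → ℕ := chkR (img2 (nat_lit 78) qL2P) (img2 (nat_lit 78) (fun x => hi (nat_lit 72) (cNe0 x))) (brow (nat_lit 78)) Y qR2a (nat_lit 693) qB qR2w (nat_lit 2)
noncomputable abbrev qG : Subgroup GA := (Subgroup.map (MonoidHom.id GA) H) ⊔ zpowers (mA.elt (qD 1))
noncomputable def ZYf : ℕ → ℕ := chkY can0 (brow (nat_lit 78)) Z (nat_lit 3510)
noncomputable def Gg : ℕ → ℕ := cons1 (qD 1) Hg
noncomputable def ZROf : ℕ → ℕ := chkO (img2 (nat_lit 78) Gg) (brow (nat_lit 78)) Z ZRa (nat_lit 3510) [nat_lit 828]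
noncomputable def ZFf : ℕ → ℕ := chkF (img2 (nat_lit 78) Hg) (brow (nat_lit 78)) Z (nat_lit 828) []
noncomputable def qe : ℕ → ℕ := del1 (mul2 (nat_lit 78)) qD (nat_lit 2) (nat_lit 38) (fun x => hi (nat_lit 72) (cNe0 x))
noncomputable def GPf : ℕ → ℕ := chkP (mul2 (nat_lit 78)) (one2 (nat_lit 78)) Gg qe [[nat_lit 46613089811735033436718, nat_lit 2686352647728164045410],
  [nat_lit 407045943867661, nat_lit 102374623445789],
  [nat_lit 74895681901638456087530, nat_lit 23859320607095199731862]] (nat_lit 13)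
noncomputable def crOf : ℕ → ℕ := chkO (img2 (nat_lit 78) Gg) (brow (nat_lit 78)) cry cra (nat_lit 78) [nat_lit 10]
noncomputable def crVf : ℕ → ℕ := chkV (brow (nat_lit 78)) cry (nat_lit 78) (crm 0)
noncomputable def crFf : ℕ → ℕ := chkF (img2 (nat_lit 78) Hg) (brow (nat_lit 78)) cry (nat_lit 10) []
noncomputable def hmROf : ℕ → ℕ := chkO (img2 (nat_lit 78) (shf qL1P (nat_lit 0))) (brow (nat_lit 78)) Y hmRa (nat_lit 693) [nat_lit 473, nat_lit 54, nat_lit 304]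
noncomputable def hmEf : ℕ → ℕ := chkE hmt (fun x => hi (nat_lit 72) (cNe0 x)) [nat_lit 107318870699, nat_lit 74868944521]
noncomputable abbrev hmg1 : ℕ → ℕ := cons1 (hmt 1) (shf qL1P (nat_lit 0))
noncomputable def hmR1Of : ℕ → ℕ := chkO (img2 (nat_lit 78) hmg1) (brow (nat_lit 78)) Y hmR1a (nat_lit 693) [nat_lit 473]
noncomputable abbrev hmg0 : ℕ → ℕ := cons1 (hmt 0) (shf qL1P (nat_lit 0))
noncomputable def hmR0Of : ℕ → ℕ := chkO (img2 (nat_lit 78) hmg0) (brow (nat_lit 78)) Y hmR0a (nat_lit 693) [nat_lit 473]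
noncomputable def HPf : ℕ → ℕ := chkP (mul2 (nat_lit 78)) (one2 (nat_lit 78)) Hg Hg [[0], [1]] (nat_lit 11)
noncomputable def TTf : ℕ → ℕ := chkT (mul2 (nat_lit 78)) (one2 (nat_lit 78)) qD Tx dc [2, 2, 3]

end Cfsg.Agent.H4.F22
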