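import Cfsg.Agent.H4.F22C0

set_option autoImplicit false
set_option maxRecDepth 100000

namespace Cfsg.Agent.H4.F22

open Subgroup Cfsg.Agent.H5 Cfsg.Agent.H5.Mdl 

attribute [local irreducible] look Tr.get

theorem NI : ∀ i < 2, (chkI (mul2 (nat_lit 78)) (one2 (nat_lit 78)) (fun s => hi (nat_lit 72) (Ng s)) Ni) i = 0 :=
  (rng_step (all0 _) NI_0)
theorem NJ : ∀ i < 2, (fun s => chkU (lo (nat_lit 72) (Ng s)) 11) i = 0 :=
  (rng_step (all0 _) NJ_0)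
theorem N_top : ∀ s < 2, mP.In ⊤ (Ng s) :=
  fun s hs => in_pair (in_of_chkI mA (fun _ => rfl) NI s hs) (in_SU6 (NJ s hs))
theorem N_in : ∀ s < 2, mP.In N (Ng s) :=
  in_gn N_top
theorem N_eg : mP.El N Ng :=
  el_gn N_top
theorem cN0S : ∀ i < 693, (chkS2 (pmul (mul2 (nat_lit 78)) (mulF (nat_lit 6)) (nat_lit 72)) Ng (nat_lit 2) cNT0 cNe1 cN0c (nat_lit 10) (nat_lit 693)) i = 0 :=
  (rng_step (rng_step (all0 _) cN0S_0) cN0S_1)
theorem cN0elT : mP.El N cNT0 :=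
  el_of_pad (inT_of_chkS2 (m := mP) cN0T0 (by decide) N_in cN0S)
theorem cN0G : ∀ i < 2, (chkG (pmul (mul2 (nat_lit 78)) (mulF (nat_lit 6)) (nat_lit 72)) Ng cNT0 cNK1g [[nat_lit 480, nat_lit 579, nat_lit 1, nat_lit 1, nat_lit 1],
  [nat_lit 466, nat_lit 148, nat_lit 0, nat_lit 0, nat_lit 1]]) i = 0 :=
  (rng_step (all0 _) cN0G_0)
theorem cN0inG : ∀ s < 2, mP.In N (cNK1g s) :=
  in_of_chkG N_eg cN0elT cN0G
theorem cNK1_top : ∀ s < 2, mP.In ⊤ (cNK1g s) :=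
  fun s hs => (cN0inG s hs).top
theorem cNK1_in : ∀ s < 2, mP.In cNK1 (cNK1g s) :=
  in_gn cNK1_top
theorem cNK1_eg : mP.El cNK1 cNK1g :=
  el_gn cNK1_top
theorem cN0le : cNK1 ≤ N :=
  gn_le cN0inG
theorem cN1S : ∀ i < 180, (chkS2 (pmul (mul2 (nat_lit 78)) (mulF (nat_lit 6)) (nat_lit 72)) cNK1g (nat_lit 2) cNT1 cNe2 cN1c (nat_lit 8) (nat_lit 180)) i = 0 :=
  (rng_step (all0 _) cN1S_0)
theorem cN1elT : mP.El cNK1 cNT1 :=
  el_of_pad (inT_of_chkS2 (m := mP) cN1T0 (by decide) cNK1_in cN1S)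
theorem cN1G : ∀ i < 2, (chkG (pmul (mul2 (nat_lit 78)) (mulF (nat_lit 6)) (nat_lit 72)) cNK1g cNT1 cNK2g [[nat_lit 22, nat_lit 86, nat_lit 0, nat_lit 0, nat_lit 0],
  [nat_lit 1, nat_lit 157, nat_lit 0, nat_lit 1, nat_lit 1]]) i = 0 :=
  (rng_step (all0 _) cN1G_0)
theorem cN1inG : ∀ s < 2, mP.In cNK1 (cNK2g s) :=
  in_of_chkG cNK1_eg cN1elT cN1G
theorem cNK2_top : ∀ s < 2, mP.In ⊤ (cNK2g s) :=
  fun s hs => (cN1inG s hs).top
theorem cNK2_in : ∀ s < 2, mP.In cNK2 (cNK2g s) :=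
  in_gn cNK2_top
theorem cNK2_eg : mP.El cNK2 cNK2g :=
  el_gn cNK2_top
theorem cN1le : cNK2 ≤ cNK1 :=
  gn_le cN1inG
theorem cN2S : ∀ i < 3, (chkS2 (pmul (mul2 (nat_lit 78)) (mulF (nat_lit 6)) (nat_lit 72)) cNK2g (nat_lit 2) cNT2 cNe3 cN2c (nat_lit 2) (nat_lit 3)) i = 0 :=
  (rng_step (all0 _) cN2S_0)
theorem cN2elT : mP.El cNK2 cNT2 :=
  el_of_pad (inT_of_chkS2 (m := mP) cN2T0 (by decide) cNK2_in cN2S)
theorem cN2G : ∀ i < 3, (chkG (pmul (mul2 (nat_lit 78)) (mulF (nat_lit 6)) (nat_lit 72)) cNK2g cNT2 cNK3g [[nat_lit 2, nat_lit 0, nat_lit 1, nat_lit 1],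
  [nat_lit 2, nat_lit 0, nat_lit 0, nat_lit 1],
  [nat_lit 0, nat_lit 0, nat_lit 0, nat_lit 0, nat_lit 0]]) i = 0 :=
  (rng_step (all0 _) cN2G_0)
theorem cN2inG : ∀ s < 3, mP.In cNK2 (cNK3g s) :=
  in_of_chkG cNK2_eg cN2elT cN2G
theorem cNK3_top : ∀ s < 3, mP.In ⊤ (cNK3g s) :=
  fun s hs => (cN2inG s hs).top
theorem cNK3_in : ∀ s < 3, mP.In cNK3 (cNK3g s) :=
  in_gn cNK3_top
theorem cNK3_eg : mP.El cNK3 cNK3g :=
  el_gn cNK3_top
theorem cN2le : cNK3 ≤ cNK2 :=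
  gn_le cN2inG
theorem cN3S : ∀ i < 48, (chkS2 (pmul (mul2 (nat_lit 78)) (mulF (nat_lit 6)) (nat_lit 72)) cNK3g (nat_lit 3) cNT3 cNe4 cN3c (nat_lit 6) (nat_lit 48)) i = 0 :=
  (rng_step (all0 _) cN3S_0)
theorem cN3elT : mP.El cNK3 cNT3 :=
  el_of_pad (inT_of_chkS2 (m := mP) cN3T0 (by decide) cNK3_in cN3S)
theorem cN3G : ∀ i < 10, (chkG (pmul (mul2 (nat_lit 78)) (mulF (nat_lit 6)) (nat_lit 72)) cNK3g cNT3 cNK4g [[nat_lit 12, nat_lit 13, nat_lit 2, nat_lit 1],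
  [nat_lit 3, nat_lit 40, nat_lit 1, nat_lit 2, nat_lit 0],
  [nat_lit 30, nat_lit 39, nat_lit 1, nat_lit 0, nat_lit 0],
  [nat_lit 20, nat_lit 28, nat_lit 1, nat_lit 0],
  [nat_lit 37, nat_lit 39, nat_lit 1, nat_lit 0],
  [nat_lit 44, nat_lit 37, nat_lit 0, nat_lit 2, nat_lit 0],
  [nat_lit 38, nat_lit 36, nat_lit 1, nat_lit 0],
  [nat_lit 23, nat_lit 18, nat_lit 1],
  [nat_lit 6, nat_lit 13, nat_lit 0, nat_lit 2, nat_lit 0],
  [nat_lit 32, nat_lit 47, nat_lit 0, nat_lit 1]]) i = 0 :=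
  (rng_step (all0 _) cN3G_0)
theorem cN3inG : ∀ s < 10, mP.In cNK3 (cNK4g s) :=
  in_of_chkG cNK3_eg cN3elT cN3G
theorem cNK4_top : ∀ s < 10, mP.In ⊤ (cNK4g s) :=
  fun s hs => (cN3inG s hs).top
theorem cNK4_in : ∀ s < 10, mP.In cNK4 (cNK4g s) :=
  in_gn cNK4_top
theorem cNK4_eg : mP.El cNK4 cNK4g :=
  el_gn cNK4_top
theorem cN3le : cNK4 ≤ cNK3 :=
  gn_le cN3inG
theorem cN4S : ∀ i < 32, (chkS2 (pmul (mul2 (nat_lit 78)) (mulF (nat_lit 6)) (nat_lit 72)) cNK4g (nat_lit 10) cNT4 cNe5 cN4c (nat_lit 5) (nat_lit 32)) i = 0 :=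
  (rng_step (all0 _) cN4S_0)
theorem cN4elT : mP.El cNK4 cNT4 :=
  el_of_pad (inT_of_chkS2 (m := mP) cN4T0 (by decide) cNK4_in cN4S)
theorem cN4G : ∀ i < 5, (chkG (pmul (mul2 (nat_lit 78)) (mulF (nat_lit 6)) (nat_lit 72)) cNK4g cNT4 cNK5g [[nat_lit 0, nat_lit 1, nat_lit 4, nat_lit 2, nat_lit 3],
  [nat_lit 24, nat_lit 30, nat_lit 1],
  [nat_lit 3, nat_lit 10, nat_lit 8, nat_lit 1],
  [nat_lit 26, nat_lit 11, nat_lit 9, nat_lit 9, nat_lit 6],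
  [nat_lit 16, nat_lit 5, nat_lit 7, nat_lit 9]]) i = 0 :=
  (rng_step (all0 _) cN4G_0)
theorem cN4inG : ∀ s < 5, mP.In cNK4 (cNK5g s) :=
  in_of_chkG cNK4_eg cN4elT cN4G
theorem cNK5_top : ∀ s < 5, mP.In ⊤ (cNK5g s) :=
  fun s hs => (cN4inG s hs).top
theorem cNK5_in : ∀ s < 5, mP.In cNK5 (cNK5g s) :=
  in_gn cNK5_top
theorem cNK5_eg : mP.El cNK5 cNK5g :=
  el_gn cNK5_top
theorem cN4le : cNK5 ≤ cNK4 :=
  gn_le cN4inG
theorem cN5S : ∀ i < 32, (chkS2 (pmul (mul2 (nat_lit 78)) (mulF (nat_lit 6)) (nat_lit 72)) cNK5g (nat_lit 5) cNT5 cNe6 cN5c (nat_lit 5) (nat_lit 32)) i = 0 :=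
  (rng_step (all0 _) cN5S_0)
theorem cN5elT : mP.El cNK5 cNT5 :=
  el_of_pad (inT_of_chkS2 (m := mP) cN5T0 (by decide) cNK5_in cN5S)
theorem cN5G : ∀ i < 2, (chkG (pmul (mul2 (nat_lit 78)) (mulF (nat_lit 6)) (nat_lit 72)) cNK5g cNT5 cNK6g [[nat_lit 14, nat_lit 25, nat_lit 3],
  [nat_lit 20, nat_lit 29, nat_lit 3]]) i = 0 :=
  (rng_step (all0 _) cN5G_0)
theorem cN5inG : ∀ s < 2, mP.In cNK5 (cNK6g s) :=
  in_of_chkG cNK5_eg cN5elT cN5G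
theorem cNK6_top : ∀ s < 2, mP.In ⊤ (cNK6g s) :=
  fun s hs => (cN5inG s hs).top
theorem cNK6_in : ∀ s < 2, mP.In cNK6 (cNK6g s) :=
  in_gn cNK6_top
theorem cNK6_eg : mP.El cNK6 cNK6g :=
  el_gn cNK6_top
theorem cN5le : cNK6 ≤ cNK5 :=
  gn_le cN5inG
theorem cN6S : ∀ i < 3, (chkS2 (pmul (mul2 (nat_lit 78)) (mulF (nat_lit 6)) (nat_lit 72)) cNK6g (nat_lit 2) cNT6 (fun _ => (join (nat_lit 72) (oneF (nat_lit 6)) (one2 (nat_lit 78)))) cN6c (nat_lit 2) (nat_lit 3)) i = 0 :=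
  (rng_step (all0 _) cN6S_0)
theorem cN6elT : mP.El cNK6 cNT6 :=
  el_of_pad (inT_of_chkS2 (m := mP) cN6T0 (by decide) cNK6_in cN6S)
theorem cN6le : (⊥ : Subgroup (GA × SU6)) ≤ cNK6 :=
  bot_le
theorem cN6ub : Nat.card cNK6 ≤ 3 :=
  (ub_of_chkS2 (m := mP) (el_one (m := mP) ⊥) (by decide) cN6T0 cN6S card_bot_le).trans (by norm_num)
theorem cN6el : mP.El cNK6 cNe6 :=
  el_cel1 cN6elT ((el_one (m := mP) ⊥).mono cN6le) _
theorem cN5ub : Nat.card cNK5 ≤ 96 :=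
  (ub_of_chkS2 (m := mP) cN6el (by decide) cN5T0 cN5S cN6ub).trans (by norm_num)
theorem cN5el : mP.El cNK5 cNe5 :=
  el_cel1 cN5elT (cN6el.mono cN5le) _
theorem cN4ub : Nat.card cNK4 ≤ 3072 :=
  (ub_of_chkS2 (m := mP) cN5el (by decide) cN4T0 cN4S cN5ub).trans (by norm_num)
theorem cN4el : mP.El cNK4 cNe4 :=
  el_cel1 cN4elT (cN5el.mono cN4le) _
theorem cN3ub : Nat.card cNK3 ≤ 147456 :=
  (ub_of_chkS2 (m := mP) cN4el (by decide) cN3T0 cN3S cN4ub).trans (by norm_num)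
theorem cN3el : mP.El cNK3 cNe3 :=
  el_cel1 cN3elT (cN4el.mono cN3le) _
theorem cN2ub : Nat.card cNK2 ≤ 442368 :=
  (ub_of_chkS2 (m := mP) cN3el (by decide) cN2T0 cN2S cN3ub).trans (by norm_num)
theorem cN2el : mP.El cNK2 cNe2 :=
  el_cel1 cN2elT (cN3el.mono cN2le) _
theorem cN1ub : Nat.card cNK1 ≤ 79626240 :=
  (ub_of_chkS2 (m := mP) cN2el (by decide) cN1T0 cN1S cN2ub).trans (by norm_num)
theorem cN1el : mP.El cNK1 cNe1 :=
  el_cel1 cN1elT (cN2el.mono cN1le) _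
theorem cN0ub : Nat.card N ≤ 55180984320 :=
  (ub_of_chkS2 (m := mP) cN1el (by decide) cN0T0 cN0S cN1ub).trans (by norm_num)
theorem cN0el : mP.El N cNe0 :=
  el_cel1 cN0elT (cN1el.mono cN0le) _
theorem H_eq : H = mA.gn Hg 2 :=
  (pr_fst mA mU 72 hb).map_gn N_top
theorem H_eg : mA.El H Hg :=
  (pr_fst mA mU 72 hb).el N_eg
theorem ZE : ∀ i < 2, (chkE Zc cNe0 [nat_lit 25232932864, nat_lit 68719476736]) i = 0 :=
  (rng_step (all0 _) ZE_0)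
theorem Zin : ∀ s < 2, mP.In N (Zc s) :=
  in_of_chkE cN0el ZE
theorem din : mA.In (N.comap (MonoidHom.inl GA SU6)) dc :=
  mem_comap_inl (Zin 0 (by decide)) rfl Z0
theorem win : mU.In (N.comap (MonoidHom.inr GA SU6)) wc :=
  mem_comap_inr (Zin 1 (by decide)) Z1 rfl
theorem dH : mA.In H dc :=
  (pr_fst mA mU 72 hb).in (Zin 0 (by decide))
theorem w3 : 3 ≤ Nat.card (zpowers (mU.elt wc)) :=
  le_card_zpowers keyU win.top Nat.prime_three wQ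
theorem Hub : Nat.card H ≤ 18393661440 :=
  card_fst_le (zpowers_le.2 win.elt_mem) w3 (by decide) (cN0ub.trans (by norm_num))
theorem U_eq : U = mU.gn Ug 2 :=
  (pr_snd mA mU 72 hb).map_gn N_top
theorem U_eg : mU.El U Ug :=
  (pr_snd mA mU 72 hb).el N_eg
theorem SE : ∀ i < 2, (fun s => Nat.xor (Ug s) (SP s)) i = 0 :=
  (rng_step (all0 _) SE_0)
theorem Sin0 : ∀ u < 2, mU.In U (SP u) :=
  fun s hs => (U_eg s).of_eq (SE s hs)
theorem SW : ∀ i < 10, (chkPl (mulF (nat_lit 6)) SP [[nat_lit 1, nat_lit 1, nat_lit 0, nat_lit 1, nat_lit 0, nat_lit 0, nat_lit 0, nat_lit 1, nat_lit 1, nat_lit 1, nat_lit 1],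
  [nat_lit 0, nat_lit 1, nat_lit 0, nat_lit 1, nat_lit 1, nat_lit 0, nat_lit 1, nat_lit 0, nat_lit 1, nat_lit 1, nat_lit 1, nat_lit 1],
  [nat_lit 3, nat_lit 3, nat_lit 2, nat_lit 2, nat_lit 3, nat_lit 2, nat_lit 2, nat_lit 3, nat_lit 3, nat_lit 3, nat_lit 3, nat_lit 2, nat_lit 3, nat_lit 2],
  [nat_lit 3, nat_lit 2, nat_lit 2, nat_lit 2, nat_lit 2, nat_lit 2, nat_lit 2, nat_lit 3, nat_lit 2, nat_lit 2, nat_lit 3, nat_lit 2, nat_lit 2, nat_lit 2, nat_lit 3],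
  [nat_lit 3, nat_lit 3, nat_lit 3, nat_lit 3, nat_lit 2, nat_lit 2, nat_lit 2],
  [nat_lit 3, nat_lit 3, nat_lit 2, nat_lit 2, nat_lit 2, nat_lit 3, nat_lit 3],
  [nat_lit 6, nat_lit 5, nat_lit 7, nat_lit 6, nat_lit 7],
  [nat_lit 4, nat_lit 6, nat_lit 5, nat_lit 7],
  [nat_lit 8, nat_lit 8, nat_lit 8, nat_lit 9, nat_lit 9, nat_lit 8, nat_lit 9, nat_lit 9],
  [nat_lit 9, nat_lit 9, nat_lit 8, nat_lit 8, nat_lit 9, nat_lit 8, nat_lit 9, nat_lit 8, nat_lit 9]] (nat_lit 2)) i = 0 :=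
  (rng_step (all0 _) SW_0)
theorem Sel : mU.El U SP :=
  el_of_pad (in_pool Sin0 SW)
theorem Ss0 : Suf mU U SP 0 :=
  suf0 Sel
theorem S0yY : ∀ i < 2079, (chkY can0 (brow (Nat.mul 2 (nat_lit 6))) S0y (nat_lit 2079)) i = 0 :=
  allB (rngB_step (allB0 _ _) S0yY_0) (by decide)
theorem S0yD : Dist (fun i => pvU (pt (brow (Nat.mul 2 (nat_lit 6))) S0y i)) 2079 :=
  dist_of_chk (canT4 (Equiv.refl _) hom suφ) S0yY
theorem S0RO : ∀ i < 2079, (chkO (img4 (nat_lit 6) (shf SP (nat_lit 0))) (brow (Nat.mul 2 (nat_lit 6))) S0y S0Ra (nat_lit 2079) [nat_lit 0]) i = 0 :=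
  allB (rngB_step (allB0 _ _) S0RO_0) (by decide)
theorem S0R : Reach U (fun i => pvU (pt (brow (Nat.mul 2 (nat_lit 6))) S0y i)) 2079 [nat_lit 0] :=
  reach_of_chk ((acts4 (m := mU) (Equiv.refl _) hom suφ hU (shf SP (nat_lit 0))).ex Ss0.el) S0RO
theorem S0X : ∀ i < 10, (chkFx (img4 (nat_lit 6) SP) (brow (Nat.mul 2 (nat_lit 6))) S0y (nat_lit 0) [nat_lit 0, nat_lit 0, nat_lit 0, nat_lit 0, nat_lit 0, nat_lit 0, nat_lit 0, nat_lit 0, nat_lit 0, nat_lit 0] (nat_lit 2)) i = 0 :=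
  (rng_step (all0 _) S0X_0)
theorem Ss1 : Suf mU SK1 SP 2 :=
  Ss0.step (by decide) (by decide) (acts4 (m := mU) (Equiv.refl _) hom suφ hU SP) S0X
theorem S1yY : ∀ i < 540, (chkY can0 (brow (Nat.mul 2 (nat_lit 6))) S1y (nat_lit 540)) i = 0 :=
  allB (rngB_step (allB0 _ _) S1yY_0) (by decide)
theorem S1yD : Dist (fun i => pvU (pt (brow (Nat.mul 2 (nat_lit 6))) S1y i)) 540 :=
  dist_of_chk (canT4 (Equiv.refl _) hom suφ) S1yY
theorem S1RO : ∀ i < 540, (chkO (img4 (nat_lit 6) (shf SP (nat_lit 2))) (brow (Nat.mul 2 (nat_lit 6))) S1y S1Ra (nat_lit 540) [nat_lit 0]) i = 0 :=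
  allB (rngB_step (allB0 _ _) S1RO_0) (by decide)
theorem S1R : Reach SK1 (fun i => pvU (pt (brow (Nat.mul 2 (nat_lit 6))) S1y i)) 540 [nat_lit 0] :=
  reach_of_chk ((acts4 (m := mU) (Equiv.refl _) hom suφ hU (shf SP (nat_lit 2))).ex Ss1.el) S1RO
theorem S1X : ∀ i < 8, (chkFx (img4 (nat_lit 6) SP) (brow (Nat.mul 2 (nat_lit 6))) S1y (nat_lit 0) [nat_lit 0, nat_lit 0, nat_lit 0, nat_lit 0, nat_lit 0, nat_lit 0, nat_lit 0, nat_lit 0] (nat_lit 4)) i = 0 :=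
  (rng_step (all0 _) S1X_0)
theorem Ss2 : Suf mU SK2 SP 4 :=
  Ss1.step (by decide) (by decide) (acts4 (m := mU) (Equiv.refl _) hom suφ hU SP) S1X
theorem S2yY : ∀ i < 128, (chkY can0 (brow (Nat.mul 2 (nat_lit 6))) S2y (nat_lit 128)) i = 0 :=
  allB (rngB_step (allB0 _ _) S2yY_0) (by decide)
theorem S2yD : Dist (fun i => pvU (pt (brow (Nat.mul 2 (nat_lit 6))) S2y i)) 128 :=
  dist_of_chk (canT4 (Equiv.refl _) hom suφ) S2yY
theorem S2RO : ∀ i < 128, (chkO (img4 (nat_lit 6) (shf SP (nat_lit 4))) (brow (Nat.mul 2 (nat_lit 6))) S2y S2Ra (nat_lit 128) [nat_lit 0]) i = 0 :=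
  allB (rngB_step (allB0 _ _) S2RO_0) (by decide)
theorem S2R : Reach SK2 (fun i => pvU (pt (brow (Nat.mul 2 (nat_lit 6))) S2y i)) 128 [nat_lit 0] :=
  reach_of_chk ((acts4 (m := mU) (Equiv.refl _) hom suφ hU (shf SP (nat_lit 4))).ex Ss2.el) S2RO
theorem S2X : ∀ i < 4, (chkFx (img4 (nat_lit 6) SP) (brow (Nat.mul 2 (nat_lit 6))) S2y (nat_lit 0) [nat_lit 0, nat_lit 0, nat_lit 0, nat_lit 0] (nat_lit 8)) i = 0 :=
  (rng_step (all0 _) S2X_0)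
theorem Ss3 : Suf mU SK3 SP 8 :=
  Ss2.step (by decide) (by decide) (acts4 (m := mU) (Equiv.refl _) hom suφ hU SP) S2X
theorem S3yY : ∀ i < 32, (chkY can0 (brow (Nat.mul 2 (nat_lit 6))) S3y (nat_lit 32)) i = 0 :=
  allB (rngB_step (allB0 _ _) S3yY_0) (by decide)
theorem S3yD : Dist (fun i => pvU (pt (brow (Nat.mul 2 (nat_lit 6))) S3y i)) 32 :=
  dist_of_chk (canT4 (Equiv.refl _) hom suφ) S3yY
theorem S3RO : ∀ i < 32, (chkO (img4 (nat_lit 6) (shf SP (nat_lit 8))) (brow (Nat.mul 2 (nat_lit 6))) S3y S3Ra (nat_lit 32) [nat_lit 0]) i = 0 :=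
  allB (rngB_step (allB0 _ _) S3RO_0) (by decide)
theorem S3R : Reach SK3 (fun i => pvU (pt (brow (Nat.mul 2 (nat_lit 6))) S3y i)) 32 [nat_lit 0] :=
  reach_of_chk ((acts4 (m := mU) (Equiv.refl _) hom suφ hU (shf SP (nat_lit 8))).ex Ss3.el) S3RO
theorem S3X : ∀ i < 2, (chkFx (img4 (nat_lit 6) SP) (brow (Nat.mul 2 (nat_lit 6))) S3y (nat_lit 0) [nat_lit 0, nat_lit 0] (nat_lit 10)) i = 0 :=
  (rng_step (all0 _) S3X_0)
theorem Ss4 : Suf mU SK4 SP 10 :=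
  Ss3.step (by decide) (by decide) (acts4 (m := mU) (Equiv.refl _) hom suφ hU SP) S3X
theorem S4yY : ∀ i < 6, (chkY can0 (brow (Nat.mul 2 (nat_lit 6))) S4y (nat_lit 6)) i = 0 :=
  allB (rngB_step (allB0 _ _) S4yY_0) (by decide)
theorem S4yD : Dist (fun i => pvU (pt (brow (Nat.mul 2 (nat_lit 6))) S4y i)) 6 :=
  dist_of_chk (canT4 (Equiv.refl _) hom suφ) S4yY
theorem S4RO : ∀ i < 6, (chkO (img4 (nat_lit 6) (shf SP (nat_lit 10))) (brow (Nat.mul 2 (nat_lit 6))) S4y S4Ra (nat_lit 6) [nat_lit 0]) i = 0 :=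
  allB (rngB_step (allB0 _ _) S4RO_0) (by decide)
theorem S4R : Reach SK4 (fun i => pvU (pt (brow (Nat.mul 2 (nat_lit 6))) S4y i)) 6 [nat_lit 0] :=
  reach_of_chk ((acts4 (m := mU) (Equiv.refl _) hom suφ hU (shf SP (nat_lit 10))).ex Ss4.el) S4RO
theorem S4X : ∀ i < 0, (chkFx (img4 (nat_lit 6) SP) (brow (Nat.mul 2 (nat_lit 6))) S4y (nat_lit 0) [] (nat_lit 12)) i = 0 :=
  (all0 _)
theorem Ss5 : Suf mU SK5 SP 12 :=
  Ss4.step (by decide) (by decide) (acts4 (m := mU) (Equiv.refl _) hom suφ hU SP) S4X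
theorem Slb5 : 1 ≤ Nat.card SK5 :=
  one_le_card _
theorem Slb4 : 6 ≤ Nat.card SK4 :=
  le_of_eq_of_le (by norm_num) (card_ge S4yD S4R Slb5)
theorem Slb3 : 192 ≤ Nat.card SK3 :=
  le_of_eq_of_le (by norm_num) (card_ge S3yD S3R Slb4)
theorem Slb2 : 24576 ≤ Nat.card SK2 :=
  le_of_eq_of_le (by norm_num) (card_ge S2yD S2R Slb3)
theorem Slb1 : 13271040 ≤ Nat.card SK1 :=
  le_of_eq_of_le (by norm_num) (card_ge S1yD S1R Slb2)
theorem Slb0 : 27590492160 ≤ Nat.card U :=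
  le_of_eq_of_le (by norm_num) (card_ge S0yD S0R Slb1)
theorem UJ : ∀ i < 2, (fun s => chkJ (mulF (nat_lit 6)) (Ug s) wc wc) i = 0 :=
  (rng_step (all0 _) UJ_0)
theorem HJ : ∀ i < 2, (fun s => chkJ (mul2 (nat_lit 78)) (Hg s) dc dc) i = 0 :=
  (rng_step (all0 _) HJ_0)
theorem YY : ∀ i < 693, (chkY can0 (brow (nat_lit 78)) Y (nat_lit 693)) i = 0 :=
  allB (rngB_step (allB0 _ _) YY_0) (by decide)
theorem YD : Dist (fun i => pvA (pt (brow (nat_lit 78)) Y i)) 693 :=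
  dist_of_chk (canT2 φA) YY
theorem qDI : ∀ i < 3, (chkI (mul2 (nat_lit 78)) (one2 (nat_lit 78)) qD qDi) i = 0 :=
  (rng_step (all0 _) qDI_0)
theorem qelD : mA.El ⊤ qD :=
  el_of_pad (in_of_chkI mA (fun _ => rfl) qDI)
theorem qd0 : (mA.elt (qD 0)) = 1 :=
  elt_of_eq_one qD0
theorem qtinv : (mA.elt (qD 1))⁻¹ = (mA.elt (qD 1)) :=
  elt_inv_eq (qelD 1) (qelD 1) qtt
theorem qRHO : ∀ i < 693, (chkO (img2 (nat_lit 78) Hg) (brow (nat_lit 78)) Y qRHa (nat_lit 693) [nat_lit 473]) i = 0 :=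
  allB (rngB_step (allB0 _ _) qRHO_0) (by decide)
theorem qRH : Reach H (fun i => pvA (pt (brow (nat_lit 78)) Y i)) 693 [nat_lit 473] :=
  reach_of_chk ((acts2 (m := mA) φA hA Hg).ex H_eg) qRHO
theorem qL1E : ∀ i < 2, (chkE qL1P (fun x => hi (nat_lit 72) (cNe0 x)) [nat_lit 14608046080, nat_lit 37667252224]) i = 0 :=
  (rng_step (all0 _) qL1E_0)
theorem qL1C : ∀ i < 2, (chkL (mul2 (nat_lit 78)) (qD 1) qL1P (fun x => hi (nat_lit 72) (cNe0 x)) [nat_lit 21813922816, nat_lit 306186240]) i = 0 :=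
  (rng_step (all0 _) qL1C_0)
theorem qL1in0 : ∀ u < 2, mA.In qL1 (qL1P u) :=
  in_Lf (pr_id mA) ((pr_fst mA mU 72 hb).el cN0el) (qelD 1) (in_of_chkE ((pr_fst mA mU 72 hb).el cN0el) qL1E) qL1C
theorem qL1W : ∀ i < 8, (chkPl (mul2 (nat_lit 78)) qL1P [[nat_lit 0, nat_lit 0, nat_lit 0, nat_lit 0, nat_lit 0, nat_lit 1, nat_lit 0, nat_lit 1, nat_lit 0, nat_lit 0, nat_lit 1],
  [nat_lit 1, nat_lit 1, nat_lit 1, nat_lit 0, nat_lit 0, nat_lit 1, nat_lit 0],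
  [nat_lit 3, nat_lit 2, nat_lit 2, nat_lit 2, nat_lit 3, nat_lit 3, nat_lit 2],
  [nat_lit 3, nat_lit 2, nat_lit 3, nat_lit 2, nat_lit 3, nat_lit 2, nat_lit 3, nat_lit 2, nat_lit 3, nat_lit 3, nat_lit 2, nat_lit 3],
  [nat_lit 2, nat_lit 3, nat_lit 2, nat_lit 3, nat_lit 3, nat_lit 3, nat_lit 2, nat_lit 2, nat_lit 3, nat_lit 3, nat_lit 2],
  [nat_lit 6, nat_lit 6, nat_lit 4, nat_lit 6],
  [nat_lit 4, nat_lit 6, nat_lit 6, nat_lit 5, nat_lit 5, nat_lit 6],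
  [nat_lit 0, nat_lit 8, nat_lit 0, nat_lit 8, nat_lit 0, nat_lit 8, nat_lit 0, nat_lit 8, nat_lit 0, nat_lit 8]] (nat_lit 2)) i = 0 :=
  (rng_step (all0 _) qL1W_0)
theorem qL1el : mA.El qL1 qL1P :=
  el_of_pad (in_pool qL1in0 qL1W)
theorem qL1s0 : Suf mA qL1 qL1P 0 :=
  suf0 qL1el
theorem qL10yY : ∀ i < 1, (chkY can0 (brow (nat_lit 78)) qL10y (nat_lit 1)) i = 0 :=
  allB (rngB_step (allB0 _ _) qL10yY_0) (by decide)
theorem qL10yD : Dist (fun i => pvA (pt (brow (nat_lit 78)) qL10y i)) 1 :=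
  dist_of_chk (canT2 φA) qL10yY
theorem qL10RO : ∀ i < 1, (chkO (img2 (nat_lit 78) (shf qL1P (nat_lit 0))) (brow (nat_lit 78)) qL10y qL10Ra (nat_lit 1) [nat_lit 0]) i = 0 :=
  allB (rngB_step (allB0 _ _) qL10RO_0) (by decide)
theorem qL10R : Reach qL1 (fun i => pvA (pt (brow (nat_lit 78)) qL10y i)) 1 [nat_lit 0] :=
  reach_of_chk ((acts2 (m := mA) φA hA (shf qL1P (nat_lit 0))).ex qL1s0.el) qL10RO
theorem qL10X : ∀ i < 10, (chkFx (img2 (nat_lit 78) qL1P) (brow (nat_lit 78)) qL10y (nat_lit 0) [nat_lit 0, nat_lit 0, nat_lit 0, nat_lit 0, nat_lit 0, nat_lit 0, nat_lit 0, nat_lit 0, nat_lit 0, nat_lit 0] (nat_lit 0)) i = 0 :=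
  (rng_step (all0 _) qL10X_0)
theorem qL1s1 : Suf mA qL1K1 qL1P 0 :=
  qL1s0.step (by decide) (by decide) (acts2 (m := mA) φA hA qL1P) qL10X
theorem qL11yY : ∀ i < 512, (chkY can0 (brow (nat_lit 78)) qL11y (nat_lit 512)) i = 0 :=
  allB (rngB_step (allB0 _ _) qL11yY_0) (by decide)
theorem qL11yD : Dist (fun i => pvA (pt (brow (nat_lit 78)) qL11y i)) 512 :=
  dist_of_chk (canT2 φA) qL11yY
theorem qL11RO : ∀ i < 512, (chkO (img2 (nat_lit 78) (shf qL1P (nat_lit 0))) (brow (nat_lit 78)) qL11y qL11Ra (nat_lit 512) [nat_lit 409]) i = 0 :=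
  allB (rngB_step (allB0 _ _) qL11RO_0) (by decide)
theorem qL11R : Reach qL1K1 (fun i => pvA (pt (brow (nat_lit 78)) qL11y i)) 512 [nat_lit 409] :=
  reach_of_chk ((acts2 (m := mA) φA hA (shf qL1P (nat_lit 0))).ex qL1s1.el) qL11RO
theorem qL11X : ∀ i < 8, (chkFx (img2 (nat_lit 78) qL1P) (brow (nat_lit 78)) qL11y (nat_lit 409) [nat_lit 0, nat_lit 0, nat_lit 0, nat_lit 0, nat_lit 0, nat_lit 0, nat_lit 0, nat_lit 0] (nat_lit 2)) i = 0 :=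
  (rng_step (all0 _) qL11X_0)
theorem qL1s2 : Suf mA qL1K2 qL1P 2 :=
  qL1s1.step (by decide) (by decide) (acts2 (m := mA) φA hA qL1P) qL11X
theorem qL12yY : ∀ i < 135, (chkY can0 (brow (nat_lit 78)) qL12y (nat_lit 135)) i = 0 :=
  allB (rngB_step (allB0 _ _) qL12yY_0) (by decide)
theorem qL12yD : Dist (fun i => pvA (pt (brow (nat_lit 78)) qL12y i)) 135 :=
  dist_of_chk (canT2 φA) qL12yY
theorem qL12RO : ∀ i < 135, (chkO (img2 (nat_lit 78) (shf qL1P (nat_lit 2))) (brow (nat_lit 78)) qL12y qL12Ra (nat_lit 135) [nat_lit 30]) i = 0 :=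
  allB (rngB_step (allB0 _ _) qL12RO_0) (by decide)
theorem qL12R : Reach qL1K2 (fun i => pvA (pt (brow (nat_lit 78)) qL12y i)) 135 [nat_lit 30] :=
  reach_of_chk ((acts2 (m := mA) φA hA (shf qL1P (nat_lit 2))).ex qL1s2.el) qL12RO
theorem qL12X : ∀ i < 6, (chkFx (img2 (nat_lit 78) qL1P) (brow (nat_lit 78)) qL12y (nat_lit 30) [nat_lit 0, nat_lit 0, nat_lit 0, nat_lit 0, nat_lit 0, nat_lit 0] (nat_lit 4)) i = 0 :=
  (rng_step (all0 _) qL12X_0)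
theorem qL1s3 : Suf mA qL1K3 qL1P 4 :=
  qL1s2.step (by decide) (by decide) (acts2 (m := mA) φA hA qL1P) qL12X
theorem qL13yY : ∀ i < 32, (chkY can0 (brow (nat_lit 78)) qL13y (nat_lit 32)) i = 0 :=
  allB (rngB_step (allB0 _ _) qL13yY_0) (by decide)
theorem qL13yD : Dist (fun i => pvA (pt (brow (nat_lit 78)) qL13y i)) 32 :=
  dist_of_chk (canT2 φA) qL13yY
theorem qL13RO : ∀ i < 32, (chkO (img2 (nat_lit 78) (shf qL1P (nat_lit 4))) (brow (nat_lit 78)) qL13y qL13Ra (nat_lit 32) [nat_lit 31]) i = 0 :=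
  allB (rngB_step (allB0 _ _) qL13RO_0) (by decide)
theorem qL13R : Reach qL1K3 (fun i => pvA (pt (brow (nat_lit 78)) qL13y i)) 32 [nat_lit 31] :=
  reach_of_chk ((acts2 (m := mA) φA hA (shf qL1P (nat_lit 4))).ex qL1s3.el) qL13RO
theorem qL13X : ∀ i < 3, (chkFx (img2 (nat_lit 78) qL1P) (brow (nat_lit 78)) qL13y (nat_lit 31) [nat_lit 0, nat_lit 0, nat_lit 0] (nat_lit 7)) i = 0 :=
  (rng_step (all0 _) qL13X_0)
theorem qL1s4 : Suf mA qL1K4 qL1P 7 :=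
  qL1s3.step (by decide) (by decide) (acts2 (m := mA) φA hA qL1P) qL13X
theorem qL14yY : ∀ i < 6, (chkY can0 (brow (nat_lit 78)) qL14y (nat_lit 6)) i = 0 :=
  allB (rngB_step (allB0 _ _) qL14yY_0) (by decide)
theorem qL14yD : Dist (fun i => pvA (pt (brow (nat_lit 78)) qL14y i)) 6 :=
  dist_of_chk (canT2 φA) qL14yY
theorem qL14RO : ∀ i < 6, (chkO (img2 (nat_lit 78) (shf qL1P (nat_lit 7))) (brow (nat_lit 78)) qL14y qL14Ra (nat_lit 6) [nat_lit 3]) i = 0 :=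
  allB (rngB_step (allB0 _ _) qL14RO_0) (by decide)
theorem qL14R : Reach qL1K4 (fun i => pvA (pt (brow (nat_lit 78)) qL14y i)) 6 [nat_lit 3] :=
  reach_of_chk ((acts2 (m := mA) φA hA (shf qL1P (nat_lit 7))).ex qL1s4.el) qL14RO
theorem qL14X : ∀ i < 1, (chkFx (img2 (nat_lit 78) qL1P) (brow (nat_lit 78)) qL14y (nat_lit 3) [nat_lit 0] (nat_lit 9)) i = 0 :=
  (rng_step (all0 _) qL14X_0)
theorem qL1s5 : Suf mA qL1K5 qL1P 9 :=
  qL1s4.step (by decide) (by decide) (acts2 (m := mA) φA hA qL1P) qL14X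
theorem dK : mA.In qL1K5 dc :=
  tE ▸ qL1s5 9 (by decide)
theorem qL1lb5 : 2 ≤ Nat.card qL1K5 :=
  two_le_card dK.elt_mem (ne_one_of_chkQ keyA dH.top dQ)
theorem qL1lb4 : 12 ≤ Nat.card qL1K4 :=
  le_of_eq_of_le (by norm_num) (card_ge qL14yD qL14R qL1lb5)
theorem qL1lb3 : 384 ≤ Nat.card qL1K3 :=
  le_of_eq_of_le (by norm_num) (card_ge qL13yD qL13R qL1lb4)
theorem qL1lb2 : 51840 ≤ Nat.card qL1K2 :=
  le_of_eq_of_le (by norm_num) (card_ge qL12yD qL12R qL1lb3)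
theorem qL1lb1 : 26542080 ≤ Nat.card qL1K1 :=
  le_of_eq_of_le (by norm_num) (card_ge qL11yD qL11R qL1lb2)
theorem qL1lb0 : 26542080 ≤ Nat.card qL1 :=
  le_of_eq_of_le (by norm_num) (card_ge qL10yD qL10R qL1lb1)
theorem qL2E : ∀ i < 2, (chkE qL2P (fun x => hi (nat_lit 72) (cNe0 x)) [nat_lit 47354806395, nat_lit 22827604434]) i = 0 :=
  (rng_step (all0 _) qL2E_0)
theorem qL2C : ∀ i < 2, (chkL (mul2 (nat_lit 78)) (qD 2) qL2P (fun x => hi (nat_lit 72) (cNe0 x)) [nat_lit 47354806395, nat_lit 22827604434]) i = 0 :=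
  (rng_step (all0 _) qL2C_0)
theorem qL2in0 : ∀ u < 2, mA.In qL2 (qL2P u) :=
  in_Lf (pr_id mA) ((pr_fst mA mU 72 hb).el cN0el) (qelD 2) (in_of_chkE ((pr_fst mA mU 72 hb).el cN0el) qL2E) qL2C
theorem qL2W : ∀ i < 6, (chkPl (mul2 (nat_lit 78)) qL2P [[nat_lit 1, nat_lit 0, nat_lit 0, nat_lit 0, nat_lit 1, nat_lit 1, nat_lit 0, nat_lit 1, nat_lit 0, nat_lit 0, nat_lit 1, nat_lit 0, nat_lit 0, nat_lit 0],
  [nat_lit 0, nat_lit 0, nat_lit 1, nat_lit 1, nat_lit 1, nat_lit 1, nat_lit 1, nat_lit 0, nat_lit 0, nat_lit 1, nat_lit 1, nat_lit 1, nat_lit 1, nat_lit 1],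
  [nat_lit 1, nat_lit 1, nat_lit 0, nat_lit 0, nat_lit 0, nat_lit 0, nat_lit 1, nat_lit 1, nat_lit 0, nat_lit 0, nat_lit 0, nat_lit 0, nat_lit 1, nat_lit 1],
  [nat_lit 4, nat_lit 3, nat_lit 2, nat_lit 3, nat_lit 4, nat_lit 4, nat_lit 2],
  [nat_lit 4, nat_lit 2, nat_lit 3, nat_lit 4],
  [nat_lit 3, nat_lit 3, nat_lit 4, nat_lit 2, nat_lit 4, nat_lit 3, nat_lit 2]] (nat_lit 2)) i = 0 :=
  (rng_step (all0 _) qL2W_0)
theorem qL2el : mA.El qL2 qL2P :=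
  el_of_pad (in_pool qL2in0 qL2W)
theorem qL2s0 : Suf mA qL2 qL2P 0 :=
  suf0 qL2el
theorem qL20yY : ∀ i < 1680, (chkY can0 (brow (nat_lit 78)) qL20y (nat_lit 1680)) i = 0 :=
  allB (rngB_step (allB0 _ _) qL20yY_0) (by decide)
theorem qL20yD : Dist (fun i => pvA (pt (brow (nat_lit 78)) qL20y i)) 1680 :=
  dist_of_chk (canT2 φA) qL20yY
theorem qL20RO : ∀ i < 1680, (chkO (img2 (nat_lit 78) (shf qL2P (nat_lit 0))) (brow (nat_lit 78)) qL20y qL20Ra (nat_lit 1680) [nat_lit 1413]) i = 0 :=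
  allB (rngB_step (allB0 _ _) qL20RO_0) (by decide)
theorem qL20R : Reach qL2 (fun i => pvA (pt (brow (nat_lit 78)) qL20y i)) 1680 [nat_lit 1413] :=
  reach_of_chk ((acts2 (m := mA) φA hA (shf qL2P (nat_lit 0))).ex qL2s0.el) qL20RO
theorem qL20X : ∀ i < 6, (chkFx (img2 (nat_lit 78) qL2P) (brow (nat_lit 78)) qL20y (nat_lit 1413) [nat_lit 0, nat_lit 0, nat_lit 0, nat_lit 0, nat_lit 0, nat_lit 0] (nat_lit 2)) i = 0 :=
  (rng_step (all0 _) qL20X_0)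
theorem qL2s1 : Suf mA qL2K1 qL2P 2 :=
  qL2s0.step (by decide) (by decide) (acts2 (m := mA) φA hA qL2P) qL20X
theorem qL21yY : ∀ i < 243, (chkY can0 (brow (nat_lit 78)) qL21y (nat_lit 243)) i = 0 :=
  allB (rngB_step (allB0 _ _) qL21yY_0) (by decide)
theorem qL21yD : Dist (fun i => pvA (pt (brow (nat_lit 78)) qL21y i)) 243 :=
  dist_of_chk (canT2 φA) qL21yY
theorem qL21RO : ∀ i < 243, (chkO (img2 (nat_lit 78) (shf qL2P (nat_lit 2))) (brow (nat_lit 78)) qL21y qL21Ra (nat_lit 243) [nat_lit 225]) i = 0 :=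
  allB (rngB_step (allB0 _ _) qL21RO_0) (by decide)
theorem qL21R : Reach qL2K1 (fun i => pvA (pt (brow (nat_lit 78)) qL21y i)) 243 [nat_lit 225] :=
  reach_of_chk ((acts2 (m := mA) φA hA (shf qL2P (nat_lit 2))).ex qL2s1.el) qL21RO
theorem qL21X : ∀ i < 3, (chkFx (img2 (nat_lit 78) qL2P) (brow (nat_lit 78)) qL21y (nat_lit 225) [nat_lit 0, nat_lit 0, nat_lit 0] (nat_lit 5)) i = 0 :=
  (rng_step (all0 _) qL21X_0)
theorem qL2s2 : Suf mA qL2K2 qL2P 5 :=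
  qL2s1.step (by decide) (by decide) (acts2 (m := mA) φA hA qL2P) qL21X
theorem qL22yY : ∀ i < 16, (chkY can0 (brow (nat_lit 78)) qL22y (nat_lit 16)) i = 0 :=
  allB (rngB_step (allB0 _ _) qL22yY_0) (by decide)
theorem qL22yD : Dist (fun i => pvA (pt (brow (nat_lit 78)) qL22y i)) 16 :=
  dist_of_chk (canT2 φA) qL22yY
theorem qL22RO : ∀ i < 16, (chkO (img2 (nat_lit 78) (shf qL2P (nat_lit 5))) (brow (nat_lit 78)) qL22y qL22Ra (nat_lit 16) [nat_lit 3]) i = 0 :=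
  allB (rngB_step (allB0 _ _) qL22RO_0) (by decide)
theorem qL22R : Reach qL2K2 (fun i => pvA (pt (brow (nat_lit 78)) qL22y i)) 16 [nat_lit 3] :=
  reach_of_chk ((acts2 (m := mA) φA hA (shf qL2P (nat_lit 5))).ex qL2s2.el) qL22RO
theorem qL22X : ∀ i < 0, (chkFx (img2 (nat_lit 78) qL2P) (brow (nat_lit 78)) qL22y (nat_lit 3) [] (nat_lit 8)) i = 0 :=
  (all0 _)
theorem qL2s3 : Suf mA qL2K3 qL2P 8 :=
  qL2s2.step (by decide) (by decide) (acts2 (m := mA) φA hA qL2P) qL22X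
theorem qL2lb3 : 1 ≤ Nat.card qL2K3 :=
  one_le_card _
theorem qL2lb2 : 16 ≤ Nat.card qL2K2 :=
  le_of_eq_of_le (by norm_num) (card_ge qL22yD qL22R qL2lb3)
theorem qL2lb1 : 3888 ≤ Nat.card qL2K1 :=
  le_of_eq_of_le (by norm_num) (card_ge qL21yD qL21R qL2lb2)
theorem qL2lb0 : 6531840 ≤ Nat.card qL2 :=
  le_of_eq_of_le (by norm_num) (card_ge qL20yD qL20R qL2lb1)
theorem qex : MulAction.orbit H (pvA (pt (brow (nat_lit 78)) Y (nat_lit 473))) = (fun i => pvA (pt (brow (nat_lit 78)) Y i)) '' {i | i < 693} ∧ H ⊓ MulAction.stabilizer GA (pvA (pt (brow (nat_lit 78)) Y (nat_lit 473))) = qL1K1 ∧ Nat.card H = 693 * 26542080 ∧ Nat.card qL1K1 = 26542080 :=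
  orbit_eq_of_card YD (qRH.sub fun r hr => ⟨1, one_mem _, by rw [List.mem_singleton.1 hr, one_smul]⟩)
    (inf_le_inf inf_le_left (congrArg (fun z => MulAction.stabilizer GA (pvA z)) qhx).le) qL1lb1 (Hub.trans (by norm_num))
theorem qhK : H ⊓ MulAction.stabilizer GA (pvA (pt (brow (nat_lit 78)) Y (nat_lit 473))) ≤ Lf (MonoidHom.id GA) H (mA.elt (qD 1))⁻¹ :=
  qtinv.symm ▸ (qex.2.1.le.trans inf_le_left)
theorem qBk : ∀ i < 64, (chkB (img2 (nat_lit 78) (cel1 (mul2 (nat_lit 78)) qL1P (nat_lit 4) qL1P)) (brow (nat_lit 78)) Y (nat_lit 473) qB [nat_lit 10, nat_lit 10, nat_lit 10, nat_lit 10, nat_lit 10, nat_lit 10, nat_lit 10, nat_lit 10, nat_lit 10, nat_lit 10, nat_lit 10, nat_lit 10, nat_lit 10, nat_lit 10, nat_lit 10, nat_lit 10, nat_lit 10, nat_lit 10, nat_lit 10, nat_lit 10, nat_lit 10, nat_lit 10, nat_lit 10, nat_lit 10, nat_lit 10, nat_lit 10, nat_lit 10, nat_lit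 10, nat_lit 10, nat_lit 10, nat_lit 10, nat_lit 10, nat_lit 10, nat_lit 10, nat_lit 10, nat_lit 10, nat_lit 10, nat_lit 10, nat_lit 10, nat_lit 10, nat_lit 10, nat_lit 10, nat_lit 10, nat_lit 10, nat_lit 10, nat_lit 10, nat_lit 10, nat_lit 10, nat_lit 10, nat_lit 10, nat_lit 10, nat_lit 10, nat_lit 10, nat_lit 10, nat_lit 10, nat_lit 10, nat_lit 10, nat_lit 10, nat_lit 10, nat_lit 10, nat_lit 10, nat_lit 10, nat_lit 10, nat_lit 10] [nat_lit 0, nat_lit 0, nat_lit 0, nat_lit 0, nat_lit 0, nat_lit 0, nat_lit 0, nat_lit 0, nat_lit 0, nat_lit 0, nat_lit 0, nat_lit 0, nat_lit 0, nat_lit 0, nat_lit 0, nat_lit 0, nat_lit 0, nat_lit 0, nat_lit 0, nat_lit 0, nat_lit 0, nat_lit 0, nat_lit 0, nat_lit 0, nat_lit 0, nat_lit 0, nat_lit 0, nat_lit 0, nat_lit 0, nat_lit 0, nat_lit 0, nat_lit 0, nat_lit 0, nat_lit 0, nat_lit 0, nat_lit 0, nat_lit 0, nat_lit 0, nat_lit 0, nat_lit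 0, nat_lit 0, nat_lit 0, nat_lit 0, nat_lit 0, nat_lit 0, nat_lit 0, nat_lit 0, nat_lit 0, nat_lit 0, nat_lit 0, nat_lit 0, nat_lit 0, nat_lit 0, nat_lit 0, nat_lit 0, nat_lit 0, nat_lit 0, nat_lit 0, nat_lit 0, nat_lit 0, nat_lit 0, nat_lit 0, nat_lit 0, nat_lit 0]) i = 0 :=
  (rng_step (all0 _) qBk_0)
theorem qhB : Rows (Lf (MonoidHom.id GA) H (mA.elt (qD 1))⁻¹) pvA (brow (nat_lit 78)) qB (pvA (pt (brow (nat_lit 78)) Y (nat_lit 473))) :=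
  qtinv.symm ▸ rows_of_chkB (acts2 (m := mA) φA hA (cel1 (mul2 (nat_lit 78)) qL1P (nat_lit 4) qL1P)) (el_cel1 qL1el qL1el _) qBk
theorem qR1I : ∀ i < 3, (chkD1 (mul2 (nat_lit 78)) qD (fun x => hi (nat_lit 72) (cNe0 x)) qR1w (nat_lit 1) (nat_lit 3)) i = 0 :=
  (rng_step (all0 _) qR1I_0)
theorem qR1O : ∀ i < 693, (chkR (img2 (nat_lit 78) qL1P) (img2 (nat_lit 78) (fun x => hi (nat_lit 72) (cNe0 x))) (brow (nat_lit 78)) Y qR1a (nat_lit 693) qB qR1w (nat_lit 3)) i = 0 :=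
  allB (rngB_step (allB0 _ _) qR1O_0) (by decide)
theorem qR1 : ∀ h ∈ (Subgroup.map (MonoidHom.id GA) H), ∃ j < 3, DCos (Subgroup.map (MonoidHom.id GA) H) (mA.elt (qD j)) ((mA.elt (qD 1)) * h * (mA.elt (qD 1))) :=
  dc_row (pr_id mA) qelD ((pr_fst mA mU 72 hb).el cN0el) qex.1.le qhK qhB (acts2 (m := mA) φA hA qL1P) qL1el (acts2 (m := mA) φA hA (fun x => hi (nat_lit 72) (cNe0 x))) qR1O qR1I
theorem qR2I : ∀ i < 2, (chkD1 (mul2 (nat_lit 78)) qD (fun x => hi (nat_lit 72) (cNe0 x)) qR2w (nat_lit 2) (nat_lit 3)) i = 0 :=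
  (rng_step (all0 _) qR2I_0)
theorem qR2O : ∀ i < 693, (chkR (img2 (nat_lit 78) qL2P) (img2 (nat_lit 78) (fun x => hi (nat_lit 72) (cNe0 x))) (brow (nat_lit 78)) Y qR2a (nat_lit 693) qB qR2w (nat_lit 2)) i = 0 :=
  allB (rngB_step (allB0 _ _) qR2O_0) (by decide)
theorem qR2 : ∀ h ∈ (Subgroup.map (MonoidHom.id GA) H), ∃ j < 3, DCos (Subgroup.map (MonoidHom.id GA) H) (mA.elt (qD j)) ((mA.elt (qD 2)) * h * (mA.elt (qD 1))) :=
  dc_row (pr_id mA) qelD ((pr_fst mA mU 72 hb).el cN0el) qex.1.le qhK qhB (acts2 (m := mA) φA hA qL2P) qL2el (acts2 (m := mA) φA hA (fun x => hi (nat_lit 72) (cNe0 x))) qR2O qR2I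
theorem qcov : ∀ g ∈ qG, ∃ i < 3, DCos (Subgroup.map (MonoidHom.id GA) H) (mA.elt (qD i)) g :=
  dc_cover (d := fun i => mA.elt (qD i)) (by decide) qd0
    (all_succ (all_succ (all_succ all_nil (dc_row0 (by decide) qd0)) qR1) qR2)
theorem qhBs : ∀ i < 3, getN [nat_lit 18393661440, nat_lit 26542080, nat_lit 6531840] i ≤ Nat.card (Lf (MonoidHom.id GA) H (mA.elt (qD i))) :=
  (all_succ (all_succ (all_succ all_nil (by rw [qd0, Lf_one, qex.2.2.1]; decide)) qL1lb0) qL2lb0)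
theorem qub : Nat.card qG ≤ Nat.card (Subgroup.map (MonoidHom.id GA) H) * 3510 :=
  (dc_ub qcov Hub (getN [nat_lit 18393661440, nat_lit 26542080, nat_lit 6531840]) (getN [nat_lit 1, nat_lit 693, nat_lit 2816]) qhBs (by decide +kernel)).trans_eq (congrArg _ (by decide +kernel))
theorem qM1 : ∀ N : Subgroup GA, (Subgroup.map (MonoidHom.id GA) H) ≤ N → (mA.elt (qD 1)) ∈ N → (mA.elt (qD 1)) ∈ N :=
  fun _ _ h => h
theorem qM2 : ∀ N : Subgroup GA, (Subgroup.map (MonoidHom.id GA) H) ≤ N → (mA.elt (qD 2)) ∈ N → (mA.elt (qD 1)) ∈ N :=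
  fun N hN h => let ⟨_, ha, _, hb, _, hc, _, e⟩ := eq_of_chkD qelD ((pr_id mA).el ((pr_fst mA mU 72 hb).el cN0el)) (add_eq_zero' (qR2I 0 (by decide))).1; (mem3 hN ha hb hc e).2 h h
theorem qmax : ∀ N : Subgroup GA, (Subgroup.map (MonoidHom.id GA) H) ≤ N → N ≤ qG → N = (Subgroup.map (MonoidHom.id GA) H) ∨ N = qG :=
  dc_max (d := fun i => mA.elt (qD i)) qd0 le_rfl qcov
    (all_succ (all_succ (all_succ all_nil (fun h => absurd h (by decide))) (fun _ => qM1)) (fun _ => qM2))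
theorem qG0 : (mA.elt (qD 0)) ∈ qG :=
  qd0 ▸ one_mem _
theorem qG1 : (mA.elt (qD 1)) ∈ qG :=
  mem_sup_right (mem_zpowers _)
theorem qG2 : (mA.elt (qD 2)) ∈ qG :=
  let ⟨_, ha, _, hb, _, hc, _, e⟩ := eq_of_chkD qelD ((pr_id mA).el ((pr_fst mA mU 72 hb).el cN0el)) (add_eq_zero' (qR1I 0 (by decide))).1; (mem3 le_sup_left ha hb hc e).1 qG1 qG1
theorem qelG : mA.El qG qD :=
  el_of_pad (in_of_elt qelD (all_succ (all_succ (all_succ all_nil qG0) qG1) qG2))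
theorem ZY : ∀ i < 3510, (chkY can0 (brow (nat_lit 78)) Z (nat_lit 3510)) i = 0 :=
  allB (rngB_step (allB0 _ _) ZY_0) (by decide)
theorem ZD : Dist (fun i => pvA (pt (brow (nat_lit 78)) Z i)) 3510 :=
  dist_of_chk (canT2 φA) ZY
theorem Geg : mA.El qG Gg :=
  El.cons1 (qelG 1) (((pr_id mA).el H_eg).mono le_sup_left)
theorem ZRO : ∀ i < 3510, (chkO (img2 (nat_lit 78) Gg) (brow (nat_lit 78)) Z ZRa (nat_lit 3510) [nat_lit 828]) i = 0 :=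
  allB (rngB_step (allB0 _ _) ZRO_0) (by decide)
theorem ZR : Reach qG (fun i => pvA (pt (brow (nat_lit 78)) Z i)) 3510 [nat_lit 828] :=
  reach_of_chk ((acts2 (m := mA) φA hA Gg).ex Geg) ZRO
theorem ZF : ∀ i < 2, (chkF (img2 (nat_lit 78) Hg) (brow (nat_lit 78)) Z (nat_lit 828) []) i = 0 :=
  (rng_step (all0 _) ZF_0)
theorem Zfx : H ≤ MulAction.stabilizer GA (pvA (pt (brow (nat_lit 78)) Z (nat_lit 828))) :=
  (H_eq.le.trans (gn_le_stab (acts2 (m := mA) φA hA Hg) ZF))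
theorem qel : mA.El qG qe :=
  el_del1 qelG (((pr_id mA).el ((pr_fst mA mU 72 hb).el cN0el)).mono le_sup_left) _ _
theorem GP : ∀ i < 3, (chkP (mul2 (nat_lit 78)) (one2 (nat_lit 78)) Gg qe [[nat_lit 46613089811735033436718, nat_lit 2686352647728164045410],
  [nat_lit 407045943867661, nat_lit 102374623445789],
  [nat_lit 74895681901638456087530, nat_lit 23859320607095199731862]] (nat_lit 13)) i = 0 :=
  (rng_step (all0 _) GP_0)
theorem crO : ∀ i < 78, (chkO (img2 (nat_lit 78) Gg) (brow (nat_lit 78)) cry cra (nat_lit 78) [nat_lit 10]) i = 0 :=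
  allB (rngB_step (allB0 _ _) crO_0) (by decide)
theorem crR : Reach qG (fun i => pvA (pt (brow (nat_lit 78)) cry i)) 78 [nat_lit 10] :=
  reach_of_chk ((acts2 (m := mA) φA hA Gg).ex Geg) crO
theorem crV : ∀ i < 78, (chkV (brow (nat_lit 78)) cry (nat_lit 78) (crm 0)) i = 0 :=
  (rng_step (all0 _) crV_0)
theorem crF : ∀ i < 2, (chkF (img2 (nat_lit 78) Hg) (brow (nat_lit 78)) cry (nat_lit 10) []) i = 0 :=
  (rng_step (all0 _) crF_0)
theorem cr : ∀ N : Subgroup GA, Nm qG N → N ≤ H → N ≤ ⊥ :=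
  core_vec2 φA Units.val_injective crAB crV crR (H_eq.le.trans (gn_le_stab (acts2 (m := mA) φA hA Hg) crF))
theorem qL1ub1 : Nat.card qL1K1 ≤ 26542080 :=
  qex.2.2.2.le
theorem qL1ub2 : Nat.card qL1K2 ≤ 51840 :=
  stab_le (Y := (fun i => pvA (pt (brow (nat_lit 78)) qL11y i))) (r := (nat_lit 409)) qL11yD qL11R (by decide) (qL1ub1.trans (by norm_num))
theorem qL1ub3 : Nat.card qL1K3 ≤ 384 :=
  stab_le (Y := (fun i => pvA (pt (brow (nat_lit 78)) qL12y i))) (r := (nat_lit 30)) qL12yD qL12R (by decide) (qL1ub2.trans (by norm_num))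
theorem qL1ub4 : Nat.card qL1K4 ≤ 12 :=
  stab_le (Y := (fun i => pvA (pt (brow (nat_lit 78)) qL13y i))) (r := (nat_lit 31)) qL13yD qL13R (by decide) (qL1ub3.trans (by norm_num))
theorem qL1ub5 : Nat.card qL1K5 ≤ 2 :=
  stab_le (Y := (fun i => pvA (pt (brow (nat_lit 78)) qL14y i))) (r := (nat_lit 3)) qL14yD qL14R (by decide) (qL1ub4.trans (by norm_num))
theorem hmRO : ∀ i < 693, (chkO (img2 (nat_lit 78) (shf qL1P (nat_lit 0))) (brow (nat_lit 78)) Y hmRa (nat_lit 693) [nat_lit 473, nat_lit 54, nat_lit 304]) i = 0 :=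
  allB (rngB_step (allB0 _ _) hmRO_0) (by decide)
theorem hmR : Reach qL1K1 (fun i => pvA (pt (brow (nat_lit 78)) Y i)) 693 [nat_lit 473, nat_lit 54, nat_lit 304] :=
  reach_of_chk ((acts2 (m := mA) φA hA (shf qL1P (nat_lit 0))).ex qL1s1.el) hmRO
theorem hmE : ∀ i < 2, (chkE hmt (fun x => hi (nat_lit 72) (cNe0 x)) [nat_lit 107318870699, nat_lit 74868944521]) i = 0 :=
  (rng_step (all0 _) hmE_0)
theorem hmR1O : ∀ i < 693, (chkO (img2 (nat_lit 78) hmg1) (brow (nat_lit 78)) Y hmR1a (nat_lit 693) [nat_lit 473]) i = 0 :=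
  allB (rngB_step (allB0 _ _) hmR1O_0) (by decide)
theorem hmR0O : ∀ i < 693, (chkO (img2 (nat_lit 78) hmg0) (brow (nat_lit 78)) Y hmR0a (nat_lit 693) [nat_lit 473]) i = 0 :=
  allB (rngB_step (allB0 _ _) hmR0O_0) (by decide)
theorem hm : ∀ M : Subgroup GA, qL1K1 ≤ M → M ≤ H → M = qL1K1 ∨ M = H :=
  max_of_reach (Y := (fun i => pvA (pt (brow (nat_lit 78)) Y i))) qex.1.le qex.2.1.le hmR
    (mem_forall_cons (Or.inl rfl) (mem_forall_cons (root_rel (acts2 (m := mA) φA hA hmg0) (in_of_chkE ((pr_fst mA mU 72 hb).el cN0el) hmE 0 (by decide)) qL1s1.el hmM0 hmR0O) (mem_forall_cons (root_rel (acts2 (m := mA) φA hA hmg1) (in_of_chkE ((pr_fst mA mU 72 hb).el cN0el) hmE 1 (by decide)) qL1s1.el hmM1 hmR1O) mem_forall_nil)))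
theorem hc : ∀ N : Subgroup GA, Nm H N → N ≤ qL1K1 → N ≤ qL1K5 :=
  fun N hN h =>
  have hf := fix_of_reach hN qRH (h.trans (qex.2.1.ge.trans inf_le_right))
  (le_stab_of_fix (j := 322) hf (le_stab_of_fix (j := 687) hf (le_stab_of_fix (j := 197) hf (le_stab_of_fix (j := 549) hf h (by decide) (congrArg pvA hcx1)) (by decide) (congrArg pvA hcx2)) (by decide) (congrArg pvA hcx3)) (by decide) (congrArg pvA hcx4))
theorem HP : ∀ i < 2, (chkP (mul2 (nat_lit 78)) (one2 (nat_lit 78)) Hg Hg [[0], [1]] (nat_lit 11)) i = 0 :=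
  (rng_step (all0 _) HP_0)
theorem TT : ∀ i < 3, (chkT (mul2 (nat_lit 78)) (one2 (nat_lit 78)) qD Tx dc [2, 2, 3]) i = 0 :=
  (rng_step (all0 _) TT_0)

theorem cardH : Nat.card H = 18393661440 := qex.2.2.1.trans (by norm_num)

theorem cardG : Nat.card qG = 64561751654400 :=
  le_antisymm (qub.trans (by rw [card_map_id, cardH]))
    (le_of_eq_of_le (by norm_num) (lower ZD ZR ((le_map_id H).trans le_sup_left) Zfx cardH.ge))

theorem genG (N : Subgroup GA) (h : ∀ x ∈ qG, x ^ 13 = 1 → x ∈ N) : qG ≤ N :=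
  have h1 := in_of_chkP' h qel GP
  sup_zpowers_le ((map_id_le H).trans (H_eq.le.trans (gn_le fun s hs => h1 (s + 1) (by omega))))
    (h1 0 (by decide)).elt_mem

theorem simpleG : IsSimpleGroup qG :=
  simple_rel (by rw [cardG]; norm_num) (dich_rel le_sup_left 13 (by rw [card_map_id, cardH]; norm_num) qmax
    (fun N hN h => cr N hN (h.trans (map_id_le H))) fun N _ h => genG N h)

noncomputable abbrev dd : GA := mA.elt dc

theorem d1 : dd ≠ 1 := ne_one_of_chkQ keyA dH.top dQ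

theorem d2 : dd ^ 2 = 1 := pow_of_chkQ dH.top dQ

theorem Hc : H ≤ centralizer {dd} := H_eq.le.trans (gn_le_cent dH.elt HJ)

theorem dichH : ∀ N : Subgroup H, N.Normal → N ≤ (zpowers dd).subgroupOf H ∨ N = ⊤ :=
  dich_rel (qex.2.1.ge.trans inf_le_left) 11 (by rw [qex.2.2.2]; norm_num) hm
    (fun N hN h => (hc N hN h).trans (eq_zpowers_of_card dK.elt_mem d1 qL1ub5))
    fun N _ h => H_eq.le.trans (gn_le (in_of_chkP' h H_eg HP))

theorem covH : center H = (zpowers dd).subgroupOf H ∧ IsSimpleGroup (H ⧸ center H) ∧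
    IsNonsplitDoubleCover H (H ⧸ center H) :=
  dcover_rel dH.elt_mem d1 d2 Hc dichH (H_eg 0).elt_mem (H_eg 1).elt_mem
    (not_comm_of_chkN keyA (H_eg 0).top (H_eg 1).top Hn)

theorem covU : IsNonsplitDoubleCover H (SU6 ⧸ center SU6) :=
  dcover_pair (n := 9196830720) (b := 3) rfl din.elt_mem win.elt_mem covH (by norm_num) cN0ub cardH Slb0
    card_SU6_le w3 (card_zpowers_two d1 d2).ge (U_eq.le.trans (gn_le_cent win.elt UJ))

theorem centG : qG ⊓ centralizer {dd} = H :=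
  (cent_eq_of_max le_sup_left ((map_id_le H).trans Hc) qmax qG1
    (not_comm_of_chkN keyA (qelD 1) dH.top tn)).trans (Subgroup.map_id H)

theorem transp : ∃ S : Set qG, IsThreeTranspositionClass S ∧ Nat.card S = 3510 ∧
    ∀ e ∈ S, Nonempty (H ≃* centralizer {e}) :=
  three_transp ((le_map_id H).trans le_sup_left) simpleG dH.elt_mem d1 d2 centG
    (D := fun i => mA.elt (qD i)) (r := 3) (dcos_map_id qcov)
    (all_succ (all_succ (all_succ all_nil (Or.inl (pow_of_chkT' (TT 0 (by decide)) (qelD 0) dH.top rfl)))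
      (Or.inl (pow_of_chkT' (TT 1 (by decide)) (qelD 1) dH.top rfl)))
      (Or.inr (pow_of_chkT' (TT 2 (by decide)) (qelD 2) dH.top rfl))) (by rw [cardG, cardH])

end Cfsg.Agent.H4.F22
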