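import Cfsg.Agent.H4.F23F

set_option autoImplicit false
set_option maxRecDepth 100000
set_option Elab.async false

namespace Cfsg.Agent.H4.F23

open Subgroup Cfsg.Agent.H5 Cfsg.Agent.H5.Mdl 

theorem rR2I_1 : rng rR2If (nat_lit 1) (nat_lit 1) = 0 := by decide +kernel
theorem rR2O_0 : rngB rR2Of (nat_lit 3510) (nat_lit 0) (nat_lit 39) = 0 := by decide +kernel
theorem rR1I_1 : rng rR1If (nat_lit 1) (nat_lit 1) = 0 := by decide +kernel
theorem HW_0 : rng HWf (nat_lit 0) (nat_lit 1) = 0 := by decide +kernel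
theorem qR1I_1 : rng qR1If (nat_lit 1) (nat_lit 1) = 0 := by decide +kernel
theorem S0RO_0 : rngB S0ROf (nat_lit 3510) (nat_lit 0) (nat_lit 55) = 0 := by decide +kernel
theorem pR1I_1 : rng pR1If (nat_lit 1) (nat_lit 2) = 0 := by decide +kernel
theorem c30S_10 : rng c30Sf (nat_lit 29) (nat_lit 3) = 0 := by decide +kernel
theorem c30S_17 : rng c30Sf (nat_lit 49) (nat_lit 3) = 0 := by decide +kernel
theorem c30S_23 : rng c30Sf (nat_lit 67) (nat_lit 3) = 0 := by decide +kernel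
theorem c30S_31 : rng c30Sf (nat_lit 90) (nat_lit 3) = 0 := by decide +kernel
theorem c30S_41 : rng c30Sf (nat_lit 118) (nat_lit 3) = 0 := by decide +kernel
theorem c30S_51 : rng c30Sf (nat_lit 148) (nat_lit 3) = 0 := by decide +kernel
theorem c30S_59 : rng c30Sf (nat_lit 168) (nat_lit 3) = 0 := by decide +kernel
theorem qL1W_1 : rng qL1Wf (nat_lit 2) (nat_lit 3) = 0 := by decide +kernel
theorem c32G_0 : rng c32Gf (nat_lit 0) (nat_lit 7) = 0 := by decide +kernel
theorem c30S_2 : rng c30Sf (nat_lit 6) (nat_lit 3) = 0 := by decide +kernel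
theorem c30S_16 : rng c30Sf (nat_lit 46) (nat_lit 3) = 0 := by decide +kernel
theorem c30S_26 : rng c30Sf (nat_lit 76) (nat_lit 3) = 0 := by decide +kernel
theorem c30S_33 : rng c30Sf (nat_lit 96) (nat_lit 3) = 0 := by decide +kernel
theorem c30S_43 : rng c30Sf (nat_lit 124) (nat_lit 3) = 0 := by decide +kernel
theorem c34S_3 : rng c34Sf (nat_lit 9) (nat_lit 3) = 0 := by decide +kernel
theorem rL2W_1 : rng rL2Wf (nat_lit 3) (nat_lit 2) = 0 := by decide +kernel
theorem c30S_6 : rng c30Sf (nat_lit 17) (nat_lit 3) = 0 := by decide +kernel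
theorem c30S_13 : rng c30Sf (nat_lit 38) (nat_lit 3) = 0 := by decide +kernel
theorem c30S_39 : rng c30Sf (nat_lit 112) (nat_lit 3) = 0 := by decide +kernel
theorem c30S_52 : rng c30Sf (nat_lit 151) (nat_lit 3) = 0 := by decide +kernel
theorem rL1W_0 : rng rL1Wf (nat_lit 0) (nat_lit 2) = 0 := by decide +kernel
theorem c33S_25 : rng c33Sf (nat_lit 25) (nat_lit 1) = 0 := by decide +kernel
theorem rL2C_1 : rng rL2Cf (nat_lit 1) (nat_lit 1) = 0 := by decide +kernel
theorem c30S_18 : rng c30Sf (nat_lit 52) (nat_lit 3) = 0 := by decide +kernel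
theorem c32S_12 : rng c32Sf (nat_lit 38) (nat_lit 3) = 0 := by decide +kernel
theorem c34S_4 : rng c34Sf (nat_lit 12) (nat_lit 3) = 0 := by decide +kernel
theorem c34S_9 : rng c34Sf (nat_lit 27) (nat_lit 3) = 0 := by decide +kernel
theorem c33S_7 : rng c33Sf (nat_lit 7) (nat_lit 1) = 0 := by decide +kernel
theorem c33S_19 : rng c33Sf (nat_lit 19) (nat_lit 1) = 0 := by decide +kernel
theorem c33S_28 : rng c33Sf (nat_lit 28) (nat_lit 1) = 0 := by decide +kernel
theorem qL2E_0 : rng qL2Ef (nat_lit 0) (nat_lit 3) = 0 := by decide +kernel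
theorem c33S_10 : rng c33Sf (nat_lit 10) (nat_lit 1) = 0 := by decide +kernel
theorem c33S_20 : rng c33Sf (nat_lit 20) (nat_lit 1) = 0 := by decide +kernel
theorem c33S_27 : rng c33Sf (nat_lit 27) (nat_lit 1) = 0 := by decide +kernel
theorem Q17 : chkQW (mul3 (nat_lit 253)) (one2 (nat_lit 253)) kA Gg [nat_lit 1, nat_lit 4, nat_lit 3, nat_lit 5, nat_lit 0] 17 = 0 := by decide +kernel
theorem c32S_2 : rng c32Sf (nat_lit 7) (nat_lit 3) = 0 := by decide +kernel
theorem c32S_6 : rng c32Sf (nat_lit 19) (nat_lit 3) = 0 := by decide +kernel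
theorem c34S_1 : rng c34Sf (nat_lit 3) (nat_lit 3) = 0 := by decide +kernel
theorem c33S_14 : rng c33Sf (nat_lit 14) (nat_lit 1) = 0 := by decide +kernel
theorem S1RO_0 : rngB S1ROf (nat_lit 2816) (nat_lit 0) (nat_lit 44) = 0 := by decide +kernel
theorem rL2C_0 : rng rL2Cf (nat_lit 0) (nat_lit 1) = 0 := by decide +kernel
theorem c30S_35 : rng c30Sf (nat_lit 102) (nat_lit 2) = 0 := by decide +kernel
theorem c30S_58 : rng c30Sf (nat_lit 166) (nat_lit 2) = 0 := by decide +kernel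
theorem c33S_8 : rng c33Sf (nat_lit 8) (nat_lit 1) = 0 := by decide +kernel
theorem TT_0 : rng TTf (nat_lit 0) (nat_lit 3) = 0 := by decide +kernel
theorem c30S_4 : rng c30Sf (nat_lit 12) (nat_lit 2) = 0 := by decide +kernel
theorem c30S_53 : rng c30Sf (nat_lit 154) (nat_lit 2) = 0 := by decide +kernel
theorem qR2I_0 : rng qR2If (nat_lit 0) (nat_lit 1) = 0 := by decide +kernel
theorem qR2O_0 : rngB qR2Of (nat_lit 693) (nat_lit 0) (nat_lit 11) = 0 := by decide +kernel
theorem qL11RO_0 : rngB qL11ROf (nat_lit 2304) (nat_lit 0) (nat_lit 36) = 0 := by decide +kernel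
theorem pL1W_2 : rng pL1Wf (nat_lit 2) (nat_lit 2) = 0 := by decide +kernel
theorem pL1W_1 : rng pL1Wf (nat_lit 1) (nat_lit 1) = 0 := by decide +kernel
theorem pL1C_0 : rng pL1Cf (nat_lit 0) (nat_lit 3) = 0 := by decide +kernel
theorem c32G_1 : rng c32Gf (nat_lit 7) (nat_lit 4) = 0 := by decide +kernel
theorem qR1I_0 : rng qR1If (nat_lit 0) (nat_lit 1) = 0 := by decide +kernel
theorem rYY_0 : rngB rYYf (nat_lit 3510) (nat_lit 0) (nat_lit 55) = 0 := by decide +kernel
theorem S0yY_0 : rngB S0yYf (nat_lit 3510) (nat_lit 0) (nat_lit 55) = 0 := by decide +kernel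
theorem qL1E_0 : rng qL1Ef (nat_lit 0) (nat_lit 3) = 0 := by decide +kernel
theorem rL11yY_0 : rngB rL11yYf (nat_lit 2816) (nat_lit 0) (nat_lit 44) = 0 := by decide +kernel
theorem rL21yY_0 : rngB rL21yYf (nat_lit 2592) (nat_lit 0) (nat_lit 41) = 0 := by decide +kernel
theorem qL1W_2 : rng qL1Wf (nat_lit 5) (nat_lit 2) = 0 := by decide +kernel
theorem rL1W_3 : rng rL1Wf (nat_lit 7) (nat_lit 2) = 0 := by decide +kernel
theorem pDI_0 : rng pDIf (nat_lit 0) (nat_lit 3) = 0 := by decide +kernel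
theorem rDI_0 : rng rDIf (nat_lit 0) (nat_lit 3) = 0 := by decide +kernel
theorem rL12yY_0 : rngB rL12yYf (nat_lit 1680) (nat_lit 0) (nat_lit 27) = 0 := by decide +kernel
theorem qL12RO_0 : rngB qL12ROf (nat_lit 720) (nat_lit 0) (nat_lit 12) = 0 := by decide +kernel
theorem pL11yY_0 : rngB pL11yYf (nat_lit 1536) (nat_lit 0) (nat_lit 24) = 0 := by decide +kernel
theorem c30G_0 : rng c30Gf (nat_lit 0) (nat_lit 2) = 0 := by decide +kernel
theorem c35S_0 : rng c35Sf (nat_lit 0) (nat_lit 2) = 0 := by decide +kernel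
theorem c30T0 : c3T0 0 = (join (nat_lit 6084) (one2 (nat_lit 78)) (one2 (nat_lit 253))) := by decide +kernel
theorem c32T0 : c3T2 0 = (join (nat_lit 6084) (one2 (nat_lit 78)) (one2 (nat_lit 253))) := by decide +kernel
theorem c35T0 : c3T5 0 = (join (nat_lit 6084) (one2 (nat_lit 78)) (one2 (nat_lit 253))) := by decide +kernel
theorem pD0 : pD 0 = (join (nat_lit 6084) (one2 (nat_lit 78)) (one2 (nat_lit 253))) := by decide +kernel
theorem phx : pt (brow (nat_lit 78)) pL10y (nat_lit 0) = pt (brow (nat_lit 78)) pY (nat_lit 112) := by decide +kernel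
theorem qL2tE : qL2P 9 = (Zc 0) := by decide +kernel
theorem rL1tE : rL1P 11 = (Zc 0) := by decide +kernel
theorem qL2C_1 : rng qL2Cf (nat_lit 2) (nat_lit 1) = 0 := by decide +kernel
theorem N1 : chkN kA ((mul3 (nat_lit 253)) (Hg 0) (Tx 1)) ((mul3 (nat_lit 253)) (Tx 1) (Hg 0)) = 0 := by decide +kernel
theorem C1 : chkJ (mul3 (nat_lit 253)) dc (Tx 1) (Tx 1) = 0 := by decide +kernel
theorem pRHO_0 : rngB pRHOf (nat_lit 180) (nat_lit 0) (nat_lit 3) = 0 := by decide +kernel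
theorem pBk_0 : rng pBkf (nat_lit 0) (nat_lit 64) = 0 := by decide +kernel
theorem rBk_0 : rng rBkf (nat_lit 0) (nat_lit 64) = 0 := by decide +kernel
theorem qtt : (pmul (mul3 (nat_lit 253)) (mul2 (nat_lit 78)) (nat_lit 6084)) (qD 1) (qD 1) = (join (nat_lit 6084) (one2 (nat_lit 78)) (one2 (nat_lit 253))) := by decide +kernel
theorem qL21yY_0 : rngB qL21yYf (nat_lit 243) (nat_lit 0) (nat_lit 4) = 0 := by decide +kernel
theorem S3yY_0 : rngB S3yYf (nat_lit 243) (nat_lit 0) (nat_lit 4) = 0 := by decide +kernel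
theorem qL13RO_0 : rngB qL13ROf (nat_lit 16) (nat_lit 0) (nat_lit 1) = 0 := by decide +kernel
theorem S4RO_0 : rngB S4ROf (nat_lit 16) (nat_lit 0) (nat_lit 1) = 0 := by decide +kernel
theorem rL23RO_0 : rngB rL23ROf (nat_lit 4) (nat_lit 0) (nat_lit 1) = 0 := by decide +kernel
theorem pL10RO_0 : rngB pL10ROf (nat_lit 1) (nat_lit 0) (nat_lit 1) = 0 := by decide +kernel
theorem rL10RO_0 : rngB rL10ROf (nat_lit 1) (nat_lit 0) (nat_lit 1) = 0 := by decide +kernel
theorem rL12X_0 : rng rL12Xf (nat_lit 0) (nat_lit 7) = 0 := by decide +kernel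
theorem pDJ_0 : rng pDJf (nat_lit 0) (nat_lit 3) = 0 := by decide +kernel
theorem S2X_0 : rng S2Xf (nat_lit 0) (nat_lit 6) = 0 := by decide +kernel
theorem qL10yY_0 : rngB qL10yYf (nat_lit 1) (nat_lit 0) (nat_lit 1) = 0 := by decide +kernel
theorem rL10yY_0 : rngB rL10yYf (nat_lit 1) (nat_lit 0) (nat_lit 1) = 0 := by decide +kernel
theorem S4yY_0 : rngB S4yYf (nat_lit 16) (nat_lit 0) (nat_lit 1) = 0 := by decide +kernel
theorem qL21X_0 : rng qL21Xf (nat_lit 0) (nat_lit 4) = 0 := by decide +kernel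
theorem crF_0 : rng crFf (nat_lit 0) (nat_lit 4) = 0 := by decide +kernel
theorem rL22X_0 : rng rL22Xf (nat_lit 0) (nat_lit 2) = 0 := by decide +kernel
theorem pL21X_0 : rng pL21Xf (nat_lit 0) (nat_lit 1) = 0 := by decide +kernel
theorem rL14X_0 : rng rL14Xf (nat_lit 0) (nat_lit 1) = 0 := by decide +kernel

end Cfsg.Agent.H4.F23
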