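import Cfsg.Agent.H4.F23F

set_option autoImplicit false
set_option maxRecDepth 100000
set_option Elab.async false

namespace Cfsg.Agent.H4.F23

open Subgroup Cfsg.Agent.H5 Cfsg.Agent.H5.Mdl 

theorem rR1I_2 : rng rR1If (nat_lit 2) (nat_lit 1) = 0 := by decide +kernel
theorem rR1O_0 : rngB rR1Of (nat_lit 3510) (nat_lit 0) (nat_lit 39) = 0 := by decide +kernel
theorem HP_1 : rng HPf (nat_lit 1) (nat_lit 1) = 0 := by decide +kernel
theorem HP_3 : rng HPf (nat_lit 3) (nat_lit 1) = 0 := by decide +kernel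
theorem qR2I_1 : rng qR2If (nat_lit 1) (nat_lit 1) = 0 := by decide +kernel
theorem rRHO_0 : rngB rRHOf (nat_lit 3510) (nat_lit 0) (nat_lit 55) = 0 := by decide +kernel
theorem qL2W_1 : rng qL2Wf (nat_lit 2) (nat_lit 5) = 0 := by decide +kernel
theorem c30S_3 : rng c30Sf (nat_lit 9) (nat_lit 3) = 0 := by decide +kernel
theorem c30S_14 : rng c30Sf (nat_lit 41) (nat_lit 3) = 0 := by decide +kernel
theorem c30S_20 : rng c30Sf (nat_lit 58) (nat_lit 3) = 0 := by decide +kernel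
theorem c30S_29 : rng c30Sf (nat_lit 84) (nat_lit 3) = 0 := by decide +kernel
theorem c30S_38 : rng c30Sf (nat_lit 109) (nat_lit 3) = 0 := by decide +kernel
theorem c30S_47 : rng c30Sf (nat_lit 136) (nat_lit 3) = 0 := by decide +kernel
theorem c30S_56 : rng c30Sf (nat_lit 161) (nat_lit 3) = 0 := by decide +kernel
theorem c30S_62 : rng c30Sf (nat_lit 177) (nat_lit 3) = 0 := by decide +kernel
theorem rL1C_0 : rng rL1Cf (nat_lit 0) (nat_lit 2) = 0 := by decide +kernel
theorem c32S_9 : rng c32Sf (nat_lit 28) (nat_lit 4) = 0 := by decide +kernel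
theorem c30S_11 : rng c30Sf (nat_lit 32) (nat_lit 3) = 0 := by decide +kernel
theorem c30S_24 : rng c30Sf (nat_lit 70) (nat_lit 3) = 0 := by decide +kernel
theorem c30S_32 : rng c30Sf (nat_lit 93) (nat_lit 3) = 0 := by decide +kernel
theorem c30S_42 : rng c30Sf (nat_lit 121) (nat_lit 3) = 0 := by decide +kernel
theorem c30S_50 : rng c30Sf (nat_lit 145) (nat_lit 3) = 0 := by decide +kernel
theorem c34S_8 : rng c34Sf (nat_lit 24) (nat_lit 3) = 0 := by decide +kernel
theorem c30S_5 : rng c30Sf (nat_lit 14) (nat_lit 3) = 0 := by decide +kernel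
theorem c30S_8 : rng c30Sf (nat_lit 23) (nat_lit 3) = 0 := by decide +kernel
theorem c30S_25 : rng c30Sf (nat_lit 73) (nat_lit 3) = 0 := by decide +kernel
theorem c30S_46 : rng c30Sf (nat_lit 133) (nat_lit 3) = 0 := by decide +kernel
theorem c32S_10 : rng c32Sf (nat_lit 32) (nat_lit 3) = 0 := by decide +kernel
theorem c33S_26 : rng c33Sf (nat_lit 26) (nat_lit 1) = 0 := by decide +kernel
theorem rR1O_1 : rngB rR1Of (nat_lit 3510) (nat_lit 39) (nat_lit 16) = 0 := by decide +kernel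
theorem c30S_0 : rng c30Sf (nat_lit 0) (nat_lit 3) = 0 := by decide +kernel
theorem c30S_48 : rng c30Sf (nat_lit 139) (nat_lit 3) = 0 := by decide +kernel
theorem c34S_0 : rng c34Sf (nat_lit 0) (nat_lit 3) = 0 := by decide +kernel
theorem c34S_5 : rng c34Sf (nat_lit 15) (nat_lit 3) = 0 := by decide +kernel
theorem qL2W_0 : rng qL2Wf (nat_lit 0) (nat_lit 2) = 0 := by decide +kernel
theorem c33S_17 : rng c33Sf (nat_lit 17) (nat_lit 1) = 0 := by decide +kernel
theorem c33S_21 : rng c33Sf (nat_lit 21) (nat_lit 1) = 0 := by decide +kernel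
theorem c33S_29 : rng c33Sf (nat_lit 29) (nat_lit 1) = 0 := by decide +kernel
theorem c33S_13 : rng c33Sf (nat_lit 13) (nat_lit 1) = 0 := by decide +kernel
theorem c33S_22 : rng c33Sf (nat_lit 22) (nat_lit 1) = 0 := by decide +kernel
theorem c33S_31 : rng c33Sf (nat_lit 31) (nat_lit 1) = 0 := by decide +kernel
theorem pL2W_0 : rng pL2Wf (nat_lit 0) (nat_lit 3) = 0 := by decide +kernel
theorem c32S_1 : rng c32Sf (nat_lit 4) (nat_lit 3) = 0 := by decide +kernel
theorem c32S_4 : rng c32Sf (nat_lit 13) (nat_lit 3) = 0 := by decide +kernel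
theorem c32S_14 : rng c32Sf (nat_lit 44) (nat_lit 3) = 0 := by decide +kernel
theorem c33S_5 : rng c33Sf (nat_lit 5) (nat_lit 1) = 0 := by decide +kernel
theorem rL11RO_0 : rngB rL11ROf (nat_lit 2816) (nat_lit 0) (nat_lit 44) = 0 := by decide +kernel
theorem c32S_7 : rng c32Sf (nat_lit 22) (nat_lit 3) = 0 := by decide +kernel
theorem c32S_11 : rng c32Sf (nat_lit 35) (nat_lit 3) = 0 := by decide +kernel
theorem c30S_36 : rng c30Sf (nat_lit 104) (nat_lit 2) = 0 := by decide +kernel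
theorem c33S_3 : rng c33Sf (nat_lit 3) (nat_lit 1) = 0 := by decide +kernel
theorem c33S_9 : rng c33Sf (nat_lit 9) (nat_lit 1) = 0 := by decide +kernel
theorem c30S_15 : rng c30Sf (nat_lit 44) (nat_lit 2) = 0 := by decide +kernel
theorem c30S_57 : rng c30Sf (nat_lit 164) (nat_lit 2) = 0 := by decide +kernel
theorem c33S_4 : rng c33Sf (nat_lit 4) (nat_lit 1) = 0 := by decide +kernel
theorem c33G_0 : rng c33Gf (nat_lit 0) (nat_lit 6) = 0 := by decide +kernel
theorem c34S_10 : rng c34Sf (nat_lit 30) (nat_lit 2) = 0 := by decide +kernel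
theorem qL1C_0 : rng qL1Cf (nat_lit 0) (nat_lit 3) = 0 := by decide +kernel
theorem pR2I_1 : rng pR2If (nat_lit 1) (nat_lit 1) = 0 := by decide +kernel
theorem pL1W_0 : rng pL1Wf (nat_lit 0) (nat_lit 1) = 0 := by decide +kernel
theorem pR2I_0 : rng pR2If (nat_lit 0) (nat_lit 1) = 0 := by decide +kernel
theorem qL20RO_0 : rngB qL20ROf (nat_lit 1680) (nat_lit 0) (nat_lit 27) = 0 := by decide +kernel
theorem rL12RO_0 : rngB rL12ROf (nat_lit 1680) (nat_lit 0) (nat_lit 27) = 0 := by decide +kernel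
theorem pL2C_0 : rng pL2Cf (nat_lit 0) (nat_lit 3) = 0 := by decide +kernel
theorem HJ_0 : rng HJf (nat_lit 0) (nat_lit 5) = 0 := by decide +kernel
theorem S1yY_0 : rngB S1yYf (nat_lit 2816) (nat_lit 0) (nat_lit 44) = 0 := by decide +kernel
theorem c31G_0 : rng c31Gf (nat_lit 0) (nat_lit 3) = 0 := by decide +kernel
theorem c34G_0 : rng c34Gf (nat_lit 0) (nat_lit 2) = 0 := by decide +kernel
theorem rR2O_1 : rngB rR2Of (nat_lit 3510) (nat_lit 39) (nat_lit 16) = 0 := by decide +kernel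
theorem H3gI_0 : rng H3gIf (nat_lit 0) (nat_lit 3) = 0 := by decide +kernel
theorem qDI_0 : rng qDIf (nat_lit 0) (nat_lit 3) = 0 := by decide +kernel
theorem qL20yY_0 : rngB qL20yYf (nat_lit 1680) (nat_lit 0) (nat_lit 27) = 0 := by decide +kernel
theorem pR2O_0 : rngB pR2Of (nat_lit 180) (nat_lit 0) (nat_lit 3) = 0 := by decide +kernel
theorem pL20yY_0 : rngB pL20yYf (nat_lit 1440) (nat_lit 0) (nat_lit 23) = 0 := by decide +kernel
theorem SW_0 : rng SWf (nat_lit 0) (nat_lit 10) = 0 := by decide +kernel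
theorem rL20RO_0 : rngB rL20ROf (nat_lit 351) (nat_lit 0) (nat_lit 6) = 0 := by decide +kernel
theorem qL12yY_0 : rngB qL12yYf (nat_lit 720) (nat_lit 0) (nat_lit 12) = 0 := by decide +kernel
theorem c31T0 : c3T1 0 = (join (nat_lit 6084) (one2 (nat_lit 78)) (one2 (nat_lit 253))) := by decide +kernel
theorem c34T0 : c3T4 0 = (join (nat_lit 6084) (one2 (nat_lit 78)) (one2 (nat_lit 253))) := by decide +kernel
theorem Z1 : H3g 2 = Zc 0 := by decide +kernel
theorem pL2tE : pL2P 5 = (Zc 0) := by decide +kernel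
theorem qL1tE : qL1P 9 = (Zc 0) := by decide +kernel
theorem rD0 : rD 0 = (one2 (nat_lit 253)) := by decide +kernel
theorem N4 : chkN kA (Tx 1) dc = 0 := by decide +kernel
theorem dQ : chkQ (mul3 (nat_lit 253)) (one2 (nat_lit 253)) kA dc 2 = 0 := by decide +kernel
theorem N3 : chkN kA ((mul3 (nat_lit 253)) (rD 1) dc) ((mul3 (nat_lit 253)) dc (rD 1)) = 0 := by decide +kernel
theorem rL13RO_0 : rngB rL13ROf (nat_lit 243) (nat_lit 0) (nat_lit 4) = 0 := by decide +kernel
theorem rL20yY_0 : rngB rL20yYf (nat_lit 351) (nat_lit 0) (nat_lit 6) = 0 := by decide +kernel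
theorem crO_0 : rngB crOf (nat_lit 78) (nat_lit 0) (nat_lit 2) = 0 := by decide +kernel
theorem ptt : (pmul (mul3 (nat_lit 253)) (mul2 (nat_lit 78)) (nat_lit 6084)) (pD 1) (pD 1) = (join (nat_lit 6084) (one2 (nat_lit 78)) (one2 (nat_lit 253))) := by decide +kernel
theorem rtt : (mul3 (nat_lit 253)) (rD 1) (rD 1) = (one2 (nat_lit 253)) := by decide +kernel
theorem pYY_0 : rngB pYYf (nat_lit 180) (nat_lit 0) (nat_lit 3) = 0 := by decide +kernel
theorem qL10X_0 : rng qL10Xf (nat_lit 0) (nat_lit 10) = 0 := by decide +kernel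
theorem qL22RO_0 : rngB qL22ROf (nat_lit 16) (nat_lit 0) (nat_lit 1) = 0 := by decide +kernel
theorem rL11X_0 : rng rL11Xf (nat_lit 0) (nat_lit 9) = 0 := by decide +kernel
theorem pL12yY_0 : rngB pL12yYf (nat_lit 96) (nat_lit 0) (nat_lit 2) = 0 := by decide +kernel
theorem qL10RO_0 : rngB qL10ROf (nat_lit 1) (nat_lit 0) (nat_lit 1) = 0 := by decide +kernel
theorem qL11X_0 : rng qL11Xf (nat_lit 0) (nat_lit 7) = 0 := by decide +kernel
theorem crV_0 : rng crVf (nat_lit 0) (nat_lit 78) = 0 := by decide +kernel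
theorem qDJ_0 : rng qDJf (nat_lit 0) (nat_lit 3) = 0 := by decide +kernel
theorem pL10yY_0 : rngB pL10yYf (nat_lit 1) (nat_lit 0) (nat_lit 1) = 0 := by decide +kernel
theorem qL13yY_0 : rngB qL13yYf (nat_lit 16) (nat_lit 0) (nat_lit 1) = 0 := by decide +kernel
theorem rL14yY_0 : rngB rL14yYf (nat_lit 16) (nat_lit 0) (nat_lit 1) = 0 := by decide +kernel
theorem pL11X_0 : rng pL11Xf (nat_lit 0) (nat_lit 4) = 0 := by decide +kernel
theorem rL13X_0 : rng rL13Xf (nat_lit 0) (nat_lit 4) = 0 := by decide +kernel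
theorem pL20X_0 : rng pL20Xf (nat_lit 0) (nat_lit 3) = 0 := by decide +kernel
theorem pL12X_0 : rng pL12Xf (nat_lit 0) (nat_lit 1) = 0 := by decide +kernel
theorem qL22X_0 : rng qL22Xf (nat_lit 0) (nat_lit 1) = 0 := by decide +kernel

end Cfsg.Agent.H4.F23
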