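import Cfsg.Agent.H4.F23F

set_option autoImplicit false
set_option maxRecDepth 100000
set_option Elab.async false

namespace Cfsg.Agent.H4.F23

open Subgroup Cfsg.Agent.H5 Cfsg.Agent.H5.Mdl 

theorem GP_0 : rng GPf (nat_lit 0) (nat_lit 1) = 0 := by decide +kernel
theorem rR2I_0 : rng rR2If (nat_lit 0) (nat_lit 1) = 0 := by decide +kernel
theorem HP_0 : rng HPf (nat_lit 0) (nat_lit 1) = 0 := by decide +kernel
theorem HP_2 : rng HPf (nat_lit 2) (nat_lit 1) = 0 := by decide +kernel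
theorem Q23 : chkQW (mul3 (nat_lit 253)) (one2 (nat_lit 253)) kA Gg [nat_lit 2, nat_lit 4, nat_lit 0, nat_lit 0, nat_lit 5, nat_lit 0, nat_lit 2, nat_lit 3, nat_lit 1, nat_lit 2] 23 = 0 := by decide +kernel
theorem qR1I_2 : rng qR1If (nat_lit 2) (nat_lit 1) = 0 := by decide +kernel
theorem rR1I_0 : rng rR1If (nat_lit 0) (nat_lit 1) = 0 := by decide +kernel
theorem qL2C_0 : rng qL2Cf (nat_lit 0) (nat_lit 2) = 0 := by decide +kernel
theorem c30S_12 : rng c30Sf (nat_lit 35) (nat_lit 3) = 0 := by decide +kernel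
theorem c30S_19 : rng c30Sf (nat_lit 55) (nat_lit 3) = 0 := by decide +kernel
theorem c30S_27 : rng c30Sf (nat_lit 79) (nat_lit 3) = 0 := by decide +kernel
theorem c30S_37 : rng c30Sf (nat_lit 106) (nat_lit 3) = 0 := by decide +kernel
theorem c30S_44 : rng c30Sf (nat_lit 127) (nat_lit 3) = 0 := by decide +kernel
theorem c30S_55 : rng c30Sf (nat_lit 158) (nat_lit 3) = 0 := by decide +kernel
theorem c30S_60 : rng c30Sf (nat_lit 171) (nat_lit 3) = 0 := by decide +kernel
theorem rL2W_0 : rng rL2Wf (nat_lit 0) (nat_lit 3) = 0 := by decide +kernel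
theorem c32S_0 : rng c32Sf (nat_lit 0) (nat_lit 4) = 0 := by decide +kernel
theorem c30S_9 : rng c30Sf (nat_lit 26) (nat_lit 3) = 0 := by decide +kernel
theorem c30S_21 : rng c30Sf (nat_lit 61) (nat_lit 3) = 0 := by decide +kernel
theorem c30S_30 : rng c30Sf (nat_lit 87) (nat_lit 3) = 0 := by decide +kernel
theorem c30S_34 : rng c30Sf (nat_lit 99) (nat_lit 3) = 0 := by decide +kernel
theorem c30S_45 : rng c30Sf (nat_lit 130) (nat_lit 3) = 0 := by decide +kernel
theorem c34S_7 : rng c34Sf (nat_lit 21) (nat_lit 3) = 0 := by decide +kernel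
theorem qR1O_0 : rngB qR1Of (nat_lit 693) (nat_lit 0) (nat_lit 11) = 0 := by decide +kernel
theorem c30S_7 : rng c30Sf (nat_lit 20) (nat_lit 3) = 0 := by decide +kernel
theorem c30S_22 : rng c30Sf (nat_lit 64) (nat_lit 3) = 0 := by decide +kernel
theorem c30S_40 : rng c30Sf (nat_lit 115) (nat_lit 3) = 0 := by decide +kernel
theorem c32S_8 : rng c32Sf (nat_lit 25) (nat_lit 3) = 0 := by decide +kernel
theorem c33S_12 : rng c33Sf (nat_lit 12) (nat_lit 1) = 0 := by decide +kernel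
theorem c33S_30 : rng c33Sf (nat_lit 30) (nat_lit 1) = 0 := by decide +kernel
theorem c30S_1 : rng c30Sf (nat_lit 3) (nat_lit 3) = 0 := by decide +kernel
theorem c30S_61 : rng c30Sf (nat_lit 174) (nat_lit 3) = 0 := by decide +kernel
theorem c34S_2 : rng c34Sf (nat_lit 6) (nat_lit 3) = 0 := by decide +kernel
theorem c34S_6 : rng c34Sf (nat_lit 18) (nat_lit 3) = 0 := by decide +kernel
theorem rL1W_1 : rng rL1Wf (nat_lit 2) (nat_lit 2) = 0 := by decide +kernel
theorem c33S_18 : rng c33Sf (nat_lit 18) (nat_lit 1) = 0 := by decide +kernel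
theorem c33S_24 : rng c33Sf (nat_lit 24) (nat_lit 1) = 0 := by decide +kernel
theorem c30S_49 : rng c30Sf (nat_lit 142) (nat_lit 3) = 0 := by decide +kernel
theorem rL1W_2 : rng rL1Wf (nat_lit 4) (nat_lit 3) = 0 := by decide +kernel
theorem c33S_16 : rng c33Sf (nat_lit 16) (nat_lit 1) = 0 := by decide +kernel
theorem c33S_23 : rng c33Sf (nat_lit 23) (nat_lit 1) = 0 := by decide +kernel
theorem rL2E_1 : rng rL2Ef (nat_lit 1) (nat_lit 1) = 0 := by decide +kernel
theorem c32S_3 : rng c32Sf (nat_lit 10) (nat_lit 3) = 0 := by decide +kernel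
theorem c32S_13 : rng c32Sf (nat_lit 41) (nat_lit 3) = 0 := by decide +kernel
theorem rL1E_0 : rng rL1Ef (nat_lit 0) (nat_lit 3) = 0 := by decide +kernel
theorem c33S_15 : rng c33Sf (nat_lit 15) (nat_lit 1) = 0 := by decide +kernel
theorem c32S_5 : rng c32Sf (nat_lit 16) (nat_lit 3) = 0 := by decide +kernel
theorem c33S_11 : rng c33Sf (nat_lit 11) (nat_lit 1) = 0 := by decide +kernel
theorem rL21RO_0 : rngB rL21ROf (nat_lit 2592) (nat_lit 0) (nat_lit 41) = 0 := by decide +kernel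
theorem c30S_54 : rng c30Sf (nat_lit 156) (nat_lit 2) = 0 := by decide +kernel
theorem c33S_6 : rng c33Sf (nat_lit 6) (nat_lit 1) = 0 := by decide +kernel
theorem rL2W_2 : rng rL2Wf (nat_lit 5) (nat_lit 1) = 0 := by decide +kernel
theorem c30S_28 : rng c30Sf (nat_lit 82) (nat_lit 2) = 0 := by decide +kernel
theorem qL1W_0 : rng qL1Wf (nat_lit 0) (nat_lit 2) = 0 := by decide +kernel
theorem rL2E_0 : rng rL2Ef (nat_lit 0) (nat_lit 1) = 0 := by decide +kernel
theorem c31S_0 : rng c31Sf (nat_lit 0) (nat_lit 3) = 0 := by decide +kernel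
theorem c33S_2 : rng c33Sf (nat_lit 2) (nat_lit 1) = 0 := by decide +kernel
theorem pR1I_0 : rng pR1If (nat_lit 0) (nat_lit 1) = 0 := by decide +kernel
theorem pR1O_0 : rngB pR1Of (nat_lit 180) (nat_lit 0) (nat_lit 3) = 0 := by decide +kernel
theorem c33S_1 : rng c33Sf (nat_lit 1) (nat_lit 1) = 0 := by decide +kernel
theorem pR1I_2 : rng pR1If (nat_lit 3) (nat_lit 1) = 0 := by decide +kernel
theorem c33S_0 : rng c33Sf (nat_lit 0) (nat_lit 1) = 0 := by decide +kernel
theorem S2RO_0 : rngB S2ROf (nat_lit 1680) (nat_lit 0) (nat_lit 27) = 0 := by decide +kernel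
theorem pL11RO_0 : rngB pL11ROf (nat_lit 1536) (nat_lit 0) (nat_lit 24) = 0 := by decide +kernel
theorem pL20RO_0 : rngB pL20ROf (nat_lit 1440) (nat_lit 0) (nat_lit 23) = 0 := by decide +kernel
theorem rL22RO_0 : rngB rL22ROf (nat_lit 1260) (nat_lit 0) (nat_lit 20) = 0 := by decide +kernel
theorem pL1E_0 : rng pL1Ef (nat_lit 0) (nat_lit 3) = 0 := by decide +kernel
theorem H2J_0 : rng H2Jf (nat_lit 0) (nat_lit 4) = 0 := by decide +kernel
theorem qL11yY_0 : rngB qL11yYf (nat_lit 2304) (nat_lit 0) (nat_lit 36) = 0 := by decide +kernel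
theorem c32S_15 : rng c32Sf (nat_lit 47) (nat_lit 1) = 0 := by decide +kernel
theorem TC_0 : rng TCf (nat_lit 0) (nat_lit 3) = 0 := by decide +kernel
theorem S2yY_0 : rngB S2yYf (nat_lit 1680) (nat_lit 0) (nat_lit 27) = 0 := by decide +kernel
theorem pL2E_0 : rng pL2Ef (nat_lit 0) (nat_lit 3) = 0 := by decide +kernel
theorem qRHO_0 : rngB qRHOf (nat_lit 693) (nat_lit 0) (nat_lit 11) = 0 := by decide +kernel
theorem rL22yY_0 : rngB rL22yYf (nat_lit 1260) (nat_lit 0) (nat_lit 20) = 0 := by decide +kernel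
theorem rL1C_1 : rng rL1Cf (nat_lit 2) (nat_lit 1) = 0 := by decide +kernel
theorem qYY_0 : rngB qYYf (nat_lit 693) (nat_lit 0) (nat_lit 11) = 0 := by decide +kernel
theorem c33T0 : c3T3 0 = (join (nat_lit 6084) (one2 (nat_lit 78)) (one2 (nat_lit 253))) := by decide +kernel
theorem Z0 : lo (nat_lit 6084) (Zc 0) = (one2 (nat_lit 78)) := by decide +kernel
theorem pL1tE : pL1P 6 = (Zc 0) := by decide +kernel
theorem qD0 : qD 0 = (join (nat_lit 6084) (one2 (nat_lit 78)) (one2 (nat_lit 253))) := by decide +kernel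
theorem qhx : pt (brow (nat_lit 78)) qL10y (nat_lit 0) = pt (brow (nat_lit 78)) qY (nat_lit 447) := by decide +kernel
theorem rhx : pt (brow (nat_lit 78)) rL10y (nat_lit 0) = pt (brow (nat_lit 78)) rY (nat_lit 1491) := by decide +kernel
theorem X1 : Nat.xor (hi (nat_lit 6084) (qe (nat_lit 2084569088))) (Tx 1) = 0 := by decide +kernel
theorem N2 : chkN kA ((mul3 (nat_lit 253)) dc (Tx 2)) ((mul3 (nat_lit 253)) (Tx 2) dc) = 0 := by decide +kernel
theorem qL21RO_0 : rngB qL21ROf (nat_lit 243) (nat_lit 0) (nat_lit 4) = 0 := by decide +kernel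
theorem S3RO_0 : rngB S3ROf (nat_lit 243) (nat_lit 0) (nat_lit 4) = 0 := by decide +kernel
theorem qBk_0 : rng qBkf (nat_lit 0) (nat_lit 64) = 0 := by decide +kernel
theorem SE_0 : rng SEf (nat_lit 0) (nat_lit 5) = 0 := by decide +kernel
theorem pL12RO_0 : rngB pL12ROf (nat_lit 96) (nat_lit 0) (nat_lit 2) = 0 := by decide +kernel
theorem rL13yY_0 : rngB rL13yYf (nat_lit 243) (nat_lit 0) (nat_lit 4) = 0 := by decide +kernel
theorem rL10X_0 : rng rL10Xf (nat_lit 0) (nat_lit 12) = 0 := by decide +kernel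
theorem S0X_0 : rng S0Xf (nat_lit 0) (nat_lit 10) = 0 := by decide +kernel
theorem rL14RO_0 : rngB rL14ROf (nat_lit 16) (nat_lit 0) (nat_lit 1) = 0 := by decide +kernel
theorem pL21RO_0 : rngB pL21ROf (nat_lit 36) (nat_lit 0) (nat_lit 1) = 0 := by decide +kernel
theorem S1X_0 : rng S1Xf (nat_lit 0) (nat_lit 8) = 0 := by decide +kernel
theorem pL10X_0 : rng pL10Xf (nat_lit 0) (nat_lit 7) = 0 := by decide +kernel
theorem qL20X_0 : rng qL20Xf (nat_lit 0) (nat_lit 7) = 0 := by decide +kernel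
theorem H3gJ_0 : rng H3gJf (nat_lit 0) (nat_lit 3) = 0 := by decide +kernel
theorem rL20X_0 : rng rL20Xf (nat_lit 0) (nat_lit 6) = 0 := by decide +kernel
theorem pL21yY_0 : rngB pL21yYf (nat_lit 36) (nat_lit 0) (nat_lit 1) = 0 := by decide +kernel
theorem qL22yY_0 : rngB qL22yYf (nat_lit 16) (nat_lit 0) (nat_lit 1) = 0 := by decide +kernel
theorem rL23yY_0 : rngB rL23yYf (nat_lit 4) (nat_lit 0) (nat_lit 1) = 0 := by decide +kernel
theorem qL12X_0 : rng qL12Xf (nat_lit 0) (nat_lit 4) = 0 := by decide +kernel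
theorem rL21X_0 : rng rL21Xf (nat_lit 0) (nat_lit 4) = 0 := by decide +kernel
theorem S3X_0 : rng S3Xf (nat_lit 0) (nat_lit 3) = 0 := by decide +kernel
theorem qL13X_0 : rng qL13Xf (nat_lit 0) (nat_lit 1) = 0 := by decide +kernel
theorem crAB : (mul2 (nat_lit 78)) (crm 0) (crm 1) = (one2 (nat_lit 78)) := by decide +kernel

end Cfsg.Agent.H4.F23
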