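import Cfsg.Agent.H4.F23D0
import Cfsg.Agent.H4.F23D1
import Cfsg.Agent.H4.F23D2
import Cfsg.Agent.H4.F23D3
import Cfsg.Agent.H4.F23D4

set_option autoImplicit false
set_option maxRecDepth 100000

namespace Cfsg.Agent.H4.F23

open Subgroup Cfsg.Agent.H5 Cfsg.Agent.H5.Mdl 

noncomputable abbrev pvP : ℕ → Vc ψ := fun x => (⟨vec2 (ZMod 2) 78 x⟩ : Vc ψ)
noncomputable abbrev pvB : ℕ → Vc φB := fun x => (⟨vec2 (ZMod 2) 78 x⟩ : Vc φB)
noncomputable abbrev H3 : Subgroup (GA × GB) := mP.gn H3g 3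
noncomputable def H3gIf : ℕ → ℕ := chkI (mul3 (nat_lit 253)) (one2 (nat_lit 253)) (fun s => hi (nat_lit 6084) (H3g s)) H3gi
noncomputable def H3gJf : ℕ → ℕ := chkI (mul2 (nat_lit 78)) (one2 (nat_lit 78)) (fun s => lo (nat_lit 6084) (H3g s)) H3gj
noncomputable abbrev c3K1 : Subgroup (GA × GB) := mP.gn c3K1g 2
noncomputable abbrev c3K2 : Subgroup (GA × GB) := mP.gn c3K2g 3
noncomputable abbrev c3K3 : Subgroup (GA × GB) := mP.gn c3K3g 11
noncomputable abbrev c3K4 : Subgroup (GA × GB) := mP.gn c3K4g 6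
noncomputable abbrev c3K5 : Subgroup (GA × GB) := mP.gn c3K5g 2
noncomputable def c3e5 : ℕ → ℕ := cel1 (pmul (mul3 (nat_lit 253)) (mul2 (nat_lit 78)) (nat_lit 6084)) c3T5 (nat_lit 1) (fun _ => (join (nat_lit 6084) (one2 (nat_lit 78)) (one2 (nat_lit 253))))
noncomputable def c3e4 : ℕ → ℕ := cel1 (pmul (mul3 (nat_lit 253)) (mul2 (nat_lit 78)) (nat_lit 6084)) c3T4 (nat_lit 5) c3e5
noncomputable def c3e3 : ℕ → ℕ := cel1 (pmul (mul3 (nat_lit 253)) (mul2 (nat_lit 78)) (nat_lit 6084)) c3T3 (nat_lit 5) c3e4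
noncomputable def c3e2 : ℕ → ℕ := cel1 (pmul (mul3 (nat_lit 253)) (mul2 (nat_lit 78)) (nat_lit 6084)) c3T2 (nat_lit 6) c3e3
noncomputable def c3e1 : ℕ → ℕ := cel1 (pmul (mul3 (nat_lit 253)) (mul2 (nat_lit 78)) (nat_lit 6084)) c3T1 (nat_lit 2) c3e2
noncomputable def c3e0 : ℕ → ℕ := cel1 (pmul (mul3 (nat_lit 253)) (mul2 (nat_lit 78)) (nat_lit 6084)) c3T0 (nat_lit 8) c3e1
noncomputable def c30Sf : ℕ → ℕ := chkS2 (pmul (mul3 (nat_lit 253)) (mul2 (nat_lit 78)) (nat_lit 6084)) H3g (nat_lit 3) c3T0 c3e1 c30c (nat_lit 8) (nat_lit 180)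
noncomputable def c30Gf : ℕ → ℕ := chkG (pmul (mul3 (nat_lit 253)) (mul2 (nat_lit 78)) (nat_lit 6084)) H3g c3T0 c3K1g [[nat_lit 100, nat_lit 153, nat_lit 1],
  [nat_lit 50, nat_lit 105, nat_lit 1]]
noncomputable def c31Sf : ℕ → ℕ := chkS2 (pmul (mul3 (nat_lit 253)) (mul2 (nat_lit 78)) (nat_lit 6084)) c3K1g (nat_lit 2) c3T1 c3e2 c31c (nat_lit 2) (nat_lit 3)
noncomputable def c31Gf : ℕ → ℕ := chkG (pmul (mul3 (nat_lit 253)) (mul2 (nat_lit 78)) (nat_lit 6084)) c3K1g c3T1 c3K2g [[nat_lit 0, nat_lit 0, nat_lit 1],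
  [nat_lit 1, nat_lit 1, nat_lit 1],
  [nat_lit 0, nat_lit 1, nat_lit 1, nat_lit 0, nat_lit 0]]
noncomputable def c32Sf : ℕ → ℕ := chkS2 (pmul (mul3 (nat_lit 253)) (mul2 (nat_lit 78)) (nat_lit 6084)) c3K2g (nat_lit 3) c3T2 c3e3 c32c (nat_lit 6) (nat_lit 48)
noncomputable def c32Gf : ℕ → ℕ := chkG (pmul (mul3 (nat_lit 253)) (mul2 (nat_lit 78)) (nat_lit 6084)) c3K2g c3T2 c3K3g [[nat_lit 33, nat_lit 15, nat_lit 1, nat_lit 2, nat_lit 1],
  [nat_lit 18, nat_lit 34, nat_lit 2],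
  [nat_lit 21, nat_lit 0, nat_lit 2, nat_lit 1, nat_lit 1],
  [nat_lit 13, nat_lit 24, nat_lit 2, nat_lit 0, nat_lit 2],
  [nat_lit 12, nat_lit 26, nat_lit 1],
  [nat_lit 36, nat_lit 31, nat_lit 0, nat_lit 0, nat_lit 2],
  [nat_lit 25, nat_lit 21, nat_lit 0, nat_lit 1, nat_lit 2],
  [nat_lit 42, nat_lit 24, nat_lit 0, nat_lit 2],
  [nat_lit 41, nat_lit 31, nat_lit 2],
  [nat_lit 38, nat_lit 33, nat_lit 1, nat_lit 0, nat_lit 0],
  [nat_lit 2, nat_lit 32, nat_lit 0, nat_lit 1, nat_lit 2]]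
noncomputable def c33Sf : ℕ → ℕ := chkS2 (pmul (mul3 (nat_lit 253)) (mul2 (nat_lit 78)) (nat_lit 6084)) c3K3g (nat_lit 11) c3T3 c3e4 c33c (nat_lit 5) (nat_lit 32)
noncomputable def c33Gf : ℕ → ℕ := chkG (pmul (mul3 (nat_lit 253)) (mul2 (nat_lit 78)) (nat_lit 6084)) c3K3g c3T3 c3K4g [[nat_lit 4, nat_lit 15, nat_lit 1],
  [nat_lit 16, nat_lit 16, nat_lit 7],
  [nat_lit 29, nat_lit 13, nat_lit 2],
  [nat_lit 21, nat_lit 3, nat_lit 6, nat_lit 1],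
  [nat_lit 19, nat_lit 28, nat_lit 3, nat_lit 0, nat_lit 0],
  [nat_lit 24, nat_lit 23, nat_lit 1, nat_lit 10]]
noncomputable def c34Sf : ℕ → ℕ := chkS2 (pmul (mul3 (nat_lit 253)) (mul2 (nat_lit 78)) (nat_lit 6084)) c3K4g (nat_lit 6) c3T4 c3e5 c34c (nat_lit 5) (nat_lit 32)
noncomputable def c34Gf : ℕ → ℕ := chkG (pmul (mul3 (nat_lit 253)) (mul2 (nat_lit 78)) (nat_lit 6084)) c3K4g c3T4 c3K5g [[nat_lit 4, nat_lit 23, nat_lit 0, nat_lit 2, nat_lit 5],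
  [nat_lit 30, nat_lit 16, nat_lit 2, nat_lit 5, nat_lit 0]]
noncomputable def c35Sf : ℕ → ℕ := chkS2 (pmul (mul3 (nat_lit 253)) (mul2 (nat_lit 78)) (nat_lit 6084)) c3K5g (nat_lit 2) c3T5 (fun _ => (join (nat_lit 6084) (one2 (nat_lit 78)) (one2 (nat_lit 253)))) c35c (nat_lit 1) (nat_lit 2)
noncomputable abbrev dc : ℕ := hi (nat_lit 6084) (Zc 0)
noncomputable def pYYf : ℕ → ℕ := chkY can0 (brow (nat_lit 78)) pY (nat_lit 180)
noncomputable def pDIf : ℕ → ℕ := chkI (mul3 (nat_lit 253)) (one2 (nat_lit 253)) (fun s => hi (nat_lit 6084) (pD s)) pDi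
noncomputable def pDJf : ℕ → ℕ := chkI (mul2 (nat_lit 78)) (one2 (nat_lit 78)) (fun s => lo (nat_lit 6084) (pD s)) pDj
noncomputable def pRHOf : ℕ → ℕ := chkO (img2 (nat_lit 78) fun s => lo (nat_lit 6084) (H3g s)) (brow (nat_lit 78)) pY pRHa (nat_lit 180) [nat_lit 112]
noncomputable abbrev pL1 : Subgroup (GA × GB) := Lf (MonoidHom.id (GA × GB)) H3 (mP.elt (pD 1))
noncomputable def pL1Ef : ℕ → ℕ := chkE pL1P c3e0 [nat_lit 69084813, nat_lit 113579058, nat_lit 67108864]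
noncomputable def pL1Cf : ℕ → ℕ := chkL (pmul (mul3 (nat_lit 253)) (mul2 (nat_lit 78)) (nat_lit 6084)) (pD 1) pL1P c3e0 [nat_lit 24452178, nat_lit 26559819, nat_lit 67108864]
noncomputable def pL1Wf : ℕ → ℕ := chkPl (pmul (mul3 (nat_lit 253)) (mul2 (nat_lit 78)) (nat_lit 6084)) pL1P [[nat_lit 1, nat_lit 0, nat_lit 0, nat_lit 0, nat_lit 0, nat_lit 1, nat_lit 0, nat_lit 1, nat_lit 0, nat_lit 0, nat_lit 1, nat_lit 0, nat_lit 1, nat_lit 1, nat_lit 1],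
  [nat_lit 0, nat_lit 0, nat_lit 1, nat_lit 1, nat_lit 0, nat_lit 1, nat_lit 1, nat_lit 1, nat_lit 0, nat_lit 0, nat_lit 1, nat_lit 0, nat_lit 1, nat_lit 1, nat_lit 0, nat_lit 0],
  [nat_lit 0, nat_lit 0, nat_lit 0, nat_lit 1, nat_lit 1, nat_lit 0, nat_lit 2, nat_lit 0, nat_lit 1, nat_lit 0, nat_lit 0, nat_lit 1, nat_lit 1, nat_lit 0, nat_lit 0, nat_lit 0],
  [nat_lit 2]] (nat_lit 3)
noncomputable def pL10yYf : ℕ → ℕ := chkY can0 (brow (nat_lit 78)) pL10y (nat_lit 1)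
noncomputable def pL10ROf : ℕ → ℕ := chkO (img2 (nat_lit 78) fun s => lo (nat_lit 6084) ((shf pL1P (nat_lit 0)) s)) (brow (nat_lit 78)) pL10y pL10Ra (nat_lit 1) [nat_lit 0]
noncomputable def pL10Xf : ℕ → ℕ := chkFx (img2 (nat_lit 78) fun s => lo (nat_lit 6084) (pL1P s)) (brow (nat_lit 78)) pL10y (nat_lit 0) [nat_lit 0, nat_lit 0, nat_lit 0, nat_lit 0, nat_lit 0, nat_lit 0, nat_lit 0] (nat_lit 0)
noncomputable abbrev pL1K1 : Subgroup (GA × GB) := pL1 ⊓ MulAction.stabilizer (GA × GB) (pvP (pt (brow (nat_lit 78)) pL10y (nat_lit 0)))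
noncomputable def pL11yYf : ℕ → ℕ := chkY can0 (brow (nat_lit 78)) pL11y (nat_lit 1536)
noncomputable def pL11ROf : ℕ → ℕ := chkO (img2 (nat_lit 78) fun s => lo (nat_lit 6084) ((shf pL1P (nat_lit 0)) s)) (brow (nat_lit 78)) pL11y pL11Ra (nat_lit 1536) [nat_lit 675]
noncomputable def pL11Xf : ℕ → ℕ := chkFx (img2 (nat_lit 78) fun s => lo (nat_lit 6084) (pL1P s)) (brow (nat_lit 78)) pL11y (nat_lit 675) [nat_lit 0, nat_lit 0, nat_lit 0, nat_lit 0] (nat_lit 3)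
noncomputable abbrev pL1K2 : Subgroup (GA × GB) := pL1K1 ⊓ MulAction.stabilizer (GA × GB) (pvP (pt (brow (nat_lit 78)) pL11y (nat_lit 675)))
noncomputable def pL12yYf : ℕ → ℕ := chkY can0 (brow (nat_lit 78)) pL12y (nat_lit 96)
noncomputable def pL12ROf : ℕ → ℕ := chkO (img2 (nat_lit 78) fun s => lo (nat_lit 6084) ((shf pL1P (nat_lit 3)) s)) (brow (nat_lit 78)) pL12y pL12Ra (nat_lit 96) [nat_lit 16]
noncomputable def pL12Xf : ℕ → ℕ := chkFx (img2 (nat_lit 78) fun s => lo (nat_lit 6084) (pL1P s)) (brow (nat_lit 78)) pL12y (nat_lit 16) [nat_lit 0] (nat_lit 6)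
noncomputable abbrev pL1K3 : Subgroup (GA × GB) := pL1K2 ⊓ MulAction.stabilizer (GA × GB) (pvP (pt (brow (nat_lit 78)) pL12y (nat_lit 16)))
noncomputable abbrev pL2 : Subgroup (GA × GB) := Lf (MonoidHom.id (GA × GB)) H3 (mP.elt (pD 2))
noncomputable def pL2Ef : ℕ → ℕ := chkE pL2P c3e0 [nat_lit 43843756, nat_lit 53566574, nat_lit 67108864]
noncomputable def pL2Cf : ℕ → ℕ := chkL (pmul (mul3 (nat_lit 253)) (mul2 (nat_lit 78)) (nat_lit 6084)) (pD 2) pL2P c3e0 [nat_lit 43843756, nat_lit 53566574, nat_lit 67108864]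
noncomputable def pL2Wf : ℕ → ℕ := chkPl (pmul (mul3 (nat_lit 253)) (mul2 (nat_lit 78)) (nat_lit 6084)) pL2P [[nat_lit 1, nat_lit 0, nat_lit 0, nat_lit 1, nat_lit 1, nat_lit 1, nat_lit 0, nat_lit 0, nat_lit 1, nat_lit 1, nat_lit 1],
  [nat_lit 1, nat_lit 1, nat_lit 1, nat_lit 1, nat_lit 1, nat_lit 0, nat_lit 0, nat_lit 0, nat_lit 1, nat_lit 1, nat_lit 0],
  [nat_lit 2]] (nat_lit 3)
noncomputable def pL20yYf : ℕ → ℕ := chkY can0 (brow (nat_lit 78)) pL20y (nat_lit 1440)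
noncomputable def pL20ROf : ℕ → ℕ := chkO (img2 (nat_lit 78) fun s => lo (nat_lit 6084) ((shf pL2P (nat_lit 0)) s)) (brow (nat_lit 78)) pL20y pL20Ra (nat_lit 1440) [nat_lit 1236]
noncomputable def pL20Xf : ℕ → ℕ := chkFx (img2 (nat_lit 78) fun s => lo (nat_lit 6084) (pL2P s)) (brow (nat_lit 78)) pL20y (nat_lit 1236) [nat_lit 0, nat_lit 0, nat_lit 0] (nat_lit 3)
noncomputable abbrev pL2K1 : Subgroup (GA × GB) := pL2 ⊓ MulAction.stabilizer (GA × GB) (pvP (pt (brow (nat_lit 78)) pL20y (nat_lit 1236)))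
noncomputable def pL21yYf : ℕ → ℕ := chkY can0 (brow (nat_lit 78)) pL21y (nat_lit 36)
noncomputable def pL21ROf : ℕ → ℕ := chkO (img2 (nat_lit 78) fun s => lo (nat_lit 6084) ((shf pL2P (nat_lit 3)) s)) (brow (nat_lit 78)) pL21y pL21Ra (nat_lit 36) [nat_lit 18]
noncomputable def pL21Xf : ℕ → ℕ := chkFx (img2 (nat_lit 78) fun s => lo (nat_lit 6084) (pL2P s)) (brow (nat_lit 78)) pL21y (nat_lit 18) [nat_lit 0] (nat_lit 5)
noncomputable abbrev pL2K2 : Subgroup (GA × GB) := pL2K1 ⊓ MulAction.stabilizer (GA × GB) (pvP (pt (brow (nat_lit 78)) pL21y (nat_lit 18)))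
noncomputable def pB : ℕ := (nat_lit 0x964ef16b4f911807ebd6593bc5ad3e44601faf5964ef16b4f911807ebd6593bc5ad3e44601faf5964ef16b4f911807ebd6593bc5ad3e44601faf5964ef16b4f911807ebd6593bc5ad3e44601faf5964ef16b4f911807ebd6593bc5ad3e44601faf5964ef16b4f911807ebd6593bc5ad3e44601faf5964ef16b4f911807ebd6593bc5ad3e44601faf5964ef16b4f911807ebd6593bc5ad3e44601faf5964ef16b4f911807ebd6593bc5ad3e44601faf5964ef16b4f911807ebd6593bc5ad3e44601faf5964ef16b4f911807ebd6593bc5ad3e44601faf5964ef16b4f911807ebd6593bc5ad3e44601faf5964ef16b4f911807ebd6593bc5ad3e44601faf5964ef16b4f911807ebd6593bc5ad3e44601faf5964ef16b4f911807ebd6593bc5ad3e44601faf5964ef16b4f911807ebd6593bc5ad3e44601faf5964ef16b4f911807ebd6593bc5ad3e44601faf5964ef16b4f911807ebd6593bc5ad3e44601faf5964ef16b4f911807ebd6593bc5ad3e44601faf5964ef16b4f911807ebd6593bc5ad3e44601faf5964ef16b4f911807ebd6593bc5ad3e44601faf5964ef16b4f911807ebd6593bc5ad3e44601faf5964ef16b4f911807ebd6593bc5ad3e44601faf5964ef16b4f911807ebd6593bc5ad3e44601faf5964ef16b4f911807ebd6593bc5ad3e44601faf5964ef16b4f911807ebd6593bc5ad3e44601faf5964ef16b4f911807ebd6593bc5ad3e44601faf5964ef16b4f911807ebd6593bc5ad3e44601faf5964ef16b4f911807ebd6593bc5ad3e44601faf5964ef16b4f911807ebd6593bc5ad3e44601faf5964ef16b4f911807ebd6593bc5ad3e44601faf5964ef16b4f911807ebd6593bc5ad3e44601faf5)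
noncomputable def pBkf : ℕ → ℕ := chkB (img2 (nat_lit 78) fun s => lo (nat_lit 6084) ((cel1 (pmul (mul3 (nat_lit 253)) (mul2 (nat_lit 78)) (nat_lit 6084)) pL1P (nat_lit 3) pL1P) s)) (brow (nat_lit 78)) pY (nat_lit 112) pB [nat_lit 7, nat_lit 7, nat_lit 7, nat_lit 7, nat_lit 7, nat_lit 7, nat_lit 7, nat_lit 7, nat_lit 7, nat_lit 7, nat_lit 7, nat_lit 7, nat_lit 7, nat_lit 7, nat_lit 7, nat_lit 7, nat_lit 7, nat_lit 7, nat_lit 7, nat_lit 7, nat_lit 7, nat_lit 7, nat_lit 7, nat_lit 7, nat_lit 7, nat_lit 7, nat_lit 7, nat_lit 7, nat_lit 7, nat_lit 7, nat_lit 7, nat_lit 7, nat_lit 7, nat_lit 7, nat_lit 7, nat_lit 7, nat_lit 7, nat_lit 7, nat_lit 7, nat_lit 7, nat_lit 7, nat_lit 7, nat_lit 7, nat_lit 7, nat_lit 7, nat_lit 7, nat_lit 7, nat_lit 7, nat_lit 7, nat_lit 7, nat_lit 7, nat_lit 7, nat_lit 7, nat_lit 7, nat_lit 7, nat_lit 7, nat_lit 7, nat_lit 7, nat_lit 7, nat_lit 7, nat_lit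 7, nat_lit 7, nat_lit 7, nat_lit 7] [nat_lit 0, nat_lit 0, nat_lit 0, nat_lit 0, nat_lit 0, nat_lit 0, nat_lit 0, nat_lit 0, nat_lit 0, nat_lit 0, nat_lit 0, nat_lit 0, nat_lit 0, nat_lit 0, nat_lit 0, nat_lit 0, nat_lit 0, nat_lit 0, nat_lit 0, nat_lit 0, nat_lit 0, nat_lit 0, nat_lit 0, nat_lit 0, nat_lit 0, nat_lit 0, nat_lit 0, nat_lit 0, nat_lit 0, nat_lit 0, nat_lit 0, nat_lit 0, nat_lit 0, nat_lit 0, nat_lit 0, nat_lit 0, nat_lit 0, nat_lit 0, nat_lit 0, nat_lit 0, nat_lit 0, nat_lit 0, nat_lit 0, nat_lit 0, nat_lit 0, nat_lit 0, nat_lit 0, nat_lit 0, nat_lit 0, nat_lit 0, nat_lit 0, nat_lit 0, nat_lit 0, nat_lit 0, nat_lit 0, nat_lit 0, nat_lit 0, nat_lit 0, nat_lit 0, nat_lit 0, nat_lit 0, nat_lit 0, nat_lit 0, nat_lit 0]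
noncomputable def pR1w : List (List ℕ) := [[nat_lit 1, nat_lit 14417999, nat_lit 1, nat_lit 133734470, nat_lit 2, nat_lit 84769106],
  [nat_lit 1, nat_lit 1096834, nat_lit 1, nat_lit 99725431, nat_lit 1, nat_lit 30367749],
  [nat_lit 1, nat_lit 34703937, nat_lit 1, nat_lit 79431710, nat_lit 1, nat_lit 7],
  [nat_lit 1, nat_lit 126580067, nat_lit 1, nat_lit 50904345, nat_lit 0, nat_lit 0]]
noncomputable def pR1If : ℕ → ℕ := chkD1 (pmul (mul3 (nat_lit 253)) (mul2 (nat_lit 78)) (nat_lit 6084)) pD c3e0 pR1w (nat_lit 1) (nat_lit 3)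
noncomputable def pR1Of : ℕ → ℕ := chkR (img2 (nat_lit 78) fun s => lo (nat_lit 6084) (pL1P s)) (img2 (nat_lit 78) fun s => lo (nat_lit 6084) (c3e0 s)) (brow (nat_lit 78)) pY pR1a (nat_lit 180) pB pR1w (nat_lit 4)
noncomputable def pR2w : List (List ℕ) := [[nat_lit 2, nat_lit 14417999, nat_lit 1, nat_lit 59255871, nat_lit 2, nat_lit 22113870],
  [nat_lit 2, nat_lit 1096834, nat_lit 1, nat_lit 96642373, nat_lit 1, nat_lit 83564554]]
noncomputable def pR2If : ℕ → ℕ := chkD1 (pmul (mul3 (nat_lit 253)) (mul2 (nat_lit 78)) (nat_lit 6084)) pD c3e0 pR2w (nat_lit 2) (nat_lit 3)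
noncomputable def pR2Of : ℕ → ℕ := chkR (img2 (nat_lit 78) fun s => lo (nat_lit 6084) (pL2P s)) (img2 (nat_lit 78) fun s => lo (nat_lit 6084) (c3e0 s)) (brow (nat_lit 78)) pY pR2a (nat_lit 180) pB pR2w (nat_lit 2)
noncomputable abbrev pG : Subgroup (GA × GB) := (Subgroup.map (MonoidHom.id (GA × GB)) H3) ⊔ zpowers (mP.elt (pD 1))
noncomputable abbrev H2g : ℕ → ℕ := cons1 (pD 1) H3g
noncomputable def pe : ℕ → ℕ := del1 (pmul (mul3 (nat_lit 253)) (mul2 (nat_lit 78)) (nat_lit 6084)) pD (nat_lit 2) (nat_lit 27) c3e0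
noncomputable def qYYf : ℕ → ℕ := chkY can0 (brow (nat_lit 78)) qY (nat_lit 693)
noncomputable def qDIf : ℕ → ℕ := chkI (mul3 (nat_lit 253)) (one2 (nat_lit 253)) (fun s => hi (nat_lit 6084) (qD s)) qDi
noncomputable def qDJf : ℕ → ℕ := chkI (mul2 (nat_lit 78)) (one2 (nat_lit 78)) (fun s => lo (nat_lit 6084) (qD s)) qDj
noncomputable def qRHOf : ℕ → ℕ := chkO (img2 (nat_lit 78) fun s => lo (nat_lit 6084) (H2g s)) (brow (nat_lit 78)) qY qRHa (nat_lit 693) [nat_lit 447]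
noncomputable abbrev qL1 : Subgroup (GA × GB) := Lf (MonoidHom.id (GA × GB)) pG (mP.elt (qD 1))
noncomputable def qL1Ef : ℕ → ℕ := chkE qL1P pe [nat_lit 287392788, nat_lit 50255336, nat_lit 268435456]
noncomputable def qL1Cf : ℕ → ℕ := chkL (pmul (mul3 (nat_lit 253)) (mul2 (nat_lit 78)) (nat_lit 6084)) (qD 1) qL1P pe [nat_lit 114451804, nat_lit 332524032, nat_lit 268435456]
noncomputable def qL1Wf : ℕ → ℕ := chkPl (pmul (mul3 (nat_lit 253)) (mul2 (nat_lit 78)) (nat_lit 6084)) qL1P [[nat_lit 1, nat_lit 1, nat_lit 1, nat_lit 0, nat_lit 1, nat_lit 1, nat_lit 1, nat_lit 1, nat_lit 1, nat_lit 0, nat_lit 1],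
  [nat_lit 0, nat_lit 0, nat_lit 1, nat_lit 1, nat_lit 0, nat_lit 0, nat_lit 1, nat_lit 1],
  [nat_lit 0, nat_lit 1, nat_lit 1, nat_lit 0, nat_lit 1, nat_lit 0, nat_lit 1, nat_lit 0, nat_lit 1, nat_lit 0, nat_lit 1, nat_lit 1],
  [nat_lit 4, nat_lit 5, nat_lit 4, nat_lit 5, nat_lit 4, nat_lit 3, nat_lit 4, nat_lit 5],
  [nat_lit 4, nat_lit 3, nat_lit 3, nat_lit 4, nat_lit 5, nat_lit 4, nat_lit 5, nat_lit 3],
  [nat_lit 5, nat_lit 5, nat_lit 3, nat_lit 4, nat_lit 5, nat_lit 4, nat_lit 5, nat_lit 4, nat_lit 5],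
  [nat_lit 2]] (nat_lit 3)
noncomputable def qL10yYf : ℕ → ℕ := chkY can0 (brow (nat_lit 78)) qL10y (nat_lit 1)
noncomputable def qL10ROf : ℕ → ℕ := chkO (img2 (nat_lit 78) fun s => lo (nat_lit 6084) ((shf qL1P (nat_lit 0)) s)) (brow (nat_lit 78)) qL10y qL10Ra (nat_lit 1) [nat_lit 0]
noncomputable def qL10Xf : ℕ → ℕ := chkFx (img2 (nat_lit 78) fun s => lo (nat_lit 6084) (qL1P s)) (brow (nat_lit 78)) qL10y (nat_lit 0) [nat_lit 0, nat_lit 0, nat_lit 0, nat_lit 0, nat_lit 0, nat_lit 0, nat_lit 0, nat_lit 0, nat_lit 0, nat_lit 0] (nat_lit 0)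
noncomputable abbrev qL1K1 : Subgroup (GA × GB) := qL1 ⊓ MulAction.stabilizer (GA × GB) (pvP (pt (brow (nat_lit 78)) qL10y (nat_lit 0)))
noncomputable def qL11yYf : ℕ → ℕ := chkY can0 (brow (nat_lit 78)) qL11y (nat_lit 2304)
noncomputable def qL11ROf : ℕ → ℕ := chkO (img2 (nat_lit 78) fun s => lo (nat_lit 6084) ((shf qL1P (nat_lit 0)) s)) (brow (nat_lit 78)) qL11y qL11Ra (nat_lit 2304) [nat_lit 1023]
noncomputable def qL11Xf : ℕ → ℕ := chkFx (img2 (nat_lit 78) fun s => lo (nat_lit 6084) (qL1P s)) (brow (nat_lit 78)) qL11y (nat_lit 1023) [nat_lit 0, nat_lit 0, nat_lit 0, nat_lit 0, nat_lit 0, nat_lit 0, nat_lit 0] (nat_lit 3)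
noncomputable abbrev qL1K2 : Subgroup (GA × GB) := qL1K1 ⊓ MulAction.stabilizer (GA × GB) (pvP (pt (brow (nat_lit 78)) qL11y (nat_lit 1023)))
noncomputable def qL12yYf : ℕ → ℕ := chkY can0 (brow (nat_lit 78)) qL12y (nat_lit 720)
noncomputable def qL12ROf : ℕ → ℕ := chkO (img2 (nat_lit 78) fun s => lo (nat_lit 6084) ((shf qL1P (nat_lit 3)) s)) (brow (nat_lit 78)) qL12y qL12Ra (nat_lit 720) [nat_lit 471]
noncomputable def qL12Xf : ℕ → ℕ := chkFx (img2 (nat_lit 78) fun s => lo (nat_lit 6084) (qL1P s)) (brow (nat_lit 78)) qL12y (nat_lit 471) [nat_lit 0, nat_lit 0, nat_lit 0, nat_lit 0] (nat_lit 6)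
noncomputable abbrev qL1K3 : Subgroup (GA × GB) := qL1K2 ⊓ MulAction.stabilizer (GA × GB) (pvP (pt (brow (nat_lit 78)) qL12y (nat_lit 471)))
noncomputable def qL13yYf : ℕ → ℕ := chkY can0 (brow (nat_lit 78)) qL13y (nat_lit 16)
noncomputable def qL13ROf : ℕ → ℕ := chkO (img2 (nat_lit 78) fun s => lo (nat_lit 6084) ((shf qL1P (nat_lit 6)) s)) (brow (nat_lit 78)) qL13y qL13Ra (nat_lit 16) [nat_lit 7]
noncomputable def qL13Xf : ℕ → ℕ := chkFx (img2 (nat_lit 78) fun s => lo (nat_lit 6084) (qL1P s)) (brow (nat_lit 78)) qL13y (nat_lit 7) [nat_lit 0] (nat_lit 9)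
noncomputable abbrev qL1K4 : Subgroup (GA × GB) := qL1K3 ⊓ MulAction.stabilizer (GA × GB) (pvP (pt (brow (nat_lit 78)) qL13y (nat_lit 7)))
noncomputable abbrev qL2 : Subgroup (GA × GB) := Lf (MonoidHom.id (GA × GB)) pG (mP.elt (qD 2))
noncomputable def qL2Ef : ℕ → ℕ := chkE qL2P pe [nat_lit 48684937000321142, nat_lit 64930040136213858, nat_lit 268435456]
noncomputable def qL2Cf : ℕ → ℕ := chkL (pmul (mul3 (nat_lit 253)) (mul2 (nat_lit 78)) (nat_lit 6084)) (qD 2) qL2P pe [nat_lit 48684937000321142, nat_lit 64930040136213858, nat_lit 268435456]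
noncomputable def qL2Wf : ℕ → ℕ := chkPl (pmul (mul3 (nat_lit 253)) (mul2 (nat_lit 78)) (nat_lit 6084)) qL2P [[nat_lit 0, nat_lit 1, nat_lit 1, nat_lit 1, nat_lit 0, nat_lit 1, nat_lit 1, nat_lit 0, nat_lit 1, nat_lit 0, nat_lit 1, nat_lit 1],
  [nat_lit 1, nat_lit 0, nat_lit 0, nat_lit 0, nat_lit 1, nat_lit 0, nat_lit 0, nat_lit 1, nat_lit 0, nat_lit 0, nat_lit 0, nat_lit 0],
  [nat_lit 1, nat_lit 1, nat_lit 0, nat_lit 1, nat_lit 0, nat_lit 0, nat_lit 0, nat_lit 1, nat_lit 0],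
  [nat_lit 4, nat_lit 5, nat_lit 5, nat_lit 5, nat_lit 4, nat_lit 5, nat_lit 5],
  [nat_lit 5, nat_lit 3, nat_lit 4, nat_lit 5, nat_lit 4, nat_lit 5, nat_lit 5],
  [nat_lit 4, nat_lit 3, nat_lit 5, nat_lit 3, nat_lit 4, nat_lit 4],
  [nat_lit 2]] (nat_lit 3)
noncomputable def qL20yYf : ℕ → ℕ := chkY can0 (brow (nat_lit 78)) qL20y (nat_lit 1680)
noncomputable def qL20ROf : ℕ → ℕ := chkO (img2 (nat_lit 78) fun s => lo (nat_lit 6084) ((shf qL2P (nat_lit 0)) s)) (brow (nat_lit 78)) qL20y qL20Ra (nat_lit 1680) [nat_lit 375]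
noncomputable def qL20Xf : ℕ → ℕ := chkFx (img2 (nat_lit 78) fun s => lo (nat_lit 6084) (qL2P s)) (brow (nat_lit 78)) qL20y (nat_lit 375) [nat_lit 0, nat_lit 0, nat_lit 0, nat_lit 0, nat_lit 0, nat_lit 0, nat_lit 0] (nat_lit 3)
noncomputable abbrev qL2K1 : Subgroup (GA × GB) := qL2 ⊓ MulAction.stabilizer (GA × GB) (pvP (pt (brow (nat_lit 78)) qL20y (nat_lit 375)))
noncomputable def qL21yYf : ℕ → ℕ := chkY can0 (brow (nat_lit 78)) qL21y (nat_lit 243)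
noncomputable def qL21ROf : ℕ → ℕ := chkO (img2 (nat_lit 78) fun s => lo (nat_lit 6084) ((shf qL2P (nat_lit 3)) s)) (brow (nat_lit 78)) qL21y qL21Ra (nat_lit 243) [nat_lit 62]
noncomputable def qL21Xf : ℕ → ℕ := chkFx (img2 (nat_lit 78) fun s => lo (nat_lit 6084) (qL2P s)) (brow (nat_lit 78)) qL21y (nat_lit 62) [nat_lit 0, nat_lit 0, nat_lit 0, nat_lit 0] (nat_lit 6)
noncomputable abbrev qL2K2 : Subgroup (GA × GB) := qL2K1 ⊓ MulAction.stabilizer (GA × GB) (pvP (pt (brow (nat_lit 78)) qL21y (nat_lit 62)))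
noncomputable def qL22yYf : ℕ → ℕ := chkY can0 (brow (nat_lit 78)) qL22y (nat_lit 16)
noncomputable def qL22ROf : ℕ → ℕ := chkO (img2 (nat_lit 78) fun s => lo (nat_lit 6084) ((shf qL2P (nat_lit 6)) s)) (brow (nat_lit 78)) qL22y qL22Ra (nat_lit 16) [nat_lit 8]
noncomputable def qL22Xf : ℕ → ℕ := chkFx (img2 (nat_lit 78) fun s => lo (nat_lit 6084) (qL2P s)) (brow (nat_lit 78)) qL22y (nat_lit 8) [nat_lit 0] (nat_lit 9)
noncomputable abbrev qL2K3 : Subgroup (GA × GB) := qL2K2 ⊓ MulAction.stabilizer (GA × GB) (pvP (pt (brow (nat_lit 78)) qL22y (nat_lit 8)))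
noncomputable def qB : ℕ := (nat_lit 0xa77c305fd2ca5fd414129df0c17f4b297f50504a77c305fd2ca5fd414129df0c17f4b297f50504a77c305fd2ca5fd414129df0c17f4b297f50504a77c305fd2ca5fd414129df0c17f4b297f50504a77c305fd2ca5fd414129df0c17f4b297f50504a77c305fd2ca5fd414129df0c17f4b297f50504a77c305fd2ca5fd414129df0c17f4b297f50504a77c305fd2ca5fd414129df0c17f4b297f50504a77c305fd2ca5fd414129df0c17f4b297f50504a77c305fd2ca5fd414129df0c17f4b297f50504a77c305fd2ca5fd414129df0c17f4b297f50504a77c305fd2ca5fd414129df0c17f4b297f50504a77c305fd2ca5fd414129df0c17f4b297f50504a77c305fd2ca5fd414129df0c17f4b297f50504a77c305fd2ca5fd414129df0c17f4b297f50504a77c305fd2ca5fd414129df0c17f4b297f50504a77c305fd2ca5fd414129df0c17f4b297f50504a77c305fd2ca5fd414129df0c17f4b297f50504a77c305fd2ca5fd414129df0c17f4b297f50504a77c305fd2ca5fd414129df0c17f4b297f50504a77c305fd2ca5fd414129df0c17f4b297f50504a77c305fd2ca5fd414129df0c17f4b297f50504a77c305fd2ca5fd414129df0c17f4b297f50504a77c305fd2ca5fd414129df0c17f4b297f50504a77c305fd2ca5fd414129df0c17f4b297f50504a77c305fd2ca5fd414129df0c17f4b297f50504a77c305fd2ca5fd414129df0c17f4b297f50504a77c305fd2ca5fd414129df0c17f4b297f50504a77c305fd2ca5fd414129df0c17f4b297f50504a77c305fd2ca5fd414129df0c17f4b297f50504a77c305fd2ca5fd414129df0c17f4b297f50504a77c305fd2ca5fd414129df0c17f4b297f50504)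
noncomputable def qBkf : ℕ → ℕ := chkB (img2 (nat_lit 78) fun s => lo (nat_lit 6084) ((cel1 (pmul (mul3 (nat_lit 253)) (mul2 (nat_lit 78)) (nat_lit 6084)) qL1P (nat_lit 4) qL1P) s)) (brow (nat_lit 78)) qY (nat_lit 447) qB [nat_lit 10, nat_lit 10, nat_lit 10, nat_lit 10, nat_lit 10, nat_lit 10, nat_lit 10, nat_lit 10, nat_lit 10, nat_lit 10, nat_lit 10, nat_lit 10, nat_lit 10, nat_lit 10, nat_lit 10, nat_lit 10, nat_lit 10, nat_lit 10, nat_lit 10, nat_lit 10, nat_lit 10, nat_lit 10, nat_lit 10, nat_lit 10, nat_lit 10, nat_lit 10, nat_lit 10, nat_lit 10, nat_lit 10, nat_lit 10, nat_lit 10, nat_lit 10, nat_lit 10, nat_lit 10, nat_lit 10, nat_lit 10, nat_lit 10, nat_lit 10, nat_lit 10, nat_lit 10, nat_lit 10, nat_lit 10, nat_lit 10, nat_lit 10, nat_lit 10, nat_lit 10, nat_lit 10, nat_lit 10, nat_lit 10, nat_lit 10, nat_lit 10, nat_lit 10, nat_lit 10, nat_lit 10, nat_lit 10, nat_lit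 10, nat_lit 10, nat_lit 10, nat_lit 10, nat_lit 10, nat_lit 10, nat_lit 10, nat_lit 10, nat_lit 10] [nat_lit 0, nat_lit 0, nat_lit 0, nat_lit 0, nat_lit 0, nat_lit 0, nat_lit 0, nat_lit 0, nat_lit 0, nat_lit 0, nat_lit 0, nat_lit 0, nat_lit 0, nat_lit 0, nat_lit 0, nat_lit 0, nat_lit 0, nat_lit 0, nat_lit 0, nat_lit 0, nat_lit 0, nat_lit 0, nat_lit 0, nat_lit 0, nat_lit 0, nat_lit 0, nat_lit 0, nat_lit 0, nat_lit 0, nat_lit 0, nat_lit 0, nat_lit 0, nat_lit 0, nat_lit 0, nat_lit 0, nat_lit 0, nat_lit 0, nat_lit 0, nat_lit 0, nat_lit 0, nat_lit 0, nat_lit 0, nat_lit 0, nat_lit 0, nat_lit 0, nat_lit 0, nat_lit 0, nat_lit 0, nat_lit 0, nat_lit 0, nat_lit 0, nat_lit 0, nat_lit 0, nat_lit 0, nat_lit 0, nat_lit 0, nat_lit 0, nat_lit 0, nat_lit 0, nat_lit 0, nat_lit 0, nat_lit 0, nat_lit 0, nat_lit 0]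
noncomputable def qR1w : List (List ℕ) := [[nat_lit 1, nat_lit 65086596, nat_lit 1, nat_lit 356054348, nat_lit 0, nat_lit 0],
  [nat_lit 1, nat_lit 1035759525562590, nat_lit 1, nat_lit 13655949371865170, nat_lit 2, nat_lit 21653947227861142],
  [nat_lit 1, nat_lit 54059742517297225, nat_lit 1, nat_lit 20140582482301349, nat_lit 1, nat_lit 44265788633]]
noncomputable def qR1If : ℕ → ℕ := chkD1 (pmul (mul3 (nat_lit 253)) (mul2 (nat_lit 78)) (nat_lit 6084)) qD pe qR1w (nat_lit 1) (nat_lit 3)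
noncomputable def qR1Of : ℕ → ℕ := chkR (img2 (nat_lit 78) fun s => lo (nat_lit 6084) (qL1P s)) (img2 (nat_lit 78) fun s => lo (nat_lit 6084) (pe s)) (brow (nat_lit 78)) qY qR1a (nat_lit 693) qB qR1w (nat_lit 3)
noncomputable def qR2w : List (List ℕ) := [[nat_lit 2, nat_lit 65086596, nat_lit 1, nat_lit 60806438941, nat_lit 2, nat_lit 15973723718811653],
  [nat_lit 2, nat_lit 9624077067366722, nat_lit 1, nat_lit 41352090111112834, nat_lit 1, nat_lit 78729988778]]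
noncomputable def qR2If : ℕ → ℕ := chkD1 (pmul (mul3 (nat_lit 253)) (mul2 (nat_lit 78)) (nat_lit 6084)) qD pe qR2w (nat_lit 2) (nat_lit 3)
noncomputable def qR2Of : ℕ → ℕ := chkR (img2 (nat_lit 78) fun s => lo (nat_lit 6084) (qL2P s)) (img2 (nat_lit 78) fun s => lo (nat_lit 6084) (pe s)) (brow (nat_lit 78)) qY qR2a (nat_lit 693) qB qR2w (nat_lit 2)
noncomputable abbrev qG : Subgroup (GA × GB) := (Subgroup.map (MonoidHom.id (GA × GB)) pG) ⊔ zpowers (mP.elt (qD 1))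
noncomputable abbrev H1g : ℕ → ℕ := cons1 (qD 1) H2g
noncomputable def qe : ℕ → ℕ := del1 (pmul (mul3 (nat_lit 253)) (mul2 (nat_lit 78)) (nat_lit 6084)) qD (nat_lit 2) (nat_lit 56) pe
noncomputable def rYYf : ℕ → ℕ := chkY can0 (brow (nat_lit 78)) rY (nat_lit 3510)
noncomputable def rDIf : ℕ → ℕ := chkI (mul3 (nat_lit 253)) (one2 (nat_lit 253)) rD rDi
noncomputable def rRHOf : ℕ → ℕ := chkO (img2 (nat_lit 78) fun s => lo (nat_lit 6084) (H1g s)) (brow (nat_lit 78)) rY rRHa (nat_lit 3510) [nat_lit 1491]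
noncomputable abbrev rL1 : Subgroup (GA × GB) := Lf (MonoidHom.fst GA GB) qG (mA.elt (rD 1))
noncomputable def rL1Ef : ℕ → ℕ := chkE rL1P qe [nat_lit 41104324538647672, nat_lit 225917384457343848, nat_lit 1073741824]
noncomputable def rL1Cf : ℕ → ℕ := chkL (mul3 (nat_lit 253)) (rD 1) (fun s => hi (nat_lit 6084) (rL1P s)) (fun x => hi (nat_lit 6084) (qe x)) [nat_lit 250232648098866888, nat_lit 150931138104599352, nat_lit 2084569088]
noncomputable def rL1Wf : ℕ → ℕ := chkPl (pmul (mul3 (nat_lit 253)) (mul2 (nat_lit 78)) (nat_lit 6084)) rL1P [[nat_lit 0, nat_lit 0, nat_lit 1, nat_lit 1, nat_lit 0, nat_lit 0, nat_lit 0, nat_lit 1, nat_lit 1, nat_lit 1, nat_lit 1, nat_lit 0],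
  [nat_lit 1, nat_lit 1, nat_lit 0, nat_lit 1, nat_lit 1, nat_lit 1, nat_lit 1, nat_lit 1, nat_lit 1, nat_lit 1, nat_lit 1, nat_lit 0, nat_lit 0],
  [nat_lit 4, nat_lit 4, nat_lit 4, nat_lit 3, nat_lit 4, nat_lit 3, nat_lit 4, nat_lit 4, nat_lit 3, nat_lit 3, nat_lit 3, nat_lit 3, nat_lit 4],
  [nat_lit 3, nat_lit 3, nat_lit 3, nat_lit 3, nat_lit 4, nat_lit 4, nat_lit 3, nat_lit 3, nat_lit 4, nat_lit 4, nat_lit 3],
  [nat_lit 4, nat_lit 3, nat_lit 3, nat_lit 4, nat_lit 4, nat_lit 3, nat_lit 3, nat_lit 3, nat_lit 3, nat_lit 3, nat_lit 4],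
  [nat_lit 7, nat_lit 7, nat_lit 6, nat_lit 7, nat_lit 6, nat_lit 6],
  [nat_lit 6, nat_lit 6, nat_lit 6, nat_lit 6, nat_lit 5, nat_lit 7, nat_lit 5],
  [nat_lit 5, nat_lit 5, nat_lit 7, nat_lit 6, nat_lit 6, nat_lit 5, nat_lit 6, nat_lit 6],
  [nat_lit 2]] (nat_lit 3)
noncomputable def rL10yYf : ℕ → ℕ := chkY can0 (brow (nat_lit 78)) rL10y (nat_lit 1)
noncomputable def rL10ROf : ℕ → ℕ := chkO (img2 (nat_lit 78) fun s => lo (nat_lit 6084) ((shf rL1P (nat_lit 0)) s)) (brow (nat_lit 78)) rL10y rL10Ra (nat_lit 1) [nat_lit 0]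
noncomputable def rL10Xf : ℕ → ℕ := chkFx (img2 (nat_lit 78) fun s => lo (nat_lit 6084) (rL1P s)) (brow (nat_lit 78)) rL10y (nat_lit 0) [nat_lit 0, nat_lit 0, nat_lit 0, nat_lit 0, nat_lit 0, nat_lit 0, nat_lit 0, nat_lit 0, nat_lit 0, nat_lit 0, nat_lit 0, nat_lit 0] (nat_lit 0)
noncomputable abbrev rL1K1 : Subgroup (GA × GB) := rL1 ⊓ MulAction.stabilizer (GA × GB) (pvP (pt (brow (nat_lit 78)) rL10y (nat_lit 0)))
noncomputable def rL11yYf : ℕ → ℕ := chkY can0 (brow (nat_lit 78)) rL11y (nat_lit 2816)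
noncomputable def rL11ROf : ℕ → ℕ := chkO (img2 (nat_lit 78) fun s => lo (nat_lit 6084) ((shf rL1P (nat_lit 0)) s)) (brow (nat_lit 78)) rL11y rL11Ra (nat_lit 2816) [nat_lit 1255]
noncomputable def rL11Xf : ℕ → ℕ := chkFx (img2 (nat_lit 78) fun s => lo (nat_lit 6084) (rL1P s)) (brow (nat_lit 78)) rL11y (nat_lit 1255) [nat_lit 0, nat_lit 0, nat_lit 0, nat_lit 0, nat_lit 0, nat_lit 0, nat_lit 0, nat_lit 0, nat_lit 0] (nat_lit 3)
noncomputable abbrev rL1K2 : Subgroup (GA × GB) := rL1K1 ⊓ MulAction.stabilizer (GA × GB) (pvP (pt (brow (nat_lit 78)) rL11y (nat_lit 1255)))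
noncomputable def rL12yYf : ℕ → ℕ := chkY can0 (brow (nat_lit 78)) rL12y (nat_lit 1680)
noncomputable def rL12ROf : ℕ → ℕ := chkO (img2 (nat_lit 78) fun s => lo (nat_lit 6084) ((shf rL1P (nat_lit 3)) s)) (brow (nat_lit 78)) rL12y rL12Ra (nat_lit 1680) [nat_lit 375]
noncomputable def rL12Xf : ℕ → ℕ := chkFx (img2 (nat_lit 78) fun s => lo (nat_lit 6084) (rL1P s)) (brow (nat_lit 78)) rL12y (nat_lit 375) [nat_lit 0, nat_lit 0, nat_lit 0, nat_lit 0, nat_lit 0, nat_lit 0, nat_lit 0] (nat_lit 5)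
noncomputable abbrev rL1K3 : Subgroup (GA × GB) := rL1K2 ⊓ MulAction.stabilizer (GA × GB) (pvP (pt (brow (nat_lit 78)) rL12y (nat_lit 375)))
noncomputable def rL13yYf : ℕ → ℕ := chkY can0 (brow (nat_lit 78)) rL13y (nat_lit 243)
noncomputable def rL13ROf : ℕ → ℕ := chkO (img2 (nat_lit 78) fun s => lo (nat_lit 6084) ((shf rL1P (nat_lit 5)) s)) (brow (nat_lit 78)) rL13y rL13Ra (nat_lit 243) [nat_lit 62]
noncomputable def rL13Xf : ℕ → ℕ := chkFx (img2 (nat_lit 78) fun s => lo (nat_lit 6084) (rL1P s)) (brow (nat_lit 78)) rL13y (nat_lit 62) [nat_lit 0, nat_lit 0, nat_lit 0, nat_lit 0] (nat_lit 8)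
noncomputable abbrev rL1K4 : Subgroup (GA × GB) := rL1K3 ⊓ MulAction.stabilizer (GA × GB) (pvP (pt (brow (nat_lit 78)) rL13y (nat_lit 62)))
noncomputable def rL14yYf : ℕ → ℕ := chkY can0 (brow (nat_lit 78)) rL14y (nat_lit 16)
noncomputable def rL14ROf : ℕ → ℕ := chkO (img2 (nat_lit 78) fun s => lo (nat_lit 6084) ((shf rL1P (nat_lit 8)) s)) (brow (nat_lit 78)) rL14y rL14Ra (nat_lit 16) [nat_lit 8]
noncomputable def rL14Xf : ℕ → ℕ := chkFx (img2 (nat_lit 78) fun s => lo (nat_lit 6084) (rL1P s)) (brow (nat_lit 78)) rL14y (nat_lit 8) [nat_lit 0] (nat_lit 11)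
noncomputable abbrev rL1K5 : Subgroup (GA × GB) := rL1K4 ⊓ MulAction.stabilizer (GA × GB) (pvP (pt (brow (nat_lit 78)) rL14y (nat_lit 8)))
noncomputable abbrev rL2 : Subgroup (GA × GB) := Lf (MonoidHom.fst GA GB) qG (mA.elt (rD 2))
noncomputable def rL2Ef : ℕ → ℕ := chkE rL2P qe [nat_lit 2232069590571378869885265902576102, nat_lit 17965145741525144956511700550801946]
noncomputable def rL2Cf : ℕ → ℕ := chkL (mul3 (nat_lit 253)) (rD 2) (fun s => hi (nat_lit 6084) (rL2P s)) (fun x => hi (nat_lit 6084) (qe x)) [nat_lit 2232069590571378869885265902576102, nat_lit 17965145741525144956511700550801946]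
noncomputable def rL2Wf : ℕ → ℕ := chkPl (pmul (mul3 (nat_lit 253)) (mul2 (nat_lit 78)) (nat_lit 6084)) rL2P [[nat_lit 1, nat_lit 1, nat_lit 0, nat_lit 0, nat_lit 1, nat_lit 0, nat_lit 0, nat_lit 0, nat_lit 1],
  [nat_lit 1, nat_lit 1, nat_lit 0, nat_lit 1, nat_lit 0, nat_lit 1, nat_lit 1],
  [nat_lit 3, nat_lit 2, nat_lit 3, nat_lit 3, nat_lit 3, nat_lit 2, nat_lit 3, nat_lit 2, nat_lit 3, nat_lit 2, nat_lit 2, nat_lit 3],
  [nat_lit 3, nat_lit 3, nat_lit 2, nat_lit 2, nat_lit 2, nat_lit 2, nat_lit 2, nat_lit 2, nat_lit 2, nat_lit 2, nat_lit 3],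
  [nat_lit 4, nat_lit 4, nat_lit 4, nat_lit 5, nat_lit 5, nat_lit 4, nat_lit 4, nat_lit 4, nat_lit 5, nat_lit 5, nat_lit 4, nat_lit 4, nat_lit 4, nat_lit 5, nat_lit 5],
  [nat_lit 4, nat_lit 4, nat_lit 4, nat_lit 5, nat_lit 5, nat_lit 5, nat_lit 4, nat_lit 4, nat_lit 4, nat_lit 5, nat_lit 5, nat_lit 4, nat_lit 4, nat_lit 5, nat_lit 4, nat_lit 4, nat_lit 4, nat_lit 4, nat_lit 5]] (nat_lit 2)
noncomputable def rL20yYf : ℕ → ℕ := chkY can0 (brow (nat_lit 78)) rL20y (nat_lit 351)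
noncomputable def rL20ROf : ℕ → ℕ := chkO (img2 (nat_lit 78) fun s => lo (nat_lit 6084) ((shf rL2P (nat_lit 0)) s)) (brow (nat_lit 78)) rL20y rL20Ra (nat_lit 351) [nat_lit 162]
noncomputable def rL20Xf : ℕ → ℕ := chkFx (img2 (nat_lit 78) fun s => lo (nat_lit 6084) (rL2P s)) (brow (nat_lit 78)) rL20y (nat_lit 162) [nat_lit 0, nat_lit 0, nat_lit 0, nat_lit 0, nat_lit 0, nat_lit 0] (nat_lit 2)
noncomputable abbrev rL2K1 : Subgroup (GA × GB) := rL2 ⊓ MulAction.stabilizer (GA × GB) (pvP (pt (brow (nat_lit 78)) rL20y (nat_lit 162)))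
noncomputable def rL21yYf : ℕ → ℕ := chkY can0 (brow (nat_lit 78)) rL21y (nat_lit 2592)
noncomputable def rL21ROf : ℕ → ℕ := chkO (img2 (nat_lit 78) fun s => lo (nat_lit 6084) ((shf rL2P (nat_lit 2)) s)) (brow (nat_lit 78)) rL21y rL21Ra (nat_lit 2592) [nat_lit 2413]
noncomputable def rL21Xf : ℕ → ℕ := chkFx (img2 (nat_lit 78) fun s => lo (nat_lit 6084) (rL2P s)) (brow (nat_lit 78)) rL21y (nat_lit 2413) [nat_lit 0, nat_lit 0, nat_lit 0, nat_lit 0] (nat_lit 4)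
noncomputable abbrev rL2K2 : Subgroup (GA × GB) := rL2K1 ⊓ MulAction.stabilizer (GA × GB) (pvP (pt (brow (nat_lit 78)) rL21y (nat_lit 2413)))
noncomputable def rL22yYf : ℕ → ℕ := chkY can0 (brow (nat_lit 78)) rL22y (nat_lit 1260)
noncomputable def rL22ROf : ℕ → ℕ := chkO (img2 (nat_lit 78) fun s => lo (nat_lit 6084) ((shf rL2P (nat_lit 4)) s)) (brow (nat_lit 78)) rL22y rL22Ra (nat_lit 1260) [nat_lit 597]
noncomputable def rL22Xf : ℕ → ℕ := chkFx (img2 (nat_lit 78) fun s => lo (nat_lit 6084) (rL2P s)) (brow (nat_lit 78)) rL22y (nat_lit 597) [nat_lit 0, nat_lit 0] (nat_lit 6)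
noncomputable abbrev rL2K3 : Subgroup (GA × GB) := rL2K2 ⊓ MulAction.stabilizer (GA × GB) (pvP (pt (brow (nat_lit 78)) rL22y (nat_lit 597)))
noncomputable def rL23yYf : ℕ → ℕ := chkY can0 (brow (nat_lit 78)) rL23y (nat_lit 4)
noncomputable def rL23ROf : ℕ → ℕ := chkO (img2 (nat_lit 78) fun s => lo (nat_lit 6084) ((shf rL2P (nat_lit 6)) s)) (brow (nat_lit 78)) rL23y rL23Ra (nat_lit 4) [nat_lit 1]
noncomputable def rL23Xf : ℕ → ℕ := chkFx (img2 (nat_lit 78) fun s => lo (nat_lit 6084) (rL2P s)) (brow (nat_lit 78)) rL23y (nat_lit 1) [] (nat_lit 8)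
noncomputable abbrev rL2K4 : Subgroup (GA × GB) := rL2K3 ⊓ MulAction.stabilizer (GA × GB) (pvP (pt (brow (nat_lit 78)) rL23y (nat_lit 1)))
noncomputable def rB : ℕ := (nat_lit 0x728a24fb4a5a02b21f45ca2893ed29680ac87d1728a24fb4a5a02b21f45ca2893ed29680ac87d1728a24fb4a5a02b21f45ca2893ed29680ac87d1728a24fb4a5a02b21f45ca2893ed29680ac87d1728a24fb4a5a02b21f45ca2893ed29680ac87d1728a24fb4a5a02b21f45ca2893ed29680ac87d1728a24fb4a5a02b21f45ca2893ed29680ac87d1728a24fb4a5a02b21f45ca2893ed29680ac87d1728a24fb4a5a02b21f45ca2893ed29680ac87d1728a24fb4a5a02b21f45ca2893ed29680ac87d1728a24fb4a5a02b21f45ca2893ed29680ac87d1728a24fb4a5a02b21f45ca2893ed29680ac87d1728a24fb4a5a02b21f45ca2893ed29680ac87d1728a24fb4a5a02b21f45ca2893ed29680ac87d1728a24fb4a5a02b21f45ca2893ed29680ac87d1728a24fb4a5a02b21f45ca2893ed29680ac87d1728a24fb4a5a02b21f45ca2893ed29680ac87d1728a24fb4a5a02b21f45ca2893ed29680ac87d1728a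24fb4a5a02b21f45ca2893ed29680ac87d1728a24fb4a5a02b21f45ca2893ed29680ac87d1728a24fb4a5a02b21f45ca2893ed29680ac87d1728a24fb4a5a02b21f45ca2893ed29680ac87d1728a24fb4a5a02b21f45ca2893ed29680ac87d1728a24fb4a5a02b21f45ca2893ed29680ac87d1728a24fb4a5a02b21f45ca2893ed29680ac87d1728a24fb4a5a02b21f45ca2893ed29680ac87d1728a24fb4a5a02b21f45ca2893ed29680ac87d1728a24fb4a5a02b21f45ca2893ed29680ac87d1728a24fb4a5a02b21f45ca2893ed29680ac87d1728a24fb4a5a02b21f45ca2893ed29680ac87d1728a24fb4a5a02b21f45ca2893ed29680ac87d1728a24fb4a5a02b21f45ca2893ed29680ac87d1)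
noncomputable def rBkf : ℕ → ℕ := chkB (img2 (nat_lit 78) fun s => lo (nat_lit 6084) ((cel1 (pmul (mul3 (nat_lit 253)) (mul2 (nat_lit 78)) (nat_lit 6084)) rL1P (nat_lit 4) rL1P) s)) (brow (nat_lit 78)) rY (nat_lit 1491) rB [nat_lit 12, nat_lit 12, nat_lit 12, nat_lit 12, nat_lit 12, nat_lit 12, nat_lit 12, nat_lit 12, nat_lit 12, nat_lit 12, nat_lit 12, nat_lit 12, nat_lit 12, nat_lit 12, nat_lit 12, nat_lit 12, nat_lit 12, nat_lit 12, nat_lit 12, nat_lit 12, nat_lit 12, nat_lit 12, nat_lit 12, nat_lit 12, nat_lit 12, nat_lit 12, nat_lit 12, nat_lit 12, nat_lit 12, nat_lit 12, nat_lit 12, nat_lit 12, nat_lit 12, nat_lit 12, nat_lit 12, nat_lit 12, nat_lit 12, nat_lit 12, nat_lit 12, nat_lit 12, nat_lit 12, nat_lit 12, nat_lit 12, nat_lit 12, nat_lit 12, nat_lit 12, nat_lit 12, nat_lit 12, nat_lit 12, nat_lit 12, nat_lit 12, nat_lit 12, nat_lit 12, nat_lit 12, nat_lit 12, nat_lit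 12, nat_lit 12, nat_lit 12, nat_lit 12, nat_lit 12, nat_lit 12, nat_lit 12, nat_lit 12, nat_lit 12] [nat_lit 0, nat_lit 0, nat_lit 0, nat_lit 0, nat_lit 0, nat_lit 0, nat_lit 0, nat_lit 0, nat_lit 0, nat_lit 0, nat_lit 0, nat_lit 0, nat_lit 0, nat_lit 0, nat_lit 0, nat_lit 0, nat_lit 0, nat_lit 0, nat_lit 0, nat_lit 0, nat_lit 0, nat_lit 0, nat_lit 0, nat_lit 0, nat_lit 0, nat_lit 0, nat_lit 0, nat_lit 0, nat_lit 0, nat_lit 0, nat_lit 0, nat_lit 0, nat_lit 0, nat_lit 0, nat_lit 0, nat_lit 0, nat_lit 0, nat_lit 0, nat_lit 0, nat_lit 0, nat_lit 0, nat_lit 0, nat_lit 0, nat_lit 0, nat_lit 0, nat_lit 0, nat_lit 0, nat_lit 0, nat_lit 0, nat_lit 0, nat_lit 0, nat_lit 0, nat_lit 0, nat_lit 0, nat_lit 0, nat_lit 0, nat_lit 0, nat_lit 0, nat_lit 0, nat_lit 0, nat_lit 0, nat_lit 0, nat_lit 0, nat_lit 0]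
noncomputable def rR1w : List (List ℕ) := [[nat_lit 1, nat_lit 237721215788653352, nat_lit 1, nat_lit 225917385617645752, nat_lit 0, nat_lit 0],
  [nat_lit 1, nat_lit 873796999217396423673802, nat_lit 1, nat_lit 151603750497687529, nat_lit 2, nat_lit 7265807893331648897620115489],
  [nat_lit 1, nat_lit 75042115886637319888325337, nat_lit 1, nat_lit 15207385728724360826433619421669093, nat_lit 1, nat_lit 15207385728724360655074083471360001]]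
noncomputable def rR1If : ℕ → ℕ := chkD1 (mul3 (nat_lit 253)) rD (fun x => hi (nat_lit 6084) (qe x)) rR1w (nat_lit 1) (nat_lit 3)
noncomputable def rR1Of : ℕ → ℕ := chkR (img2 (nat_lit 78) fun s => lo (nat_lit 6084) (rL1P s)) (img2 (nat_lit 78) fun s => lo (nat_lit 6084) (qe s)) (brow (nat_lit 78)) rY rR1a (nat_lit 3510) rB rR1w (nat_lit 3)
noncomputable def rR2w : List (List ℕ) := [[nat_lit 2, nat_lit 237721215788653352, nat_lit 1, nat_lit 148478632853456820, nat_lit 1, nat_lit 6849208666947559249626654275437018],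
  [nat_lit 2, nat_lit 873796999217396423673802, nat_lit 1, nat_lit 720104316391901254684609302, nat_lit 2, nat_lit 5053847599858667103860717246552441]]
noncomputable def rR2If : ℕ → ℕ := chkD1 (mul3 (nat_lit 253)) rD (fun x => hi (nat_lit 6084) (qe x)) rR2w (nat_lit 2) (nat_lit 3)
noncomputable def rR2Of : ℕ → ℕ := chkR (img2 (nat_lit 78) fun s => lo (nat_lit 6084) (rL2P s)) (img2 (nat_lit 78) fun s => lo (nat_lit 6084) (qe s)) (brow (nat_lit 78)) rY rR2a (nat_lit 3510) rB rR2w (nat_lit 2)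
noncomputable abbrev rG : Subgroup GA := (Subgroup.map (MonoidHom.fst GA GB) qG) ⊔ zpowers (mA.elt (rD 1))
noncomputable abbrev H : Subgroup GA := Subgroup.map (MonoidHom.fst GA GB) qG
noncomputable abbrev B : Subgroup GB := Subgroup.map (MonoidHom.snd GA GB) qG
noncomputable abbrev Hg : ℕ → ℕ := fun s => hi (nat_lit 6084) (H1g s)
noncomputable abbrev H2h : ℕ → ℕ := fun s => hi (nat_lit 6084) (H2g s)
noncomputable def SEf : ℕ → ℕ := fun s => Nat.xor (lo (nat_lit 6084) (H1g s)) (SP s)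
noncomputable def SWf : ℕ → ℕ := chkPl (mul2 (nat_lit 78)) SP [[nat_lit 0, nat_lit 0, nat_lit 1, nat_lit 3, nat_lit 1, nat_lit 3, nat_lit 2, nat_lit 0, nat_lit 2, nat_lit 2, nat_lit 1],
  [nat_lit 0, nat_lit 0, nat_lit 1, nat_lit 3, nat_lit 0, nat_lit 3, nat_lit 0, nat_lit 3, nat_lit 3, nat_lit 1],
  [nat_lit 6, nat_lit 6, nat_lit 5, nat_lit 5, nat_lit 5, nat_lit 5, nat_lit 6, nat_lit 5, nat_lit 5, nat_lit 5, nat_lit 6, nat_lit 5],
  [nat_lit 6, nat_lit 6, nat_lit 6, nat_lit 6, nat_lit 6, nat_lit 5, nat_lit 5, nat_lit 5, nat_lit 6, nat_lit 6, nat_lit 5, nat_lit 5, nat_lit 5],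
  [nat_lit 8, nat_lit 7, nat_lit 7, nat_lit 8, nat_lit 8, nat_lit 8, nat_lit 8, nat_lit 8, nat_lit 7, nat_lit 8, nat_lit 7, nat_lit 8],
  [nat_lit 7, nat_lit 7, nat_lit 8, nat_lit 8, nat_lit 8, nat_lit 8, nat_lit 8, nat_lit 8, nat_lit 8, nat_lit 7, nat_lit 7],
  [nat_lit 8, nat_lit 7, nat_lit 8, nat_lit 8, nat_lit 8, nat_lit 8, nat_lit 7, nat_lit 8, nat_lit 8, nat_lit 8, nat_lit 8, nat_lit 7],
  [nat_lit 10, nat_lit 11, nat_lit 11, nat_lit 9, nat_lit 11, nat_lit 9, nat_lit 10],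
  [nat_lit 9, nat_lit 10, nat_lit 11, nat_lit 11, nat_lit 11, nat_lit 9],
  [nat_lit 9, nat_lit 10, nat_lit 10, nat_lit 11, nat_lit 10, nat_lit 11, nat_lit 10]] (nat_lit 5)
noncomputable def S0yYf : ℕ → ℕ := chkY can0 (brow (nat_lit 78)) S0y (nat_lit 3510)
noncomputable def S0ROf : ℕ → ℕ := chkO (img2 (nat_lit 78) (shf SP (nat_lit 0))) (brow (nat_lit 78)) S0y S0Ra (nat_lit 3510) [nat_lit 1491]
noncomputable def S0Xf : ℕ → ℕ := chkFx (img2 (nat_lit 78) SP) (brow (nat_lit 78)) S0y (nat_lit 1491) [nat_lit 0, nat_lit 0, nat_lit 0, nat_lit 0, nat_lit 0, nat_lit 0, nat_lit 0, nat_lit 0, nat_lit 0, nat_lit 0] (nat_lit 5)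
noncomputable abbrev SK1 : Subgroup GB := B ⊓ MulAction.stabilizer GB (pvB (pt (brow (nat_lit 78)) S0y (nat_lit 1491)))
noncomputable def S1yYf : ℕ → ℕ := chkY can0 (brow (nat_lit 78)) S1y (nat_lit 2816)
noncomputable def S1ROf : ℕ → ℕ := chkO (img2 (nat_lit 78) (shf SP (nat_lit 5))) (brow (nat_lit 78)) S1y S1Ra (nat_lit 2816) [nat_lit 1255]
noncomputable def S1Xf : ℕ → ℕ := chkFx (img2 (nat_lit 78) SP) (brow (nat_lit 78)) S1y (nat_lit 1255) [nat_lit 0, nat_lit 0, nat_lit 0, nat_lit 0, nat_lit 0, nat_lit 0, nat_lit 0, nat_lit 0] (nat_lit 7)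
noncomputable abbrev SK2 : Subgroup GB := SK1 ⊓ MulAction.stabilizer GB (pvB (pt (brow (nat_lit 78)) S1y (nat_lit 1255)))
noncomputable def S2yYf : ℕ → ℕ := chkY can0 (brow (nat_lit 78)) S2y (nat_lit 1680)
noncomputable def S2ROf : ℕ → ℕ := chkO (img2 (nat_lit 78) (shf SP (nat_lit 7))) (brow (nat_lit 78)) S2y S2Ra (nat_lit 1680) [nat_lit 375]
noncomputable def S2Xf : ℕ → ℕ := chkFx (img2 (nat_lit 78) SP) (brow (nat_lit 78)) S2y (nat_lit 375) [nat_lit 0, nat_lit 0, nat_lit 0, nat_lit 0, nat_lit 0, nat_lit 0] (nat_lit 9)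
noncomputable abbrev SK3 : Subgroup GB := SK2 ⊓ MulAction.stabilizer GB (pvB (pt (brow (nat_lit 78)) S2y (nat_lit 375)))
noncomputable def S3yYf : ℕ → ℕ := chkY can0 (brow (nat_lit 78)) S3y (nat_lit 243)
noncomputable def S3ROf : ℕ → ℕ := chkO (img2 (nat_lit 78) (shf SP (nat_lit 9))) (brow (nat_lit 78)) S3y S3Ra (nat_lit 243) [nat_lit 62]
noncomputable def S3Xf : ℕ → ℕ := chkFx (img2 (nat_lit 78) SP) (brow (nat_lit 78)) S3y (nat_lit 62) [nat_lit 0, nat_lit 0, nat_lit 0] (nat_lit 12)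
noncomputable abbrev SK4 : Subgroup GB := SK3 ⊓ MulAction.stabilizer GB (pvB (pt (brow (nat_lit 78)) S3y (nat_lit 62)))
noncomputable def S4yYf : ℕ → ℕ := chkY can0 (brow (nat_lit 78)) S4y (nat_lit 16)
noncomputable def S4ROf : ℕ → ℕ := chkO (img2 (nat_lit 78) (shf SP (nat_lit 12))) (brow (nat_lit 78)) S4y S4Ra (nat_lit 16) [nat_lit 8]
noncomputable def S4Xf : ℕ → ℕ := chkFx (img2 (nat_lit 78) SP) (brow (nat_lit 78)) S4y (nat_lit 8) [] (nat_lit 15)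
noncomputable abbrev SK5 : Subgroup GB := SK4 ⊓ MulAction.stabilizer GB (pvB (pt (brow (nat_lit 78)) S4y (nat_lit 8)))
noncomputable def crOf : ℕ → ℕ := chkO (img2 (nat_lit 78) fun s => lo (nat_lit 6084) (H1g s)) (brow (nat_lit 78)) cry cra (nat_lit 78) [nat_lit 26]
noncomputable def crVf : ℕ → ℕ := chkV (brow (nat_lit 78)) cry (nat_lit 78) (crm 0)
noncomputable def crFf : ℕ → ℕ := chkF (img2 (nat_lit 78) fun s => lo (nat_lit 6084) (H2g s)) (brow (nat_lit 78)) cry (nat_lit 26) []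
noncomputable def HPf : ℕ → ℕ := chkPW (pmul (mul3 (nat_lit 253)) (mul2 (nat_lit 78)) (nat_lit 6084)) (join (nat_lit 6084) (one2 (nat_lit 78)) (one2 (nat_lit 253))) H1g [[nat_lit 1, nat_lit 3, nat_lit 3, nat_lit 1, nat_lit 2, nat_lit 1, nat_lit 4, nat_lit 1, nat_lit 0, nat_lit 1, nat_lit 3, nat_lit 1],
  [nat_lit 0, nat_lit 1, nat_lit 2, nat_lit 1, nat_lit 3, nat_lit 0, nat_lit 3, nat_lit 1, nat_lit 1, nat_lit 0, nat_lit 3, nat_lit 2],
  [nat_lit 3, nat_lit 4, nat_lit 4, nat_lit 4, nat_lit 1, nat_lit 3, nat_lit 3, nat_lit 2, nat_lit 0, nat_lit 2, nat_lit 4],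
  [nat_lit 3, nat_lit 0, nat_lit 3, nat_lit 4, nat_lit 4, nat_lit 3, nat_lit 1, nat_lit 3, nat_lit 2]] H1g HPy (nat_lit 13)
noncomputable def HWf : ℕ → ℕ := chkPl (pmul (mul3 (nat_lit 253)) (mul2 (nat_lit 78)) (nat_lit 6084)) H1g [[nat_lit 3, nat_lit 2, nat_lit 1, nat_lit 3, nat_lit 2, nat_lit 1, nat_lit 3, nat_lit 2, nat_lit 1, nat_lit 3, nat_lit 2, nat_lit 1, nat_lit 3, nat_lit 2, nat_lit 1, nat_lit 3, nat_lit 2, nat_lit 1, nat_lit 3, nat_lit 2, nat_lit 1, nat_lit 3, nat_lit 2, nat_lit 1, nat_lit 3, nat_lit 2, nat_lit 1, nat_lit 3, nat_lit 2, nat_lit 1, nat_lit 3, nat_lit 2, nat_lit 1]] (nat_lit 4)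
noncomputable def HJf : ℕ → ℕ := fun s => chkJ (mul3 (nat_lit 253)) (Hg s) dc dc
noncomputable def TTf : ℕ → ℕ := chkT (mul3 (nat_lit 253)) (one2 (nat_lit 253)) rD Tx dc [2, 2, 3]
noncomputable def TCf : ℕ → ℕ := fun s => chkJ (mul3 (nat_lit 253)) (rD s) (Tx s) dc
noncomputable def H2Jf : ℕ → ℕ := fun s => chkJ (mul3 (nat_lit 253)) (H2h s) (Tx 1) (Tx 1)
noncomputable abbrev Gg : ℕ → ℕ := cons1 (rD 1) Hg
noncomputable def GPf : ℕ → ℕ := chkPW (mul3 (nat_lit 253)) (one2 (nat_lit 253)) Gg [[nat_lit 3, nat_lit 5, nat_lit 1, nat_lit 2, nat_lit 1, nat_lit 0, nat_lit 1, nat_lit 4, nat_lit 0, nat_lit 2, nat_lit 0, nat_lit 4]] (fun _ => dc) GPy (nat_lit 17)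

end Cfsg.Agent.H4.F23
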