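import Cfsg.Agent.H4.Fis4

set_option autoImplicit false
set_option maxRecDepth 100000

namespace Cfsg.Agent.H4.F23

open Subgroup Cfsg.Agent.H5 Cfsg.Agent.H5.Mdl 

abbrev GA : Type := GL (Fin 253) (ZMod 3)
abbrev GB : Type := GL (Fin 78) (ZMod 2)
noncomputable abbrev φA : GA →* Matrix (Fin 253) (Fin 253) (ZMod 3) := Units.coeHom _
noncomputable abbrev φB : GB →* Matrix (Fin 78) (Fin 78) (ZMod 2) := Units.coeHom _
noncomputable abbrev mA := md3 (ZMod 3) 253 φA Units.val_injective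
noncomputable abbrev mB := md2 (ZMod 2) 78 φB Units.val_injective
theorem hb : (∀ a b, mB.mul a b < 2 ^ 6084) ∧ mB.one < 2 ^ 6084 :=
  ⟨fun a b => mul2_lt (n := 78) (by decide) a b, by decide +kernel⟩
noncomputable abbrev mP := pair mA mB 6084 hb
noncomputable abbrev ψ : GA × GB →* Matrix (Fin 78) (Fin 78) (ZMod 2) := φB.comp (MonoidHom.snd GA GB)
theorem hP : ∀ g a, mP.φ g = mP.ev a → ψ g = ev2 (ZMod 2) 78 (lo 6084 a) := fun _ _ h => congrArg Prod.snd h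
theorem hB : ∀ g a, mB.φ g = mB.ev a → φB g = ev2 (ZMod 2) 78 ((fun a => a) a) := fun _ _ h => h
abbrev kA : ℕ → ℕ := pl1 (Nat.mul 253 253)
theorem keyA : Key mA kA := key3 _ _ _ _
theorem ne_one_of_fst {g : GA × GB} {a : ℕ} (h : mP.φ g = mP.ev a) (h1 : mA.elt (hi 6084 a) ≠ 1) : g ≠ 1 := by
  rintro rfl
  have e : mA.φ 1 = mA.ev (hi 6084 a) := congrArg Prod.fst h
  exact h1 (mA.inj ((In.elt (H := ⊤) ⟨1, mem_top _, e⟩).trans e.symm))

end Cfsg.Agent.H4.F23
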