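import Cfsg.Agent.H4.F23C0
import Cfsg.Agent.H4.F23C1
import Cfsg.Agent.H4.F23C2

set_option autoImplicit false
set_option maxRecDepth 100000

namespace Cfsg.Agent.H4.F23

open Subgroup Cfsg.Agent.H5 Cfsg.Agent.H5.Mdl 

attribute [local irreducible] look Tr.get

theorem H3gI : ∀ i < 3, (chkI (mul3 (nat_lit 253)) (one2 (nat_lit 253)) (fun s => hi (nat_lit 6084) (H3g s)) H3gi) i = 0 :=
  (rng_step (all0 _) H3gI_0)
theorem H3gJ : ∀ i < 3, (chkI (mul2 (nat_lit 78)) (one2 (nat_lit 78)) (fun s => lo (nat_lit 6084) (H3g s)) H3gj) i = 0 :=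
  (rng_step (all0 _) H3gJ_0)
theorem H3_top : ∀ s < 3, mP.In ⊤ (H3g s) :=
  fun s hs => in_pair (in_of_chkI mA (fun _ => rfl) H3gI s hs) (in_of_chkI mB (fun _ => rfl) H3gJ s hs)
theorem H3_in : ∀ s < 3, mP.In H3 (H3g s) :=
  in_gn H3_top
theorem H3_eg : mP.El H3 H3g :=
  el_gn H3_top
theorem c30S : ∀ i < 180, (chkS2 (pmul (mul3 (nat_lit 253)) (mul2 (nat_lit 78)) (nat_lit 6084)) H3g (nat_lit 3) c3T0 c3e1 c30c (nat_lit 8) (nat_lit 180)) i = 0 :=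
  (rng_step (rng_step (rng_step (rng_step (rng_step (rng_step (rng_step (rng_step (rng_step (rng_step (rng_step (rng_step (rng_step (rng_step (rng_step (rng_step (rng_step (rng_step (rng_step (rng_step (rng_step (rng_step (rng_step (rng_step (rng_step (rng_step (rng_step (rng_step (rng_step (rng_step (rng_step (rng_step (rng_step (rng_step (rng_step (rng_step (rng_step (rng_step (rng_step (rng_step (rng_step (rng_step (rng_step (rng_step (rng_step (rng_step (rng_step (rng_step (rng_step (rng_step (rng_step (rng_step (rng_step (rng_step (rng_step (rng_step (rng_step (rng_step (rng_step (rng_step (rng_step (rng_step (rng_step (all0 _) c30S_0) c30S_1) c30S_2) c30S_3) c30S_4) c30S_5) c30S_6) c30S_7) c30S_8) c30S_9) c30S_10) c30S_11) c30S_12) c30S_13) c30S_14) c30S_15) c30S_16) c30S_17) c30S_18) c30S_19) c30S_20) c30S_21) c30S_22) c30S_23) c30S_24) c30S_25) c30S_26) c30S_27)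 c30S_28) c30S_29) c30S_30) c30S_31) c30S_32) c30S_33) c30S_34) c30S_35) c30S_36) c30S_37) c30S_38) c30S_39) c30S_40) c30S_41) c30S_42) c30S_43) c30S_44) c30S_45) c30S_46) c30S_47) c30S_48) c30S_49) c30S_50) c30S_51) c30S_52) c30S_53) c30S_54) c30S_55) c30S_56) c30S_57) c30S_58) c30S_59) c30S_60) c30S_61) c30S_62)
theorem c30elT : mP.El H3 c3T0 :=
  el_of_pad (inT_of_chkS2 (m := mP) c30T0 (by decide) H3_in c30S)
theorem c30G : ∀ i < 2, (chkG (pmul (mul3 (nat_lit 253)) (mul2 (nat_lit 78)) (nat_lit 6084)) H3g c3T0 c3K1g [[nat_lit 100, nat_lit 153, nat_lit 1],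
  [nat_lit 50, nat_lit 105, nat_lit 1]]) i = 0 :=
  (rng_step (all0 _) c30G_0)
theorem c30inG : ∀ s < 2, mP.In H3 (c3K1g s) :=
  in_of_chkG H3_eg c30elT c30G
theorem c3K1_top : ∀ s < 2, mP.In ⊤ (c3K1g s) :=
  fun s hs => (c30inG s hs).top
theorem c3K1_in : ∀ s < 2, mP.In c3K1 (c3K1g s) :=
  in_gn c3K1_top
theorem c3K1_eg : mP.El c3K1 c3K1g :=
  el_gn c3K1_top
theorem c30le : c3K1 ≤ H3 :=
  gn_le c30inG
theorem c31S : ∀ i < 3, (chkS2 (pmul (mul3 (nat_lit 253)) (mul2 (nat_lit 78)) (nat_lit 6084)) c3K1g (nat_lit 2) c3T1 c3e2 c31c (nat_lit 2) (nat_lit 3)) i = 0 :=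
  (rng_step (all0 _) c31S_0)
theorem c31elT : mP.El c3K1 c3T1 :=
  el_of_pad (inT_of_chkS2 (m := mP) c31T0 (by decide) c3K1_in c31S)
theorem c31G : ∀ i < 3, (chkG (pmul (mul3 (nat_lit 253)) (mul2 (nat_lit 78)) (nat_lit 6084)) c3K1g c3T1 c3K2g [[nat_lit 0, nat_lit 0, nat_lit 1],
  [nat_lit 1, nat_lit 1, nat_lit 1],
  [nat_lit 0, nat_lit 1, nat_lit 1, nat_lit 0, nat_lit 0]]) i = 0 :=
  (rng_step (all0 _) c31G_0)
theorem c31inG : ∀ s < 3, mP.In c3K1 (c3K2g s) :=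
  in_of_chkG c3K1_eg c31elT c31G
theorem c3K2_top : ∀ s < 3, mP.In ⊤ (c3K2g s) :=
  fun s hs => (c31inG s hs).top
theorem c3K2_in : ∀ s < 3, mP.In c3K2 (c3K2g s) :=
  in_gn c3K2_top
theorem c3K2_eg : mP.El c3K2 c3K2g :=
  el_gn c3K2_top
theorem c31le : c3K2 ≤ c3K1 :=
  gn_le c31inG
theorem c32S : ∀ i < 48, (chkS2 (pmul (mul3 (nat_lit 253)) (mul2 (nat_lit 78)) (nat_lit 6084)) c3K2g (nat_lit 3) c3T2 c3e3 c32c (nat_lit 6) (nat_lit 48)) i = 0 :=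
  (rng_step (rng_step (rng_step (rng_step (rng_step (rng_step (rng_step (rng_step (rng_step (rng_step (rng_step (rng_step (rng_step (rng_step (rng_step (rng_step (all0 _) c32S_0) c32S_1) c32S_2) c32S_3) c32S_4) c32S_5) c32S_6) c32S_7) c32S_8) c32S_9) c32S_10) c32S_11) c32S_12) c32S_13) c32S_14) c32S_15)
theorem c32elT : mP.El c3K2 c3T2 :=
  el_of_pad (inT_of_chkS2 (m := mP) c32T0 (by decide) c3K2_in c32S)
theorem c32G : ∀ i < 11, (chkG (pmul (mul3 (nat_lit 253)) (mul2 (nat_lit 78)) (nat_lit 6084)) c3K2g c3T2 c3K3g [[nat_lit 33, nat_lit 15, nat_lit 1, nat_lit 2, nat_lit 1],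
  [nat_lit 18, nat_lit 34, nat_lit 2],
  [nat_lit 21, nat_lit 0, nat_lit 2, nat_lit 1, nat_lit 1],
  [nat_lit 13, nat_lit 24, nat_lit 2, nat_lit 0, nat_lit 2],
  [nat_lit 12, nat_lit 26, nat_lit 1],
  [nat_lit 36, nat_lit 31, nat_lit 0, nat_lit 0, nat_lit 2],
  [nat_lit 25, nat_lit 21, nat_lit 0, nat_lit 1, nat_lit 2],
  [nat_lit 42, nat_lit 24, nat_lit 0, nat_lit 2],
  [nat_lit 41, nat_lit 31, nat_lit 2],
  [nat_lit 38, nat_lit 33, nat_lit 1, nat_lit 0, nat_lit 0],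
  [nat_lit 2, nat_lit 32, nat_lit 0, nat_lit 1, nat_lit 2]]) i = 0 :=
  (rng_step (rng_step (all0 _) c32G_0) c32G_1)
theorem c32inG : ∀ s < 11, mP.In c3K2 (c3K3g s) :=
  in_of_chkG c3K2_eg c32elT c32G
theorem c3K3_top : ∀ s < 11, mP.In ⊤ (c3K3g s) :=
  fun s hs => (c32inG s hs).top
theorem c3K3_in : ∀ s < 11, mP.In c3K3 (c3K3g s) :=
  in_gn c3K3_top
theorem c3K3_eg : mP.El c3K3 c3K3g :=
  el_gn c3K3_top
theorem c32le : c3K3 ≤ c3K2 :=
  gn_le c32inG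
theorem c33S : ∀ i < 32, (chkS2 (pmul (mul3 (nat_lit 253)) (mul2 (nat_lit 78)) (nat_lit 6084)) c3K3g (nat_lit 11) c3T3 c3e4 c33c (nat_lit 5) (nat_lit 32)) i = 0 :=
  (rng_step (rng_step (rng_step (rng_step (rng_step (rng_step (rng_step (rng_step (rng_step (rng_step (rng_step (rng_step (rng_step (rng_step (rng_step (rng_step (rng_step (rng_step (rng_step (rng_step (rng_step (rng_step (rng_step (rng_step (rng_step (rng_step (rng_step (rng_step (rng_step (rng_step (rng_step (rng_step (all0 _) c33S_0) c33S_1) c33S_2) c33S_3) c33S_4) c33S_5) c33S_6) c33S_7) c33S_8) c33S_9) c33S_10) c33S_11) c33S_12) c33S_13) c33S_14) c33S_15) c33S_16) c33S_17) c33S_18) c33S_19) c33S_20) c33S_21) c33S_22) c33S_23) c33S_24) c33S_25) c33S_26) c33S_27) c33S_28) c33S_29) c33S_30) c33S_31)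
theorem c33elT : mP.El c3K3 c3T3 :=
  el_of_pad (inT_of_chkS2 (m := mP) c33T0 (by decide) c3K3_in c33S)
theorem c33G : ∀ i < 6, (chkG (pmul (mul3 (nat_lit 253)) (mul2 (nat_lit 78)) (nat_lit 6084)) c3K3g c3T3 c3K4g [[nat_lit 4, nat_lit 15, nat_lit 1],
  [nat_lit 16, nat_lit 16, nat_lit 7],
  [nat_lit 29, nat_lit 13, nat_lit 2],
  [nat_lit 21, nat_lit 3, nat_lit 6, nat_lit 1],
  [nat_lit 19, nat_lit 28, nat_lit 3, nat_lit 0, nat_lit 0],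
  [nat_lit 24, nat_lit 23, nat_lit 1, nat_lit 10]]) i = 0 :=
  (rng_step (all0 _) c33G_0)
theorem c33inG : ∀ s < 6, mP.In c3K3 (c3K4g s) :=
  in_of_chkG c3K3_eg c33elT c33G
theorem c3K4_top : ∀ s < 6, mP.In ⊤ (c3K4g s) :=
  fun s hs => (c33inG s hs).top
theorem c3K4_in : ∀ s < 6, mP.In c3K4 (c3K4g s) :=
  in_gn c3K4_top
theorem c3K4_eg : mP.El c3K4 c3K4g :=
  el_gn c3K4_top
theorem c33le : c3K4 ≤ c3K3 :=
  gn_le c33inG
theorem c34S : ∀ i < 32, (chkS2 (pmul (mul3 (nat_lit 253)) (mul2 (nat_lit 78)) (nat_lit 6084)) c3K4g (nat_lit 6) c3T4 c3e5 c34c (nat_lit 5) (nat_lit 32)) i = 0 :=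
  (rng_step (rng_step (rng_step (rng_step (rng_step (rng_step (rng_step (rng_step (rng_step (rng_step (rng_step (all0 _) c34S_0) c34S_1) c34S_2) c34S_3) c34S_4) c34S_5) c34S_6) c34S_7) c34S_8) c34S_9) c34S_10)
theorem c34elT : mP.El c3K4 c3T4 :=
  el_of_pad (inT_of_chkS2 (m := mP) c34T0 (by decide) c3K4_in c34S)
theorem c34G : ∀ i < 2, (chkG (pmul (mul3 (nat_lit 253)) (mul2 (nat_lit 78)) (nat_lit 6084)) c3K4g c3T4 c3K5g [[nat_lit 4, nat_lit 23, nat_lit 0, nat_lit 2, nat_lit 5],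
  [nat_lit 30, nat_lit 16, nat_lit 2, nat_lit 5, nat_lit 0]]) i = 0 :=
  (rng_step (all0 _) c34G_0)
theorem c34inG : ∀ s < 2, mP.In c3K4 (c3K5g s) :=
  in_of_chkG c3K4_eg c34elT c34G
theorem c3K5_top : ∀ s < 2, mP.In ⊤ (c3K5g s) :=
  fun s hs => (c34inG s hs).top
theorem c3K5_in : ∀ s < 2, mP.In c3K5 (c3K5g s) :=
  in_gn c3K5_top
theorem c3K5_eg : mP.El c3K5 c3K5g :=
  el_gn c3K5_top
theorem c34le : c3K5 ≤ c3K4 :=
  gn_le c34inG
theorem c35S : ∀ i < 2, (chkS2 (pmul (mul3 (nat_lit 253)) (mul2 (nat_lit 78)) (nat_lit 6084)) c3K5g (nat_lit 2) c3T5 (fun _ => (join (nat_lit 6084) (one2 (nat_lit 78)) (one2 (nat_lit 253)))) c35c (nat_lit 1) (nat_lit 2)) i = 0 :=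
  (rng_step (all0 _) c35S_0)
theorem c35elT : mP.El c3K5 c3T5 :=
  el_of_pad (inT_of_chkS2 (m := mP) c35T0 (by decide) c3K5_in c35S)
theorem c35le : (⊥ : Subgroup (GA × GB)) ≤ c3K5 :=
  bot_le
theorem c35ub : Nat.card c3K5 ≤ 2 :=
  (ub_of_chkS2 (m := mP) (el_one (m := mP) ⊥) (by decide) c35T0 c35S card_bot_le).trans (by norm_num)
theorem c35el : mP.El c3K5 c3e5 :=
  el_cel1 c35elT ((el_one (m := mP) ⊥).mono c35le) _
theorem c34ub : Nat.card c3K4 ≤ 64 :=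
  (ub_of_chkS2 (m := mP) c35el (by decide) c34T0 c34S c35ub).trans (by norm_num)
theorem c34el : mP.El c3K4 c3e4 :=
  el_cel1 c34elT (c35el.mono c34le) _
theorem c33ub : Nat.card c3K3 ≤ 2048 :=
  (ub_of_chkS2 (m := mP) c34el (by decide) c33T0 c33S c34ub).trans (by norm_num)
theorem c33el : mP.El c3K3 c3e3 :=
  el_cel1 c33elT (c34el.mono c33le) _
theorem c32ub : Nat.card c3K2 ≤ 98304 :=
  (ub_of_chkS2 (m := mP) c33el (by decide) c32T0 c32S c33ub).trans (by norm_num)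
theorem c32el : mP.El c3K2 c3e2 :=
  el_cel1 c32elT (c33el.mono c32le) _
theorem c31ub : Nat.card c3K1 ≤ 294912 :=
  (ub_of_chkS2 (m := mP) c32el (by decide) c31T0 c31S c32ub).trans (by norm_num)
theorem c31el : mP.El c3K1 c3e1 :=
  el_cel1 c31elT (c32el.mono c31le) _
theorem c30ub : Nat.card H3 ≤ 53084160 :=
  (ub_of_chkS2 (m := mP) c31el (by decide) c30T0 c30S c31ub).trans (by norm_num)
theorem c30el : mP.El H3 c3e0 :=
  el_cel1 c30elT (c31el.mono c30le) _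
theorem Zin : mP.In H3 (Zc 0) :=
  Z1 ▸ H3_eg 2
theorem dT : mA.In ⊤ dc :=
  ((pr_fst mA mB 6084 hb).in Zin).top
theorem d1 : mA.elt dc ≠ 1 :=
  ne_one_of_chkQ keyA dT dQ
theorem dP1 : mP.elt (Zc 0) ≠ 1 :=
  ne_one_of_fst Zin.elt d1
theorem pYY : ∀ i < 180, (chkY can0 (brow (nat_lit 78)) pY (nat_lit 180)) i = 0 :=
  allB (rngB_step (allB0 _ _) pYY_0) (by decide)
theorem pYD : Dist (fun i => pvP (pt (brow (nat_lit 78)) pY i)) 180 :=
  dist_of_chk (canT2 ψ) pYY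
theorem pDI : ∀ i < 3, (chkI (mul3 (nat_lit 253)) (one2 (nat_lit 253)) (fun s => hi (nat_lit 6084) (pD s)) pDi) i = 0 :=
  (rng_step (all0 _) pDI_0)
theorem pDJ : ∀ i < 3, (chkI (mul2 (nat_lit 78)) (one2 (nat_lit 78)) (fun s => lo (nat_lit 6084) (pD s)) pDj) i = 0 :=
  (rng_step (all0 _) pDJ_0)
theorem pelD : mP.El ⊤ pD :=
  el_of_pad (fun s hs => in_pair (in_of_chkI mA (fun _ => rfl) pDI s hs) (in_of_chkI mB (fun _ => rfl) pDJ s hs))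
theorem pd0 : (mP.elt (pD 0)) = 1 :=
  elt_of_eq_one pD0
theorem ptinv : (mP.elt (pD 1))⁻¹ = (mP.elt (pD 1)) :=
  elt_inv_eq (pelD 1) (pelD 1) ptt
theorem pRHO : ∀ i < 180, (chkO (img2 (nat_lit 78) fun s => lo (nat_lit 6084) (H3g s)) (brow (nat_lit 78)) pY pRHa (nat_lit 180) [nat_lit 112]) i = 0 :=
  allB (rngB_step (allB0 _ _) pRHO_0) (by decide)
theorem pRH : Reach H3 (fun i => pvP (pt (brow (nat_lit 78)) pY i)) 180 [nat_lit 112] :=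
  reach_of_chk ((acts2 (m := mP) ψ hP H3g).ex H3_eg) pRHO
theorem pL1E : ∀ i < 3, (chkE pL1P c3e0 [nat_lit 69084813, nat_lit 113579058, nat_lit 67108864]) i = 0 :=
  (rng_step (all0 _) pL1E_0)
theorem pL1C : ∀ i < 3, (chkL (pmul (mul3 (nat_lit 253)) (mul2 (nat_lit 78)) (nat_lit 6084)) (pD 1) pL1P c3e0 [nat_lit 24452178, nat_lit 26559819, nat_lit 67108864]) i = 0 :=
  (rng_step (all0 _) pL1C_0)
theorem pL1in0 : ∀ u < 3, mP.In pL1 (pL1P u) :=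
  in_Lf (pr_id mP) c30el (pelD 1) (in_of_chkE c30el pL1E) pL1C
theorem pL1W : ∀ i < 4, (chkPl (pmul (mul3 (nat_lit 253)) (mul2 (nat_lit 78)) (nat_lit 6084)) pL1P [[nat_lit 1, nat_lit 0, nat_lit 0, nat_lit 0, nat_lit 0, nat_lit 1, nat_lit 0, nat_lit 1, nat_lit 0, nat_lit 0, nat_lit 1, nat_lit 0, nat_lit 1, nat_lit 1, nat_lit 1],
  [nat_lit 0, nat_lit 0, nat_lit 1, nat_lit 1, nat_lit 0, nat_lit 1, nat_lit 1, nat_lit 1, nat_lit 0, nat_lit 0, nat_lit 1, nat_lit 0, nat_lit 1, nat_lit 1, nat_lit 0, nat_lit 0],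
  [nat_lit 0, nat_lit 0, nat_lit 0, nat_lit 1, nat_lit 1, nat_lit 0, nat_lit 2, nat_lit 0, nat_lit 1, nat_lit 0, nat_lit 0, nat_lit 1, nat_lit 1, nat_lit 0, nat_lit 0, nat_lit 0],
  [nat_lit 2]] (nat_lit 3)) i = 0 :=
  (rng_step (rng_step (rng_step (all0 _) pL1W_0) pL1W_1) pL1W_2)
theorem pL1el : mP.El pL1 pL1P :=
  el_of_pad (in_pool pL1in0 pL1W)
theorem pL1s0 : Suf mP pL1 pL1P 0 :=
  suf0 pL1el
theorem pL10yY : ∀ i < 1, (chkY can0 (brow (nat_lit 78)) pL10y (nat_lit 1)) i = 0 :=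
  allB (rngB_step (allB0 _ _) pL10yY_0) (by decide)
theorem pL10yD : Dist (fun i => pvP (pt (brow (nat_lit 78)) pL10y i)) 1 :=
  dist_of_chk (canT2 ψ) pL10yY
theorem pL10RO : ∀ i < 1, (chkO (img2 (nat_lit 78) fun s => lo (nat_lit 6084) ((shf pL1P (nat_lit 0)) s)) (brow (nat_lit 78)) pL10y pL10Ra (nat_lit 1) [nat_lit 0]) i = 0 :=
  allB (rngB_step (allB0 _ _) pL10RO_0) (by decide)
theorem pL10R : Reach pL1 (fun i => pvP (pt (brow (nat_lit 78)) pL10y i)) 1 [nat_lit 0] :=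
  reach_of_chk ((acts2 (m := mP) ψ hP (shf pL1P (nat_lit 0))).ex pL1s0.el) pL10RO
theorem pL10X : ∀ i < 7, (chkFx (img2 (nat_lit 78) fun s => lo (nat_lit 6084) (pL1P s)) (brow (nat_lit 78)) pL10y (nat_lit 0) [nat_lit 0, nat_lit 0, nat_lit 0, nat_lit 0, nat_lit 0, nat_lit 0, nat_lit 0] (nat_lit 0)) i = 0 :=
  (rng_step (all0 _) pL10X_0)
theorem pL1s1 : Suf mP pL1K1 pL1P 0 :=
  pL1s0.step (by decide) (by decide) (acts2 (m := mP) ψ hP pL1P) pL10X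
theorem pL11yY : ∀ i < 1536, (chkY can0 (brow (nat_lit 78)) pL11y (nat_lit 1536)) i = 0 :=
  allB (rngB_step (allB0 _ _) pL11yY_0) (by decide)
theorem pL11yD : Dist (fun i => pvP (pt (brow (nat_lit 78)) pL11y i)) 1536 :=
  dist_of_chk (canT2 ψ) pL11yY
theorem pL11RO : ∀ i < 1536, (chkO (img2 (nat_lit 78) fun s => lo (nat_lit 6084) ((shf pL1P (nat_lit 0)) s)) (brow (nat_lit 78)) pL11y pL11Ra (nat_lit 1536) [nat_lit 675]) i = 0 :=
  allB (rngB_step (allB0 _ _) pL11RO_0) (by decide)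
theorem pL11R : Reach pL1K1 (fun i => pvP (pt (brow (nat_lit 78)) pL11y i)) 1536 [nat_lit 675] :=
  reach_of_chk ((acts2 (m := mP) ψ hP (shf pL1P (nat_lit 0))).ex pL1s1.el) pL11RO
theorem pL11X : ∀ i < 4, (chkFx (img2 (nat_lit 78) fun s => lo (nat_lit 6084) (pL1P s)) (brow (nat_lit 78)) pL11y (nat_lit 675) [nat_lit 0, nat_lit 0, nat_lit 0, nat_lit 0] (nat_lit 3)) i = 0 :=
  (rng_step (all0 _) pL11X_0)
theorem pL1s2 : Suf mP pL1K2 pL1P 3 :=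
  pL1s1.step (by decide) (by decide) (acts2 (m := mP) ψ hP pL1P) pL11X
theorem pL12yY : ∀ i < 96, (chkY can0 (brow (nat_lit 78)) pL12y (nat_lit 96)) i = 0 :=
  allB (rngB_step (allB0 _ _) pL12yY_0) (by decide)
theorem pL12yD : Dist (fun i => pvP (pt (brow (nat_lit 78)) pL12y i)) 96 :=
  dist_of_chk (canT2 ψ) pL12yY
theorem pL12RO : ∀ i < 96, (chkO (img2 (nat_lit 78) fun s => lo (nat_lit 6084) ((shf pL1P (nat_lit 3)) s)) (brow (nat_lit 78)) pL12y pL12Ra (nat_lit 96) [nat_lit 16]) i = 0 :=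
  allB (rngB_step (allB0 _ _) pL12RO_0) (by decide)
theorem pL12R : Reach pL1K2 (fun i => pvP (pt (brow (nat_lit 78)) pL12y i)) 96 [nat_lit 16] :=
  reach_of_chk ((acts2 (m := mP) ψ hP (shf pL1P (nat_lit 3))).ex pL1s2.el) pL12RO
theorem pL12X : ∀ i < 1, (chkFx (img2 (nat_lit 78) fun s => lo (nat_lit 6084) (pL1P s)) (brow (nat_lit 78)) pL12y (nat_lit 16) [nat_lit 0] (nat_lit 6)) i = 0 :=
  (rng_step (all0 _) pL12X_0)
theorem pL1s3 : Suf mP pL1K3 pL1P 6 :=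
  pL1s2.step (by decide) (by decide) (acts2 (m := mP) ψ hP pL1P) pL12X
theorem pL1tK : mP.In pL1K3 (Zc 0) :=
  pL1tE ▸ pL1s3 6 (by decide)
theorem pL1lb3 : 2 ≤ Nat.card pL1K3 :=
  two_le_card pL1tK.elt_mem dP1
theorem pL1lb2 : 192 ≤ Nat.card pL1K2 :=
  le_of_eq_of_le (by norm_num) (card_ge pL12yD pL12R pL1lb3)
theorem pL1lb1 : 294912 ≤ Nat.card pL1K1 :=
  le_of_eq_of_le (by norm_num) (card_ge pL11yD pL11R pL1lb2)
theorem pL1lb0 : 294912 ≤ Nat.card pL1 :=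
  le_of_eq_of_le (by norm_num) (card_ge pL10yD pL10R pL1lb1)
theorem pL2E : ∀ i < 3, (chkE pL2P c3e0 [nat_lit 43843756, nat_lit 53566574, nat_lit 67108864]) i = 0 :=
  (rng_step (all0 _) pL2E_0)
theorem pL2C : ∀ i < 3, (chkL (pmul (mul3 (nat_lit 253)) (mul2 (nat_lit 78)) (nat_lit 6084)) (pD 2) pL2P c3e0 [nat_lit 43843756, nat_lit 53566574, nat_lit 67108864]) i = 0 :=
  (rng_step (all0 _) pL2C_0)
theorem pL2in0 : ∀ u < 3, mP.In pL2 (pL2P u) :=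
  in_Lf (pr_id mP) c30el (pelD 2) (in_of_chkE c30el pL2E) pL2C
theorem pL2W : ∀ i < 3, (chkPl (pmul (mul3 (nat_lit 253)) (mul2 (nat_lit 78)) (nat_lit 6084)) pL2P [[nat_lit 1, nat_lit 0, nat_lit 0, nat_lit 1, nat_lit 1, nat_lit 1, nat_lit 0, nat_lit 0, nat_lit 1, nat_lit 1, nat_lit 1],
  [nat_lit 1, nat_lit 1, nat_lit 1, nat_lit 1, nat_lit 1, nat_lit 0, nat_lit 0, nat_lit 0, nat_lit 1, nat_lit 1, nat_lit 0],
  [nat_lit 2]] (nat_lit 3)) i = 0 :=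
  (rng_step (all0 _) pL2W_0)
theorem pL2el : mP.El pL2 pL2P :=
  el_of_pad (in_pool pL2in0 pL2W)
theorem pL2s0 : Suf mP pL2 pL2P 0 :=
  suf0 pL2el
theorem pL20yY : ∀ i < 1440, (chkY can0 (brow (nat_lit 78)) pL20y (nat_lit 1440)) i = 0 :=
  allB (rngB_step (allB0 _ _) pL20yY_0) (by decide)
theorem pL20yD : Dist (fun i => pvP (pt (brow (nat_lit 78)) pL20y i)) 1440 :=
  dist_of_chk (canT2 ψ) pL20yY
theorem pL20RO : ∀ i < 1440, (chkO (img2 (nat_lit 78) fun s => lo (nat_lit 6084) ((shf pL2P (nat_lit 0)) s)) (brow (nat_lit 78)) pL20y pL20Ra (nat_lit 1440) [nat_lit 1236]) i = 0 :=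
  allB (rngB_step (allB0 _ _) pL20RO_0) (by decide)
theorem pL20R : Reach pL2 (fun i => pvP (pt (brow (nat_lit 78)) pL20y i)) 1440 [nat_lit 1236] :=
  reach_of_chk ((acts2 (m := mP) ψ hP (shf pL2P (nat_lit 0))).ex pL2s0.el) pL20RO
theorem pL20X : ∀ i < 3, (chkFx (img2 (nat_lit 78) fun s => lo (nat_lit 6084) (pL2P s)) (brow (nat_lit 78)) pL20y (nat_lit 1236) [nat_lit 0, nat_lit 0, nat_lit 0] (nat_lit 3)) i = 0 :=
  (rng_step (all0 _) pL20X_0)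
theorem pL2s1 : Suf mP pL2K1 pL2P 3 :=
  pL2s0.step (by decide) (by decide) (acts2 (m := mP) ψ hP pL2P) pL20X
theorem pL21yY : ∀ i < 36, (chkY can0 (brow (nat_lit 78)) pL21y (nat_lit 36)) i = 0 :=
  allB (rngB_step (allB0 _ _) pL21yY_0) (by decide)
theorem pL21yD : Dist (fun i => pvP (pt (brow (nat_lit 78)) pL21y i)) 36 :=
  dist_of_chk (canT2 ψ) pL21yY
theorem pL21RO : ∀ i < 36, (chkO (img2 (nat_lit 78) fun s => lo (nat_lit 6084) ((shf pL2P (nat_lit 3)) s)) (brow (nat_lit 78)) pL21y pL21Ra (nat_lit 36) [nat_lit 18]) i = 0 :=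
  allB (rngB_step (allB0 _ _) pL21RO_0) (by decide)
theorem pL21R : Reach pL2K1 (fun i => pvP (pt (brow (nat_lit 78)) pL21y i)) 36 [nat_lit 18] :=
  reach_of_chk ((acts2 (m := mP) ψ hP (shf pL2P (nat_lit 3))).ex pL2s1.el) pL21RO
theorem pL21X : ∀ i < 1, (chkFx (img2 (nat_lit 78) fun s => lo (nat_lit 6084) (pL2P s)) (brow (nat_lit 78)) pL21y (nat_lit 18) [nat_lit 0] (nat_lit 5)) i = 0 :=
  (rng_step (all0 _) pL21X_0)
theorem pL2s2 : Suf mP pL2K2 pL2P 5 :=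
  pL2s1.step (by decide) (by decide) (acts2 (m := mP) ψ hP pL2P) pL21X
theorem pL2tK : mP.In pL2K2 (Zc 0) :=
  pL2tE ▸ pL2s2 5 (by decide)
theorem pL2lb2 : 2 ≤ Nat.card pL2K2 :=
  two_le_card pL2tK.elt_mem dP1
theorem pL2lb1 : 72 ≤ Nat.card pL2K1 :=
  le_of_eq_of_le (by norm_num) (card_ge pL21yD pL21R pL2lb2)
theorem pL2lb0 : 103680 ≤ Nat.card pL2 :=
  le_of_eq_of_le (by norm_num) (card_ge pL20yD pL20R pL2lb1)
theorem pex : MulAction.orbit H3 (pvP (pt (brow (nat_lit 78)) pY (nat_lit 112))) = (fun i => pvP (pt (brow (nat_lit 78)) pY i)) '' {i | i < 180} ∧ H3 ⊓ MulAction.stabilizer (GA × GB) (pvP (pt (brow (nat_lit 78)) pY (nat_lit 112))) = pL1K1 ∧ Nat.card H3 = 180 * 294912 ∧ Nat.card pL1K1 = 294912 :=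
  orbit_eq_of_card pYD (pRH.sub fun r hr => ⟨1, one_mem _, by rw [List.mem_singleton.1 hr, one_smul]⟩)
    (inf_le_inf inf_le_left (congrArg (fun z => MulAction.stabilizer (GA × GB) (pvP z)) phx).le) pL1lb1 (c30ub.trans (by norm_num))
theorem phK : H3 ⊓ MulAction.stabilizer (GA × GB) (pvP (pt (brow (nat_lit 78)) pY (nat_lit 112))) ≤ Lf (MonoidHom.id (GA × GB)) H3 (mP.elt (pD 1))⁻¹ :=
  ptinv.symm ▸ (pex.2.1.le.trans inf_le_left)
theorem pBk : ∀ i < 64, (chkB (img2 (nat_lit 78) fun s => lo (nat_lit 6084) ((cel1 (pmul (mul3 (nat_lit 253)) (mul2 (nat_lit 78)) (nat_lit 6084)) pL1P (nat_lit 3) pL1P) s)) (brow (nat_lit 78)) pY (nat_lit 112) pB [nat_lit 7, nat_lit 7, nat_lit 7, nat_lit 7, nat_lit 7, nat_lit 7, nat_lit 7, nat_lit 7, nat_lit 7, nat_lit 7, nat_lit 7, nat_lit 7, nat_lit 7, nat_lit 7, nat_lit 7, nat_lit 7, nat_lit 7, nat_lit 7, nat_lit 7, nat_lit 7, nat_lit 7,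 nat_lit 7, nat_lit 7, nat_lit 7, nat_lit 7, nat_lit 7, nat_lit 7, nat_lit 7, nat_lit 7, nat_lit 7, nat_lit 7, nat_lit 7, nat_lit 7, nat_lit 7, nat_lit 7, nat_lit 7, nat_lit 7, nat_lit 7, nat_lit 7, nat_lit 7, nat_lit 7, nat_lit 7, nat_lit 7, nat_lit 7, nat_lit 7, nat_lit 7, nat_lit 7, nat_lit 7, nat_lit 7, nat_lit 7, nat_lit 7, nat_lit 7, nat_lit 7, nat_lit 7, nat_lit 7, nat_lit 7, nat_lit 7, nat_lit 7, nat_lit 7, nat_lit 7, nat_lit 7, nat_lit 7, nat_lit 7, nat_lit 7] [nat_lit 0, nat_lit 0, nat_lit 0, nat_lit 0, nat_lit 0, nat_lit 0, nat_lit 0, nat_lit 0, nat_lit 0, nat_lit 0, nat_lit 0, nat_lit 0, nat_lit 0, nat_lit 0, nat_lit 0, nat_lit 0, nat_lit 0, nat_lit 0, nat_lit 0, nat_lit 0, nat_lit 0, nat_lit 0, nat_lit 0, nat_lit 0, nat_lit 0, nat_lit 0, nat_lit 0, nat_lit 0, nat_lit 0, nat_lit 0, nat_lit 0, nat_lit 0, nat_lit 0, nat_lit 0, nat_lit 0, nat_lit 0, nat_lit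 0, nat_lit 0, nat_lit 0, nat_lit 0, nat_lit 0, nat_lit 0, nat_lit 0, nat_lit 0, nat_lit 0, nat_lit 0, nat_lit 0, nat_lit 0, nat_lit 0, nat_lit 0, nat_lit 0, nat_lit 0, nat_lit 0, nat_lit 0, nat_lit 0, nat_lit 0, nat_lit 0, nat_lit 0, nat_lit 0, nat_lit 0, nat_lit 0, nat_lit 0, nat_lit 0, nat_lit 0]) i = 0 :=
  (rng_step (all0 _) pBk_0)
theorem phB : Rows (Lf (MonoidHom.id (GA × GB)) H3 (mP.elt (pD 1))⁻¹) pvP (brow (nat_lit 78)) pB (pvP (pt (brow (nat_lit 78)) pY (nat_lit 112))) :=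
  ptinv.symm ▸ rows_of_chkB (acts2 (m := mP) ψ hP (cel1 (pmul (mul3 (nat_lit 253)) (mul2 (nat_lit 78)) (nat_lit 6084)) pL1P (nat_lit 3) pL1P)) (el_cel1 pL1el pL1el _) pBk
theorem pR1I : ∀ i < 4, (chkD1 (pmul (mul3 (nat_lit 253)) (mul2 (nat_lit 78)) (nat_lit 6084)) pD c3e0 pR1w (nat_lit 1) (nat_lit 3)) i = 0 :=
  (rng_step (rng_step (rng_step (all0 _) pR1I_0) pR1I_1) pR1I_2)
theorem pR1O : ∀ i < 180, (chkR (img2 (nat_lit 78) fun s => lo (nat_lit 6084) (pL1P s)) (img2 (nat_lit 78) fun s => lo (nat_lit 6084) (c3e0 s)) (brow (nat_lit 78)) pY pR1a (nat_lit 180) pB pR1w (nat_lit 4)) i = 0 :=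
  allB (rngB_step (allB0 _ _) pR1O_0) (by decide)
theorem pR1 : ∀ h ∈ (Subgroup.map (MonoidHom.id (GA × GB)) H3), ∃ j < 3, DCos (Subgroup.map (MonoidHom.id (GA × GB)) H3) (mP.elt (pD j)) ((mP.elt (pD 1)) * h * (mP.elt (pD 1))) :=
  dc_row (pr_id mP) pelD c30el pex.1.le phK phB (acts2 (m := mP) ψ hP pL1P) pL1el (acts2 (m := mP) ψ hP c3e0) pR1O pR1I
theorem pR2I : ∀ i < 2, (chkD1 (pmul (mul3 (nat_lit 253)) (mul2 (nat_lit 78)) (nat_lit 6084)) pD c3e0 pR2w (nat_lit 2) (nat_lit 3)) i = 0 :=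
  (rng_step (rng_step (all0 _) pR2I_0) pR2I_1)
theorem pR2O : ∀ i < 180, (chkR (img2 (nat_lit 78) fun s => lo (nat_lit 6084) (pL2P s)) (img2 (nat_lit 78) fun s => lo (nat_lit 6084) (c3e0 s)) (brow (nat_lit 78)) pY pR2a (nat_lit 180) pB pR2w (nat_lit 2)) i = 0 :=
  allB (rngB_step (allB0 _ _) pR2O_0) (by decide)
theorem pR2 : ∀ h ∈ (Subgroup.map (MonoidHom.id (GA × GB)) H3), ∃ j < 3, DCos (Subgroup.map (MonoidHom.id (GA × GB)) H3) (mP.elt (pD j)) ((mP.elt (pD 2)) * h * (mP.elt (pD 1))) :=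
  dc_row (pr_id mP) pelD c30el pex.1.le phK phB (acts2 (m := mP) ψ hP pL2P) pL2el (acts2 (m := mP) ψ hP c3e0) pR2O pR2I
theorem pcov : ∀ g ∈ pG, ∃ i < 3, DCos (Subgroup.map (MonoidHom.id (GA × GB)) H3) (mP.elt (pD i)) g :=
  dc_cover (d := fun i => mP.elt (pD i)) (by decide) pd0
    (all_succ (all_succ (all_succ all_nil (dc_row0 (by decide) pd0)) pR1) pR2)
theorem phBs : ∀ i < 3, getN [nat_lit 53084160, nat_lit 294912, nat_lit 103680] i ≤ Nat.card (Lf (MonoidHom.id (GA × GB)) H3 (mP.elt (pD i))) :=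
  (all_succ (all_succ (all_succ all_nil (by rw [pd0, Lf_one, pex.2.2.1]; decide)) pL1lb0) pL2lb0)
theorem pub : Nat.card pG ≤ Nat.card (Subgroup.map (MonoidHom.id (GA × GB)) H3) * 693 :=
  (dc_ub pcov c30ub (getN [nat_lit 53084160, nat_lit 294912, nat_lit 103680]) (getN [nat_lit 1, nat_lit 180, nat_lit 512]) phBs (by decide +kernel)).trans_eq (congrArg _ (by decide +kernel))
theorem pG0 : (mP.elt (pD 0)) ∈ pG :=
  pd0 ▸ one_mem _
theorem pG1 : (mP.elt (pD 1)) ∈ pG :=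
  mem_sup_right (mem_zpowers _)
theorem pG2 : (mP.elt (pD 2)) ∈ pG :=
  let ⟨_, ha, _, hb, _, hc, _, e⟩ := eq_of_chkD pelD ((pr_id mP).el c30el) (add_eq_zero' (pR1I 0 (by decide))).1; (mem3 le_sup_left ha hb hc e).1 pG1 pG1
theorem pelG : mP.El pG pD :=
  el_of_pad (in_of_elt pelD (all_succ (all_succ (all_succ all_nil pG0) pG1) pG2))
theorem H2_eg : mP.El pG H2g :=
  El.cons1 ⟨_, mem_sup_right (mem_zpowers _), (pelD 1).elt⟩ (((pr_id mP).el H3_eg).mono le_sup_left)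
theorem H2_gn : pG ≤ mP.gn H2g 4 :=
  sup_le_gn le_rfl (H2_eg.mono le_top)
theorem pub2 : Nat.card pG ≤ 36787322880 :=
  pub.trans (by rw [card_map_id, pex.2.2.1])
theorem pel : mP.El pG pe :=
  el_del1 pelG (((pr_id mP).el c30el).mono le_sup_left) _ _
theorem qYY : ∀ i < 693, (chkY can0 (brow (nat_lit 78)) qY (nat_lit 693)) i = 0 :=
  allB (rngB_step (allB0 _ _) qYY_0) (by decide)
theorem qYD : Dist (fun i => pvP (pt (brow (nat_lit 78)) qY i)) 693 :=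
  dist_of_chk (canT2 ψ) qYY
theorem qDI : ∀ i < 3, (chkI (mul3 (nat_lit 253)) (one2 (nat_lit 253)) (fun s => hi (nat_lit 6084) (qD s)) qDi) i = 0 :=
  (rng_step (all0 _) qDI_0)
theorem qDJ : ∀ i < 3, (chkI (mul2 (nat_lit 78)) (one2 (nat_lit 78)) (fun s => lo (nat_lit 6084) (qD s)) qDj) i = 0 :=
  (rng_step (all0 _) qDJ_0)
theorem qelD : mP.El ⊤ qD :=
  el_of_pad (fun s hs => in_pair (in_of_chkI mA (fun _ => rfl) qDI s hs) (in_of_chkI mB (fun _ => rfl) qDJ s hs))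
theorem qd0 : (mP.elt (qD 0)) = 1 :=
  elt_of_eq_one qD0
theorem qtinv : (mP.elt (qD 1))⁻¹ = (mP.elt (qD 1)) :=
  elt_inv_eq (qelD 1) (qelD 1) qtt
theorem qRHO : ∀ i < 693, (chkO (img2 (nat_lit 78) fun s => lo (nat_lit 6084) (H2g s)) (brow (nat_lit 78)) qY qRHa (nat_lit 693) [nat_lit 447]) i = 0 :=
  allB (rngB_step (allB0 _ _) qRHO_0) (by decide)
theorem qRH : Reach pG (fun i => pvP (pt (brow (nat_lit 78)) qY i)) 693 [nat_lit 447] :=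
  reach_of_chk ((acts2 (m := mP) ψ hP H2g).ex H2_eg) qRHO
theorem qL1E : ∀ i < 3, (chkE qL1P pe [nat_lit 287392788, nat_lit 50255336, nat_lit 268435456]) i = 0 :=
  (rng_step (all0 _) qL1E_0)
theorem qL1C : ∀ i < 3, (chkL (pmul (mul3 (nat_lit 253)) (mul2 (nat_lit 78)) (nat_lit 6084)) (qD 1) qL1P pe [nat_lit 114451804, nat_lit 332524032, nat_lit 268435456]) i = 0 :=
  (rng_step (all0 _) qL1C_0)
theorem qL1in0 : ∀ u < 3, mP.In qL1 (qL1P u) :=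
  in_Lf (pr_id mP) pel (qelD 1) (in_of_chkE pel qL1E) qL1C
theorem qL1W : ∀ i < 7, (chkPl (pmul (mul3 (nat_lit 253)) (mul2 (nat_lit 78)) (nat_lit 6084)) qL1P [[nat_lit 1, nat_lit 1, nat_lit 1, nat_lit 0, nat_lit 1, nat_lit 1, nat_lit 1, nat_lit 1, nat_lit 1, nat_lit 0, nat_lit 1],
  [nat_lit 0, nat_lit 0, nat_lit 1, nat_lit 1, nat_lit 0, nat_lit 0, nat_lit 1, nat_lit 1],
  [nat_lit 0, nat_lit 1, nat_lit 1, nat_lit 0, nat_lit 1, nat_lit 0, nat_lit 1, nat_lit 0, nat_lit 1, nat_lit 0, nat_lit 1, nat_lit 1],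
  [nat_lit 4, nat_lit 5, nat_lit 4, nat_lit 5, nat_lit 4, nat_lit 3, nat_lit 4, nat_lit 5],
  [nat_lit 4, nat_lit 3, nat_lit 3, nat_lit 4, nat_lit 5, nat_lit 4, nat_lit 5, nat_lit 3],
  [nat_lit 5, nat_lit 5, nat_lit 3, nat_lit 4, nat_lit 5, nat_lit 4, nat_lit 5, nat_lit 4, nat_lit 5],
  [nat_lit 2]] (nat_lit 3)) i = 0 :=
  (rng_step (rng_step (rng_step (all0 _) qL1W_0) qL1W_1) qL1W_2)
theorem qL1el : mP.El qL1 qL1P :=
  el_of_pad (in_pool qL1in0 qL1W)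
theorem qL1s0 : Suf mP qL1 qL1P 0 :=
  suf0 qL1el
theorem qL10yY : ∀ i < 1, (chkY can0 (brow (nat_lit 78)) qL10y (nat_lit 1)) i = 0 :=
  allB (rngB_step (allB0 _ _) qL10yY_0) (by decide)
theorem qL10yD : Dist (fun i => pvP (pt (brow (nat_lit 78)) qL10y i)) 1 :=
  dist_of_chk (canT2 ψ) qL10yY
theorem qL10RO : ∀ i < 1, (chkO (img2 (nat_lit 78) fun s => lo (nat_lit 6084) ((shf qL1P (nat_lit 0)) s)) (brow (nat_lit 78)) qL10y qL10Ra (nat_lit 1) [nat_lit 0]) i = 0 :=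
  allB (rngB_step (allB0 _ _) qL10RO_0) (by decide)
theorem qL10R : Reach qL1 (fun i => pvP (pt (brow (nat_lit 78)) qL10y i)) 1 [nat_lit 0] :=
  reach_of_chk ((acts2 (m := mP) ψ hP (shf qL1P (nat_lit 0))).ex qL1s0.el) qL10RO
theorem qL10X : ∀ i < 10, (chkFx (img2 (nat_lit 78) fun s => lo (nat_lit 6084) (qL1P s)) (brow (nat_lit 78)) qL10y (nat_lit 0) [nat_lit 0, nat_lit 0, nat_lit 0, nat_lit 0, nat_lit 0, nat_lit 0, nat_lit 0, nat_lit 0, nat_lit 0, nat_lit 0] (nat_lit 0)) i = 0 :=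
  (rng_step (all0 _) qL10X_0)
theorem qL1s1 : Suf mP qL1K1 qL1P 0 :=
  qL1s0.step (by decide) (by decide) (acts2 (m := mP) ψ hP qL1P) qL10X
theorem qL11yY : ∀ i < 2304, (chkY can0 (brow (nat_lit 78)) qL11y (nat_lit 2304)) i = 0 :=
  allB (rngB_step (allB0 _ _) qL11yY_0) (by decide)
theorem qL11yD : Dist (fun i => pvP (pt (brow (nat_lit 78)) qL11y i)) 2304 :=
  dist_of_chk (canT2 ψ) qL11yY
theorem qL11RO : ∀ i < 2304, (chkO (img2 (nat_lit 78) fun s => lo (nat_lit 6084) ((shf qL1P (nat_lit 0)) s)) (brow (nat_lit 78)) qL11y qL11Ra (nat_lit 2304) [nat_lit 1023]) i = 0 :=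
  allB (rngB_step (allB0 _ _) qL11RO_0) (by decide)
theorem qL11R : Reach qL1K1 (fun i => pvP (pt (brow (nat_lit 78)) qL11y i)) 2304 [nat_lit 1023] :=
  reach_of_chk ((acts2 (m := mP) ψ hP (shf qL1P (nat_lit 0))).ex qL1s1.el) qL11RO
theorem qL11X : ∀ i < 7, (chkFx (img2 (nat_lit 78) fun s => lo (nat_lit 6084) (qL1P s)) (brow (nat_lit 78)) qL11y (nat_lit 1023) [nat_lit 0, nat_lit 0, nat_lit 0, nat_lit 0, nat_lit 0, nat_lit 0, nat_lit 0] (nat_lit 3)) i = 0 :=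
  (rng_step (all0 _) qL11X_0)
theorem qL1s2 : Suf mP qL1K2 qL1P 3 :=
  qL1s1.step (by decide) (by decide) (acts2 (m := mP) ψ hP qL1P) qL11X
theorem qL12yY : ∀ i < 720, (chkY can0 (brow (nat_lit 78)) qL12y (nat_lit 720)) i = 0 :=
  allB (rngB_step (allB0 _ _) qL12yY_0) (by decide)
theorem qL12yD : Dist (fun i => pvP (pt (brow (nat_lit 78)) qL12y i)) 720 :=
  dist_of_chk (canT2 ψ) qL12yY
theorem qL12RO : ∀ i < 720, (chkO (img2 (nat_lit 78) fun s => lo (nat_lit 6084) ((shf qL1P (nat_lit 3)) s)) (brow (nat_lit 78)) qL12y qL12Ra (nat_lit 720) [nat_lit 471]) i = 0 :=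
  allB (rngB_step (allB0 _ _) qL12RO_0) (by decide)
theorem qL12R : Reach qL1K2 (fun i => pvP (pt (brow (nat_lit 78)) qL12y i)) 720 [nat_lit 471] :=
  reach_of_chk ((acts2 (m := mP) ψ hP (shf qL1P (nat_lit 3))).ex qL1s2.el) qL12RO
theorem qL12X : ∀ i < 4, (chkFx (img2 (nat_lit 78) fun s => lo (nat_lit 6084) (qL1P s)) (brow (nat_lit 78)) qL12y (nat_lit 471) [nat_lit 0, nat_lit 0, nat_lit 0, nat_lit 0] (nat_lit 6)) i = 0 :=
  (rng_step (all0 _) qL12X_0)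
theorem qL1s3 : Suf mP qL1K3 qL1P 6 :=
  qL1s2.step (by decide) (by decide) (acts2 (m := mP) ψ hP qL1P) qL12X
theorem qL13yY : ∀ i < 16, (chkY can0 (brow (nat_lit 78)) qL13y (nat_lit 16)) i = 0 :=
  allB (rngB_step (allB0 _ _) qL13yY_0) (by decide)
theorem qL13yD : Dist (fun i => pvP (pt (brow (nat_lit 78)) qL13y i)) 16 :=
  dist_of_chk (canT2 ψ) qL13yY
theorem qL13RO : ∀ i < 16, (chkO (img2 (nat_lit 78) fun s => lo (nat_lit 6084) ((shf qL1P (nat_lit 6)) s)) (brow (nat_lit 78)) qL13y qL13Ra (nat_lit 16) [nat_lit 7]) i = 0 :=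
  allB (rngB_step (allB0 _ _) qL13RO_0) (by decide)
theorem qL13R : Reach qL1K3 (fun i => pvP (pt (brow (nat_lit 78)) qL13y i)) 16 [nat_lit 7] :=
  reach_of_chk ((acts2 (m := mP) ψ hP (shf qL1P (nat_lit 6))).ex qL1s3.el) qL13RO
theorem qL13X : ∀ i < 1, (chkFx (img2 (nat_lit 78) fun s => lo (nat_lit 6084) (qL1P s)) (brow (nat_lit 78)) qL13y (nat_lit 7) [nat_lit 0] (nat_lit 9)) i = 0 :=
  (rng_step (all0 _) qL13X_0)
theorem qL1s4 : Suf mP qL1K4 qL1P 9 :=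
  qL1s3.step (by decide) (by decide) (acts2 (m := mP) ψ hP qL1P) qL13X
theorem qL1tK : mP.In qL1K4 (Zc 0) :=
  qL1tE ▸ qL1s4 9 (by decide)
theorem qL1lb4 : 2 ≤ Nat.card qL1K4 :=
  two_le_card qL1tK.elt_mem dP1
theorem qL1lb3 : 32 ≤ Nat.card qL1K3 :=
  le_of_eq_of_le (by norm_num) (card_ge qL13yD qL13R qL1lb4)
theorem qL1lb2 : 23040 ≤ Nat.card qL1K2 :=
  le_of_eq_of_le (by norm_num) (card_ge qL12yD qL12R qL1lb3)
theorem qL1lb1 : 53084160 ≤ Nat.card qL1K1 :=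
  le_of_eq_of_le (by norm_num) (card_ge qL11yD qL11R qL1lb2)
theorem qL1lb0 : 53084160 ≤ Nat.card qL1 :=
  le_of_eq_of_le (by norm_num) (card_ge qL10yD qL10R qL1lb1)
theorem qL2E : ∀ i < 3, (chkE qL2P pe [nat_lit 48684937000321142, nat_lit 64930040136213858, nat_lit 268435456]) i = 0 :=
  (rng_step (all0 _) qL2E_0)
theorem qL2C : ∀ i < 3, (chkL (pmul (mul3 (nat_lit 253)) (mul2 (nat_lit 78)) (nat_lit 6084)) (qD 2) qL2P pe [nat_lit 48684937000321142, nat_lit 64930040136213858, nat_lit 268435456]) i = 0 :=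
  (rng_step (rng_step (all0 _) qL2C_0) qL2C_1)
theorem qL2in0 : ∀ u < 3, mP.In qL2 (qL2P u) :=
  in_Lf (pr_id mP) pel (qelD 2) (in_of_chkE pel qL2E) qL2C
theorem qL2W : ∀ i < 7, (chkPl (pmul (mul3 (nat_lit 253)) (mul2 (nat_lit 78)) (nat_lit 6084)) qL2P [[nat_lit 0, nat_lit 1, nat_lit 1, nat_lit 1, nat_lit 0, nat_lit 1, nat_lit 1, nat_lit 0, nat_lit 1, nat_lit 0, nat_lit 1, nat_lit 1],
  [nat_lit 1, nat_lit 0, nat_lit 0, nat_lit 0, nat_lit 1, nat_lit 0, nat_lit 0, nat_lit 1, nat_lit 0, nat_lit 0, nat_lit 0, nat_lit 0],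
  [nat_lit 1, nat_lit 1, nat_lit 0, nat_lit 1, nat_lit 0, nat_lit 0, nat_lit 0, nat_lit 1, nat_lit 0],
  [nat_lit 4, nat_lit 5, nat_lit 5, nat_lit 5, nat_lit 4, nat_lit 5, nat_lit 5],
  [nat_lit 5, nat_lit 3, nat_lit 4, nat_lit 5, nat_lit 4, nat_lit 5, nat_lit 5],
  [nat_lit 4, nat_lit 3, nat_lit 5, nat_lit 3, nat_lit 4, nat_lit 4],
  [nat_lit 2]] (nat_lit 3)) i = 0 :=
  (rng_step (rng_step (all0 _) qL2W_0) qL2W_1)
theorem qL2el : mP.El qL2 qL2P :=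
  el_of_pad (in_pool qL2in0 qL2W)
theorem qL2s0 : Suf mP qL2 qL2P 0 :=
  suf0 qL2el
theorem qL20yY : ∀ i < 1680, (chkY can0 (brow (nat_lit 78)) qL20y (nat_lit 1680)) i = 0 :=
  allB (rngB_step (allB0 _ _) qL20yY_0) (by decide)
theorem qL20yD : Dist (fun i => pvP (pt (brow (nat_lit 78)) qL20y i)) 1680 :=
  dist_of_chk (canT2 ψ) qL20yY
theorem qL20RO : ∀ i < 1680, (chkO (img2 (nat_lit 78) fun s => lo (nat_lit 6084) ((shf qL2P (nat_lit 0)) s)) (brow (nat_lit 78)) qL20y qL20Ra (nat_lit 1680) [nat_lit 375]) i = 0 :=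
  allB (rngB_step (allB0 _ _) qL20RO_0) (by decide)
theorem qL20R : Reach qL2 (fun i => pvP (pt (brow (nat_lit 78)) qL20y i)) 1680 [nat_lit 375] :=
  reach_of_chk ((acts2 (m := mP) ψ hP (shf qL2P (nat_lit 0))).ex qL2s0.el) qL20RO
theorem qL20X : ∀ i < 7, (chkFx (img2 (nat_lit 78) fun s => lo (nat_lit 6084) (qL2P s)) (brow (nat_lit 78)) qL20y (nat_lit 375) [nat_lit 0, nat_lit 0, nat_lit 0, nat_lit 0, nat_lit 0, nat_lit 0, nat_lit 0] (nat_lit 3)) i = 0 :=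
  (rng_step (all0 _) qL20X_0)
theorem qL2s1 : Suf mP qL2K1 qL2P 3 :=
  qL2s0.step (by decide) (by decide) (acts2 (m := mP) ψ hP qL2P) qL20X
theorem qL21yY : ∀ i < 243, (chkY can0 (brow (nat_lit 78)) qL21y (nat_lit 243)) i = 0 :=
  allB (rngB_step (allB0 _ _) qL21yY_0) (by decide)
theorem qL21yD : Dist (fun i => pvP (pt (brow (nat_lit 78)) qL21y i)) 243 :=
  dist_of_chk (canT2 ψ) qL21yY
theorem qL21RO : ∀ i < 243, (chkO (img2 (nat_lit 78) fun s => lo (nat_lit 6084) ((shf qL2P (nat_lit 3)) s)) (brow (nat_lit 78)) qL21y qL21Ra (nat_lit 243) [nat_lit 62]) i = 0 :=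
  allB (rngB_step (allB0 _ _) qL21RO_0) (by decide)
theorem qL21R : Reach qL2K1 (fun i => pvP (pt (brow (nat_lit 78)) qL21y i)) 243 [nat_lit 62] :=
  reach_of_chk ((acts2 (m := mP) ψ hP (shf qL2P (nat_lit 3))).ex qL2s1.el) qL21RO
theorem qL21X : ∀ i < 4, (chkFx (img2 (nat_lit 78) fun s => lo (nat_lit 6084) (qL2P s)) (brow (nat_lit 78)) qL21y (nat_lit 62) [nat_lit 0, nat_lit 0, nat_lit 0, nat_lit 0] (nat_lit 6)) i = 0 :=
  (rng_step (all0 _) qL21X_0)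
theorem qL2s2 : Suf mP qL2K2 qL2P 6 :=
  qL2s1.step (by decide) (by decide) (acts2 (m := mP) ψ hP qL2P) qL21X
theorem qL22yY : ∀ i < 16, (chkY can0 (brow (nat_lit 78)) qL22y (nat_lit 16)) i = 0 :=
  allB (rngB_step (allB0 _ _) qL22yY_0) (by decide)
theorem qL22yD : Dist (fun i => pvP (pt (brow (nat_lit 78)) qL22y i)) 16 :=
  dist_of_chk (canT2 ψ) qL22yY
theorem qL22RO : ∀ i < 16, (chkO (img2 (nat_lit 78) fun s => lo (nat_lit 6084) ((shf qL2P (nat_lit 6)) s)) (brow (nat_lit 78)) qL22y qL22Ra (nat_lit 16) [nat_lit 8]) i = 0 :=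
  allB (rngB_step (allB0 _ _) qL22RO_0) (by decide)
theorem qL22R : Reach qL2K2 (fun i => pvP (pt (brow (nat_lit 78)) qL22y i)) 16 [nat_lit 8] :=
  reach_of_chk ((acts2 (m := mP) ψ hP (shf qL2P (nat_lit 6))).ex qL2s2.el) qL22RO
theorem qL22X : ∀ i < 1, (chkFx (img2 (nat_lit 78) fun s => lo (nat_lit 6084) (qL2P s)) (brow (nat_lit 78)) qL22y (nat_lit 8) [nat_lit 0] (nat_lit 9)) i = 0 :=
  (rng_step (all0 _) qL22X_0)
theorem qL2s3 : Suf mP qL2K3 qL2P 9 :=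
  qL2s2.step (by decide) (by decide) (acts2 (m := mP) ψ hP qL2P) qL22X
theorem qL2tK : mP.In qL2K3 (Zc 0) :=
  qL2tE ▸ qL2s3 9 (by decide)
theorem qL2lb3 : 2 ≤ Nat.card qL2K3 :=
  two_le_card qL2tK.elt_mem dP1
theorem qL2lb2 : 32 ≤ Nat.card qL2K2 :=
  le_of_eq_of_le (by norm_num) (card_ge qL22yD qL22R qL2lb3)
theorem qL2lb1 : 7776 ≤ Nat.card qL2K1 :=
  le_of_eq_of_le (by norm_num) (card_ge qL21yD qL21R qL2lb2)
theorem qL2lb0 : 13063680 ≤ Nat.card qL2 :=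
  le_of_eq_of_le (by norm_num) (card_ge qL20yD qL20R qL2lb1)
theorem qex : MulAction.orbit pG (pvP (pt (brow (nat_lit 78)) qY (nat_lit 447))) = (fun i => pvP (pt (brow (nat_lit 78)) qY i)) '' {i | i < 693} ∧ pG ⊓ MulAction.stabilizer (GA × GB) (pvP (pt (brow (nat_lit 78)) qY (nat_lit 447))) = qL1K1 ∧ Nat.card pG = 693 * 53084160 ∧ Nat.card qL1K1 = 53084160 :=
  orbit_eq_of_card qYD (qRH.sub fun r hr => ⟨1, one_mem _, by rw [List.mem_singleton.1 hr, one_smul]⟩)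
    (inf_le_inf inf_le_left (congrArg (fun z => MulAction.stabilizer (GA × GB) (pvP z)) qhx).le) qL1lb1 (pub2.trans (by norm_num))
theorem qhK : pG ⊓ MulAction.stabilizer (GA × GB) (pvP (pt (brow (nat_lit 78)) qY (nat_lit 447))) ≤ Lf (MonoidHom.id (GA × GB)) pG (mP.elt (qD 1))⁻¹ :=
  qtinv.symm ▸ (qex.2.1.le.trans inf_le_left)
theorem qBk : ∀ i < 64, (chkB (img2 (nat_lit 78) fun s => lo (nat_lit 6084) ((cel1 (pmul (mul3 (nat_lit 253)) (mul2 (nat_lit 78)) (nat_lit 6084)) qL1P (nat_lit 4) qL1P) s)) (brow (nat_lit 78)) qY (nat_lit 447) qB [nat_lit 10, nat_lit 10, nat_lit 10, nat_lit 10, nat_lit 10, nat_lit 10, nat_lit 10, nat_lit 10, nat_lit 10, nat_lit 10, nat_lit 10, nat_lit 10, nat_lit 10, nat_lit 10, nat_lit 10, nat_lit 10, nat_lit 10, nat_lit 10, nat_lit 10, nat_lit 10, nat_lit 10, nat_lit 10, nat_lit 10, nat_lit 10, nat_lit 10, nat_lit 10, nat_lit 10, nat_lit 10,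 nat_lit 10, nat_lit 10, nat_lit 10, nat_lit 10, nat_lit 10, nat_lit 10, nat_lit 10, nat_lit 10, nat_lit 10, nat_lit 10, nat_lit 10, nat_lit 10, nat_lit 10, nat_lit 10, nat_lit 10, nat_lit 10, nat_lit 10, nat_lit 10, nat_lit 10, nat_lit 10, nat_lit 10, nat_lit 10, nat_lit 10, nat_lit 10, nat_lit 10, nat_lit 10, nat_lit 10, nat_lit 10, nat_lit 10, nat_lit 10, nat_lit 10, nat_lit 10, nat_lit 10, nat_lit 10, nat_lit 10, nat_lit 10] [nat_lit 0, nat_lit 0, nat_lit 0, nat_lit 0, nat_lit 0, nat_lit 0, nat_lit 0, nat_lit 0, nat_lit 0, nat_lit 0, nat_lit 0, nat_lit 0, nat_lit 0, nat_lit 0, nat_lit 0, nat_lit 0, nat_lit 0, nat_lit 0, nat_lit 0, nat_lit 0, nat_lit 0, nat_lit 0, nat_lit 0, nat_lit 0, nat_lit 0, nat_lit 0, nat_lit 0, nat_lit 0, nat_lit 0, nat_lit 0, nat_lit 0, nat_lit 0, nat_lit 0, nat_lit 0, nat_lit 0, nat_lit 0, nat_lit 0, nat_lit 0, nat_lit 0, nat_lit 0, nat_lit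 0, nat_lit 0, nat_lit 0, nat_lit 0, nat_lit 0, nat_lit 0, nat_lit 0, nat_lit 0, nat_lit 0, nat_lit 0, nat_lit 0, nat_lit 0, nat_lit 0, nat_lit 0, nat_lit 0, nat_lit 0, nat_lit 0, nat_lit 0, nat_lit 0, nat_lit 0, nat_lit 0, nat_lit 0, nat_lit 0, nat_lit 0]) i = 0 :=
  (rng_step (all0 _) qBk_0)
theorem qhB : Rows (Lf (MonoidHom.id (GA × GB)) pG (mP.elt (qD 1))⁻¹) pvP (brow (nat_lit 78)) qB (pvP (pt (brow (nat_lit 78)) qY (nat_lit 447))) :=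
  qtinv.symm ▸ rows_of_chkB (acts2 (m := mP) ψ hP (cel1 (pmul (mul3 (nat_lit 253)) (mul2 (nat_lit 78)) (nat_lit 6084)) qL1P (nat_lit 4) qL1P)) (el_cel1 qL1el qL1el _) qBk
theorem qR1I : ∀ i < 3, (chkD1 (pmul (mul3 (nat_lit 253)) (mul2 (nat_lit 78)) (nat_lit 6084)) qD pe qR1w (nat_lit 1) (nat_lit 3)) i = 0 :=
  (rng_step (rng_step (rng_step (all0 _) qR1I_0) qR1I_1) qR1I_2)
theorem qR1O : ∀ i < 693, (chkR (img2 (nat_lit 78) fun s => lo (nat_lit 6084) (qL1P s)) (img2 (nat_lit 78) fun s => lo (nat_lit 6084) (pe s)) (brow (nat_lit 78)) qY qR1a (nat_lit 693) qB qR1w (nat_lit 3)) i = 0 :=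
  allB (rngB_step (allB0 _ _) qR1O_0) (by decide)
theorem qR1 : ∀ h ∈ (Subgroup.map (MonoidHom.id (GA × GB)) pG), ∃ j < 3, DCos (Subgroup.map (MonoidHom.id (GA × GB)) pG) (mP.elt (qD j)) ((mP.elt (qD 1)) * h * (mP.elt (qD 1))) :=
  dc_row (pr_id mP) qelD pel qex.1.le qhK qhB (acts2 (m := mP) ψ hP qL1P) qL1el (acts2 (m := mP) ψ hP pe) qR1O qR1I
theorem qR2I : ∀ i < 2, (chkD1 (pmul (mul3 (nat_lit 253)) (mul2 (nat_lit 78)) (nat_lit 6084)) qD pe qR2w (nat_lit 2) (nat_lit 3)) i = 0 :=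
  (rng_step (rng_step (all0 _) qR2I_0) qR2I_1)
theorem qR2O : ∀ i < 693, (chkR (img2 (nat_lit 78) fun s => lo (nat_lit 6084) (qL2P s)) (img2 (nat_lit 78) fun s => lo (nat_lit 6084) (pe s)) (brow (nat_lit 78)) qY qR2a (nat_lit 693) qB qR2w (nat_lit 2)) i = 0 :=
  allB (rngB_step (allB0 _ _) qR2O_0) (by decide)
theorem qR2 : ∀ h ∈ (Subgroup.map (MonoidHom.id (GA × GB)) pG), ∃ j < 3, DCos (Subgroup.map (MonoidHom.id (GA × GB)) pG) (mP.elt (qD j)) ((mP.elt (qD 2)) * h * (mP.elt (qD 1))) :=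
  dc_row (pr_id mP) qelD pel qex.1.le qhK qhB (acts2 (m := mP) ψ hP qL2P) qL2el (acts2 (m := mP) ψ hP pe) qR2O qR2I
theorem qcov : ∀ g ∈ qG, ∃ i < 3, DCos (Subgroup.map (MonoidHom.id (GA × GB)) pG) (mP.elt (qD i)) g :=
  dc_cover (d := fun i => mP.elt (qD i)) (by decide) qd0
    (all_succ (all_succ (all_succ all_nil (dc_row0 (by decide) qd0)) qR1) qR2)
theorem qhBs : ∀ i < 3, getN [nat_lit 36787322880, nat_lit 53084160, nat_lit 13063680] i ≤ Nat.card (Lf (MonoidHom.id (GA × GB)) pG (mP.elt (qD i))) :=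
  (all_succ (all_succ (all_succ all_nil (by rw [qd0, Lf_one, qex.2.2.1]; decide)) qL1lb0) qL2lb0)
theorem qub : Nat.card qG ≤ Nat.card (Subgroup.map (MonoidHom.id (GA × GB)) pG) * 3510 :=
  (dc_ub qcov pub2 (getN [nat_lit 36787322880, nat_lit 53084160, nat_lit 13063680]) (getN [nat_lit 1, nat_lit 693, nat_lit 2816]) qhBs (by decide +kernel)).trans_eq (congrArg _ (by decide +kernel))
theorem qM1 : ∀ N : Subgroup (GA × GB), (Subgroup.map (MonoidHom.id (GA × GB)) pG) ≤ N → (mP.elt (qD 1)) ∈ N → (mP.elt (qD 1)) ∈ N :=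
  fun _ _ h => h
theorem qM2 : ∀ N : Subgroup (GA × GB), (Subgroup.map (MonoidHom.id (GA × GB)) pG) ≤ N → (mP.elt (qD 2)) ∈ N → (mP.elt (qD 1)) ∈ N :=
  fun N hN h => let ⟨_, ha, _, hb, _, hc, _, e⟩ := eq_of_chkD qelD ((pr_id mP).el pel) (add_eq_zero' (qR2I 0 (by decide))).1; (mem3 hN ha hb hc e).2 h h
theorem qmax : ∀ N : Subgroup (GA × GB), (Subgroup.map (MonoidHom.id (GA × GB)) pG) ≤ N → N ≤ qG → N = (Subgroup.map (MonoidHom.id (GA × GB)) pG) ∨ N = qG :=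
  dc_max (d := fun i => mP.elt (qD i)) qd0 le_rfl qcov
    (all_succ (all_succ (all_succ all_nil (fun h => absurd h (by decide))) (fun _ => qM1)) (fun _ => qM2))
theorem qG0 : (mP.elt (qD 0)) ∈ qG :=
  qd0 ▸ one_mem _
theorem qG1 : (mP.elt (qD 1)) ∈ qG :=
  mem_sup_right (mem_zpowers _)
theorem qG2 : (mP.elt (qD 2)) ∈ qG :=
  let ⟨_, ha, _, hb, _, hc, _, e⟩ := eq_of_chkD qelD ((pr_id mP).el pel) (add_eq_zero' (qR1I 1 (by decide))).1; (mem3 le_sup_left ha hb hc e).1 qG1 qG1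
theorem qelG : mP.El qG qD :=
  el_of_pad (in_of_elt qelD (all_succ (all_succ (all_succ all_nil qG0) qG1) qG2))
theorem H1_eg : mP.El qG H1g :=
  El.cons1 ⟨_, mem_sup_right (mem_zpowers _), (qelD 1).elt⟩ (((pr_id mP).el H2_eg).mono le_sup_left)
theorem H1_gn : qG ≤ mP.gn H1g 5 :=
  sup_le_gn (H2_gn.trans le_rfl) (H1_eg.mono le_top)
theorem qub2 : Nat.card qG ≤ 129123503308800 :=
  qub.trans (by rw [card_map_id, qex.2.2.1])
theorem qel : mP.El qG qe :=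
  el_del1 qelG (((pr_id mP).el pel).mono le_sup_left) _ _
theorem rYY : ∀ i < 3510, (chkY can0 (brow (nat_lit 78)) rY (nat_lit 3510)) i = 0 :=
  allB (rngB_step (allB0 _ _) rYY_0) (by decide)
theorem rYD : Dist (fun i => pvP (pt (brow (nat_lit 78)) rY i)) 3510 :=
  dist_of_chk (canT2 ψ) rYY
theorem rDI : ∀ i < 3, (chkI (mul3 (nat_lit 253)) (one2 (nat_lit 253)) rD rDi) i = 0 :=
  (rng_step (all0 _) rDI_0)
theorem relD : mA.El ⊤ rD :=
  el_of_pad (in_of_chkI mA (fun _ => rfl) rDI)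
theorem rd0 : (mA.elt (rD 0)) = 1 :=
  elt_of_eq_one rD0
theorem rtinv : (mA.elt (rD 1))⁻¹ = (mA.elt (rD 1)) :=
  elt_inv_eq (relD 1) (relD 1) rtt
theorem rRHO : ∀ i < 3510, (chkO (img2 (nat_lit 78) fun s => lo (nat_lit 6084) (H1g s)) (brow (nat_lit 78)) rY rRHa (nat_lit 3510) [nat_lit 1491]) i = 0 :=
  allB (rngB_step (allB0 _ _) rRHO_0) (by decide)
theorem rRH : Reach qG (fun i => pvP (pt (brow (nat_lit 78)) rY i)) 3510 [nat_lit 1491] :=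
  reach_of_chk ((acts2 (m := mP) ψ hP H1g).ex H1_eg) rRHO
theorem rL1E : ∀ i < 3, (chkE rL1P qe [nat_lit 41104324538647672, nat_lit 225917384457343848, nat_lit 1073741824]) i = 0 :=
  (rng_step (all0 _) rL1E_0)
theorem rL1C : ∀ i < 3, (chkL (mul3 (nat_lit 253)) (rD 1) (fun s => hi (nat_lit 6084) (rL1P s)) (fun x => hi (nat_lit 6084) (qe x)) [nat_lit 250232648098866888, nat_lit 150931138104599352, nat_lit 2084569088]) i = 0 :=
  (rng_step (rng_step (all0 _) rL1C_0) rL1C_1)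
theorem rL1in0 : ∀ u < 3, mP.In rL1 (rL1P u) :=
  in_Lf (pr_fst mA mB 6084 hb) qel (relD 1) (in_of_chkE qel rL1E) rL1C
theorem rL1W : ∀ i < 9, (chkPl (pmul (mul3 (nat_lit 253)) (mul2 (nat_lit 78)) (nat_lit 6084)) rL1P [[nat_lit 0, nat_lit 0, nat_lit 1, nat_lit 1, nat_lit 0, nat_lit 0, nat_lit 0, nat_lit 1, nat_lit 1, nat_lit 1, nat_lit 1, nat_lit 0],
  [nat_lit 1, nat_lit 1, nat_lit 0, nat_lit 1, nat_lit 1, nat_lit 1, nat_lit 1, nat_lit 1, nat_lit 1, nat_lit 1, nat_lit 1, nat_lit 0, nat_lit 0],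
  [nat_lit 4, nat_lit 4, nat_lit 4, nat_lit 3, nat_lit 4, nat_lit 3, nat_lit 4, nat_lit 4, nat_lit 3, nat_lit 3, nat_lit 3, nat_lit 3, nat_lit 4],
  [nat_lit 3, nat_lit 3, nat_lit 3, nat_lit 3, nat_lit 4, nat_lit 4, nat_lit 3, nat_lit 3, nat_lit 4, nat_lit 4, nat_lit 3],
  [nat_lit 4, nat_lit 3, nat_lit 3, nat_lit 4, nat_lit 4, nat_lit 3, nat_lit 3, nat_lit 3, nat_lit 3, nat_lit 3, nat_lit 4],
  [nat_lit 7, nat_lit 7, nat_lit 6, nat_lit 7, nat_lit 6, nat_lit 6],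
  [nat_lit 6, nat_lit 6, nat_lit 6, nat_lit 6, nat_lit 5, nat_lit 7, nat_lit 5],
  [nat_lit 5, nat_lit 5, nat_lit 7, nat_lit 6, nat_lit 6, nat_lit 5, nat_lit 6, nat_lit 6],
  [nat_lit 2]] (nat_lit 3)) i = 0 :=
  (rng_step (rng_step (rng_step (rng_step (all0 _) rL1W_0) rL1W_1) rL1W_2) rL1W_3)
theorem rL1el : mP.El rL1 rL1P :=
  el_of_pad (in_pool rL1in0 rL1W)
theorem rL1s0 : Suf mP rL1 rL1P 0 :=
  suf0 rL1el
theorem rL10yY : ∀ i < 1, (chkY can0 (brow (nat_lit 78)) rL10y (nat_lit 1)) i = 0 :=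
  allB (rngB_step (allB0 _ _) rL10yY_0) (by decide)
theorem rL10yD : Dist (fun i => pvP (pt (brow (nat_lit 78)) rL10y i)) 1 :=
  dist_of_chk (canT2 ψ) rL10yY
theorem rL10RO : ∀ i < 1, (chkO (img2 (nat_lit 78) fun s => lo (nat_lit 6084) ((shf rL1P (nat_lit 0)) s)) (brow (nat_lit 78)) rL10y rL10Ra (nat_lit 1) [nat_lit 0]) i = 0 :=
  allB (rngB_step (allB0 _ _) rL10RO_0) (by decide)
theorem rL10R : Reach rL1 (fun i => pvP (pt (brow (nat_lit 78)) rL10y i)) 1 [nat_lit 0] :=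
  reach_of_chk ((acts2 (m := mP) ψ hP (shf rL1P (nat_lit 0))).ex rL1s0.el) rL10RO
theorem rL10X : ∀ i < 12, (chkFx (img2 (nat_lit 78) fun s => lo (nat_lit 6084) (rL1P s)) (brow (nat_lit 78)) rL10y (nat_lit 0) [nat_lit 0, nat_lit 0, nat_lit 0, nat_lit 0, nat_lit 0, nat_lit 0, nat_lit 0, nat_lit 0, nat_lit 0, nat_lit 0, nat_lit 0, nat_lit 0] (nat_lit 0)) i = 0 :=
  (rng_step (all0 _) rL10X_0)
theorem rL1s1 : Suf mP rL1K1 rL1P 0 :=
  rL1s0.step (by decide) (by decide) (acts2 (m := mP) ψ hP rL1P) rL10X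
theorem rL11yY : ∀ i < 2816, (chkY can0 (brow (nat_lit 78)) rL11y (nat_lit 2816)) i = 0 :=
  allB (rngB_step (allB0 _ _) rL11yY_0) (by decide)
theorem rL11yD : Dist (fun i => pvP (pt (brow (nat_lit 78)) rL11y i)) 2816 :=
  dist_of_chk (canT2 ψ) rL11yY
theorem rL11RO : ∀ i < 2816, (chkO (img2 (nat_lit 78) fun s => lo (nat_lit 6084) ((shf rL1P (nat_lit 0)) s)) (brow (nat_lit 78)) rL11y rL11Ra (nat_lit 2816) [nat_lit 1255]) i = 0 :=
  allB (rngB_step (allB0 _ _) rL11RO_0) (by decide)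
theorem rL11R : Reach rL1K1 (fun i => pvP (pt (brow (nat_lit 78)) rL11y i)) 2816 [nat_lit 1255] :=
  reach_of_chk ((acts2 (m := mP) ψ hP (shf rL1P (nat_lit 0))).ex rL1s1.el) rL11RO
theorem rL11X : ∀ i < 9, (chkFx (img2 (nat_lit 78) fun s => lo (nat_lit 6084) (rL1P s)) (brow (nat_lit 78)) rL11y (nat_lit 1255) [nat_lit 0, nat_lit 0, nat_lit 0, nat_lit 0, nat_lit 0, nat_lit 0, nat_lit 0, nat_lit 0, nat_lit 0] (nat_lit 3)) i = 0 :=
  (rng_step (all0 _) rL11X_0)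
theorem rL1s2 : Suf mP rL1K2 rL1P 3 :=
  rL1s1.step (by decide) (by decide) (acts2 (m := mP) ψ hP rL1P) rL11X
theorem rL12yY : ∀ i < 1680, (chkY can0 (brow (nat_lit 78)) rL12y (nat_lit 1680)) i = 0 :=
  allB (rngB_step (allB0 _ _) rL12yY_0) (by decide)
theorem rL12yD : Dist (fun i => pvP (pt (brow (nat_lit 78)) rL12y i)) 1680 :=
  dist_of_chk (canT2 ψ) rL12yY
theorem rL12RO : ∀ i < 1680, (chkO (img2 (nat_lit 78) fun s => lo (nat_lit 6084) ((shf rL1P (nat_lit 3)) s)) (brow (nat_lit 78)) rL12y rL12Ra (nat_lit 1680) [nat_lit 375]) i = 0 :=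
  allB (rngB_step (allB0 _ _) rL12RO_0) (by decide)
theorem rL12R : Reach rL1K2 (fun i => pvP (pt (brow (nat_lit 78)) rL12y i)) 1680 [nat_lit 375] :=
  reach_of_chk ((acts2 (m := mP) ψ hP (shf rL1P (nat_lit 3))).ex rL1s2.el) rL12RO
theorem rL12X : ∀ i < 7, (chkFx (img2 (nat_lit 78) fun s => lo (nat_lit 6084) (rL1P s)) (brow (nat_lit 78)) rL12y (nat_lit 375) [nat_lit 0, nat_lit 0, nat_lit 0, nat_lit 0, nat_lit 0, nat_lit 0, nat_lit 0] (nat_lit 5)) i = 0 :=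
  (rng_step (all0 _) rL12X_0)
theorem rL1s3 : Suf mP rL1K3 rL1P 5 :=
  rL1s2.step (by decide) (by decide) (acts2 (m := mP) ψ hP rL1P) rL12X
theorem rL13yY : ∀ i < 243, (chkY can0 (brow (nat_lit 78)) rL13y (nat_lit 243)) i = 0 :=
  allB (rngB_step (allB0 _ _) rL13yY_0) (by decide)
theorem rL13yD : Dist (fun i => pvP (pt (brow (nat_lit 78)) rL13y i)) 243 :=
  dist_of_chk (canT2 ψ) rL13yY
theorem rL13RO : ∀ i < 243, (chkO (img2 (nat_lit 78) fun s => lo (nat_lit 6084) ((shf rL1P (nat_lit 5)) s)) (brow (nat_lit 78)) rL13y rL13Ra (nat_lit 243) [nat_lit 62]) i = 0 :=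
  allB (rngB_step (allB0 _ _) rL13RO_0) (by decide)
theorem rL13R : Reach rL1K3 (fun i => pvP (pt (brow (nat_lit 78)) rL13y i)) 243 [nat_lit 62] :=
  reach_of_chk ((acts2 (m := mP) ψ hP (shf rL1P (nat_lit 5))).ex rL1s3.el) rL13RO
theorem rL13X : ∀ i < 4, (chkFx (img2 (nat_lit 78) fun s => lo (nat_lit 6084) (rL1P s)) (brow (nat_lit 78)) rL13y (nat_lit 62) [nat_lit 0, nat_lit 0, nat_lit 0, nat_lit 0] (nat_lit 8)) i = 0 :=
  (rng_step (all0 _) rL13X_0)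
theorem rL1s4 : Suf mP rL1K4 rL1P 8 :=
  rL1s3.step (by decide) (by decide) (acts2 (m := mP) ψ hP rL1P) rL13X
theorem rL14yY : ∀ i < 16, (chkY can0 (brow (nat_lit 78)) rL14y (nat_lit 16)) i = 0 :=
  allB (rngB_step (allB0 _ _) rL14yY_0) (by decide)
theorem rL14yD : Dist (fun i => pvP (pt (brow (nat_lit 78)) rL14y i)) 16 :=
  dist_of_chk (canT2 ψ) rL14yY
theorem rL14RO : ∀ i < 16, (chkO (img2 (nat_lit 78) fun s => lo (nat_lit 6084) ((shf rL1P (nat_lit 8)) s)) (brow (nat_lit 78)) rL14y rL14Ra (nat_lit 16) [nat_lit 8]) i = 0 :=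
  allB (rngB_step (allB0 _ _) rL14RO_0) (by decide)
theorem rL14R : Reach rL1K4 (fun i => pvP (pt (brow (nat_lit 78)) rL14y i)) 16 [nat_lit 8] :=
  reach_of_chk ((acts2 (m := mP) ψ hP (shf rL1P (nat_lit 8))).ex rL1s4.el) rL14RO
theorem rL14X : ∀ i < 1, (chkFx (img2 (nat_lit 78) fun s => lo (nat_lit 6084) (rL1P s)) (brow (nat_lit 78)) rL14y (nat_lit 8) [nat_lit 0] (nat_lit 11)) i = 0 :=
  (rng_step (all0 _) rL14X_0)
theorem rL1s5 : Suf mP rL1K5 rL1P 11 :=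
  rL1s4.step (by decide) (by decide) (acts2 (m := mP) ψ hP rL1P) rL14X
theorem rL1tK : mP.In rL1K5 (Zc 0) :=
  rL1tE ▸ rL1s5 11 (by decide)
theorem rL1lb5 : 2 ≤ Nat.card rL1K5 :=
  two_le_card rL1tK.elt_mem dP1
theorem rL1lb4 : 32 ≤ Nat.card rL1K4 :=
  le_of_eq_of_le (by norm_num) (card_ge rL14yD rL14R rL1lb5)
theorem rL1lb3 : 7776 ≤ Nat.card rL1K3 :=
  le_of_eq_of_le (by norm_num) (card_ge rL13yD rL13R rL1lb4)
theorem rL1lb2 : 13063680 ≤ Nat.card rL1K2 :=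
  le_of_eq_of_le (by norm_num) (card_ge rL12yD rL12R rL1lb3)
theorem rL1lb1 : 36787322880 ≤ Nat.card rL1K1 :=
  le_of_eq_of_le (by norm_num) (card_ge rL11yD rL11R rL1lb2)
theorem rL1lb0 : 36787322880 ≤ Nat.card rL1 :=
  le_of_eq_of_le (by norm_num) (card_ge rL10yD rL10R rL1lb1)
theorem rL2E : ∀ i < 2, (chkE rL2P qe [nat_lit 2232069590571378869885265902576102, nat_lit 17965145741525144956511700550801946]) i = 0 :=
  (rng_step (rng_step (all0 _) rL2E_0) rL2E_1)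
theorem rL2C : ∀ i < 2, (chkL (mul3 (nat_lit 253)) (rD 2) (fun s => hi (nat_lit 6084) (rL2P s)) (fun x => hi (nat_lit 6084) (qe x)) [nat_lit 2232069590571378869885265902576102, nat_lit 17965145741525144956511700550801946]) i = 0 :=
  (rng_step (rng_step (all0 _) rL2C_0) rL2C_1)
theorem rL2in0 : ∀ u < 2, mP.In rL2 (rL2P u) :=
  in_Lf (pr_fst mA mB 6084 hb) qel (relD 2) (in_of_chkE qel rL2E) rL2C
theorem rL2W : ∀ i < 6, (chkPl (pmul (mul3 (nat_lit 253)) (mul2 (nat_lit 78)) (nat_lit 6084)) rL2P [[nat_lit 1, nat_lit 1, nat_lit 0, nat_lit 0, nat_lit 1, nat_lit 0, nat_lit 0, nat_lit 0, nat_lit 1],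
  [nat_lit 1, nat_lit 1, nat_lit 0, nat_lit 1, nat_lit 0, nat_lit 1, nat_lit 1],
  [nat_lit 3, nat_lit 2, nat_lit 3, nat_lit 3, nat_lit 3, nat_lit 2, nat_lit 3, nat_lit 2, nat_lit 3, nat_lit 2, nat_lit 2, nat_lit 3],
  [nat_lit 3, nat_lit 3, nat_lit 2, nat_lit 2, nat_lit 2, nat_lit 2, nat_lit 2, nat_lit 2, nat_lit 2, nat_lit 2, nat_lit 3],
  [nat_lit 4, nat_lit 4, nat_lit 4, nat_lit 5, nat_lit 5, nat_lit 4, nat_lit 4, nat_lit 4, nat_lit 5, nat_lit 5, nat_lit 4, nat_lit 4, nat_lit 4, nat_lit 5, nat_lit 5],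
  [nat_lit 4, nat_lit 4, nat_lit 4, nat_lit 5, nat_lit 5, nat_lit 5, nat_lit 4, nat_lit 4, nat_lit 4, nat_lit 5, nat_lit 5, nat_lit 4, nat_lit 4, nat_lit 5, nat_lit 4, nat_lit 4, nat_lit 4, nat_lit 4, nat_lit 5]] (nat_lit 2)) i = 0 :=
  (rng_step (rng_step (rng_step (all0 _) rL2W_0) rL2W_1) rL2W_2)
theorem rL2el : mP.El rL2 rL2P :=
  el_of_pad (in_pool rL2in0 rL2W)
theorem rL2s0 : Suf mP rL2 rL2P 0 :=
  suf0 rL2el
theorem rL20yY : ∀ i < 351, (chkY can0 (brow (nat_lit 78)) rL20y (nat_lit 351)) i = 0 :=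
  allB (rngB_step (allB0 _ _) rL20yY_0) (by decide)
theorem rL20yD : Dist (fun i => pvP (pt (brow (nat_lit 78)) rL20y i)) 351 :=
  dist_of_chk (canT2 ψ) rL20yY
theorem rL20RO : ∀ i < 351, (chkO (img2 (nat_lit 78) fun s => lo (nat_lit 6084) ((shf rL2P (nat_lit 0)) s)) (brow (nat_lit 78)) rL20y rL20Ra (nat_lit 351) [nat_lit 162]) i = 0 :=
  allB (rngB_step (allB0 _ _) rL20RO_0) (by decide)
theorem rL20R : Reach rL2 (fun i => pvP (pt (brow (nat_lit 78)) rL20y i)) 351 [nat_lit 162] :=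
  reach_of_chk ((acts2 (m := mP) ψ hP (shf rL2P (nat_lit 0))).ex rL2s0.el) rL20RO
theorem rL20X : ∀ i < 6, (chkFx (img2 (nat_lit 78) fun s => lo (nat_lit 6084) (rL2P s)) (brow (nat_lit 78)) rL20y (nat_lit 162) [nat_lit 0, nat_lit 0, nat_lit 0, nat_lit 0, nat_lit 0, nat_lit 0] (nat_lit 2)) i = 0 :=
  (rng_step (all0 _) rL20X_0)
theorem rL2s1 : Suf mP rL2K1 rL2P 2 :=
  rL2s0.step (by decide) (by decide) (acts2 (m := mP) ψ hP rL2P) rL20X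
theorem rL21yY : ∀ i < 2592, (chkY can0 (brow (nat_lit 78)) rL21y (nat_lit 2592)) i = 0 :=
  allB (rngB_step (allB0 _ _) rL21yY_0) (by decide)
theorem rL21yD : Dist (fun i => pvP (pt (brow (nat_lit 78)) rL21y i)) 2592 :=
  dist_of_chk (canT2 ψ) rL21yY
theorem rL21RO : ∀ i < 2592, (chkO (img2 (nat_lit 78) fun s => lo (nat_lit 6084) ((shf rL2P (nat_lit 2)) s)) (brow (nat_lit 78)) rL21y rL21Ra (nat_lit 2592) [nat_lit 2413]) i = 0 :=
  allB (rngB_step (allB0 _ _) rL21RO_0) (by decide)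
theorem rL21R : Reach rL2K1 (fun i => pvP (pt (brow (nat_lit 78)) rL21y i)) 2592 [nat_lit 2413] :=
  reach_of_chk ((acts2 (m := mP) ψ hP (shf rL2P (nat_lit 2))).ex rL2s1.el) rL21RO
theorem rL21X : ∀ i < 4, (chkFx (img2 (nat_lit 78) fun s => lo (nat_lit 6084) (rL2P s)) (brow (nat_lit 78)) rL21y (nat_lit 2413) [nat_lit 0, nat_lit 0, nat_lit 0, nat_lit 0] (nat_lit 4)) i = 0 :=
  (rng_step (all0 _) rL21X_0)
theorem rL2s2 : Suf mP rL2K2 rL2P 4 :=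
  rL2s1.step (by decide) (by decide) (acts2 (m := mP) ψ hP rL2P) rL21X
theorem rL22yY : ∀ i < 1260, (chkY can0 (brow (nat_lit 78)) rL22y (nat_lit 1260)) i = 0 :=
  allB (rngB_step (allB0 _ _) rL22yY_0) (by decide)
theorem rL22yD : Dist (fun i => pvP (pt (brow (nat_lit 78)) rL22y i)) 1260 :=
  dist_of_chk (canT2 ψ) rL22yY
theorem rL22RO : ∀ i < 1260, (chkO (img2 (nat_lit 78) fun s => lo (nat_lit 6084) ((shf rL2P (nat_lit 4)) s)) (brow (nat_lit 78)) rL22y rL22Ra (nat_lit 1260) [nat_lit 597]) i = 0 :=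
  allB (rngB_step (allB0 _ _) rL22RO_0) (by decide)
theorem rL22R : Reach rL2K2 (fun i => pvP (pt (brow (nat_lit 78)) rL22y i)) 1260 [nat_lit 597] :=
  reach_of_chk ((acts2 (m := mP) ψ hP (shf rL2P (nat_lit 4))).ex rL2s2.el) rL22RO
theorem rL22X : ∀ i < 2, (chkFx (img2 (nat_lit 78) fun s => lo (nat_lit 6084) (rL2P s)) (brow (nat_lit 78)) rL22y (nat_lit 597) [nat_lit 0, nat_lit 0] (nat_lit 6)) i = 0 :=
  (rng_step (all0 _) rL22X_0)
theorem rL2s3 : Suf mP rL2K3 rL2P 6 :=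
  rL2s2.step (by decide) (by decide) (acts2 (m := mP) ψ hP rL2P) rL22X
theorem rL23yY : ∀ i < 4, (chkY can0 (brow (nat_lit 78)) rL23y (nat_lit 4)) i = 0 :=
  allB (rngB_step (allB0 _ _) rL23yY_0) (by decide)
theorem rL23yD : Dist (fun i => pvP (pt (brow (nat_lit 78)) rL23y i)) 4 :=
  dist_of_chk (canT2 ψ) rL23yY
theorem rL23RO : ∀ i < 4, (chkO (img2 (nat_lit 78) fun s => lo (nat_lit 6084) ((shf rL2P (nat_lit 6)) s)) (brow (nat_lit 78)) rL23y rL23Ra (nat_lit 4) [nat_lit 1]) i = 0 :=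
  allB (rngB_step (allB0 _ _) rL23RO_0) (by decide)
theorem rL23R : Reach rL2K3 (fun i => pvP (pt (brow (nat_lit 78)) rL23y i)) 4 [nat_lit 1] :=
  reach_of_chk ((acts2 (m := mP) ψ hP (shf rL2P (nat_lit 6))).ex rL2s3.el) rL23RO
theorem rL23X : ∀ i < 0, (chkFx (img2 (nat_lit 78) fun s => lo (nat_lit 6084) (rL2P s)) (brow (nat_lit 78)) rL23y (nat_lit 1) [] (nat_lit 8)) i = 0 :=
  (all0 _)
theorem rL2s4 : Suf mP rL2K4 rL2P 8 :=
  rL2s3.step (by decide) (by decide) (acts2 (m := mP) ψ hP rL2P) rL23X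
theorem rL2lb4 : 1 ≤ Nat.card rL2K4 :=
  one_le_card _
theorem rL2lb3 : 4 ≤ Nat.card rL2K3 :=
  le_of_eq_of_le (by norm_num) (card_ge rL23yD rL23R rL2lb4)
theorem rL2lb2 : 5040 ≤ Nat.card rL2K2 :=
  le_of_eq_of_le (by norm_num) (card_ge rL22yD rL22R rL2lb3)
theorem rL2lb1 : 13063680 ≤ Nat.card rL2K1 :=
  le_of_eq_of_le (by norm_num) (card_ge rL21yD rL21R rL2lb2)
theorem rL2lb0 : 4585351680 ≤ Nat.card rL2 :=
  le_of_eq_of_le (by norm_num) (card_ge rL20yD rL20R rL2lb1)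
theorem rex : MulAction.orbit qG (pvP (pt (brow (nat_lit 78)) rY (nat_lit 1491))) = (fun i => pvP (pt (brow (nat_lit 78)) rY i)) '' {i | i < 3510} ∧ qG ⊓ MulAction.stabilizer (GA × GB) (pvP (pt (brow (nat_lit 78)) rY (nat_lit 1491))) = rL1K1 ∧ Nat.card qG = 3510 * 36787322880 ∧ Nat.card rL1K1 = 36787322880 :=
  orbit_eq_of_card rYD (rRH.sub fun r hr => ⟨1, one_mem _, by rw [List.mem_singleton.1 hr, one_smul]⟩)
    (inf_le_inf inf_le_left (congrArg (fun z => MulAction.stabilizer (GA × GB) (pvP z)) rhx).le) rL1lb1 (qub2.trans (by norm_num))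
theorem rhK : qG ⊓ MulAction.stabilizer (GA × GB) (pvP (pt (brow (nat_lit 78)) rY (nat_lit 1491))) ≤ Lf (MonoidHom.fst GA GB) qG (mA.elt (rD 1))⁻¹ :=
  rtinv.symm ▸ (rex.2.1.le.trans inf_le_left)
theorem rBk : ∀ i < 64, (chkB (img2 (nat_lit 78) fun s => lo (nat_lit 6084) ((cel1 (pmul (mul3 (nat_lit 253)) (mul2 (nat_lit 78)) (nat_lit 6084)) rL1P (nat_lit 4) rL1P) s)) (brow (nat_lit 78)) rY (nat_lit 1491) rB [nat_lit 12, nat_lit 12, nat_lit 12, nat_lit 12, nat_lit 12, nat_lit 12, nat_lit 12, nat_lit 12, nat_lit 12, nat_lit 12, nat_lit 12, nat_lit 12, nat_lit 12, nat_lit 12, nat_lit 12, nat_lit 12, nat_lit 12, nat_lit 12, nat_lit 12, nat_lit 12, nat_lit 12, nat_lit 12, nat_lit 12, nat_lit 12, nat_lit 12, nat_lit 12, nat_lit 12, nat_lit 12, nat_lit 12, nat_lit 12, nat_lit 12, nat_lit 12, nat_lit 12, nat_lit 12, nat_lit 12, nat_lit 12, nat_lit 12, nat_lit 12, nat_lit 12,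 nat_lit 12, nat_lit 12, nat_lit 12, nat_lit 12, nat_lit 12, nat_lit 12, nat_lit 12, nat_lit 12, nat_lit 12, nat_lit 12, nat_lit 12, nat_lit 12, nat_lit 12, nat_lit 12, nat_lit 12, nat_lit 12, nat_lit 12, nat_lit 12, nat_lit 12, nat_lit 12, nat_lit 12, nat_lit 12, nat_lit 12, nat_lit 12, nat_lit 12] [nat_lit 0, nat_lit 0, nat_lit 0, nat_lit 0, nat_lit 0, nat_lit 0, nat_lit 0, nat_lit 0, nat_lit 0, nat_lit 0, nat_lit 0, nat_lit 0, nat_lit 0, nat_lit 0, nat_lit 0, nat_lit 0, nat_lit 0, nat_lit 0, nat_lit 0, nat_lit 0, nat_lit 0, nat_lit 0, nat_lit 0, nat_lit 0, nat_lit 0, nat_lit 0, nat_lit 0, nat_lit 0, nat_lit 0, nat_lit 0, nat_lit 0, nat_lit 0, nat_lit 0, nat_lit 0, nat_lit 0, nat_lit 0, nat_lit 0, nat_lit 0, nat_lit 0, nat_lit 0, nat_lit 0, nat_lit 0, nat_lit 0, nat_lit 0, nat_lit 0, nat_lit 0, nat_lit 0, nat_lit 0, nat_lit 0, nat_lit 0, nat_lit 0, nat_lit 0, nat_lit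 0, nat_lit 0, nat_lit 0, nat_lit 0, nat_lit 0, nat_lit 0, nat_lit 0, nat_lit 0, nat_lit 0, nat_lit 0, nat_lit 0, nat_lit 0]) i = 0 :=
  (rng_step (all0 _) rBk_0)
theorem rhB : Rows (Lf (MonoidHom.fst GA GB) qG (mA.elt (rD 1))⁻¹) pvP (brow (nat_lit 78)) rB (pvP (pt (brow (nat_lit 78)) rY (nat_lit 1491))) :=
  rtinv.symm ▸ rows_of_chkB (acts2 (m := mP) ψ hP (cel1 (pmul (mul3 (nat_lit 253)) (mul2 (nat_lit 78)) (nat_lit 6084)) rL1P (nat_lit 4) rL1P)) (el_cel1 rL1el rL1el _) rBk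
theorem rR1I : ∀ i < 3, (chkD1 (mul3 (nat_lit 253)) rD (fun x => hi (nat_lit 6084) (qe x)) rR1w (nat_lit 1) (nat_lit 3)) i = 0 :=
  (rng_step (rng_step (rng_step (all0 _) rR1I_0) rR1I_1) rR1I_2)
theorem rR1O : ∀ i < 3510, (chkR (img2 (nat_lit 78) fun s => lo (nat_lit 6084) (rL1P s)) (img2 (nat_lit 78) fun s => lo (nat_lit 6084) (qe s)) (brow (nat_lit 78)) rY rR1a (nat_lit 3510) rB rR1w (nat_lit 3)) i = 0 :=
  allB (rngB_step (rngB_step (allB0 _ _) rR1O_0) rR1O_1) (by decide)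
theorem rR1 : ∀ h ∈ (Subgroup.map (MonoidHom.fst GA GB) qG), ∃ j < 3, DCos (Subgroup.map (MonoidHom.fst GA GB) qG) (mA.elt (rD j)) ((mA.elt (rD 1)) * h * (mA.elt (rD 1))) :=
  dc_row (pr_fst mA mB 6084 hb) relD qel rex.1.le rhK rhB (acts2 (m := mP) ψ hP rL1P) rL1el (acts2 (m := mP) ψ hP qe) rR1O rR1I
theorem rR2I : ∀ i < 2, (chkD1 (mul3 (nat_lit 253)) rD (fun x => hi (nat_lit 6084) (qe x)) rR2w (nat_lit 2) (nat_lit 3)) i = 0 :=
  (rng_step (rng_step (all0 _) rR2I_0) rR2I_1)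
theorem rR2O : ∀ i < 3510, (chkR (img2 (nat_lit 78) fun s => lo (nat_lit 6084) (rL2P s)) (img2 (nat_lit 78) fun s => lo (nat_lit 6084) (qe s)) (brow (nat_lit 78)) rY rR2a (nat_lit 3510) rB rR2w (nat_lit 2)) i = 0 :=
  allB (rngB_step (rngB_step (allB0 _ _) rR2O_0) rR2O_1) (by decide)
theorem rR2 : ∀ h ∈ (Subgroup.map (MonoidHom.fst GA GB) qG), ∃ j < 3, DCos (Subgroup.map (MonoidHom.fst GA GB) qG) (mA.elt (rD j)) ((mA.elt (rD 2)) * h * (mA.elt (rD 1))) :=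
  dc_row (pr_fst mA mB 6084 hb) relD qel rex.1.le rhK rhB (acts2 (m := mP) ψ hP rL2P) rL2el (acts2 (m := mP) ψ hP qe) rR2O rR2I
theorem rcov : ∀ g ∈ rG, ∃ i < 3, DCos (Subgroup.map (MonoidHom.fst GA GB) qG) (mA.elt (rD i)) g :=
  dc_cover (d := fun i => mA.elt (rD i)) (by decide) rd0
    (all_succ (all_succ (all_succ all_nil (dc_row0 (by decide) rd0)) rR1) rR2)
theorem rhBs : ∀ i < 3, getN [nat_lit 129123503308800, nat_lit 36787322880, nat_lit 4585351680] i ≤ Nat.card (Lf (MonoidHom.fst GA GB) qG (mA.elt (rD i))) :=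
  (all_succ (all_succ (all_succ all_nil (by rw [rd0, Lf_one, rex.2.2.1]; decide)) rL1lb0) rL2lb0)
theorem rub : Nat.card rG ≤ Nat.card (Subgroup.map (MonoidHom.fst GA GB) qG) * 31671 :=
  (dc_ub rcov qub2 (getN [nat_lit 129123503308800, nat_lit 36787322880, nat_lit 4585351680]) (getN [nat_lit 1, nat_lit 3510, nat_lit 28160]) rhBs (by decide +kernel)).trans_eq (congrArg _ (by decide +kernel))
theorem rM1 : ∀ N : Subgroup GA, (Subgroup.map (MonoidHom.fst GA GB) qG) ≤ N → (mA.elt (rD 1)) ∈ N → (mA.elt (rD 1)) ∈ N :=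
  fun _ _ h => h
theorem rM2 : ∀ N : Subgroup GA, (Subgroup.map (MonoidHom.fst GA GB) qG) ≤ N → (mA.elt (rD 2)) ∈ N → (mA.elt (rD 1)) ∈ N :=
  fun N hN h => let ⟨_, ha, _, hb, _, hc, _, e⟩ := eq_of_chkD relD ((pr_fst mA mB 6084 hb).el qel) (add_eq_zero' (rR2I 1 (by decide))).1; (mem3 hN ha hb hc e).2 h h
theorem rmax : ∀ N : Subgroup GA, (Subgroup.map (MonoidHom.fst GA GB) qG) ≤ N → N ≤ rG → N = (Subgroup.map (MonoidHom.fst GA GB) qG) ∨ N = rG :=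
  dc_max (d := fun i => mA.elt (rD i)) rd0 le_rfl rcov
    (all_succ (all_succ (all_succ all_nil (fun h => absurd h (by decide))) (fun _ => rM1)) (fun _ => rM2))
theorem rG0 : (mA.elt (rD 0)) ∈ rG :=
  rd0 ▸ one_mem _
theorem rG1 : (mA.elt (rD 1)) ∈ rG :=
  mem_sup_right (mem_zpowers _)
theorem rG2 : (mA.elt (rD 2)) ∈ rG :=
  let ⟨_, ha, _, hb, _, hc, _, e⟩ := eq_of_chkD relD ((pr_fst mA mB 6084 hb).el qel) (add_eq_zero' (rR1I 1 (by decide))).1; (mem3 le_sup_left ha hb hc e).1 rG1 rG1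
theorem relG : mA.El rG rD :=
  el_of_pad (in_of_elt relD (all_succ (all_succ (all_succ all_nil rG0) rG1) rG2))
theorem H_eg : mA.El H Hg :=
  (pr_fst mA mB 6084 hb).el H1_eg
theorem H_gn : H ≤ mA.gn Hg 5 :=
  (map_mono H1_gn).trans ((pr_fst mA mB 6084 hb).map_gn fun s _ => (H1_eg s).top).le
theorem H2_gn2 : Subgroup.map (MonoidHom.fst GA GB) pG ≤ mA.gn H2h 4 :=
  (map_mono H2_gn).trans ((pr_fst mA mB 6084 hb).map_gn fun s _ => (H2_eg s).top).le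
theorem SE : ∀ i < 5, (fun s => Nat.xor (lo (nat_lit 6084) (H1g s)) (SP s)) i = 0 :=
  (rng_step (all0 _) SE_0)
theorem Sin0 : ∀ u < 5, mB.In B (SP u) :=
  fun s hs => ((pr_snd mA mB 6084 hb).in (H1_eg s)).of_eq (SE s hs)
theorem SW : ∀ i < 10, (chkPl (mul2 (nat_lit 78)) SP [[nat_lit 0, nat_lit 0, nat_lit 1, nat_lit 3, nat_lit 1, nat_lit 3, nat_lit 2, nat_lit 0, nat_lit 2, nat_lit 2, nat_lit 1],
  [nat_lit 0, nat_lit 0, nat_lit 1, nat_lit 3, nat_lit 0, nat_lit 3, nat_lit 0, nat_lit 3, nat_lit 3, nat_lit 1],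
  [nat_lit 6, nat_lit 6, nat_lit 5, nat_lit 5, nat_lit 5, nat_lit 5, nat_lit 6, nat_lit 5, nat_lit 5, nat_lit 5, nat_lit 6, nat_lit 5],
  [nat_lit 6, nat_lit 6, nat_lit 6, nat_lit 6, nat_lit 6, nat_lit 5, nat_lit 5, nat_lit 5, nat_lit 6, nat_lit 6, nat_lit 5, nat_lit 5, nat_lit 5],
  [nat_lit 8, nat_lit 7, nat_lit 7, nat_lit 8, nat_lit 8, nat_lit 8, nat_lit 8, nat_lit 8, nat_lit 7, nat_lit 8, nat_lit 7, nat_lit 8],
  [nat_lit 7, nat_lit 7, nat_lit 8, nat_lit 8, nat_lit 8, nat_lit 8, nat_lit 8, nat_lit 8, nat_lit 8, nat_lit 7, nat_lit 7],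
  [nat_lit 8, nat_lit 7, nat_lit 8, nat_lit 8, nat_lit 8, nat_lit 8, nat_lit 7, nat_lit 8, nat_lit 8, nat_lit 8, nat_lit 8, nat_lit 7],
  [nat_lit 10, nat_lit 11, nat_lit 11, nat_lit 9, nat_lit 11, nat_lit 9, nat_lit 10],
  [nat_lit 9, nat_lit 10, nat_lit 11, nat_lit 11, nat_lit 11, nat_lit 9],
  [nat_lit 9, nat_lit 10, nat_lit 10, nat_lit 11, nat_lit 10, nat_lit 11, nat_lit 10]] (nat_lit 5)) i = 0 :=
  (rng_step (all0 _) SW_0)
theorem Sel : mB.El B SP :=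
  el_of_pad (in_pool Sin0 SW)
theorem Ss0 : Suf mB B SP 0 :=
  suf0 Sel
theorem S0yY : ∀ i < 3510, (chkY can0 (brow (nat_lit 78)) S0y (nat_lit 3510)) i = 0 :=
  allB (rngB_step (allB0 _ _) S0yY_0) (by decide)
theorem S0yD : Dist (fun i => pvB (pt (brow (nat_lit 78)) S0y i)) 3510 :=
  dist_of_chk (canT2 φB) S0yY
theorem S0RO : ∀ i < 3510, (chkO (img2 (nat_lit 78) (shf SP (nat_lit 0))) (brow (nat_lit 78)) S0y S0Ra (nat_lit 3510) [nat_lit 1491]) i = 0 :=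
  allB (rngB_step (allB0 _ _) S0RO_0) (by decide)
theorem S0R : Reach B (fun i => pvB (pt (brow (nat_lit 78)) S0y i)) 3510 [nat_lit 1491] :=
  reach_of_chk ((acts2 (m := mB) φB hB (shf SP (nat_lit 0))).ex Ss0.el) S0RO
theorem S0X : ∀ i < 10, (chkFx (img2 (nat_lit 78) SP) (brow (nat_lit 78)) S0y (nat_lit 1491) [nat_lit 0, nat_lit 0, nat_lit 0, nat_lit 0, nat_lit 0, nat_lit 0, nat_lit 0, nat_lit 0, nat_lit 0, nat_lit 0] (nat_lit 5)) i = 0 :=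
  (rng_step (all0 _) S0X_0)
theorem Ss1 : Suf mB SK1 SP 5 :=
  Ss0.step (by decide) (by decide) (acts2 (m := mB) φB hB SP) S0X
theorem S1yY : ∀ i < 2816, (chkY can0 (brow (nat_lit 78)) S1y (nat_lit 2816)) i = 0 :=
  allB (rngB_step (allB0 _ _) S1yY_0) (by decide)
theorem S1yD : Dist (fun i => pvB (pt (brow (nat_lit 78)) S1y i)) 2816 :=
  dist_of_chk (canT2 φB) S1yY
theorem S1RO : ∀ i < 2816, (chkO (img2 (nat_lit 78) (shf SP (nat_lit 5))) (brow (nat_lit 78)) S1y S1Ra (nat_lit 2816) [nat_lit 1255]) i = 0 :=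
  allB (rngB_step (allB0 _ _) S1RO_0) (by decide)
theorem S1R : Reach SK1 (fun i => pvB (pt (brow (nat_lit 78)) S1y i)) 2816 [nat_lit 1255] :=
  reach_of_chk ((acts2 (m := mB) φB hB (shf SP (nat_lit 5))).ex Ss1.el) S1RO
theorem S1X : ∀ i < 8, (chkFx (img2 (nat_lit 78) SP) (brow (nat_lit 78)) S1y (nat_lit 1255) [nat_lit 0, nat_lit 0, nat_lit 0, nat_lit 0, nat_lit 0, nat_lit 0, nat_lit 0, nat_lit 0] (nat_lit 7)) i = 0 :=
  (rng_step (all0 _) S1X_0)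
theorem Ss2 : Suf mB SK2 SP 7 :=
  Ss1.step (by decide) (by decide) (acts2 (m := mB) φB hB SP) S1X
theorem S2yY : ∀ i < 1680, (chkY can0 (brow (nat_lit 78)) S2y (nat_lit 1680)) i = 0 :=
  allB (rngB_step (allB0 _ _) S2yY_0) (by decide)
theorem S2yD : Dist (fun i => pvB (pt (brow (nat_lit 78)) S2y i)) 1680 :=
  dist_of_chk (canT2 φB) S2yY
theorem S2RO : ∀ i < 1680, (chkO (img2 (nat_lit 78) (shf SP (nat_lit 7))) (brow (nat_lit 78)) S2y S2Ra (nat_lit 1680) [nat_lit 375]) i = 0 :=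
  allB (rngB_step (allB0 _ _) S2RO_0) (by decide)
theorem S2R : Reach SK2 (fun i => pvB (pt (brow (nat_lit 78)) S2y i)) 1680 [nat_lit 375] :=
  reach_of_chk ((acts2 (m := mB) φB hB (shf SP (nat_lit 7))).ex Ss2.el) S2RO
theorem S2X : ∀ i < 6, (chkFx (img2 (nat_lit 78) SP) (brow (nat_lit 78)) S2y (nat_lit 375) [nat_lit 0, nat_lit 0, nat_lit 0, nat_lit 0, nat_lit 0, nat_lit 0] (nat_lit 9)) i = 0 :=
  (rng_step (all0 _) S2X_0)
theorem Ss3 : Suf mB SK3 SP 9 :=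
  Ss2.step (by decide) (by decide) (acts2 (m := mB) φB hB SP) S2X
theorem S3yY : ∀ i < 243, (chkY can0 (brow (nat_lit 78)) S3y (nat_lit 243)) i = 0 :=
  allB (rngB_step (allB0 _ _) S3yY_0) (by decide)
theorem S3yD : Dist (fun i => pvB (pt (brow (nat_lit 78)) S3y i)) 243 :=
  dist_of_chk (canT2 φB) S3yY
theorem S3RO : ∀ i < 243, (chkO (img2 (nat_lit 78) (shf SP (nat_lit 9))) (brow (nat_lit 78)) S3y S3Ra (nat_lit 243) [nat_lit 62]) i = 0 :=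
  allB (rngB_step (allB0 _ _) S3RO_0) (by decide)
theorem S3R : Reach SK3 (fun i => pvB (pt (brow (nat_lit 78)) S3y i)) 243 [nat_lit 62] :=
  reach_of_chk ((acts2 (m := mB) φB hB (shf SP (nat_lit 9))).ex Ss3.el) S3RO
theorem S3X : ∀ i < 3, (chkFx (img2 (nat_lit 78) SP) (brow (nat_lit 78)) S3y (nat_lit 62) [nat_lit 0, nat_lit 0, nat_lit 0] (nat_lit 12)) i = 0 :=
  (rng_step (all0 _) S3X_0)
theorem Ss4 : Suf mB SK4 SP 12 :=
  Ss3.step (by decide) (by decide) (acts2 (m := mB) φB hB SP) S3X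
theorem S4yY : ∀ i < 16, (chkY can0 (brow (nat_lit 78)) S4y (nat_lit 16)) i = 0 :=
  allB (rngB_step (allB0 _ _) S4yY_0) (by decide)
theorem S4yD : Dist (fun i => pvB (pt (brow (nat_lit 78)) S4y i)) 16 :=
  dist_of_chk (canT2 φB) S4yY
theorem S4RO : ∀ i < 16, (chkO (img2 (nat_lit 78) (shf SP (nat_lit 12))) (brow (nat_lit 78)) S4y S4Ra (nat_lit 16) [nat_lit 8]) i = 0 :=
  allB (rngB_step (allB0 _ _) S4RO_0) (by decide)
theorem S4R : Reach SK4 (fun i => pvB (pt (brow (nat_lit 78)) S4y i)) 16 [nat_lit 8] :=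
  reach_of_chk ((acts2 (m := mB) φB hB (shf SP (nat_lit 12))).ex Ss4.el) S4RO
theorem S4X : ∀ i < 0, (chkFx (img2 (nat_lit 78) SP) (brow (nat_lit 78)) S4y (nat_lit 8) [] (nat_lit 15)) i = 0 :=
  (all0 _)
theorem Ss5 : Suf mB SK5 SP 15 :=
  Ss4.step (by decide) (by decide) (acts2 (m := mB) φB hB SP) S4X
theorem Slb5 : 1 ≤ Nat.card SK5 :=
  one_le_card _
theorem Slb4 : 16 ≤ Nat.card SK4 :=
  le_of_eq_of_le (by norm_num) (card_ge S4yD S4R Slb5)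
theorem Slb3 : 3888 ≤ Nat.card SK3 :=
  le_of_eq_of_le (by norm_num) (card_ge S3yD S3R Slb4)
theorem Slb2 : 6531840 ≤ Nat.card SK2 :=
  le_of_eq_of_le (by norm_num) (card_ge S2yD S2R Slb3)
theorem Slb1 : 18393661440 ≤ Nat.card SK1 :=
  le_of_eq_of_le (by norm_num) (card_ge S1yD S1R Slb2)
theorem Slb0 : 64561751654400 ≤ Nat.card B :=
  le_of_eq_of_le (by norm_num) (card_ge S0yD S0R Slb1)
theorem crO : ∀ i < 78, (chkO (img2 (nat_lit 78) fun s => lo (nat_lit 6084) (H1g s)) (brow (nat_lit 78)) cry cra (nat_lit 78) [nat_lit 26]) i = 0 :=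
  allB (rngB_step (allB0 _ _) crO_0) (by decide)
theorem crR : Reach qG (fun i => pvP (pt (brow (nat_lit 78)) cry i)) 78 [nat_lit 26] :=
  reach_of_chk ((acts2 (m := mP) ψ hP H1g).ex H1_eg) crO
theorem crV : ∀ i < 78, (chkV (brow (nat_lit 78)) cry (nat_lit 78) (crm 0)) i = 0 :=
  (rng_step (all0 _) crV_0)
theorem crF : ∀ i < 4, (chkF (img2 (nat_lit 78) fun s => lo (nat_lit 6084) (H2g s)) (brow (nat_lit 78)) cry (nat_lit 26) []) i = 0 :=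
  (rng_step (all0 _) crF_0)
theorem cr : ∀ N : Subgroup (GA × GB), Nm qG N → N ≤ pG → N ≤ (qG.comap (MonoidHom.inl GA GB)).map (MonoidHom.inl GA GB) :=
  core_pair2 φB Units.val_injective crAB crV ((le_map_id pG).trans le_sup_left) crR (H2_gn.trans (gn_le_stab (acts2 (m := mP) ψ hP H2g) crF))
theorem HP : ∀ i < 4, (chkPW (pmul (mul3 (nat_lit 253)) (mul2 (nat_lit 78)) (nat_lit 6084)) (join (nat_lit 6084) (one2 (nat_lit 78)) (one2 (nat_lit 253))) H1g [[nat_lit 1, nat_lit 3, nat_lit 3, nat_lit 1, nat_lit 2, nat_lit 1, nat_lit 4, nat_lit 1, nat_lit 0, nat_lit 1, nat_lit 3, nat_lit 1],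
  [nat_lit 0, nat_lit 1, nat_lit 2, nat_lit 1, nat_lit 3, nat_lit 0, nat_lit 3, nat_lit 1, nat_lit 1, nat_lit 0, nat_lit 3, nat_lit 2],
  [nat_lit 3, nat_lit 4, nat_lit 4, nat_lit 4, nat_lit 1, nat_lit 3, nat_lit 3, nat_lit 2, nat_lit 0, nat_lit 2, nat_lit 4],
  [nat_lit 3, nat_lit 0, nat_lit 3, nat_lit 4, nat_lit 4, nat_lit 3, nat_lit 1, nat_lit 3, nat_lit 2]] H1g HPy (nat_lit 13)) i = 0 :=
  (rng_step (rng_step (rng_step (rng_step (all0 _) HP_0) HP_1) HP_2) HP_3)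
theorem HW : ∀ i < 1, (chkPl (pmul (mul3 (nat_lit 253)) (mul2 (nat_lit 78)) (nat_lit 6084)) H1g [[nat_lit 3, nat_lit 2, nat_lit 1, nat_lit 3, nat_lit 2, nat_lit 1, nat_lit 3, nat_lit 2, nat_lit 1, nat_lit 3, nat_lit 2, nat_lit 1, nat_lit 3, nat_lit 2, nat_lit 1, nat_lit 3, nat_lit 2, nat_lit 1, nat_lit 3, nat_lit 2, nat_lit 1, nat_lit 3, nat_lit 2, nat_lit 1, nat_lit 3, nat_lit 2, nat_lit 1, nat_lit 3, nat_lit 2, nat_lit 1, nat_lit 3, nat_lit 2, nat_lit 1]] (nat_lit 4)) i = 0 :=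
  (rng_step (all0 _) HW_0)
theorem HJ : ∀ i < 5, (fun s => chkJ (mul3 (nat_lit 253)) (Hg s) dc dc) i = 0 :=
  (rng_step (all0 _) HJ_0)
theorem TT : ∀ i < 3, (chkT (mul3 (nat_lit 253)) (one2 (nat_lit 253)) rD Tx dc [2, 2, 3]) i = 0 :=
  (rng_step (all0 _) TT_0)
theorem TC : ∀ i < 3, (fun s => chkJ (mul3 (nat_lit 253)) (rD s) (Tx s) dc) i = 0 :=
  (rng_step (all0 _) TC_0)
theorem H2J : ∀ i < 4, (fun s => chkJ (mul3 (nat_lit 253)) (H2h s) (Tx 1) (Tx 1)) i = 0 :=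
  (rng_step (all0 _) H2J_0)
theorem Geg : mA.El rG Gg :=
  El.cons1 (relG 1) (H_eg.mono le_sup_left)
theorem GP : ∀ i < 1, (chkPW (mul3 (nat_lit 253)) (one2 (nat_lit 253)) Gg [[nat_lit 3, nat_lit 5, nat_lit 1, nat_lit 2, nat_lit 1, nat_lit 0, nat_lit 1, nat_lit 4, nat_lit 0, nat_lit 2, nat_lit 0, nat_lit 4]] (fun _ => dc) GPy (nat_lit 17)) i = 0 :=
  (rng_step (all0 _) GP_0)

theorem not_le_cent {G : Type*} [Group G] {K : Subgroup G} {a x : G} (ha : a ∈ K) (h : a * x ≠ x * a) :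
    ¬ K ≤ centralizer {x} := fun h1 => h (mem_centralizer_singleton_iff.1 (h1 ha))

noncomputable abbrev dd : GA := mA.elt dc

theorem d2 : dd ^ 2 = 1 := pow_of_chkQ dT dQ

theorem cardP : Nat.card pG = 36787322880 := qex.2.2.1.trans (by norm_num)

theorem cardQ : Nat.card qG = 129123503308800 := rex.2.2.1.trans (by norm_num)

theorem ZQ : mP.In qG (Zc 0) :=
  Zin.mono (((le_map_id H3).trans le_sup_left).trans ((le_map_id pG).trans le_sup_left))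

theorem din : mA.In (qG.comap (MonoidHom.inl GA GB)) dc := mem_comap_inl ZQ rfl Z0

theorem kerQ : zpowers dd = qG.comap (MonoidHom.inl GA GB) :=
  comap_inl_eq (zpowers_le.2 din.elt_mem) (cardQ.le.trans (le_of_eq_of_le (by norm_num)
    (Nat.mul_le_mul Slb0 (card_zpowers_two d1 d2).ge)))

theorem dichQ : ∀ N : Subgroup qG, N.Normal →
    N ≤ ((zpowers dd).map (MonoidHom.inl GA GB)).subgroupOf qG ∨ N = ⊤ :=
  dich_rel le_sup_left 13 (by rw [card_map_id, cardP]; norm_num) qmax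
    (fun N hN h => kerQ ▸ cr N hN (h.trans (map_id_le pG)))
    fun N _ h => H1_gn.trans (gn_le (in_pool (in_of_chkPW h H1_eg (fun s _ => H1_eg s) HP) HW))

theorem cardH : Nat.card H = 129123503308800 := (card_fst_eq din.elt_mem d1 dichQ).trans cardQ

theorem dichH : ∀ N : Subgroup H, N.Normal → N ≤ (zpowers dd).subgroupOf H ∨ N = ⊤ := by
  have := dich_map (MonoidHom.fst GA GB) dichQ
  rwa [map_inl_fst] at this

theorem dH : mA.In H dc := (pr_fst mA mB 6084 hb).in ZQ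

theorem Hc : H ≤ centralizer {dd} := H_gn.trans (gn_le_cent dT.elt HJ)

theorem rx (i : ℕ) (hi : i < 3) : mA.φ ((mA.elt (rD i))⁻¹ * dd * mA.elt (rD i)) = mA.ev (Tx i) :=
  rep_conj' (TC i hi) (relD i).elt dT.elt

theorem x1H : (mA.elt (rD 1))⁻¹ * dd * mA.elt (rD 1) ∈ H :=
  (((pr_fst mA mB 6084 hb).in (qel _)).of_eq X1).mem (rx 1 (by decide))

theorem nc1 : mA.elt (Hg 0) * ((mA.elt (rD 1))⁻¹ * dd * mA.elt (rD 1)) ≠
    (mA.elt (rD 1))⁻¹ * dd * mA.elt (rD 1) * mA.elt (Hg 0) :=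
  not_comm_of_chkN' keyA (H_eg 0).elt (rx 1 (by decide)) N1

theorem nc2 : dd * ((mA.elt (rD 2))⁻¹ * dd * mA.elt (rD 2)) ≠
    (mA.elt (rD 2))⁻¹ * dd * mA.elt (rD 2) * dd :=
  not_comm_of_chkN' keyA dT.elt (rx 2 (by decide)) N2

theorem ne1 : (mA.elt (rD 1))⁻¹ * dd * mA.elt (rD 1) ≠ dd := keyA.ne N4 (rx 1 (by decide)) dT.elt

theorem covH : center H = (zpowers dd).subgroupOf H ∧ IsSimpleGroup (H ⧸ center H) ∧
    IsNonsplitDoubleCover H (H ⧸ center H) :=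
  dcover_rel dH.elt_mem d1 d2 Hc dichH (H_eg 0).elt_mem x1H nc1

theorem centG : rG ⊓ centralizer {dd} = H :=
  cent_eq_of_max le_sup_left Hc rmax rG1 (not_comm_of_chkN keyA (relD 1) dT N3)

theorem nle : ¬ H ≤ centralizer {(mA.elt (rD 1))⁻¹ * dd * mA.elt (rD 1)} := fun h =>
  not_le_cent (H_eg 0).elt_mem nc1 h

theorem n1 : (centralizer {(mA.elt (rD 1))⁻¹ * dd * mA.elt (rD 1)}).relIndex H = 3510 :=
  relIndex_of_max (MonoidHom.fst GA GB) le_sup_left qmax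
    ((map_mono (map_id_le pG)).trans (H2_gn2.trans (gn_le_cent (rx 1 (by decide)) H2J)))
    nle
    (by rw [card_map_id, cardP, cardQ])

theorem cardG : Nat.card rG = 4089470473293004800 := by
  have h := card_rank3 centG (D := fun i => mA.elt (rD i))
    (all_succ (all_succ (all_succ all_nil rG0) rG1) rG2) rd0 rcov ne1
    (comm_of_chkJ C1 dT.elt (rx 1 (by decide))) nc2
  rw [n1] at h
  rcases fi23_arith cardH h (relIndex_cent_le Hc qub2 rL2lb0 (by norm_num))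
    (card_inf_mul_relIndex _ _) (dvd_of_chkQW keyA Geg (by norm_num) Q17)
    (dvd_of_chkQW keyA Geg (by norm_num) Q23) with h1 | h1
  · have := card_le_of_relIndex dichH h1 (by norm_num)
    rw [cardH, card_zpowers_two d1 d2] at this
    exact absurd this (by decide)
  · rw [h, h1, cardH]

theorem simpleG : IsSimpleGroup rG :=
  simple_of_transp le_sup_left dH.elt_mem d1 d2 Hc rmax dichH rG1 rG2 ne1 x1H nc2 17
    (by rw [cardH]; norm_num) fun N h => (in_of_chkPW h Geg (ng := 1)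
      (fun _ _ => dH.mono le_sup_left) GP 0 (by decide)).elt_mem

theorem transp : ∃ S : Set rG, IsThreeTranspositionClass S ∧ Nat.card S = 31671 ∧
    ∀ e ∈ S, Nonempty (H ≃* centralizer {e}) :=
  three_transp le_sup_left simpleG dH.elt_mem d1 d2 centG
    (D := fun i => mA.elt (rD i)) (r := 3) rcov
    (all_succ (all_succ (all_succ all_nil (Or.inl (pow_of_chkT' (TT 0 (by decide)) (relD 0) dT rfl)))
      (Or.inl (pow_of_chkT' (TT 1 (by decide)) (relD 1) dT rfl)))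
      (Or.inr (pow_of_chkT' (TT 2 (by decide)) (relD 2) dT rfl))) (by rw [cardG, cardH])

end Cfsg.Agent.H4.F23
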