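import Cfsg.Agent.H4.F2BF

set_option autoImplicit false
set_option maxRecDepth 100000
set_option Elab.async false

namespace Cfsg.Agent.H4.F23

open Subgroup Cfsg.Agent.H5 Cfsg.Agent.H5.Mdl Cfsg.Agent.H4.TC

theorem WW_1 : rng WWf (nat_lit 3) (nat_lit 1) = 0 := by decide +kernel
theorem PC_9 : rng PCf (nat_lit 202) (nat_lit 5) = 0 := by decide +kernel
theorem PC_0 : rng PCf (nat_lit 0) (nat_lit 57) = 0 := by decide +kernel
theorem PA_2 : rng PAf (nat_lit 69) (nat_lit 19) = 0 := by decide +kernel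
theorem PC_18 : rng PCf (nat_lit 246) (nat_lit 8) = 0 := by decide +kernel
theorem PC_26 : rng PCf (nat_lit 283) (nat_lit 5) = 0 := by decide +kernel
theorem PC_23 : rng PCf (nat_lit 272) (nat_lit 4) = 0 := by decide +kernel
theorem LtC_0 : rng LtCf (nat_lit 0) (nat_lit 83) = 0 := by decide +kernel
theorem LtC_3 : rng LtCf (nat_lit 132) (nat_lit 17) = 0 := by decide +kernel
theorem WW_5 : rng WWf (nat_lit 7) (nat_lit 1) = 0 := by decide +kernel
theorem PC_4 : rng PCf (nat_lit 132) (nat_lit 18) = 0 := by decide +kernel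
theorem PC_7 : rng PCf (nat_lit 183) (nat_lit 15) = 0 := by decide +kernel
theorem PC_12 : rng PCf (nat_lit 219) (nat_lit 4) = 0 := by decide +kernel
theorem TIE_2 : rng TIEf (nat_lit 12) (nat_lit 1) = 0 := by decide +kernel
theorem PC_32 : rng PCf (nat_lit 309) (nat_lit 5) = 0 := by decide +kernel
theorem PC_34 : rng PCf (nat_lit 317) (nat_lit 2) = 0 := by decide +kernel
theorem PC_19 : rng PCf (nat_lit 254) (nat_lit 3) = 0 := by decide +kernel
theorem WW_6 : rng WWf (nat_lit 8) (nat_lit 1) = 0 := by decide +kernel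
theorem WW_11 : rng WWf (nat_lit 14) (nat_lit 1) = 0 := by decide +kernel
theorem PC_10 : rng PCf (nat_lit 207) (nat_lit 9) = 0 := by decide +kernel
theorem WW_9 : rng WWf (nat_lit 11) (nat_lit 2) = 0 := by decide +kernel
theorem WT0 : (mul3 (nat_lit 253)) (wd (mul3 (nat_lit 253)) (one2 (nat_lit 253)) Wp [nat_lit 30, nat_lit 29, nat_lit 27, nat_lit 28, nat_lit 28, nat_lit 29, nat_lit 27, nat_lit 28, nat_lit 29, nat_lit 23, nat_lit 25, nat_lit 25, nat_lit 25, nat_lit 20, nat_lit 18, nat_lit 19]) (Hg 2) = (one2 (nat_lit 253)) := by decide +kernel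
theorem LtC_5 : rng LtCf (nat_lit 165) (nat_lit 91) = 0 := by decide +kernel
theorem xS_0 : rng xSf (nat_lit 0) (nat_lit 128) = 0 := by decide +kernel
theorem LtQ_0 : rng LtQf (nat_lit 0) (nat_lit 11) = 0 := by decide +kernel
theorem WT1 : (mul3 (nat_lit 253)) (wd (mul3 (nat_lit 253)) (one2 (nat_lit 253)) Wp [nat_lit 30, nat_lit 31, nat_lit 27, nat_lit 28, nat_lit 29, nat_lit 23, nat_lit 24, nat_lit 16, nat_lit 18]) (Hg 3) = (one2 (nat_lit 253)) := by decide +kernel
theorem WC_0 : rng WCf (nat_lit 0) (nat_lit 1) = 0 := by decide +kernel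
theorem CZ_0 : rng CZf (nat_lit 0) (nat_lit 128) = 0 := by decide +kernel
theorem Lt0 : Lt 0 = (one2 (nat_lit 253)) := by decide +kernel
theorem Z0x : eX 0 = (one2 (nat_lit 11)) := by decide +kernel
theorem c1x : Nat.xor ((mul2 (nat_lit 11)) (XSg 14) (XSg 16)) ((mul2 (nat_lit 11)) c1 ((mul2 (nat_lit 11)) (XSg 16) (XSg 14))) = 0 := by decide +kernel
theorem Wz : chkJ (pmul (mul3 (nat_lit 253)) (mul2 (nat_lit 11)) (nat_lit 121)) (Wc 0) (SYg 11) (SYg 11) = 0 := by decide +kernel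
theorem WF_0 : rng WFf (nat_lit 0) (nat_lit 4) = 0 := by decide +kernel
theorem XI_0 : rng XIf (nat_lit 0) (nat_lit 18) = 0 := by decide +kernel

end Cfsg.Agent.H4.F23
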