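import Cfsg.Agent.H4.F2BF

set_option autoImplicit false
set_option maxRecDepth 100000
set_option Elab.async false

namespace Cfsg.Agent.H4.F23

open Subgroup Cfsg.Agent.H5 Cfsg.Agent.H5.Mdl Cfsg.Agent.H4.TC

theorem WW_2 : rng WWf (nat_lit 4) (nat_lit 1) = 0 := by decide +kernel
theorem ZARO_2 : rngB ZAROf (nat_lit 2048) (nat_lit 25) (nat_lit 7) = 0 := by decide +kernel
theorem PC_22 : rng PCf (nat_lit 264) (nat_lit 8) = 0 := by decide +kernel
theorem PC_17 : rng PCf (nat_lit 242) (nat_lit 4) = 0 := by decide +kernel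
theorem PA_0 : rng PAf (nat_lit 0) (nat_lit 46) = 0 := by decide +kernel
theorem PA_4 : rng PAf (nat_lit 102) (nat_lit 13) = 0 := by decide +kernel
theorem CD_0 : rng CDf (nat_lit 0) (nat_lit 6) = 0 := by decide +kernel
theorem PC_13 : rng PCf (nat_lit 223) (nat_lit 4) = 0 := by decide +kernel
theorem PC_29 : rng PCf (nat_lit 298) (nat_lit 3) = 0 := by decide +kernel
theorem LtC_2 : rng LtCf (nat_lit 114) (nat_lit 18) = 0 := by decide +kernel
theorem LtC_4 : rng LtCf (nat_lit 149) (nat_lit 16) = 0 := by decide +kernel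
theorem PC_3 : rng PCf (nat_lit 113) (nat_lit 19) = 0 := by decide +kernel
theorem PC_6 : rng PCf (nat_lit 167) (nat_lit 16) = 0 := by decide +kernel
theorem PC_31 : rng PCf (nat_lit 303) (nat_lit 6) = 0 := by decide +kernel
theorem PC_28 : rng PCf (nat_lit 294) (nat_lit 4) = 0 := by decide +kernel
theorem PC_20 : rng PCf (nat_lit 257) (nat_lit 5) = 0 := by decide +kernel
theorem PC_30 : rng PCf (nat_lit 301) (nat_lit 2) = 0 := by decide +kernel
theorem WW_12 : rng WWf (nat_lit 15) (nat_lit 4) = 0 := by decide +kernel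
theorem WW_4 : rng WWf (nat_lit 6) (nat_lit 1) = 0 := by decide +kernel
theorem WW_8 : rng WWf (nat_lit 10) (nat_lit 1) = 0 := by decide +kernel
theorem R1 : force (wd (mul3 (nat_lit 253)) (one2 (nat_lit 253)) Lt [1, 5, 6, 1, 2, 3, 1, 4, 7]) (fun a => Nat.xor (pw (mul3 (nat_lit 253)) (one2 (nat_lit 253)) a 10) (one2 (nat_lit 253))) = 0 := by decide +kernel
theorem PC_35 : rng PCf (nat_lit 319) (nat_lit 2) = 0 := by decide +kernel
theorem WW_10 : rng WWf (nat_lit 13) (nat_lit 1) = 0 := by decide +kernel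
theorem R2 : force (wd (mul3 (nat_lit 253)) (one2 (nat_lit 253)) Lt [8, 6, 5, 1, 2, 3, 4]) (fun a => Nat.xor (pw (mul3 (nat_lit 253)) (one2 (nat_lit 253)) a 9) (one2 (nat_lit 253))) = 0 := by decide +kernel
theorem TIE_1 : rng TIEf (nat_lit 11) (nat_lit 1) = 0 := by decide +kernel
theorem PA_5 : rng PAf (nat_lit 115) (nat_lit 6) = 0 := by decide +kernel
theorem WW_0 : rng WWf (nat_lit 0) (nat_lit 3) = 0 := by decide +kernel
theorem ZAY_0 : rngB ZAYf (nat_lit 2048) (nat_lit 0) (nat_lit 32) = 0 := by decide +kernel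
theorem WE_0 : rng WEf (nat_lit 0) (nat_lit 11) = 0 := by decide +kernel
theorem xT0 : xT 0 = (one2 (nat_lit 11)) := by decide +kernel
theorem Z1x : XSg 11 = eX 1 := by decide +kernel
theorem c2x : Nat.xor ((mul2 (nat_lit 11)) (XSg 16) (XSg 17)) ((mul2 (nat_lit 11)) c2 ((mul2 (nat_lit 11)) (XSg 17) (XSg 16))) = 0 := by decide +kernel
theorem Wy : chkN kQ ((pmul (mul3 (nat_lit 253)) (mul2 (nat_lit 11)) (nat_lit 121)) (Wc 0) (SYg 12)) ((pmul (mul3 (nat_lit 253)) (mul2 (nat_lit 11)) (nat_lit 121)) (SYg 12) (Wc 0)) = 0 := by decide +kernel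
theorem ZXRO_0 : rngB ZXROf (nat_lit 128) (nat_lit 0) (nat_lit 2) = 0 := by decide +kernel

end Cfsg.Agent.H4.F23
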