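import Cfsg.Agent.H4.F2BF

set_option autoImplicit false
set_option maxRecDepth 100000
set_option Elab.async false

namespace Cfsg.Agent.H4.F23

open Subgroup Cfsg.Agent.H5 Cfsg.Agent.H5.Mdl Cfsg.Agent.H4.TC

theorem ZARO_0 : rngB ZAROf (nat_lit 2048) (nat_lit 0) (nat_lit 13) = 0 := by decide +kernel
theorem ZARO_1 : rngB ZAROf (nat_lit 2048) (nat_lit 13) (nat_lit 12) = 0 := by decide +kernel
theorem PC_1 : rng PCf (nat_lit 57) (nat_lit 36) = 0 := by decide +kernel
theorem PC_15 : rng PCf (nat_lit 235) (nat_lit 3) = 0 := by decide +kernel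
theorem PA_1 : rng PAf (nat_lit 46) (nat_lit 23) = 0 := by decide +kernel
theorem PA_3 : rng PAf (nat_lit 88) (nat_lit 14) = 0 := by decide +kernel
theorem CD_1 : rng CDf (nat_lit 6) (nat_lit 8) = 0 := by decide +kernel
theorem PC_8 : rng PCf (nat_lit 198) (nat_lit 4) = 0 := by decide +kernel
theorem PC_11 : rng PCf (nat_lit 216) (nat_lit 3) = 0 := by decide +kernel
theorem LtC_1 : rng LtCf (nat_lit 83) (nat_lit 31) = 0 := by decide +kernel
theorem WW_3 : rng WWf (nat_lit 5) (nat_lit 1) = 0 := by decide +kernel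
theorem PC_2 : rng PCf (nat_lit 93) (nat_lit 20) = 0 := by decide +kernel
theorem PC_5 : rng PCf (nat_lit 150) (nat_lit 17) = 0 := by decide +kernel
theorem PC_27 : rng PCf (nat_lit 288) (nat_lit 6) = 0 := by decide +kernel
theorem PC_16 : rng PCf (nat_lit 238) (nat_lit 4) = 0 := by decide +kernel
theorem PC_24 : rng PCf (nat_lit 276) (nat_lit 5) = 0 := by decide +kernel
theorem PC_33 : rng PCf (nat_lit 314) (nat_lit 3) = 0 := by decide +kernel
theorem PC_14 : rng PCf (nat_lit 227) (nat_lit 8) = 0 := by decide +kernel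
theorem TIE_3 : rng TIEf (nat_lit 13) (nat_lit 3) = 0 := by decide +kernel
theorem WW_7 : rng WWf (nat_lit 9) (nat_lit 1) = 0 := by decide +kernel
theorem PC_36 : rng PCf (nat_lit 321) (nat_lit 2) = 0 := by decide +kernel
theorem PC_25 : rng PCf (nat_lit 281) (nat_lit 2) = 0 := by decide +kernel
theorem PC_21 : rng PCf (nat_lit 262) (nat_lit 2) = 0 := by decide +kernel
theorem TIE_4 : rng TIEf (nat_lit 16) (nat_lit 2) = 0 := by decide +kernel
theorem TIE_0 : rng TIEf (nat_lit 0) (nat_lit 11) = 0 := by decide +kernel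
theorem WW_13 : rng WWf (nat_lit 19) (nat_lit 2) = 0 := by decide +kernel
theorem CD_2 : rng CDf (nat_lit 14) (nat_lit 2) = 0 := by decide +kernel
theorem PC_37 : rng PCf (nat_lit 323) (nat_lit 1) = 0 := by decide +kernel
theorem AK_0 : rng AKf (nat_lit 0) (nat_lit 11) = 0 := by decide +kernel
theorem Z3 : (mul2 (nat_lit 11)) (eX 1) (eX 2) = eX 3 := by decide +kernel
theorem Z2x : XSg 12 = eX 2 := by decide +kernel
theorem c12 : chkN kX ((mul2 (nat_lit 11)) c1 c2) ((mul2 (nat_lit 11)) c2 c1) = 0 := by decide +kernel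
theorem Wz2 : chkN kQ ((pmul (mul3 (nat_lit 253)) (mul2 (nat_lit 11)) (nat_lit 121)) (Ag 0) (SYg 11)) ((pmul (mul3 (nat_lit 253)) (mul2 (nat_lit 11)) (nat_lit 121)) (SYg 11) (Ag 0)) = 0 := by decide +kernel
theorem ZXY_0 : rngB ZXYf (nat_lit 128) (nat_lit 0) (nat_lit 2) = 0 := by decide +kernel

end Cfsg.Agent.H4.F23
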