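import Cfsg.Agent.H4.F2BD0

set_option autoImplicit false
set_option maxRecDepth 100000

namespace Cfsg.Agent.H4.F23

open Subgroup Cfsg.Agent.H5 Cfsg.Agent.H5.Mdl Cfsg.Agent.H4.TC

noncomputable def LtQf : ℕ → ℕ := chkSq (mul3 (nat_lit 253)) (one2 (nat_lit 253)) Lt
noncomputable def LtCf : ℕ → ℕ := chkCox (mul3 (nat_lit 253)) Lt Y23.Mx
noncomputable def WEf : ℕ → ℕ := fun s => Nat.xor (Lt s) (Wp s)
noncomputable def WWf : ℕ → ℕ := chkPl (mul3 (nat_lit 253)) Wp [[nat_lit 4, nat_lit 6, nat_lit 5, nat_lit 1, nat_lit 2, nat_lit 3, nat_lit 9],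
  [nat_lit 11, nat_lit 11, nat_lit 11],
  [nat_lit 12, nat_lit 12, nat_lit 12],
  [nat_lit 7, nat_lit 7, nat_lit 4, nat_lit 9, nat_lit 3, nat_lit 1, nat_lit 2, nat_lit 8, nat_lit 6, nat_lit 5, nat_lit 1, nat_lit 4, nat_lit 7, nat_lit 2, nat_lit 3, nat_lit 1, nat_lit 2, nat_lit 6, nat_lit 5, nat_lit 1, nat_lit 4, nat_lit 9, nat_lit 3, nat_lit 2, nat_lit 1, nat_lit 5, nat_lit 6, nat_lit 8, nat_lit 6, nat_lit 5, nat_lit 1, nat_lit 2, nat_lit 3, nat_lit 9, nat_lit 4, nat_lit 1, nat_lit 5, nat_lit 6, nat_lit 2, nat_lit 1, nat_lit 3, nat_lit 2, nat_lit 7, nat_lit 4, nat_lit 1, nat_lit 5, nat_lit 6, nat_lit 8, nat_lit 2, nat_lit 1, nat_lit 3, nat_lit 9, nat_lit 4, nat_lit 7, nat_lit 7, nat_lit 4, nat_lit 9, nat_lit 3, nat_lit 5, nat_lit 1, nat_lit 2, nat_lit 6, nat_lit 5, nat_lit 1, nat_lit 4, nat_lit 7, nat_lit 2, nat_lit 3, nat_lit 1, nat_lit 2, nat_lit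 6, nat_lit 5, nat_lit 1, nat_lit 4, nat_lit 9, nat_lit 3, nat_lit 2, nat_lit 1, nat_lit 5, nat_lit 6, nat_lit 8, nat_lit 6, nat_lit 5, nat_lit 1, nat_lit 2, nat_lit 3, nat_lit 9, nat_lit 4, nat_lit 1, nat_lit 5, nat_lit 6, nat_lit 2, nat_lit 1, nat_lit 3, nat_lit 2, nat_lit 7, nat_lit 4, nat_lit 1, nat_lit 5, nat_lit 6, nat_lit 2, nat_lit 1, nat_lit 5, nat_lit 3, nat_lit 9, nat_lit 4],
  [nat_lit 1, nat_lit 5, nat_lit 1, nat_lit 4, nat_lit 7, nat_lit 2, nat_lit 1, nat_lit 4, nat_lit 9, nat_lit 3, nat_lit 2, nat_lit 1, nat_lit 6, nat_lit 5, nat_lit 8, nat_lit 6, nat_lit 8, nat_lit 6, nat_lit 8, nat_lit 5, nat_lit 6, nat_lit 1, nat_lit 2, nat_lit 3, nat_lit 9, nat_lit 4, nat_lit 1, nat_lit 2, nat_lit 7, nat_lit 4, nat_lit 1, nat_lit 5, nat_lit 1, nat_lit 2, nat_lit 5, nat_lit 1, nat_lit 4, nat_lit 7, nat_lit 4, nat_lit 2, nat_lit 3, nat_lit 1, nat_lit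 2, nat_lit 6, nat_lit 5, nat_lit 1, nat_lit 4, nat_lit 9, nat_lit 3, nat_lit 2, nat_lit 1, nat_lit 5, nat_lit 6, nat_lit 8, nat_lit 6, nat_lit 5, nat_lit 1, nat_lit 2, nat_lit 3, nat_lit 9, nat_lit 4, nat_lit 1, nat_lit 5, nat_lit 6, nat_lit 2, nat_lit 1, nat_lit 3, nat_lit 2, nat_lit 4, nat_lit 7, nat_lit 4, nat_lit 1, nat_lit 5, nat_lit 2],
  [nat_lit 7, nat_lit 7, nat_lit 2, nat_lit 1, nat_lit 4, nat_lit 9, nat_lit 3, nat_lit 2, nat_lit 1, nat_lit 6, nat_lit 5, nat_lit 8, nat_lit 6, nat_lit 8, nat_lit 6, nat_lit 8, nat_lit 5, nat_lit 6, nat_lit 1, nat_lit 2, nat_lit 3, nat_lit 9, nat_lit 4, nat_lit 1, nat_lit 2],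
  [nat_lit 2, nat_lit 2, nat_lit 6, nat_lit 5, nat_lit 1, nat_lit 4, nat_lit 3, nat_lit 2, nat_lit 1, nat_lit 5, nat_lit 6, nat_lit 8, nat_lit 6, nat_lit 5, nat_lit 1, nat_lit 2, nat_lit 3, nat_lit 4, nat_lit 1, nat_lit 5, nat_lit 6],
  [nat_lit 4, nat_lit 4, nat_lit 7, nat_lit 6, nat_lit 5, nat_lit 1, nat_lit 4, nat_lit 9, nat_lit 3, nat_lit 2, nat_lit 1, nat_lit 5, nat_lit 6, nat_lit 8, nat_lit 6, nat_lit 5, nat_lit 1, nat_lit 2, nat_lit 3, nat_lit 9, nat_lit 4, nat_lit 1, nat_lit 5, nat_lit 6, nat_lit 7],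
  [nat_lit 4, nat_lit 4, nat_lit 7, nat_lit 1, nat_lit 4, nat_lit 2, nat_lit 1, nat_lit 6, nat_lit 5, nat_lit 8, nat_lit 6, nat_lit 8, nat_lit 6, nat_lit 8, nat_lit 5, nat_lit 6, nat_lit 1, nat_lit 2, nat_lit 4, nat_lit 1, nat_lit 7],
  [nat_lit 7, nat_lit 7, nat_lit 1, nat_lit 4, nat_lit 3, nat_lit 2, nat_lit 1, nat_lit 6, nat_lit 5, nat_lit 8, nat_lit 6, nat_lit 8, nat_lit 6, nat_lit 8, nat_lit 5, nat_lit 6, nat_lit 1, nat_lit 2, nat_lit 3, nat_lit 4, nat_lit 1],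
  [nat_lit 2, nat_lit 2, nat_lit 3, nat_lit 1, nat_lit 2, nat_lit 5, nat_lit 1, nat_lit 6, nat_lit 5, nat_lit 8, nat_lit 6, nat_lit 8, nat_lit 6, nat_lit 8, nat_lit 5, nat_lit 6, nat_lit 1, nat_lit 5, nat_lit 2, nat_lit 1, nat_lit 3],
  [nat_lit 6, nat_lit 6, nat_lit 5, nat_lit 8, nat_lit 6, nat_lit 8, nat_lit 6, nat_lit 8, nat_lit 5],
  [nat_lit 17, nat_lit 17, nat_lit 21, nat_lit 16, nat_lit 19, nat_lit 17, nat_lit 19, nat_lit 17, nat_lit 19, nat_lit 16, nat_lit 21],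
  [nat_lit 20, nat_lit 18, nat_lit 16, nat_lit 21, nat_lit 20, nat_lit 19, nat_lit 17, nat_lit 19, nat_lit 21, nat_lit 20, nat_lit 16, nat_lit 20, nat_lit 18, nat_lit 16, nat_lit 19, nat_lit 19, nat_lit 16, nat_lit 18],
  [nat_lit 17, nat_lit 18, nat_lit 19, nat_lit 17, nat_lit 16, nat_lit 17, nat_lit 16, nat_lit 17, nat_lit 20, nat_lit 17, nat_lit 16, nat_lit 20, nat_lit 18, nat_lit 19, nat_lit 17, nat_lit 21, nat_lit 20, nat_lit 19, nat_lit 21, nat_lit 18, nat_lit 20],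
  [nat_lit 18, nat_lit 18, nat_lit 20, nat_lit 17, nat_lit 22, nat_lit 17, nat_lit 20],
  [nat_lit 25, nat_lit 25, nat_lit 25, nat_lit 23, nat_lit 25, nat_lit 25, nat_lit 25],
  [nat_lit 24, nat_lit 25, nat_lit 24, nat_lit 25, nat_lit 24, nat_lit 23],
  [nat_lit 25, nat_lit 23, nat_lit 25, nat_lit 26, nat_lit 24],
  [nat_lit 27, nat_lit 27, nat_lit 29, nat_lit 27, nat_lit 28, nat_lit 28, nat_lit 29, nat_lit 27, nat_lit 29, nat_lit 28],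
  [nat_lit 28, nat_lit 28, nat_lit 28, nat_lit 27]] (nat_lit 11)
noncomputable def WFf : ℕ → ℕ := chkE (cons1 (rD 2) (cons1 (Hg 4) Hg)) Wp [nat_lit 10, nat_lit 13, nat_lit 14, nat_lit 15]
noncomputable abbrev pvQ : ℕ → Vc ψQ := fun x => (⟨vec3 (ZMod 3) 253 x⟩ : Vc ψQ)
noncomputable abbrev pvX : ℕ → Vc φX := fun x => (⟨vec2 (ZMod 2) 11 x⟩ : Vc φX)
noncomputable abbrev SY : Subgroup (GA × GX) := mQ.gn SYg 18
noncomputable def re : ℕ → ℕ := del1 (mul3 (nat_lit 253)) rD (nat_lit 2) (nat_lit 114) (fun x => hi (nat_lit 6084) (qe x))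
noncomputable def TIEf : ℕ → ℕ := chkE (fun s => hi (nat_lit 121) (SYg s)) re [nat_lit 8338276352, nat_lit 998244352, nat_lit 8455716864, nat_lit 5234491392, nat_lit 6127878144, nat_lit 3858759680, nat_lit 5502926848, nat_lit 7759462400, nat_lit 7226785792, nat_lit 1610612736, nat_lit 7721713664, nat_lit 56945241808637909848144225940, nat_lit 11576233995371154791137063532513364, nat_lit 928560717264, nat_lit 239250080208, nat_lit 76752282436846498968185734932, nat_lit 215245781032836048, nat_lit 6969524548]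
noncomputable def XIf : ℕ → ℕ := chkI (mul2 (nat_lit 11)) (one2 (nat_lit 11)) (fun s => lo (nat_lit 121) (SYg s)) Xi
noncomputable def Pw : List (List ℕ) := [[],
  [],
  [],
  [],
  [],
  [],
  [],
  [],
  [],
  [],
  [],
  [],
  [],
  [],
  [],
  [],
  [],
  [],
  [nat_lit 0],
  [],
  [],
  [],
  [],
  [],
  [],
  [],
  [],
  [],
  [],
  [],
  [],
  [],
  [],
  [],
  [],
  [],
  [nat_lit 0],
  [nat_lit 1],
  [],
  [],
  [],
  [],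
  [],
  [],
  [],
  [],
  [],
  [],
  [],
  [],
  [],
  [],
  [],
  [],
  [nat_lit 0],
  [nat_lit 1],
  [nat_lit 2],
  [],
  [],
  [],
  [],
  [],
  [],
  [],
  [],
  [],
  [],
  [],
  [],
  [],
  [],
  [],
  [nat_lit 0],
  [nat_lit 1],
  [nat_lit 2],
  [nat_lit 3],
  [],
  [],
  [],
  [],
  [],
  [],
  [],
  [],
  [],
  [],
  [],
  [],
  [],
  [],
  [nat_lit 0],
  [nat_lit 1],
  [nat_lit 2],
  [nat_lit 3],
  [nat_lit 4],
  [],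
  [],
  [],
  [],
  [],
  [],
  [],
  [],
  [],
  [],
  [],
  [],
  [],
  [nat_lit 0],
  [nat_lit 1],
  [nat_lit 2],
  [nat_lit 3],
  [nat_lit 4],
  [nat_lit 5],
  [],
  [],
  [],
  [],
  [],
  [],
  [],
  [],
  [],
  [],
  [],
  [],
  [nat_lit 0],
  [nat_lit 1],
  [nat_lit 2],
  [nat_lit 3],
  [nat_lit 4],
  [nat_lit 5],
  [nat_lit 6],
  [],
  [],
  [],
  [],
  [],
  [],
  [],
  [],
  [],
  [],
  [],
  [nat_lit 0],
  [nat_lit 1],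
  [nat_lit 2],
  [nat_lit 3],
  [nat_lit 4],
  [nat_lit 5],
  [nat_lit 6],
  [nat_lit 7],
  [],
  [],
  [],
  [],
  [],
  [],
  [],
  [],
  [],
  [],
  [nat_lit 0],
  [nat_lit 1],
  [nat_lit 2],
  [nat_lit 3],
  [nat_lit 4],
  [nat_lit 5],
  [nat_lit 6],
  [nat_lit 7],
  [nat_lit 8],
  [],
  [],
  [],
  [],
  [],
  [],
  [],
  [],
  [],
  [nat_lit 0],
  [nat_lit 1],
  [nat_lit 2],
  [nat_lit 3],
  [nat_lit 4],
  [nat_lit 5],
  [nat_lit 6],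
  [nat_lit 7],
  [nat_lit 8],
  [nat_lit 9],
  [],
  [],
  [],
  [],
  [],
  [],
  [],
  [],
  [nat_lit 9],
  [nat_lit 0, nat_lit 3, nat_lit 4, nat_lit 5, nat_lit 6, nat_lit 7, nat_lit 10],
  [nat_lit 1, nat_lit 2, nat_lit 4, nat_lit 5, nat_lit 7, nat_lit 9, nat_lit 10],
  [nat_lit 6],
  [nat_lit 0, nat_lit 1, nat_lit 2, nat_lit 3, nat_lit 4, nat_lit 5],
  [nat_lit 5],
  [nat_lit 3],
  [nat_lit 7],
  [nat_lit 1, nat_lit 2, nat_lit 5, nat_lit 6, nat_lit 8, nat_lit 9],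
  [nat_lit 0],
  [nat_lit 0, nat_lit 2, nat_lit 4, nat_lit 6, nat_lit 7, nat_lit 9],
  [nat_lit 2, nat_lit 4, nat_lit 6, nat_lit 7, nat_lit 10],
  [],
  [],
  [],
  [],
  [],
  [],
  [nat_lit 0, nat_lit 1, nat_lit 3, nat_lit 6, nat_lit 7, nat_lit 8],
  [nat_lit 1, nat_lit 2, nat_lit 5, nat_lit 6, nat_lit 8, nat_lit 9],
  [nat_lit 0, nat_lit 1, nat_lit 2, nat_lit 3, nat_lit 4, nat_lit 5],
  [nat_lit 10],
  [nat_lit 1, nat_lit 2, nat_lit 4, nat_lit 5, nat_lit 7, nat_lit 9, nat_lit 10],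
  [nat_lit 5],
  [nat_lit 0, nat_lit 2, nat_lit 4, nat_lit 6, nat_lit 7, nat_lit 9],
  [nat_lit 7],
  [nat_lit 0, nat_lit 3, nat_lit 4, nat_lit 5, nat_lit 6, nat_lit 7, nat_lit 10],
  [nat_lit 0, nat_lit 1, nat_lit 2, nat_lit 4, nat_lit 6, nat_lit 8, nat_lit 10],
  [nat_lit 3],
  [nat_lit 11, nat_lit 0, nat_lit 2, nat_lit 5, nat_lit 7, nat_lit 8, nat_lit 10],
  [nat_lit 1, nat_lit 2, nat_lit 3, nat_lit 5, nat_lit 7, nat_lit 9],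
  [],
  [],
  [],
  [],
  [],
  [nat_lit 0],
  [nat_lit 1, nat_lit 2, nat_lit 5, nat_lit 6, nat_lit 8, nat_lit 9],
  [nat_lit 1, nat_lit 2, nat_lit 4, nat_lit 5, nat_lit 7, nat_lit 9, nat_lit 10],
  [nat_lit 0, nat_lit 2, nat_lit 4, nat_lit 6, nat_lit 7, nat_lit 9],
  [nat_lit 0, nat_lit 1, nat_lit 2, nat_lit 3, nat_lit 4, nat_lit 5],
  [nat_lit 0, nat_lit 1, nat_lit 3, nat_lit 5, nat_lit 8, nat_lit 9, nat_lit 10],
  [nat_lit 10],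
  [nat_lit 7],
  [nat_lit 0, nat_lit 3, nat_lit 4, nat_lit 5, nat_lit 6, nat_lit 7, nat_lit 10],
  [nat_lit 9],
  [nat_lit 6],
  [nat_lit 11, nat_lit 1, nat_lit 2, nat_lit 3, nat_lit 4, nat_lit 7, nat_lit 8, nat_lit 10],
  [nat_lit 12, nat_lit 0, nat_lit 4, nat_lit 5, nat_lit 6, nat_lit 7, nat_lit 8],
  [nat_lit 0, nat_lit 2, nat_lit 3, nat_lit 4, nat_lit 6, nat_lit 7, nat_lit 9],
  [],
  [],
  [],
  [],
  [nat_lit 0],
  [nat_lit 8],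
  [nat_lit 0, nat_lit 1, nat_lit 2, nat_lit 3, nat_lit 4, nat_lit 5],
  [nat_lit 6],
  [nat_lit 1, nat_lit 2, nat_lit 4, nat_lit 5, nat_lit 7, nat_lit 9, nat_lit 10],
  [nat_lit 2, nat_lit 3, nat_lit 6, nat_lit 7, nat_lit 8, nat_lit 9, nat_lit 10],
  [nat_lit 3],
  [nat_lit 7],
  [nat_lit 1],
  [nat_lit 9],
  [nat_lit 0, nat_lit 2, nat_lit 4, nat_lit 6, nat_lit 7, nat_lit 9],
  [nat_lit 11, nat_lit 2, nat_lit 5, nat_lit 7, nat_lit 8, nat_lit 9, nat_lit 10],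
  [nat_lit 12, nat_lit 0, nat_lit 1, nat_lit 2, nat_lit 3, nat_lit 4, nat_lit 7, nat_lit 8, nat_lit 9, nat_lit 10],
  [nat_lit 13, nat_lit 3, nat_lit 6],
  [],
  [],
  [],
  [],
  [nat_lit 2],
  [nat_lit 6],
  [nat_lit 0],
  [nat_lit 0, nat_lit 3, nat_lit 4, nat_lit 5, nat_lit 6, nat_lit 7, nat_lit 10],
  [nat_lit 0, nat_lit 1, nat_lit 2, nat_lit 4, nat_lit 6, nat_lit 8, nat_lit 10],
  [nat_lit 5],
  [nat_lit 1],
  [nat_lit 7],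
  [nat_lit 10],
  [nat_lit 1, nat_lit 2, nat_lit 4, nat_lit 5, nat_lit 7, nat_lit 9, nat_lit 10],
  [nat_lit 8],
  [nat_lit 11, nat_lit 3, nat_lit 4, nat_lit 7, nat_lit 8, nat_lit 9],
  [nat_lit 12, nat_lit 0, nat_lit 1, nat_lit 3, nat_lit 5, nat_lit 8, nat_lit 9, nat_lit 10],
  [nat_lit 11, nat_lit 13, nat_lit 1, nat_lit 2, nat_lit 7, nat_lit 8, nat_lit 10],
  [nat_lit 12, nat_lit 14, nat_lit 2, nat_lit 4, nat_lit 7, nat_lit 8, nat_lit 9],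
  [nat_lit 1, nat_lit 6, nat_lit 8, nat_lit 10],
  [],
  [],
  [nat_lit 0],
  [nat_lit 3],
  [nat_lit 2],
  [nat_lit 1],
  [nat_lit 0, nat_lit 1, nat_lit 2, nat_lit 3, nat_lit 4, nat_lit 5],
  [nat_lit 5],
  [nat_lit 0, nat_lit 3, nat_lit 4, nat_lit 5, nat_lit 6, nat_lit 7, nat_lit 10],
  [nat_lit 0, nat_lit 2, nat_lit 5, nat_lit 7, nat_lit 8, nat_lit 10],
  [nat_lit 10],
  [nat_lit 9],
  [nat_lit 8],
  [nat_lit 11, nat_lit 0, nat_lit 1, nat_lit 2, nat_lit 3, nat_lit 4, nat_lit 6, nat_lit 7, nat_lit 9, nat_lit 10],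
  [nat_lit 11, nat_lit 12, nat_lit 0, nat_lit 1, nat_lit 2, nat_lit 4, nat_lit 5],
  [nat_lit 13, nat_lit 1, nat_lit 2, nat_lit 3, nat_lit 5, nat_lit 6, nat_lit 8, nat_lit 9],
  [nat_lit 13, nat_lit 14, nat_lit 0, nat_lit 1, nat_lit 3, nat_lit 4, nat_lit 5, nat_lit 7, nat_lit 10],
  [nat_lit 15, nat_lit 0, nat_lit 1, nat_lit 3, nat_lit 4, nat_lit 6, nat_lit 7, nat_lit 10],
  [nat_lit 1, nat_lit 3],
  [],
  [nat_lit 1],
  [nat_lit 0],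
  [nat_lit 6],
  [nat_lit 1, nat_lit 2, nat_lit 4, nat_lit 5, nat_lit 7, nat_lit 9, nat_lit 10],
  [nat_lit 10],
  [nat_lit 5],
  [nat_lit 2],
  [nat_lit 7],
  [nat_lit 0, nat_lit 1, nat_lit 2, nat_lit 4, nat_lit 6, nat_lit 8, nat_lit 10],
  [nat_lit 0, nat_lit 3, nat_lit 4, nat_lit 5, nat_lit 6, nat_lit 7, nat_lit 10],
  [nat_lit 4],
  [nat_lit 11, nat_lit 0, nat_lit 2, nat_lit 3, nat_lit 4, nat_lit 5, nat_lit 9, nat_lit 10],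
  [nat_lit 12, nat_lit 0, nat_lit 1, nat_lit 2, nat_lit 3, nat_lit 4, nat_lit 6, nat_lit 8, nat_lit 9],
  [nat_lit 12, nat_lit 13, nat_lit 3, nat_lit 5, nat_lit 6, nat_lit 7],
  [nat_lit 11, nat_lit 12, nat_lit 14, nat_lit 0, nat_lit 3, nat_lit 4, nat_lit 7, nat_lit 10],
  [nat_lit 15, nat_lit 0, nat_lit 2, nat_lit 5, nat_lit 7, nat_lit 8, nat_lit 10],
  [nat_lit 11, nat_lit 15, nat_lit 16, nat_lit 0, nat_lit 2, nat_lit 4, nat_lit 7, nat_lit 8],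
  [nat_lit 0, nat_lit 3, nat_lit 5, nat_lit 6, nat_lit 7, nat_lit 9]]
noncomputable def PCf : ℕ → ℕ := chkP2 (pmul (mul3 (nat_lit 253)) (mul2 (nat_lit 11)) (nat_lit 121)) (join (nat_lit 121) (one2 (nat_lit 11)) (one2 (nat_lit 253))) SYg Pw (nat_lit 18)
noncomputable def PAf : ℕ → ℕ := chkA (pmul (mul3 (nat_lit 253)) (mul2 (nat_lit 11)) (nat_lit 121)) (join (nat_lit 121) (one2 (nat_lit 11)) (one2 (nat_lit 253))) SYg (nat_lit 11)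
noncomputable abbrev AA : Subgroup (GA × GX) := mQ.gn SYg 11
noncomputable abbrev Ag : ℕ → ℕ := pad (join (nat_lit 121) (one2 (nat_lit 11)) (one2 (nat_lit 253))) (nat_lit 11) SYg
noncomputable def AKf : ℕ → ℕ := fun s => Nat.xor (lo (nat_lit 121) (SYg s)) (one2 (nat_lit 11))
noncomputable def ZAYf : ℕ → ℕ := chkY (can3 (nat_lit 253)) (row3 (nat_lit 253)) ZA (nat_lit 2048)
noncomputable def ZAROf : ℕ → ℕ := chkO (img3 (nat_lit 253) fun s => hi (nat_lit 121) (Ag s)) (row3 (nat_lit 253)) ZA ZARa (nat_lit 2048) [nat_lit 0]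
noncomputable abbrev XSg : ℕ → ℕ := fun s => lo (nat_lit 121) (SYg s)
noncomputable abbrev XS : Subgroup GX := Subgroup.map (MonoidHom.snd GA GX) SY
noncomputable def xSf : ℕ → ℕ := chkS2 (mul2 (nat_lit 11)) XSg (nat_lit 18) xT (fun _ => (one2 (nat_lit 11))) xc (nat_lit 7) (nat_lit 128)
noncomputable abbrev eX : ℕ → ℕ := cel1 (mul2 (nat_lit 11)) xT (nat_lit 7) fun _ => (one2 (nat_lit 11))
noncomputable def ZXYf : ℕ → ℕ := chkY can0 (brow (nat_lit 11)) ZX (nat_lit 128)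
noncomputable def ZXROf : ℕ → ℕ := chkO (img2 (nat_lit 11) XSg) (brow (nat_lit 11)) ZX ZXRa (nat_lit 128) [nat_lit 0]
noncomputable def CZf : ℕ → ℕ := chkZ (mul2 (nat_lit 11)) XSg eX tz (nat_lit 18)
noncomputable def c1 : ℕ := (nat_lit 0x101004f91010039583f5abad9b3001)
noncomputable def c2 : ℕ := (nat_lit 0xd98022d51013e4101cb004800046b6)
noncomputable def CDf : ℕ → ℕ := chkD (pmul (mul3 (nat_lit 253)) (mul2 (nat_lit 11)) (nat_lit 121)) (join (nat_lit 121) (one2 (nat_lit 11)) (one2 (nat_lit 253))) kQ Ag Yc [[nat_lit 1, nat_lit 8],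
  [nat_lit 0, nat_lit 1],
  [nat_lit 10],
  [nat_lit 0, nat_lit 1, nat_lit 8],
  [nat_lit 0, nat_lit 10],
  [nat_lit 0, nat_lit 8],
  [nat_lit 1],
  [nat_lit 0, nat_lit 2],
  [nat_lit 0],
  [nat_lit 3],
  [nat_lit 2],
  [nat_lit 8],
  [nat_lit 4],
  [],
  [nat_lit 0, nat_lit 3],
  [nat_lit 0, nat_lit 4]] (SYg 11) (nat_lit 16)
noncomputable def WCf : ℕ → ℕ := chkW (pmul (mul3 (nat_lit 253)) (mul2 (nat_lit 11)) (nat_lit 121)) (join (nat_lit 121) (one2 (nat_lit 11)) (one2 (nat_lit 253))) Ag [[nat_lit 3, nat_lit 6]] Wc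

end Cfsg.Agent.H4.F23
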