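import Cfsg.Agent.H4.Syl

/-! Checking Coxeter relations in a model. -/

set_option autoImplicit false

namespace Cfsg.Agent.H4.TC

open Cfsg.Agent.H5 Cfsg.Agent.H5.Mdl

variable {G M : Type*} [Group G] [Monoid M] {m : Mdl G M}

noncomputable def chkCox (mul : ℕ → ℕ → ℕ) (gl : ℕ → ℕ) (L x : ℕ) : ℕ :=
  force (Nat.land x 15) fun a => force (Nat.shiftRight x 4) fun b => below b (fun a =>
    force (fld L 4 15 (Nat.add a (Nat.mul 16 b))) fun k => ifz k 0
      (force (mul (gl a) (gl b)) fun c =>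
        Nat.xor (ifz (Nat.xor k 2) c (mul c c)) (mul (gl b) (gl a)))) a

def Lab (L : ℕ) : Prop := ∀ a < 16, ∀ b < 16, fld L 4 15 (a + 16 * b) = fld L 4 15 (b + 16 * a) ∧
  (fld L 4 15 (a + 16 * b) = 0 ∨ a = b ∧ fld L 4 15 (a + 16 * b) = 1 ∨
    a ≠ b ∧ (fld L 4 15 (a + 16 * b) = 2 ∨ fld L 4 15 (a + 16 * b) = 3))

instance (L : ℕ) : Decidable (Lab L) := by unfold Lab; infer_instance

theorem cox_of_chk {gl : ℕ → ℕ} {L : ℕ} (hL : Lab L) (hg : m.El ⊤ gl)
    (hq : ∀ c, m.elt (gl c) * m.elt (gl c) = 1) (h : ∀ x < 256, chkCox m.mul gl L x = 0) :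
    ∀ a < 16, ∀ b < 16, (m.elt (gl a) * m.elt (gl b)) ^ fld L 4 15 (a + 16 * b) = 1 := by
  have key : ∀ a < 16, ∀ b < 16, a < b →
      (m.elt (gl a) * m.elt (gl b)) ^ fld L 4 15 (a + 16 * b) = 1 := by
    intro a ha b hb hab
    have h1 := h (a + 16 * b) (by omega)
    have e1 : Nat.land (a + 16 * b) 15 = a :=
      (Nat.and_two_pow_sub_one_eq_mod _ 4).trans (by omega)
    have e2 : Nat.shiftRight (a + 16 * b) 4 = b := (Nat.shiftRight_eq_div_pow _ 4).trans (by omega)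
    simp only [chkCox, force_eq, ifz_eq, e1, e2, below_eq] at h1
    rw [if_pos hab] at h1
    change (if fld L 4 15 (a + 16 * b) = 0 then 0 else Nat.xor
      (if Nat.xor (fld L 4 15 (a + 16 * b)) 2 = 0 then _ else _) _) = 0 at h1
    have r1 := rep_mul (hg a).elt (hg b).elt
    have r2 := rep_mul (hg b).elt (hg a).elt
    have r3 : m.elt (gl b) * m.elt (gl a) * (m.elt (gl a) * m.elt (gl b)) = 1 := by
      rw [mul_assoc, ← mul_assoc (m.elt (gl a)), hq, one_mul, hq]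
    rcases (hL a ha b hb).2 with h2 | h2 | ⟨-, h2 | h2⟩
    · rw [h2, pow_zero]
    · omega
    · rw [h2] at h1 ⊢
      rw [if_neg (by decide), if_pos (by decide)] at h1
      rw [xor_eq_zero' h1, ← r2] at r1
      rw [sq]; nth_rw 1 [m.inj r1]; exact r3
    · rw [h2] at h1 ⊢
      rw [if_neg (by decide), if_neg (by decide)] at h1
      have r4 := rep_mul r1 r1
      rw [xor_eq_zero' h1, ← r2] at r4
      rw [pow_succ, sq, m.inj r4, r3]
  intro a ha b hb
  rcases lt_trichotomy a b with h1 | h1 | h1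
  · exact key a ha b hb h1
  · rcases (hL a ha b hb).2 with h2 | h2 | h2
    · rw [h2, pow_zero]
    · rw [h2.2, pow_one, h1, hq]
    · exact absurd h1 h2.1
  · have := congrArg (·⁻¹) (key b hb a ha h1)
    simp only [← inv_pow, mul_inv_rev, inv_one] at this
    rwa [← eq_inv_of_mul_eq_one_left (hq a), ← eq_inv_of_mul_eq_one_left (hq b),
      ← (hL a ha b hb).1] at this

noncomputable def chkSq (mul : ℕ → ℕ → ℕ) (one : ℕ) (gl : ℕ → ℕ) (s : ℕ) : ℕ :=
  Nat.xor (mul (gl s) (gl s)) one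

theorem sq_of_chk {G : Type*} [Monoid G] (m : Mdl Gˣ G) (hφ : ∀ g, m.φ g = g) {g0 : ℕ → ℕ} {n : ℕ}
    (h : ∀ s < n, chkSq m.mul m.one (pad m.one n g0) s = 0) :
    m.El ⊤ (pad m.one n g0) ∧ ∀ c, m.elt (pad m.one n g0 c) * m.elt (pad m.one n g0 c) = 1 := by
  have h1 : m.El ⊤ (pad m.one n g0) :=
    el_of_pad fun s hs => in_of_inv m hφ (xor_eq_zero' (h s hs)) (xor_eq_zero' (h s hs))
  refine ⟨h1, fun c => ?_⟩
  by_cases hc : c < n
  · exact m.inj (by rw [rep_mul (h1 c).elt (h1 c).elt, xor_eq_zero' (h c hc), m.ev_one, map_one])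
  · rw [pad_eq, if_neg hc, elt_one, one_mul]

theorem rep_wd {gl : ℕ → ℕ} (hg : m.El ⊤ gl) (w : List ℕ) :
    m.φ (w.map fun c => m.elt (gl c)).prod = m.ev (wd m.mul m.one gl w) := by
  induction w with
  | nil => rw [List.map_nil, List.prod_nil, map_one]; exact m.ev_one.symm
  | cons a l ih => rw [List.map_cons, List.prod_cons]; exact rep_mul (hg a).elt ih

theorem pow_of_chk {gl : ℕ → ℕ} (hg : m.El ⊤ gl) {w : List ℕ} {k : ℕ}
    (h : force (wd m.mul m.one gl w) (fun a => Nat.xor (pw m.mul m.one a k) m.one) = 0) :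
    (w.map fun c => m.elt (gl c)).prod ^ k = 1 :=
  pow_eq_one_of_powC (rep_wd hg w) (xor_eq_zero' h)

end Cfsg.Agent.H4.TC
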