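import Cfsg.Agent.H4.Y23S
import Cfsg.Prelude.Def_Spor_Fi23

/-! The presented group `Fi₂₃`. -/

set_option autoImplicit false

namespace Cfsg.Agent.H4.Y23

open Cfsg.Agent.H5 Cfsg.Agent.H8.TC Cfsg.Agent.H4.TC Cfsg.Spor Cfsg.Spor.Fi23

def gen : ℕ → Gen
  | 1 => .d | 2 => .e | 3 => .f | 4 => .h | 5 => .c | 6 => .b | 7 => .i | 8 => .a | 9 => .g
  | _ => .j

def ix : Gen → ℕ
  | .d => 1 | .e => 2 | .f => 3 | .h => 4 | .c => 5 | .b => 6 | .i => 7 | .a => 8 | .g => 9
  | .j => 10

def l0 (c : ℕ) : Fi23 := if 1 ≤ c ∧ c ≤ 10 then PresentedGroup.of (gen c) else 1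

theorem l0_ix (x : Gen) : l0 (ix x) = PresentedGroup.of x := by cases x <;> rfl

theorem lab_ix (x y : Gen) : fld Mx 4 15 (ix x + 16 * ix y) = coxLabel edges x y := by
  cases x <;> cases y <;> decide +kernel

theorem ix_lt (x : Gen) : ix x < 11 := by cases x <;> decide

theorem cox0 (x y : Gen) :
    ((PresentedGroup.of x : Fi23) * PresentedGroup.of y) ^ coxLabel edges x y = 1 := by
  have := PresentedGroup.one_of_mem (rels := coxRelators edges ∪ {r | r ∈ extra})
    (Or.inl ⟨x, by cases x <;> decide, y, by cases y <;> decide, rfl⟩)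
  rwa [map_pow, map_mul] at this

theorem rel0 : Rel l0 where
  zero := rfl
  sq c := by
    unfold l0
    split_ifs
    · simpa [coxLabel] using cox0 (gen c) (gen c)
    · exact one_mul 1
  cox a ha b hb := by
    have e : ∀ a < 16, ∀ b < 16, fld Mx 4 15 (a + 16 * b) =
        if (1 ≤ a ∧ a ≤ 10) ∧ 1 ≤ b ∧ b ≤ 10 then coxLabel edges (gen a) (gen b) else 0 := by
      decide +kernel
    rw [e a ha b hb]
    split_ifs with h
    · rw [l0, l0, if_pos h.1, if_pos h.2]; exact cox0 _ _
    · exact pow_zero _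
  r1 := by
    have := PresentedGroup.one_of_mem (rels := coxRelators edges ∪ {r | r ∈ extra})
      (Or.inr List.mem_cons_self)
    simp only [map_pow, map_mul, mul_assoc] at this
    simp only [List.map_cons, List.map_nil, List.prod_cons, List.prod_nil, mul_one]
    exact this
  r2 := by
    have := PresentedGroup.one_of_mem (rels := coxRelators edges ∪ {r | r ∈ extra})
      (Or.inr (List.mem_cons_of_mem _ List.mem_cons_self))
    simp only [map_pow, map_mul, mul_assoc] at this
    simp only [List.map_cons, List.map_nil, List.prod_cons, List.prod_nil, mul_one]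
    exact this

theorem bd_top : Bd (⊤ : Subgroup Fi23) 4089470473293004800 := by
  have h : Gk l0 10 = ⊤ := by
    rw [eq_top_iff, ← PresentedGroup.closure_range_of, Subgroup.closure_le]
    rintro _ ⟨x, rfl⟩
    exact l0_ix x ▸ mem_Gk (ix_lt x)
  exact h ▸ bd10 rel0

theorem exists_hom {G : Type*} [Group G] {lt : ℕ → G} (h : Rel lt) :
    ∃ π : Fi23 →* G, ∀ c < 11, lt c ∈ π.range := by
  have hr : ∀ r ∈ coxRelators edges ∪ {r | r ∈ extra},
      FreeGroup.lift (fun x => lt (ix x)) r = 1 := by
    rintro r (⟨x, -, y, -, rfl⟩ | hr)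
    · simp only [map_pow, map_mul, FreeGroup.lift_apply_of]
      rw [← lab_ix]
      exact h.cox _ ((ix_lt x).trans (by decide)) _ ((ix_lt y).trans (by decide))
    · have h1 := h.r1
      have h2 := h.r2
      simp only [List.map_cons, List.map_nil, List.prod_cons, List.prod_nil, mul_one] at h1 h2
      rcases List.mem_pair.1 hr with rfl | rfl <;>
        simp only [map_pow, map_mul, FreeGroup.lift_apply_of, mul_assoc, ix] <;> assumption
  refine ⟨PresentedGroup.toGroup hr, fun c hc => ?_⟩
  rcases Nat.eq_zero_or_pos c with rfl | h0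
  · exact h.zero ▸ Subgroup.one_mem _
  · refine ⟨PresentedGroup.of (gen c), ?_⟩
    rw [PresentedGroup.toGroup.of]
    interval_cases c <;> rfl

end Cfsg.Agent.H4.Y23
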