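import Cfsg.Agent.H4.F23S
import Cfsg.Agent.H4.TC4
import Cfsg.Agent.H4.Y23P

set_option autoImplicit false
set_option maxRecDepth 100000

namespace Cfsg.Agent.H4.F23

open Subgroup Cfsg.Agent.H5 Cfsg.Agent.H5.Mdl Cfsg.Agent.H4.TC

abbrev GX : Type := GL (Fin 11) (ZMod 2)
noncomputable abbrev φX : GX →* Matrix (Fin 11) (Fin 11) (ZMod 2) := Units.coeHom _
noncomputable abbrev mX := md2 (ZMod 2) 11 φX Units.val_injective
theorem hbx : (∀ a b, mX.mul a b < 2 ^ 121) ∧ mX.one < 2 ^ 121 :=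
  ⟨fun a b => mul2_lt (n := 11) (by decide) a b, by decide +kernel⟩
noncomputable abbrev mQ := pair mA mX 121 hbx
noncomputable abbrev ψQ : GA × GX →* Matrix (Fin 253) (Fin 253) (ZMod 3) := φA.comp (MonoidHom.fst GA GX)
theorem hQ : ∀ g a, mQ.φ g = mQ.ev a → ψQ g = ev3 (ZMod 3) 253 (hi 121 a) := fun _ _ h => congrArg Prod.fst h
theorem hX : ∀ g a, mX.φ g = mX.ev a → φX g = ev2 (ZMod 2) 11 ((fun a => a) a) := fun _ _ h => h
abbrev kQ : ℕ → ℕ := fun a => kA (hi 121 a)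
theorem keyQ : Key mQ kQ := fun _ _ h => keyA _ _ (congrArg Prod.fst h)
abbrev kX : ℕ → ℕ := fun a => Nat.land a (msk (Nat.mul 11 11))
theorem keyX : Key mX kX := key2 _ _ _ _

end Cfsg.Agent.H4.F23
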