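import Cfsg.Agent.H4.F2BC0
import Cfsg.Agent.H4.F2BC1
import Cfsg.Agent.H4.F2BC2

set_option autoImplicit false
set_option maxRecDepth 100000

namespace Cfsg.Agent.H4.F23

open Subgroup Cfsg.Agent.H5 Cfsg.Agent.H5.Mdl Cfsg.Agent.H4.TC

attribute [local irreducible] look Tr.get

theorem LtQ : ∀ i < 11, (chkSq (mul3 (nat_lit 253)) (one2 (nat_lit 253)) Lt) i = 0 :=
  (rng_step (all0 _) LtQ_0)
theorem LtC : ∀ i < 256, (chkCox (mul3 (nat_lit 253)) Lt Y23.Mx) i = 0 :=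
  (rng_step (rng_step (rng_step (rng_step (rng_step (rng_step (all0 _) LtC_0) LtC_1) LtC_2) LtC_3) LtC_4) LtC_5)
theorem Ltop : mA.El ⊤ Lt :=
  (sq_of_chk mA (fun _ => rfl) LtQ).1
theorem relL : Y23.Rel fun c => mA.elt (Lt c) :=
  ⟨elt_of_eq_one Lt0, (sq_of_chk mA (fun _ => rfl) LtQ).2, cox_of_chk (by decide +kernel) Ltop
    (sq_of_chk mA (fun _ => rfl) LtQ).2 LtC, pow_of_chk Ltop R1, pow_of_chk Ltop R2⟩
theorem WE : ∀ i < 11, (fun s => Nat.xor (Lt s) (Wp s)) i = 0 :=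
  (rng_step (all0 _) WE_0)
theorem WW : ∀ i < 21, (chkPl (mul3 (nat_lit 253)) Wp [[nat_lit 4, nat_lit 6, nat_lit 5, nat_lit 1, nat_lit 2, nat_lit 3, nat_lit 9],
  [nat_lit 11, nat_lit 11, nat_lit 11],
  [nat_lit 12, nat_lit 12, nat_lit 12],
  [nat_lit 7, nat_lit 7, nat_lit 4, nat_lit 9, nat_lit 3, nat_lit 1, nat_lit 2, nat_lit 8, nat_lit 6, nat_lit 5, nat_lit 1, nat_lit 4, nat_lit 7, nat_lit 2, nat_lit 3, nat_lit 1, nat_lit 2, nat_lit 6, nat_lit 5, nat_lit 1, nat_lit 4, nat_lit 9, nat_lit 3, nat_lit 2, nat_lit 1, nat_lit 5, nat_lit 6, nat_lit 8, nat_lit 6, nat_lit 5, nat_lit 1, nat_lit 2, nat_lit 3, nat_lit 9, nat_lit 4, nat_lit 1, nat_lit 5, nat_lit 6, nat_lit 2, nat_lit 1, nat_lit 3, nat_lit 2, nat_lit 7, nat_lit 4, nat_lit 1, nat_lit 5, nat_lit 6, nat_lit 8, nat_lit 2, nat_lit 1, nat_lit 3, nat_lit 9, nat_lit 4, nat_lit 7, nat_lit 7, nat_lit 4, nat_lit 9, nat_lit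 3, nat_lit 5, nat_lit 1, nat_lit 2, nat_lit 6, nat_lit 5, nat_lit 1, nat_lit 4, nat_lit 7, nat_lit 2, nat_lit 3, nat_lit 1, nat_lit 2, nat_lit 6, nat_lit 5, nat_lit 1, nat_lit 4, nat_lit 9, nat_lit 3, nat_lit 2, nat_lit 1, nat_lit 5, nat_lit 6, nat_lit 8, nat_lit 6, nat_lit 5, nat_lit 1, nat_lit 2, nat_lit 3, nat_lit 9, nat_lit 4, nat_lit 1, nat_lit 5, nat_lit 6, nat_lit 2, nat_lit 1, nat_lit 3, nat_lit 2, nat_lit 7, nat_lit 4, nat_lit 1, nat_lit 5, nat_lit 6, nat_lit 2, nat_lit 1, nat_lit 5, nat_lit 3, nat_lit 9, nat_lit 4],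
  [nat_lit 1, nat_lit 5, nat_lit 1, nat_lit 4, nat_lit 7, nat_lit 2, nat_lit 1, nat_lit 4, nat_lit 9, nat_lit 3, nat_lit 2, nat_lit 1, nat_lit 6, nat_lit 5, nat_lit 8, nat_lit 6, nat_lit 8, nat_lit 6, nat_lit 8, nat_lit 5, nat_lit 6, nat_lit 1, nat_lit 2, nat_lit 3, nat_lit 9, nat_lit 4, nat_lit 1, nat_lit 2, nat_lit 7, nat_lit 4, nat_lit 1, nat_lit 5, nat_lit 1, nat_lit 2, nat_lit 5, nat_lit 1, nat_lit 4, nat_lit 7, nat_lit 4, nat_lit 2, nat_lit 3, nat_lit 1, nat_lit 2, nat_lit 6, nat_lit 5, nat_lit 1, nat_lit 4, nat_lit 9, nat_lit 3, nat_lit 2, nat_lit 1, nat_lit 5, nat_lit 6, nat_lit 8, nat_lit 6, nat_lit 5, nat_lit 1, nat_lit 2, nat_lit 3, nat_lit 9, nat_lit 4, nat_lit 1, nat_lit 5, nat_lit 6, nat_lit 2, nat_lit 1, nat_lit 3, nat_lit 2, nat_lit 4, nat_lit 7, nat_lit 4, nat_lit 1, nat_lit 5, nat_lit 2],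
  [nat_lit 7, nat_lit 7, nat_lit 2, nat_lit 1, nat_lit 4, nat_lit 9, nat_lit 3, nat_lit 2, nat_lit 1, nat_lit 6, nat_lit 5, nat_lit 8, nat_lit 6, nat_lit 8, nat_lit 6, nat_lit 8, nat_lit 5, nat_lit 6, nat_lit 1, nat_lit 2, nat_lit 3, nat_lit 9, nat_lit 4, nat_lit 1, nat_lit 2],
  [nat_lit 2, nat_lit 2, nat_lit 6, nat_lit 5, nat_lit 1, nat_lit 4, nat_lit 3, nat_lit 2, nat_lit 1, nat_lit 5, nat_lit 6, nat_lit 8, nat_lit 6, nat_lit 5, nat_lit 1, nat_lit 2, nat_lit 3, nat_lit 4, nat_lit 1, nat_lit 5, nat_lit 6],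
  [nat_lit 4, nat_lit 4, nat_lit 7, nat_lit 6, nat_lit 5, nat_lit 1, nat_lit 4, nat_lit 9, nat_lit 3, nat_lit 2, nat_lit 1, nat_lit 5, nat_lit 6, nat_lit 8, nat_lit 6, nat_lit 5, nat_lit 1, nat_lit 2, nat_lit 3, nat_lit 9, nat_lit 4, nat_lit 1, nat_lit 5, nat_lit 6, nat_lit 7],
  [nat_lit 4, nat_lit 4, nat_lit 7, nat_lit 1, nat_lit 4, nat_lit 2, nat_lit 1, nat_lit 6, nat_lit 5, nat_lit 8, nat_lit 6, nat_lit 8, nat_lit 6, nat_lit 8, nat_lit 5, nat_lit 6, nat_lit 1, nat_lit 2, nat_lit 4, nat_lit 1, nat_lit 7],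
  [nat_lit 7, nat_lit 7, nat_lit 1, nat_lit 4, nat_lit 3, nat_lit 2, nat_lit 1, nat_lit 6, nat_lit 5, nat_lit 8, nat_lit 6, nat_lit 8, nat_lit 6, nat_lit 8, nat_lit 5, nat_lit 6, nat_lit 1, nat_lit 2, nat_lit 3, nat_lit 4, nat_lit 1],
  [nat_lit 2, nat_lit 2, nat_lit 3, nat_lit 1, nat_lit 2, nat_lit 5, nat_lit 1, nat_lit 6, nat_lit 5, nat_lit 8, nat_lit 6, nat_lit 8, nat_lit 6, nat_lit 8, nat_lit 5, nat_lit 6, nat_lit 1, nat_lit 5, nat_lit 2, nat_lit 1, nat_lit 3],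
  [nat_lit 6, nat_lit 6, nat_lit 5, nat_lit 8, nat_lit 6, nat_lit 8, nat_lit 6, nat_lit 8, nat_lit 5],
  [nat_lit 17, nat_lit 17, nat_lit 21, nat_lit 16, nat_lit 19, nat_lit 17, nat_lit 19, nat_lit 17, nat_lit 19, nat_lit 16, nat_lit 21],
  [nat_lit 20, nat_lit 18, nat_lit 16, nat_lit 21, nat_lit 20, nat_lit 19, nat_lit 17, nat_lit 19, nat_lit 21, nat_lit 20, nat_lit 16, nat_lit 20, nat_lit 18, nat_lit 16, nat_lit 19, nat_lit 19, nat_lit 16, nat_lit 18],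
  [nat_lit 17, nat_lit 18, nat_lit 19, nat_lit 17, nat_lit 16, nat_lit 17, nat_lit 16, nat_lit 17, nat_lit 20, nat_lit 17, nat_lit 16, nat_lit 20, nat_lit 18, nat_lit 19, nat_lit 17, nat_lit 21, nat_lit 20, nat_lit 19, nat_lit 21, nat_lit 18, nat_lit 20],
  [nat_lit 18, nat_lit 18, nat_lit 20, nat_lit 17, nat_lit 22, nat_lit 17, nat_lit 20],
  [nat_lit 25, nat_lit 25, nat_lit 25, nat_lit 23, nat_lit 25, nat_lit 25, nat_lit 25],
  [nat_lit 24, nat_lit 25, nat_lit 24, nat_lit 25, nat_lit 24, nat_lit 23],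
  [nat_lit 25, nat_lit 23, nat_lit 25, nat_lit 26, nat_lit 24],
  [nat_lit 27, nat_lit 27, nat_lit 29, nat_lit 27, nat_lit 28, nat_lit 28, nat_lit 29, nat_lit 27, nat_lit 29, nat_lit 28],
  [nat_lit 28, nat_lit 28, nat_lit 28, nat_lit 27]] (nat_lit 11)) i = 0 :=
  (rng_step (rng_step (rng_step (rng_step (rng_step (rng_step (rng_step (rng_step (rng_step (rng_step (rng_step (rng_step (rng_step (rng_step (all0 _) WW_0) WW_1) WW_2) WW_3) WW_4) WW_5) WW_6) WW_7) WW_8) WW_9) WW_10) WW_11) WW_12) WW_13)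
theorem WF : ∀ i < 4, (chkE (cons1 (rD 2) (cons1 (Hg 4) Hg)) Wp [nat_lit 10, nat_lit 13, nat_lit 14, nat_lit 15]) i = 0 :=
  (rng_step (all0 _) WF_0)
theorem rG_le {R : Subgroup GA} (h : ∀ c < 11, mA.elt (Lt c) ∈ R) : rG ≤ R := by
  have h1 : mA.El R Wp := el_of_pad (in_pool (fun s hs => (in_of_elt Ltop h s hs).of_eq (WE s hs)) WW)
  have h2 := in_of_chkE h1 WF
  have h3 : H ≤ R := H_gn.trans (gn_le (all_succ (all_succ (all_succ (all_succ (all_succ all_nil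
    (h2 2 (by decide))) (h2 3 (by decide))) ((h1.wd _).of_mul_eq (in_one R) WT0))
    ((h1.wd _).of_mul_eq (in_one R) WT1)) (h2 1 (by decide))))
  exact sup_zpowers_le h3 (rM2 R h3 (h2 0 (by decide)).elt_mem)
theorem rel : mA.El rG re :=
  el_del1 relG (((pr_fst mA mB 6084 hb).el qel).mono le_sup_left) _ _
theorem TIE : ∀ i < 18, (chkE (fun s => hi (nat_lit 121) (SYg s)) re [nat_lit 8338276352, nat_lit 998244352, nat_lit 8455716864, nat_lit 5234491392, nat_lit 6127878144, nat_lit 3858759680, nat_lit 5502926848, nat_lit 7759462400, nat_lit 7226785792, nat_lit 1610612736, nat_lit 7721713664, nat_lit 56945241808637909848144225940, nat_lit 11576233995371154791137063532513364, nat_lit 928560717264, nat_lit 239250080208, nat_lit 76752282436846498968185734932, nat_lit 215245781032836048, nat_lit 6969524548]) i = 0 :=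
  (rng_step (rng_step (rng_step (rng_step (rng_step (all0 _) TIE_0) TIE_1) TIE_2) TIE_3) TIE_4)
theorem TI : ∀ s < 18, mA.In rG ((fun s => hi (nat_lit 121) (SYg s)) s) :=
  in_of_chkE rel TIE
theorem XI : ∀ i < 18, (chkI (mul2 (nat_lit 11)) (one2 (nat_lit 11)) (fun s => lo (nat_lit 121) (SYg s)) Xi) i = 0 :=
  (rng_step (all0 _) XI_0)
theorem SY_top : ∀ s < 18, mQ.In ⊤ (SYg s) :=
  fun s hs => in_pair (TI s hs).top (in_of_chkI mX (fun _ => rfl) XI s hs)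
theorem SY_in : ∀ s < 18, mQ.In SY (SYg s) :=
  in_gn SY_top
theorem SY_eg : mQ.El SY SYg :=
  el_gn SY_top
theorem PC : ∀ i < 324, (chkP2 (pmul (mul3 (nat_lit 253)) (mul2 (nat_lit 11)) (nat_lit 121)) (join (nat_lit 121) (one2 (nat_lit 11)) (one2 (nat_lit 253))) SYg Pw (nat_lit 18)) i = 0 :=
  (rng_step (rng_step (rng_step (rng_step (rng_step (rng_step (rng_step (rng_step (rng_step (rng_step (rng_step (rng_step (rng_step (rng_step (rng_step (rng_step (rng_step (rng_step (rng_step (rng_step (rng_step (rng_step (rng_step (rng_step (rng_step (rng_step (rng_step (rng_step (rng_step (rng_step (rng_step (rng_step (rng_step (rng_step (rng_step (rng_step (rng_step (rng_step (all0 _) PC_0) PC_1) PC_2) PC_3) PC_4) PC_5) PC_6) PC_7) PC_8) PC_9) PC_10) PC_11) PC_12) PC_13) PC_14) PC_15) PC_16) PC_17) PC_18) PC_19) PC_20) PC_21) PC_22) PC_23) PC_24) PC_25) PC_26) PC_27) PC_28)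 PC_29) PC_30) PC_31) PC_32) PC_33) PC_34) PC_35) PC_36) PC_37)
theorem PA : ∀ i < 121, (chkA (pmul (mul3 (nat_lit 253)) (mul2 (nat_lit 11)) (nat_lit 121)) (join (nat_lit 121) (one2 (nat_lit 11)) (one2 (nat_lit 253))) SYg (nat_lit 11)) i = 0 :=
  (rng_step (rng_step (rng_step (rng_step (rng_step (rng_step (all0 _) PA_0) PA_1) PA_2) PA_3) PA_4) PA_5)
theorem A_el : mQ.El AA Ag :=
  El.pad (in_gn fun s (hs : s < 11) => SY_top s (by omega))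
theorem AK : ∀ i < 11, (fun s => Nat.xor (lo (nat_lit 121) (SYg s)) (one2 (nat_lit 11))) i = 0 :=
  (rng_step (all0 _) AK_0)
theorem ZAY : ∀ i < 2048, (chkY (can3 (nat_lit 253)) (row3 (nat_lit 253)) ZA (nat_lit 2048)) i = 0 :=
  allB (rngB_step (allB0 _ _) ZAY_0) (by decide)
theorem ZAD : Dist (fun i => pvQ (pt (row3 (nat_lit 253)) ZA i)) 2048 :=
  dist_of_chk (canT3 ψQ) ZAY
theorem ZARO : ∀ i < 2048, (chkO (img3 (nat_lit 253) fun s => hi (nat_lit 121) (Ag s)) (row3 (nat_lit 253)) ZA ZARa (nat_lit 2048) [nat_lit 0]) i = 0 :=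
  allB (rngB_step (rngB_step (rngB_step (allB0 _ _) ZARO_0) ZARO_1) ZARO_2) (by decide)
theorem ZAR : Reach AA (fun i => pvQ (pt (row3 (nat_lit 253)) ZA i)) 2048 [nat_lit 0] :=
  reach_of_chk ((acts3 (m := mQ) ψQ hQ Ag).ex A_el) ZARO
theorem XS_eq : XS = mX.gn XSg 18 :=
  (pr_snd mA mX 121 hbx).map_gn SY_top
theorem XS_eg : mX.El XS XSg :=
  (pr_snd mA mX 121 hbx).el SY_eg
theorem xS : ∀ i < 128, (chkS2 (mul2 (nat_lit 11)) XSg (nat_lit 18) xT (fun _ => (one2 (nat_lit 11))) xc (nat_lit 7) (nat_lit 128)) i = 0 :=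
  (rng_step (all0 _) xS_0)
theorem xub : Nat.card (mX.gn XSg 18) ≤ 128 :=
  (ub_of_chkS2 (m := mX) (el_one (m := mX) ⊥) (by decide) xT0 xS card_bot_le).trans (by norm_num)
theorem covX : Cov mX (mX.gn XSg 18) eX (2 ^ (7 + 0)) :=
  cov_cel1 (el_one ⊥) (by decide) (by decide) xT0 rfl xS cov_bot
theorem ZXY : ∀ i < 128, (chkY can0 (brow (nat_lit 11)) ZX (nat_lit 128)) i = 0 :=
  allB (rngB_step (allB0 _ _) ZXY_0) (by decide)
theorem ZXD : Dist (fun i => pvX (pt (brow (nat_lit 11)) ZX i)) 128 :=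
  dist_of_chk (canT2 φX) ZXY
theorem ZXRO : ∀ i < 128, (chkO (img2 (nat_lit 11) XSg) (brow (nat_lit 11)) ZX ZXRa (nat_lit 128) [nat_lit 0]) i = 0 :=
  allB (rngB_step (allB0 _ _) ZXRO_0) (by decide)
theorem ZXR : Reach XS (fun i => pvX (pt (brow (nat_lit 11)) ZX i)) 128 [nat_lit 0] :=
  reach_of_chk ((acts2 (m := mX) φX hX XSg).ex XS_eg) ZXRO
theorem CZ : ∀ i < 128, (chkZ (mul2 (nat_lit 11)) XSg eX tz (nat_lit 18)) i = 0 :=
  (rng_step (all0 _) CZ_0)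
theorem CD : ∀ i < 16, (chkD (pmul (mul3 (nat_lit 253)) (mul2 (nat_lit 11)) (nat_lit 121)) (join (nat_lit 121) (one2 (nat_lit 11)) (one2 (nat_lit 253))) kQ Ag Yc [[nat_lit 1, nat_lit 8],
  [nat_lit 0, nat_lit 1],
  [nat_lit 10],
  [nat_lit 0, nat_lit 1, nat_lit 8],
  [nat_lit 0, nat_lit 10],
  [nat_lit 0, nat_lit 8],
  [nat_lit 1],
  [nat_lit 0, nat_lit 2],
  [nat_lit 0],
  [nat_lit 3],
  [nat_lit 2],
  [nat_lit 8],
  [nat_lit 4],
  [],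
  [nat_lit 0, nat_lit 3],
  [nat_lit 0, nat_lit 4]] (SYg 11) (nat_lit 16)) i = 0 :=
  (rng_step (rng_step (rng_step (all0 _) CD_0) CD_1) CD_2)
theorem WC : ∀ i < 1, (chkW (pmul (mul3 (nat_lit 253)) (mul2 (nat_lit 11)) (nat_lit 121)) (join (nat_lit 121) (one2 (nat_lit 11)) (one2 (nat_lit 253))) Ag [[nat_lit 3, nat_lit 6]] Wc) i = 0 :=
  (rng_step (all0 _) WC_0)

noncomputable abbrev sn : GA × GX →* GX := MonoidHom.snd GA GX
noncomputable abbrev fs : GA × GX →* GA := MonoidHom.fst GA GX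

theorem kerT : SY ⊓ sn.ker = AA ∧ Nat.card SY = 2048 * 128 ∧ Nat.card AA = 2048 :=
  ker_le_of_card sn (gn_le fun s hs => by
      obtain ⟨g, hg, e⟩ := SY_in s (by omega)
      exact ⟨g, ⟨hg, mX.inj ((pr_snd mA mX 121 hbx g _ e).trans
        (by rw [xor_eq_zero' (AK s hs), map_one]; exact mX.ev_one))⟩, e⟩)
    (by decide) (card_le_of_chkP2 SY_top PC 18 le_rfl) (card_ge ZAD ZAR (one_le_card _))
    (card_ge ZXD ZXR (one_le_card _))

theorem cardX : Nat.card XS = 128 :=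
  le_antisymm (XS_eq ▸ xub) (card_ge ZXD ZXR (one_le_card _))

theorem n12 : (∀ N, Nm XS N → N ≤ XS → N ≠ ⊥ → sn (mQ.elt (SYg 11)) ∈ N) ∧
    ∀ N, Nm XS N → N ≤ XS → 2 < Nat.card N → sn (mQ.elt (SYg 12)) ∈ N :=
  XS_eq ▸ n12_of_chkZ (fun s _ => (XS_eg s).top) CZ Z3 Z0x covX
    (Z1x ▸ pr_snd mA mX 121 hbx _ _ (SY_eg 11).elt) (Z2x ▸ pr_snd mA mX 121 hbx _ _ (SY_eg 12).elt)

theorem n3 : ∀ N, Nm XS N → N ≤ XS → Ab N → Nat.card N ≤ 16 := fun _ h1 h2 h3 =>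
  card_le_sixteen h1 h2 cardX h3 (XS_eg 14).elt_mem (XS_eg 16).elt_mem (XS_eg 16).elt_mem
    (XS_eg 17).elt_mem (not_comm_of_chkN' keyX (rep_comm (XS_eg 14).elt (XS_eg 16).elt c1x)
      (rep_comm (XS_eg 16).elt (XS_eg 17).elt c2x) c12)

theorem wA : mQ.In AA (Wc 0) := in_of_chkW A_el WC 0 (by decide)

theorem cz : Nat.card (AA ⊓ centralizer {mQ.elt (SYg 11)} : Subgroup (GA × GX)) ≤ 128 := by
  have := card_cent_of_chkD keyQ A_el (SY_eg 11).elt CD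
  rw [kerT.2.2] at this
  omega

theorem injT : SY ⊓ fs.ker ≤ ⊥ :=
  fst_ker_bot kerT.1 (ea_of_chkA PA).1 (SY_eg 11).elt_mem (A_el 0).elt_mem
    (not_comm_of_chkN keyQ (A_el 0).top (SY_eg 11).top Wz2) n12.1

theorem sylow (T : Sylow 2 Cfsg.Spor.Fi23) :
    (∀ A : Subgroup Cfsg.Spor.Fi23, A ≤ T → (A.subgroupOf T).Normal → IsElementaryAbelian 2 A →
      Nat.card A ≤ 2 ^ 11) ∧
    ∃! A : Subgroup Cfsg.Spor.Fi23, A ≤ T ∧ (A.subgroupOf T).Normal ∧ IsElementaryAbelian 2 A ∧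
      Nat.card A = 2 ^ 11 := by
  obtain ⟨π, hπ⟩ := Y23.exists_hom relL
  have hR := rG_le hπ
  have e0 := mapEquiv fs injT
  obtain ⟨e⟩ := sylow_equiv π Y23.bd_top (cardG.ge.trans (card_le_of_le hR))
    ((((pr_fst mA mX 121 hbx).map_gn SY_top).le.trans (gn_le TI)).trans hR) (k := 18)
    ((Nat.card_congr e0.toEquiv).symm.trans kerT.2.1) (by norm_num) T
  exact ea_transfer (e.trans e0.symm) (kerT.1.ge.trans inf_le_left)
    (fun g hg x hx => kerT.1.le ⟨SY.mul_mem (SY.mul_mem hg (kerT.1.ge hx).1) (SY.inv_mem hg),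
      sn.normal_ker.conj_mem x (kerT.1.ge hx).2 g⟩)
    (ea_of_chkA PA).1 (ea_of_chkA PA).2 kerT.2.2
    (ab_bound sn kerT.1.le (ea_of_chkA PA).1 (SY_eg 11).elt_mem (SY_eg 12).elt_mem cz
      ⟨wA.elt_mem, mem_centralizer_singleton_iff.2 (comm_of_chkJ Wz wA.elt (SY_eg 11).elt)⟩
      (not_comm_of_chkN keyQ wA.top (SY_eg 12).top Wy) n12.1 n12.2 n3)

end Cfsg.Agent.H4.F23
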