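import Cfsg.Agent.H4.DCW
import Cfsg.Prelude.Def_SporadicB

/-! Maximality from orbits, subdirect products, double covers, classes of 3-transpositions. -/

set_option autoImplicit false

namespace Cfsg.Agent.H4

open Subgroup Cfsg.Agent.H5 Cfsg.Agent.H5.Mdl

section act

variable {G : Type*} [Group G] {X : Type*} [MulAction G X]

theorem max_of_reach {H K : Subgroup G} {Y : ℕ → X} {n r : ℕ} {roots : List ℕ}
    (ho : MulAction.orbit H (Y r) ⊆ Y '' {i | i < n})
    (hK : H ⊓ MulAction.stabilizer G (Y r) ≤ K) (h1 : Reach K Y n roots)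
    (h2 : ∀ s ∈ roots, s = r ∨ ∃ t ∈ H, t • Y r = Y s ∧ Reach (K ⊔ zpowers t) Y n [r]) :
    ∀ M : Subgroup G, K ≤ M → M ≤ H → M = K ∨ M = H := by
  intro M hKM hMH
  by_cases hle : M ≤ K
  · exact Or.inl (le_antisymm hle hKM)
  right
  obtain ⟨g, hg, hgK⟩ := SetLike.not_le_iff_exists.1 hle
  obtain ⟨i, hi, ei⟩ := ho ⟨⟨g, hMH hg⟩, rfl⟩
  obtain ⟨s, hs, k, hk, ek⟩ := h1 i hi
  have e1 : (k * g) • Y r = Y s := by rw [mul_smul, ← ek]; exact congrArg _ ei.symm
  have hkg : k * g ∈ H := H.mul_mem (hMH (hKM hk)) (hMH hg)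
  rcases h2 s hs with rfl | ⟨t, ht, et, hR⟩
  · exact absurd ((K.mul_mem_cancel_left hk).1 (hK ⟨hkg, e1⟩)) hgK
  have h3 : t⁻¹ * (k * g) ∈ K := hK ⟨H.mul_mem (H.inv_mem ht) hkg, by
    change (t⁻¹ * (k * g)) • Y r = Y r
    rw [mul_smul, e1, ← et, inv_smul_smul]⟩
  have h4 : t ∈ M := by
    have := M.mul_mem (M.mul_mem (hKM hk) hg) (M.inv_mem (hKM h3))
    rwa [show k * g * (t⁻¹ * (k * g))⁻¹ = t by group] at this
  refine le_antisymm hMH fun h hh => ?_
  obtain ⟨j, hj, ej⟩ := ho ⟨⟨h, hh⟩, rfl⟩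
  obtain ⟨r', hr', a, ha, ea⟩ := hR j hj
  rw [List.mem_singleton.1 hr'] at ea
  have h5 : a ∈ M := sup_zpowers_le hKM h4 ha
  refine (M.mul_mem_cancel_left h5).1 (hKM (hK ⟨H.mul_mem (hMH h5) hh, ?_⟩))
  change (a * h) • Y r = Y r
  rw [mul_smul, show h • Y r = Y j from ej.symm, ea]

theorem le_stab_of_fix {N K : Subgroup G} {Y : ℕ → X} {n j : ℕ} {x : X}
    (h : ∀ g ∈ N, ∀ j < n, g • Y j = Y j) (hK : N ≤ K) (hj : j < n) (e : x = Y j) :
    N ≤ K ⊓ MulAction.stabilizer G x := le_inf hK fun g hg => e ▸ h g hg j hj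

theorem eq_zpowers_of_card [Finite G] {K : Subgroup G} {d : G} (hd : d ∈ K) (h1 : d ≠ 1)
    (h : Nat.card K ≤ 2) : K ≤ zpowers d :=
  (eq_of_le_of_card_ge (zpowers_le.2 hd) (h.trans (two_le_card (mem_zpowers d) h1))).ge

end act

section mdl

variable {G M : Type*} [Group G] [Monoid M] {m : Mdl G M}

theorem rep_conj {a x y : ℕ} (h : chkJ m.mul a x y = 0) {g u : G} (eg : m.φ g = m.ev a)
    (eu : m.φ u = m.ev x) : m.φ (g * u * g⁻¹) = m.ev y := by
  have h1 : m.ev a * m.ev x = m.ev y * m.ev a := by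
    rw [← m.ev_mul, ← m.ev_mul, xor_eq_zero' h]
  rw [map_mul, map_mul, eg, eu, h1, ← eg, mul_assoc, ← map_mul, mul_inv_cancel, map_one, mul_one]

/-- `D i * z * (D i)⁻¹ = x i` and `(z * x i) ^ (k i) = 1` -/
noncomputable def chkT (mul : ℕ → ℕ → ℕ) (one : ℕ) (D x : ℕ → ℕ) (z : ℕ) (k : List ℕ) (i : ℕ) : ℕ :=
  Nat.add (chkJ mul (D i) z (x i)) (Nat.xor (pw mul one (mul z (x i)) (getN k i)) one)

theorem pow_of_chkT {D x : ℕ → ℕ} {z i : ℕ} {k : List ℕ} (h : chkT m.mul m.one D x z k i = 0)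
    (hD : m.In ⊤ (D i)) (hz : m.In ⊤ z) :
    (m.elt z * (m.elt (D i) * m.elt z * (m.elt (D i))⁻¹)) ^ getN k i = 1 :=
  pow_eq_one_of_powC (rep_mul hz.elt (rep_conj (add_eq_zero' h).1 hD.elt hz.elt))
    (xor_eq_zero' (add_eq_zero' h).2)

theorem elt_pow_eq_one {a n : ℕ} (ha : m.In ⊤ a) (h : pw m.mul m.one a n = m.one) :
    m.elt a ^ n = 1 := pow_eq_one_of_powC ha.elt h

theorem not_comm_of_chkN {key : ℕ → ℕ} (hk : Key m key) {a b : ℕ} (ha : m.In ⊤ a) (hb : m.In ⊤ b)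
    (h : chkN key (m.mul a b) (m.mul b a) = 0) : m.elt a * m.elt b ≠ m.elt b * m.elt a :=
  hk.ne h (rep_mul ha.elt hb.elt) (rep_mul hb.elt ha.elt)

end mdl

section pair

variable {G1 G2 : Type*} [Group G1] [Group G2]

theorem card_pair_fst (P : Subgroup (G1 × G2)) :
    Nat.card P = Nat.card (P.map (MonoidHom.fst G1 G2)) * Nat.card (P.comap (MonoidHom.inr G1 G2)) := by
  let f := (MonoidHom.fst G1 G2).subgroupMap P
  rw [← f.ker.index_mul_card, index_ker, MonoidHom.range_eq_top.2 (MonoidHom.subgroupMap_surjective _ _),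
    card_top]
  congr 1
  refine Nat.card_congr ⟨fun x => ⟨x.1.1.2, ?_⟩, fun y => ⟨⟨(1, y.1), y.2⟩, Subtype.ext rfl⟩,
    fun x => ?_, fun y => rfl⟩
  · have h : x.1.1.1 = 1 := congrArg Subtype.val x.2
    change (1, x.1.1.2) ∈ P
    rw [← h]; exact x.1.2
  · have h : x.1.1.1 = 1 := congrArg Subtype.val x.2
    exact Subtype.ext (Subtype.ext (Prod.ext h.symm rfl))

theorem card_pair_snd (P : Subgroup (G1 × G2)) :
    Nat.card P = Nat.card (P.map (MonoidHom.snd G1 G2)) * Nat.card (P.comap (MonoidHom.inl G1 G2)) := by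
  let f := (MonoidHom.snd G1 G2).subgroupMap P
  rw [← f.ker.index_mul_card, index_ker, MonoidHom.range_eq_top.2 (MonoidHom.subgroupMap_surjective _ _),
    card_top]
  congr 1
  refine Nat.card_congr ⟨fun x => ⟨x.1.1.1, ?_⟩, fun y => ⟨⟨(y.1, 1), y.2⟩, Subtype.ext rfl⟩,
    fun x => ?_, fun y => rfl⟩
  · have h : x.1.1.2 = 1 := congrArg Subtype.val x.2
    change (x.1.1.1, 1) ∈ P
    rw [← h]; exact x.1.2
  · have h : x.1.1.2 = 1 := congrArg Subtype.val x.2
    exact Subtype.ext (Subtype.ext (Prod.ext rfl h.symm))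

theorem card_fst_le [Finite G1] [Finite G2] {P : Subgroup (G1 × G2)} {Z : Subgroup G2}
    (hZ : Z ≤ P.comap (MonoidHom.inr G1 G2)) {b n : ℕ} (hb : b ≤ Nat.card Z) (h0 : 0 < b)
    (h : Nat.card P ≤ n * b) : Nat.card (P.map (MonoidHom.fst G1 G2)) ≤ n := by
  rw [card_pair_fst] at h
  exact Nat.le_of_mul_le_mul_right
    ((Nat.mul_le_mul_left _ (hb.trans (card_le_of_le hZ))).trans h) h0

theorem card_snd_le [Finite G1] [Finite G2] {P : Subgroup (G1 × G2)} {Z : Subgroup G1}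
    (hZ : Z ≤ P.comap (MonoidHom.inl G1 G2)) {b n : ℕ} (hb : b ≤ Nat.card Z) (h0 : 0 < b)
    (h : Nat.card P ≤ n * b) : Nat.card (P.map (MonoidHom.snd G1 G2)) ≤ n := by
  rw [card_pair_snd] at h
  exact Nat.le_of_mul_le_mul_right
    ((Nat.mul_le_mul_left _ (hb.trans (card_le_of_le hZ))).trans h) h0

theorem comap_inr_eq [Finite G1] [Finite G2] {P : Subgroup (G1 × G2)} {Z : Subgroup G2}
    (hZ : Z ≤ P.comap (MonoidHom.inr G1 G2))
    (h : Nat.card P ≤ Nat.card (P.map (MonoidHom.fst G1 G2)) * Nat.card Z) :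
    Z = P.comap (MonoidHom.inr G1 G2) := by
  rw [card_pair_fst] at h
  exact eq_of_le_of_card_ge hZ (Nat.le_of_mul_le_mul_left h Nat.card_pos)

theorem comap_inl_eq [Finite G1] [Finite G2] {P : Subgroup (G1 × G2)} {Z : Subgroup G1}
    (hZ : Z ≤ P.comap (MonoidHom.inl G1 G2))
    (h : Nat.card P ≤ Nat.card (P.map (MonoidHom.snd G1 G2)) * Nat.card Z) :
    Z = P.comap (MonoidHom.inl G1 G2) := by
  rw [card_pair_snd] at h
  exact eq_of_le_of_card_ge hZ (Nat.le_of_mul_le_mul_left h Nat.card_pos)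

theorem quot_equiv_of_pair {P : Subgroup (G1 × G2)} {H : Subgroup G1}
    (hH : P.map (MonoidHom.fst G1 G2) = H) (hs : P.map (MonoidHom.snd G1 G2) = ⊤)
    (Z1 : Subgroup H) (Z2 : Subgroup G2) [Z1.Normal] [Z2.Normal]
    (h1 : Z1 = (P.comap (MonoidHom.inl G1 G2)).subgroupOf H)
    (h2 : Z2 = P.comap (MonoidHom.inr G1 G2)) : Nonempty (H ⧸ Z1 ≃* G2 ⧸ Z2) := by
  subst hH
  let f1 := (QuotientGroup.mk' Z1).comp ((MonoidHom.fst G1 G2).subgroupMap P)
  let f2 := (QuotientGroup.mk' Z2).comp ((MonoidHom.snd G1 G2).comp P.subtype)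
  have s1 : Function.Surjective f1 :=
    (QuotientGroup.mk'_surjective Z1).comp (MonoidHom.subgroupMap_surjective _ _)
  have s2 : Function.Surjective f2 := (QuotientGroup.mk'_surjective Z2).comp fun y => by
    obtain ⟨x, hx, e⟩ : y ∈ P.map (MonoidHom.snd G1 G2) := hs ▸ mem_top y
    exact ⟨⟨x, hx⟩, e⟩
  have hk : f1.ker = f2.ker := by
    ext ⟨⟨a, b⟩, hx⟩
    simp only [f1, f2, MonoidHom.mem_ker, MonoidHom.comp_apply, QuotientGroup.mk'_apply,
      QuotientGroup.eq_one_iff]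
    rw [h1, h2]
    change (a, 1) ∈ P ↔ (1, b) ∈ P
    constructor
    · intro h; simpa using P.mul_mem (P.inv_mem h) hx
    · intro h; simpa using P.mul_mem hx (P.inv_mem h)
  exact ⟨((QuotientGroup.quotientKerEquivOfSurjective f1 s1).symm.trans
    (QuotientGroup.quotientMulEquivOfEq hk)).trans (QuotientGroup.quotientKerEquivOfSurjective f2 s2)⟩

end pair

section cover

variable {C : Type*} [Group C]

theorem center_eq_of_simple {Z : Subgroup C} [Z.Normal] (hZ : Z ≤ center C)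
    (hs : IsSimpleGroup (C ⧸ Z)) (hnc : center (C ⧸ Z) ≠ ⊤) : center C = Z := by
  refine le_antisymm (fun x hx => ?_) hZ
  have h1 : center (C ⧸ Z) = ⊥ := (hs.eq_bot_or_eq_top_of_normal _ inferInstance).resolve_right hnc
  have h2 : (x : C ⧸ Z) ∈ center (C ⧸ Z) := mem_center_iff.2 fun y => by
    obtain ⟨y, rfl⟩ := QuotientGroup.mk_surjective y
    rw [← QuotientGroup.mk_mul, ← QuotientGroup.mk_mul, mem_center_iff.1 hx y]
  rw [h1, mem_bot, QuotientGroup.eq_one_iff] at h2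
  exact h2

theorem center_ne_top_of_simple [Finite C] (hs : IsSimpleGroup C) (h : ¬ (Nat.card C).Prime) :
    center C ≠ ⊤ := fun hc => by
  let _ : CommGroup C := { (inferInstance : Group C) with
    mul_comm := fun a b => mem_center_iff.1 (hc ▸ mem_top b : b ∈ center C) a }
  exact h IsSimpleGroup.prime_card

theorem center_ne_top_of_equiv {A B : Type*} [Group A] [Group B] (e : A ≃* B)
    (h : center A ≠ ⊤) : center B ≠ ⊤ := fun hc => h (eq_top_iff.2 fun a _ =>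
  mem_center_iff.2 fun b => e.injective (by
    rw [map_mul, map_mul]; exact mem_center_iff.1 (hc ▸ mem_top _ : e a ∈ center B) _))

theorem dcover_of_dich [Finite C] {Z : Subgroup C} (hZ : Z ≤ center C) (h2 : Nat.card Z = 2)
    (hd : ∀ N : Subgroup C, N.Normal → N ≤ Z ∨ N = ⊤) (hnc : ∃ a b : C, a * b ≠ b * a) :
    center C = Z ∧ IsSimpleGroup (C ⧸ center C) ∧
      IsNonsplitDoubleCover C (C ⧸ center C) := by
  obtain ⟨h1, h3⟩ := simple_of_dichotomy Z hZ
    (fun N hN => (hd N hN).imp_right fun h => by rw [h, top_sup_eq]) hnc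
  refine ⟨h1, h3, by rw [h1, h2], ⟨MulEquiv.refl _⟩, fun L hL => ?_⟩
  have hn : L.Normal := ⟨fun x hx g => by
    obtain ⟨⟨z, l⟩, rfl⟩ := hL.2 g
    have hz := mem_center_iff.1 z.2
    have : (z : C) * l * x * ((z : C) * l)⁻¹ = l * x * (l : C)⁻¹ := by
      rw [mul_inv_rev, mul_assoc (z : C), mul_assoc (z : C), ← hz, mul_assoc _ _ (z : C),
        mul_assoc _ _ (z : C), inv_mul_cancel, mul_one]
    change (z : C) * l * x * ((z : C) * l)⁻¹ ∈ L
    rw [this]; exact L.mul_mem (L.mul_mem l.2 hx) (L.inv_mem l.2)⟩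
  obtain ⟨a, b, hab⟩ := hnc
  rcases hd L hn with h | h
  · have h4 := hL.sup_eq_top
    rw [sup_eq_left.2 (h.trans hZ)] at h4
    exact hab (mem_center_iff.1 (h4 ▸ mem_top b : b ∈ center C) a)
  · have h4 := hL.disjoint
    rw [h, disjoint_top, h1] at h4
    rw [h4, card_bot] at h2; omega

theorem nonsplit_congr {A B K K' : Type*} [Group A] [Group B] [Group K] [Group K'] [Finite A]
    (e : A ≃* B) (e' : K ≃* K') (h : IsNonsplitDoubleCover A K) : IsNonsplitDoubleCover B K' := by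
  obtain ⟨h1, ⟨f⟩, h3⟩ := h
  have : Finite B := Finite.of_equiv _ e.toEquiv
  have hc : (center B).map e.symm.toMonoidHom = center A := by
    ext x
    constructor
    · rintro ⟨y, hy, rfl⟩; exact (centerCongr e.symm ⟨y, hy⟩).2
    · intro hx; exact ⟨e x, (centerCongr e ⟨x, hx⟩).2, e.symm_apply_apply x⟩
  refine ⟨(Nat.card_congr (centerCongr e).toEquiv).symm.trans h1,
    ⟨((QuotientGroup.congr _ _ e.symm hc).trans f).trans e'⟩, fun L hL => h3 (L.map e.symm.toMonoidHom) ?_⟩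
  rw [isComplement'_iff_card_mul_and_disjoint] at hL ⊢
  rw [← hc]
  refine ⟨?_, disjoint_map e.symm.injective hL.2⟩
  rw [card_map_of_injective e.symm.injective, card_map_of_injective e.symm.injective, hL.1,
    Nat.card_congr e.toEquiv]

end cover

section transp

variable {G : Type*} [Group G]

theorem centralizer_conj_equiv (g d : G) :
    Nonempty (centralizer {d} ≃* centralizer {g * d * g⁻¹}) := by
  have : (centralizer {d}).map (MulAut.conj g).toMonoidHom = centralizer {g * d * g⁻¹} := by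
    ext x
    simp only [mem_map, mem_centralizer_singleton_iff]
    constructor
    · rintro ⟨y, hy, rfl⟩
      change g * y * g⁻¹ * (g * d * g⁻¹) = g * d * g⁻¹ * (g * y * g⁻¹)
      calc _ = g * (y * d) * g⁻¹ := by group
        _ = _ := by rw [hy]; group
    · intro h
      refine ⟨g⁻¹ * x * g, ?_, by simp [mul_assoc]⟩
      calc _ = g⁻¹ * (x * (g * d * g⁻¹)) * g := by group
        _ = _ := by rw [h]; group
  exact ⟨this ▸ (centralizer {d}).equivMapOfInjective _ (MulAut.conj g).injective⟩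

theorem card_conjugatesOf (d : G) : Nat.card (conjugatesOf d) = (centralizer {d}).index := by
  have h2 : conjugatesOf d = MulAction.orbit (ConjAct G) d := by
    ext x
    rw [ConjAct.mem_orbit_conjAct]
    exact isConj_comm
  rw [h2, Nat.card_coe_set_eq, ← MulAction.index_stabilizer, ConjAct.stabilizer_eq_centralizer]
  rfl

theorem cent_eq_of_max {G' H : Subgroup G} (hH : H ≤ G') {d t : G} (hc : H ≤ centralizer {d})
    (hmax : ∀ M : Subgroup G, H ≤ M → M ≤ G' → M = H ∨ M = G') (ht : t ∈ G') (hne : t * d ≠ d * t) :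
    G' ⊓ centralizer {d} = H :=
  (hmax _ (le_inf hH hc) inf_le_left).resolve_right fun h =>
    hne (mem_centralizer_singleton_iff.1 (h.ge ht).2)

theorem centralizer_sub {G' H : Subgroup G} {d : G} (hd : d ∈ G') (h : G' ⊓ centralizer {d} = H) :
    centralizer {(⟨d, hd⟩ : G')} = H.subgroupOf G' := by
  ext x
  rw [mem_subgroupOf, ← h, mem_centralizer_singleton_iff, Subtype.ext_iff]
  exact ⟨fun e => ⟨x.2, mem_centralizer_singleton_iff.2 e⟩,
    fun e => mem_centralizer_singleton_iff.1 e.2⟩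

theorem three_transp [Finite G] {G' H : Subgroup G} (hH : H ≤ G') (hs : IsSimpleGroup G') {d : G}
    (hd : d ∈ H) (h1 : d ≠ 1) (h2 : d ^ 2 = 1) (hc : G' ⊓ centralizer {d} = H) {D : ℕ → G} {r : ℕ}
    (hcov : ∀ g ∈ G', ∃ i < r, DCos H (D i) g)
    (hT : ∀ i < r, (d * (D i * d * (D i)⁻¹)) ^ 2 = 1 ∨ (d * (D i * d * (D i)⁻¹)) ^ 3 = 1) {n : ℕ}
    (hn : Nat.card G' = n * Nat.card H) :
    ∃ S : Set G', IsThreeTranspositionClass S ∧ Nat.card S = n ∧
      ∀ e ∈ S, Nonempty (H ≃* centralizer {e}) := by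
  have hcs := centralizer_sub (hH hd) hc
  have hcm : ∀ h ∈ H, h * d * h⁻¹ = d := fun h hh => by
    rw [mul_inv_eq_iff_eq_mul]; exact mem_centralizer_singleton_iff.1 (hc.ge hh).2
  set d' : G' := ⟨d, hH hd⟩
  have ho : orderOf d' = 2 := orderOf_eq_prime (Subtype.ext h2) fun h => h1 (congrArg Subtype.val h)
  have key : ∀ g ∈ G', ∀ k : ℕ → ℕ, (∀ i < r, (d * (D i * d * (D i)⁻¹)) ^ k i = 1) →
      ∃ i < r, (d * (g * d * g⁻¹)) ^ k i = 1 := by
    intro g hg k hk
    obtain ⟨i, hi, a, ha, b, hb, rfl⟩ := hcov g hg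
    refine ⟨i, hi, ?_⟩
    have : d * (a * D i * b * d * (a * D i * b)⁻¹) = a * (d * (D i * d * (D i)⁻¹)) * a⁻¹ := by
      calc _ = (a * d * a⁻¹) * (a * D i * (b * d * b⁻¹) * (D i)⁻¹ * a⁻¹) := by rw [hcm a ha]; group
        _ = _ := by rw [hcm b hb]; group
    rw [this, conj_pow, hk i hi, mul_one, mul_inv_cancel]
  refine ⟨conjugatesOf d', ⟨⟨fun e he => ?_, fun e he f hf => ?_⟩, ⟨d', IsConj.refl _, rfl⟩, ?_⟩, ?_,
    fun e he => ?_⟩
  · obtain ⟨c, rfl⟩ := isConj_iff.1 he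
    rw [← ho]; exact (MulAut.conj c).orderOf_eq d'
  · obtain ⟨a, rfl⟩ := isConj_iff.1 he
    obtain ⟨b, rfl⟩ := isConj_iff.1 hf
    choose! k hk using fun i (hi : i < r) => (show ∃ k, (k = 2 ∨ k = 3) ∧
      (d * (D i * d * (D i)⁻¹)) ^ k = 1 from
        (hT i hi).elim (fun h => ⟨2, Or.inl rfl, h⟩) fun h => ⟨3, Or.inr rfl, h⟩)
    obtain ⟨i, hi, e⟩ := key _ (a⁻¹ * b).2 k fun i hi => (hk i hi).2
    have e1 : (d' * (a⁻¹ * b * d' * (a⁻¹ * b)⁻¹)) ^ k i = 1 := Subtype.ext e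
    have e2 : (a * d' * a⁻¹ * (b * d' * b⁻¹)) ^ k i = 1 := by
      rw [show a * d' * a⁻¹ * (b * d' * b⁻¹) = a * (d' * (a⁻¹ * b * d' * (a⁻¹ * b)⁻¹)) * a⁻¹ by group,
        conj_pow, e1, mul_one, mul_inv_cancel]
    rcases (hk i hi).1 with h | h <;> rw [h] at e2
    exacts [Or.inl e2, Or.inr e2]
  · have h3 : closure (conjugatesOf d') = normalClosure {d'} := by
      rw [normalClosure, Group.conjugatesOfSet]; simp
    rw [h3]
    refine (hs.eq_bot_or_eq_top_of_normal _ inferInstance).resolve_left fun h => ?_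
    have : d' ∈ normalClosure {d'} := subset_normalClosure rfl
    rw [h, mem_bot] at this
    exact h1 (congrArg Subtype.val this)
  · rw [card_conjugatesOf, hcs, index_subgroupOf hH hn]
  · obtain ⟨c, rfl⟩ := isConj_iff.1 he
    obtain ⟨f⟩ := centralizer_conj_equiv c d'
    exact ⟨((subgroupOfEquivOfLe hH).symm.trans (MulEquiv.subgroupCongr hcs.symm)).trans f⟩

end transp

end Cfsg.Agent.H4
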