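import Cfsg.Agent.H4.Fis

/-! More glue for the Fischer groups. -/

set_option autoImplicit false

namespace Cfsg.Agent.H4

open Subgroup Cfsg.Agent.H5 Cfsg.Agent.H5.Mdl

theorem key4 {F : Type*} [Field F] [CharP F 2] {ω : F} {ι : Type*} [Fintype ι] [DecidableEq ι] {d : ℕ}
    (e : ι ≃ Fin d) (hd : d ≠ 0) (hω : ω ^ 2 + ω + 1 = 0) {G : Type*} [Group G]
    (φ : G →* Matrix ι ι F) (inj : Function.Injective φ) :
    Key (md4 e hω φ inj) fun a => mulF d a (oneF d) := by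
  intro a b h
  have h1 : ev4 ω e (mulF d a (oneF d)) = ev4 ω e (mulF d b (oneF d)) := by
    rw [ev4_mul e hω, ev4_mul e hω]; exact congrArg (· * _) h
  refine eq_of_e4 (d := d) (r := d) (mulF_lt hd _ _) (mulF_lt hd _ _) fun i hi j hj => ?_
  have := congrFun (congrFun h1 (e.symm ⟨j, hj⟩)) (e.symm ⟨i, hi⟩)
  simp only [ev4, Equiv.apply_symm_apply, ent4_eq_el4] at this
  exact el4_inj hω (e4_lt _ _ _ _) (e4_lt _ _ _ _) this

section pair

variable {G1 M1 G2 M2 : Type*} [Group G1] [Monoid M1] [Group G2] [Monoid M2]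
  {m1 : Mdl G1 M1} {m2 : Mdl G2 M2} {k : ℕ} {h : (∀ a b, m2.mul a b < 2 ^ k) ∧ m2.one < 2 ^ k}

theorem mem_comap_inr {P : Subgroup (G1 × G2)} {a w : ℕ} (ha : (pair m1 m2 k h).In P a)
    (h1 : hi k a = m1.one) (h2 : lo k a = w) :
    m2.In (P.comap (MonoidHom.inr G1 G2)) w := by
  obtain ⟨⟨x, y⟩, hg, e⟩ := ha
  have e1 : m1.φ x = m1.ev (hi k a) := congrArg Prod.fst e
  have e2 : m2.φ y = m2.ev (lo k a) := congrArg Prod.snd e
  rw [h1, m1.ev_one, ← map_one m1.φ] at e1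
  obtain rfl := m1.inj e1
  exact ⟨y, hg, h2 ▸ e2⟩

theorem mem_comap_inl {P : Subgroup (G1 × G2)} {a z : ℕ} (ha : (pair m1 m2 k h).In P a)
    (h1 : hi k a = z) (h2 : lo k a = m2.one) :
    m1.In (P.comap (MonoidHom.inl G1 G2)) z := by
  obtain ⟨⟨x, y⟩, hg, e⟩ := ha
  have e1 : m1.φ x = m1.ev (hi k a) := congrArg Prod.fst e
  have e2 : m2.φ y = m2.ev (lo k a) := congrArg Prod.snd e
  rw [h2, m2.ev_one, ← map_one m2.φ] at e2
  obtain rfl := m2.inj e2
  exact ⟨x, hg, h1 ▸ e1⟩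

end pair

section mdl

variable {G M : Type*} [Group G] [Monoid M] {m : Mdl G M} {X : Type*} [MulAction G X]

theorem root_rel {pv : ℕ → X} {img : ℕ → ℕ → ℕ → ℕ → ℕ}
    {row : ℕ → ℕ → ℕ} {ch g1 : ℕ → ℕ} {a n r j c : ℕ} {A : Tr} {H K : Subgroup G}
    (acts : m.Acts pv img row (cons1 a g1)) (ha : m.In H a) (hg : m.El K g1)
    (hM : chkM img row ch r ch [j] [c] 0 = 0) (hO : ∀ i < n, chkO img row ch A n [r] i = 0) :
    j = r ∨ ∃ t ∈ H, t • (fun i => pv (pt row ch i)) r = (fun i => pv (pt row ch i)) j ∧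
      Reach (K ⊔ zpowers t) (fun i => pv (pt row ch i)) n [r] :=
  Or.inr ⟨_, ha.elt_mem, smul_of_chkM acts (s := 0) ha.elt hM, reach_of_chk (acts.ex
    (El.cons1 ⟨_, mem_sup_right (mem_zpowers _), ha.elt⟩ (hg.mono le_sup_left))) hO⟩

theorem pow_of_chkT' {D x : ℕ → ℕ} {z i : ℕ} {k : List ℕ} (h : chkT m.mul m.one D x z k i = 0)
    (hD : m.In ⊤ (D i)) (hz : m.In ⊤ z) {n : ℕ} (e : getN k i = n) :
    (m.elt z * (m.elt (D i) * m.elt z * (m.elt (D i))⁻¹)) ^ n = 1 := e ▸ pow_of_chkT h hD hz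

theorem le_card_zpowers [Finite G] {key : ℕ → ℕ} (hk : Key m key) {a p : ℕ} (ha : m.In ⊤ a)
    (hp : p.Prime) (h : chkQ m.mul m.one key a p = 0) : p ≤ Nat.card (zpowers (m.elt a)) :=
  Nat.le_of_dvd Nat.card_pos (dvd_of_chkQ hk ⟨_, mem_zpowers _, ha.elt⟩ hp h)

theorem ne_one_of_chkQ {key : ℕ → ℕ} (hk : Key m key) {a p : ℕ} (ha : m.In ⊤ a)
    (h : chkQ m.mul m.one key a p = 0) : m.elt a ≠ 1 := hk.ne_one (add_eq_zero' h).2 ha.elt

theorem pow_of_chkQ {key : ℕ → ℕ} {a p : ℕ} (ha : m.In ⊤ a)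
    (h : chkQ m.mul m.one key a p = 0) : m.elt a ^ p = 1 :=
  pow_eq_one_of_powC ha.elt (xor_eq_zero' (add_eq_zero' h).1)

end mdl

section pure

variable {G : Type*} [Group G]

theorem mem_forall_nil {P : ℕ → Prop} : ∀ s ∈ ([] : List ℕ), P s := fun _ h => absurd h List.not_mem_nil

theorem mem_forall_cons {P : ℕ → Prop} {a : ℕ} {l : List ℕ} (h : P a) (hl : ∀ s ∈ l, P s) :
    ∀ s ∈ a :: l, P s := List.forall_mem_cons.2 ⟨h, hl⟩

theorem dcos_map_id {G' H : Subgroup G} {D : ℕ → G} {r : ℕ}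
    (h : ∀ g ∈ G', ∃ i < r, DCos (H.map (MonoidHom.id G)) (D i) g) :
    ∀ g ∈ G', ∃ i < r, DCos H (D i) g := by
  rwa [Subgroup.map_id] at h

theorem card_zpowers_two {d : G} (h1 : d ≠ 1) (h2 : d ^ 2 = 1) : Nat.card (zpowers d) = 2 := by
  rw [Nat.card_zpowers, orderOf_eq_prime h2 h1]

/-- a double cover of a simple group -/
theorem dcover_rel [Finite G] {H : Subgroup G} {d a b : G} (hd : d ∈ H) (h1 : d ≠ 1) (h2 : d ^ 2 = 1)
    (hc : H ≤ centralizer {d})
    (hdich : ∀ N : Subgroup H, N.Normal → N ≤ (zpowers d).subgroupOf H ∨ N = ⊤)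
    (ha : a ∈ H) (hb : b ∈ H) (hab : a * b ≠ b * a) :
    center H = (zpowers d).subgroupOf H ∧ IsSimpleGroup (H ⧸ center H) ∧
      IsNonsplitDoubleCover H (H ⧸ center H) := by
  refine dcover_of_dich ?_ ?_ hdich ⟨⟨a, ha⟩, ⟨b, hb⟩, fun e => hab (congrArg Subtype.val e)⟩
  · rintro x ⟨k, hk⟩
    refine mem_center_iff.2 fun y => Subtype.ext ?_
    have : Commute (y : G) d := mem_centralizer_singleton_iff.1 (hc y.2)
    have h3 := this.zpow_right k
    beta_reduce at hk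
    rw [hk] at h3
    exact h3
  · rw [Nat.card_congr (subgroupOfEquivOfLe (zpowers_le.2 hd)).toEquiv, card_zpowers_two h1 h2]

theorem card_quot_center [Finite G] {H : Subgroup G} {K : Type*} [Group K]
    (h : IsNonsplitDoubleCover H K) {n : ℕ} (hn : Nat.card H = n * 2) : Nat.card K = n := by
  obtain ⟨h1, ⟨e⟩, -⟩ := h
  have := card_eq_card_quotient_mul_card_subgroup (center H)
  rw [h1, hn, Nat.card_congr e.toEquiv] at this
  omega

/-- identification of the central quotient through a subdirect product -/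
theorem dcover_pair {G2 : Type*} [Group G2] [Finite G] [Finite G2] {P : Subgroup (G × G2)}
    {H : Subgroup G} (hH : P.map (MonoidHom.fst G G2) = H) {d : G} {w : G2} {n b : ℕ}
    (hd : d ∈ P.comap (MonoidHom.inl G G2)) (hw : w ∈ P.comap (MonoidHom.inr G G2))
    (h : center H = (zpowers d).subgroupOf H ∧ IsSimpleGroup (H ⧸ center H) ∧
      IsNonsplitDoubleCover H (H ⧸ center H))
    (hn : ¬ n.Prime) (hP : Nat.card P ≤ n * 2 * b) (c1 : Nat.card H = n * 2)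
    (c2 : n * b ≤ Nat.card (P.map (MonoidHom.snd G G2))) (c3 : Nat.card G2 ≤ n * b)
    (hb : b ≤ Nat.card (zpowers w)) (h2 : 2 ≤ Nat.card (zpowers d))
    (hwc : P.map (MonoidHom.snd G G2) ≤ centralizer {w}) :
    IsNonsplitDoubleCover H (G2 ⧸ center G2) := by
  have hs : P.map (MonoidHom.snd G G2) = ⊤ := eq_top_of_le_card _ (c3.trans c2)
  have hz : zpowers w ≤ center G2 := zpowers_le.2 (mem_center_iff.2 fun y =>
    mem_centralizer_singleton_iff.1 (hwc (hs ▸ mem_top y)))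
  have : (zpowers w).Normal := ⟨fun x hx g => by
    rwa [mem_center_iff.1 (hz hx) g, mul_inv_cancel_right]⟩
  have e1 := comap_inl_eq (zpowers_le.2 hd) (hP.trans (by
    rw [mul_right_comm]; exact Nat.mul_le_mul c2 h2))
  have e2 := comap_inr_eq (zpowers_le.2 hw) (hP.trans (by
    rw [hH, c1]; exact Nat.mul_le_mul_left _ hb))
  obtain ⟨e⟩ := quot_equiv_of_pair hH hs (center H) (zpowers w) (by rw [h.1, e1]) e2
  have hsim := h.2.1
  have hc := center_eq_of_simple hz e.symm.isSimpleGroup (center_ne_top_of_equiv e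
    (center_ne_top_of_simple hsim (by rwa [card_quot_center h.2.2 c1])))
  exact nonsplit_congr (MulEquiv.refl _) (e.trans (QuotientGroup.quotientMulEquivOfEq hc.symm)) h.2.2

end pure

end Cfsg.Agent.H4
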