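import Cfsg.Agent.H4.Fis2

/-! Exact orders and simplicity for rank three transposition groups. -/

set_option autoImplicit false

namespace Cfsg.Agent.H4

open Subgroup Cfsg.Agent.H5 Cfsg.Agent.H5.Mdl

section pure

variable {G : Type*} [Group G]

/-- group elements with the conjugation action -/
@[ext] structure Cj (G : Type*) where
  v : G

instance instMulActionCj : MulAction G (Cj G) where
  smul g x := ⟨g * x.v * g⁻¹⟩
  one_smul x := Cj.ext (by change 1 * x.v * 1⁻¹ = x.v; simp)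
  mul_smul g h x := Cj.ext (by
    change g * h * x.v * (g * h)⁻¹ = g * (h * x.v * h⁻¹) * g⁻¹
    group)

theorem stab_Cj (x : G) : MulAction.stabilizer G (⟨x⟩ : Cj G) = centralizer {x} := by
  ext g
  rw [MulAction.mem_stabilizer_iff, mem_centralizer_singleton_iff, Cj.ext_iff]
  exact mul_inv_eq_iff_eq_mul

theorem ncard_orbit_Cj [Finite G] (H : Subgroup G) (x : G) :
    (MulAction.orbit H (⟨x⟩ : Cj G)).ncard = (centralizer {x}).relIndex H := by
  have h1 := card_eq_orbit H (⟨x⟩ : Cj G)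
  have h2 := relIndex_mul_card (H := H) (L := H ⊓ centralizer {x}) inf_le_left
  rw [stab_Cj, ← h2, mul_comm, inf_relIndex_left] at h1
  exact (Nat.eq_of_mul_eq_mul_right Nat.card_pos h1).symm

theorem Lc_le_cent {H : Subgroup G} {d : G} (hc : H ≤ centralizer {d}) (D : G) :
    Lc H D ≤ centralizer {D⁻¹ * d * D} := fun l hl => by
  have := mem_centralizer_singleton_iff.1 (hc hl.2)
  refine mem_centralizer_singleton_iff.2 ?_
  change D * l * D⁻¹ * d = d * (D * l * D⁻¹) at this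
  calc _ = D⁻¹ * (D * l * D⁻¹ * d) * D := by group
    _ = _ := by rw [this]; group

/-- the order of a rank three group from the two suborbits -/
theorem card_rank3 [Finite G] {G' H : Subgroup G} {d : G} (hc : G' ⊓ centralizer {d} = H)
    {D : ℕ → G} (hD : ∀ i < 3, D i ∈ G') (h0 : D 0 = 1) (hcov : ∀ g ∈ G', ∃ i < 3, DCos H (D i) g)
    (h1 : (D 1)⁻¹ * d * D 1 ≠ d) (h1' : d * ((D 1)⁻¹ * d * D 1) = (D 1)⁻¹ * d * D 1 * d)
    (h2 : d * ((D 2)⁻¹ * d * D 2) ≠ (D 2)⁻¹ * d * D 2 * d) :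
    Nat.card G' = (1 + (centralizer {(D 1)⁻¹ * d * D 1}).relIndex H +
      (centralizer {(D 2)⁻¹ * d * D 2}).relIndex H) * Nat.card H := by
  have hH : H ≤ G' := hc.ge.trans inf_le_left
  have hcm : ∀ h ∈ H, h * d * h⁻¹ = d := fun h hh => by
    rw [mul_inv_eq_iff_eq_mul]; exact mem_centralizer_singleton_iff.1 (hc.ge hh).2
  rw [card_eq_orbit G' (⟨d⟩ : Cj G), stab_Cj, hc, ← ncard_orbit_Cj, ← ncard_orbit_Cj]
  congr 1
  set x1 := (D 1)⁻¹ * d * D 1
  set x2 := (D 2)⁻¹ * d * D 2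
  have e : MulAction.orbit G' (⟨d⟩ : Cj G) =
      ({⟨d⟩} ∪ MulAction.orbit H (⟨x1⟩ : Cj G)) ∪ MulAction.orbit H (⟨x2⟩ : Cj G) := by
    apply Set.Subset.antisymm
    · rintro _ ⟨⟨g, hg⟩, rfl⟩
      obtain ⟨i, hi, a, ha, b, hb, e⟩ := hcov g⁻¹ (G'.inv_mem hg)
      have e2 : g * d * g⁻¹ = b⁻¹ * ((D i)⁻¹ * d * D i) * b⁻¹⁻¹ := by
        rw [inv_eq_iff_eq_inv.1 e]
        calc _ = b⁻¹ * (D i)⁻¹ * (a⁻¹ * d * a⁻¹⁻¹) * D i * b := by group
          _ = _ := by rw [hcm _ (H.inv_mem ha)]; group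
      interval_cases i
      · left; left
        refine Cj.ext (e2.trans ?_)
        rw [h0, inv_one, one_mul, mul_one, hcm _ (H.inv_mem hb)]
      · left; right; exact ⟨⟨b⁻¹, H.inv_mem hb⟩, Cj.ext e2.symm⟩
      · right; exact ⟨⟨b⁻¹, H.inv_mem hb⟩, Cj.ext e2.symm⟩
    · have key : ∀ i < 3, MulAction.orbit H (⟨(D i)⁻¹ * d * D i⟩ : Cj G) ⊆
          MulAction.orbit G' (⟨d⟩ : Cj G) := by
        rintro i hi _ ⟨⟨h, hh⟩, rfl⟩
        refine ⟨⟨h * (D i)⁻¹, G'.mul_mem (hH hh) (G'.inv_mem (hD i hi))⟩, Cj.ext ?_⟩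
        change h * (D i)⁻¹ * d * (h * (D i)⁻¹)⁻¹ = h * ((D i)⁻¹ * d * D i) * h⁻¹
        group
      refine Set.union_subset (Set.union_subset ?_ (key 1 (by omega))) (key 2 (by omega))
      rintro _ rfl; exact MulAction.mem_orbit_self _
  have comm : ∀ h ∈ H, ∀ x : G, d * (h * x * h⁻¹) = h * x * h⁻¹ * d ↔ d * x = x * d := by
    intro h hh x
    conv_lhs => rw [← hcm h hh]
    rw [show h * d * h⁻¹ * (h * x * h⁻¹) = h * (d * x) * h⁻¹ by group,
      show h * x * h⁻¹ * (h * d * h⁻¹) = h * (x * d) * h⁻¹ by group, mul_left_inj, mul_right_inj]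
  rw [e, Set.ncard_union_eq _ ((Set.finite_singleton _).union (orbit_finite _ _)) (orbit_finite _ _),
    Set.ncard_union_eq _ (Set.finite_singleton _) (orbit_finite _ _), Set.ncard_singleton]
  · rw [Set.disjoint_singleton_left]
    rintro ⟨⟨h, hh⟩, e1⟩
    have e2 : h * x1 * h⁻¹ = d := congrArg Cj.v e1
    rw [← hcm h hh, mul_left_inj, mul_right_inj] at e2
    exact h1 e2
  · rw [Set.disjoint_right]
    rintro _ ⟨⟨h, hh⟩, rfl⟩ hx
    refine h2 ((comm h hh x2).1 ?_)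
    rcases hx with hx | ⟨⟨k, hk⟩, e1⟩
    · have e2 : h * x2 * h⁻¹ = d := congrArg Cj.v hx
      rw [e2]
    · have e2 : k * x1 * k⁻¹ = h * x2 * h⁻¹ := congrArg Cj.v e1
      rw [← e2]; exact (comm k hk x1).2 h1'

theorem card_le_of_relIndex [Finite G] {H Z K : Subgroup G}
    (hdich : ∀ N : Subgroup H, N.Normal → N ≤ Z.subgroupOf H ∨ N = ⊤) {b : ℕ}
    (hb : K.relIndex H = b) (h1 : b ≠ 1) : Nat.card H ≤ b.factorial * Nat.card Z := by
  set L := K.subgroupOf H
  have hL : L.index = b := hb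
  rcases hdich L.normalCore inferInstance with h | h
  · have h2 : L.normalCore.index ≤ b.factorial := by
      rw [normalCore_eq_ker, index_ker, ← hL, index, ← Nat.card_perm]
      exact card_le_card_group _
    have h3 : Nat.card L.normalCore ≤ Nat.card Z :=
      (card_le_of_le h).trans (Nat.card_le_card_of_injective
        (fun x : Z.subgroupOf H => (⟨x.1.1, x.2⟩ : Z)) fun x y e =>
          Subtype.ext (Subtype.ext (congrArg (fun z : Z => (z : G)) e)))
    rw [← L.normalCore.index_mul_card]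
    exact Nat.mul_le_mul h2 h3
  · have : L = ⊤ := eq_top_iff.2 (h.ge.trans L.normalCore_le)
    rw [this, index_top] at hL
    exact absurd hL.symm h1

theorem nm_subgroupOf {H N : Subgroup G} (h : Nm H N) : (N.subgroupOf H).Normal :=
  ⟨fun x hx g => h g g.2 x hx⟩

theorem mem_zpowers_two {d x : G} (h2 : d ^ 2 = 1) (hx : x ∈ zpowers d) : x = 1 ∨ x = d := by
  obtain ⟨k, rfl⟩ := hx
  have h : d ^ (2 : ℤ) = 1 := by exact_mod_cast h2
  rcases Int.even_or_odd' k with ⟨j, rfl | rfl⟩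
  · left; change d ^ (2 * j) = 1; rw [zpow_mul, h, one_zpow]
  · right; change d ^ (2 * j + 1) = d; rw [zpow_add, zpow_mul, h, one_zpow, one_mul, zpow_one]

theorem simple_of_transp [Finite G] {G' H : Subgroup G} (hH : H ≤ G') {d : G} (hd : d ∈ H)
    (h1 : d ≠ 1) (h2 : d ^ 2 = 1) (hc : H ≤ centralizer {d})
    (hmax : ∀ M : Subgroup G, H ≤ M → M ≤ G' → M = H ∨ M = G')
    (hdich : ∀ N : Subgroup H, N.Normal → N ≤ (zpowers d).subgroupOf H ∨ N = ⊤)
    {a b : G} (ha : a ∈ G') (hb : b ∈ G') (ha1 : a⁻¹ * d * a ≠ d) (ha2 : a⁻¹ * d * a ∈ H)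
    (hb1 : d * (b⁻¹ * d * b) ≠ b⁻¹ * d * b * d) (p : ℕ) (hp : Nat.Coprime p (Nat.card H))
    (hgen : ∀ N : Subgroup G, (∀ x ∈ G', x ^ p = 1 → x ∈ N) → d ∈ N) : IsSimpleGroup G' := by
  have key : ∀ N : Subgroup G, Nm G' N → d ∈ N → ¬ N ≤ H := fun N hN h h' => by
    have := hN b⁻¹ (G'.inv_mem hb) d h
    rw [inv_inv] at this
    exact hb1 (mem_centralizer_singleton_iff.1 (hc (h' this))).symm
  refine simple_rel (two_le_card (hH hd) h1) (dich_rel hH p hp hmax (fun N hN h x hx => ?_)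
    fun N hN h => ?_)
  · rcases hdich _ (nm_subgroupOf (hN.mono hH)) with h3 | h3
    · rcases mem_zpowers_two h2 (h3 (show (⟨x, h hx⟩ : H) ∈ N.subgroupOf H from hx)) with e | e
      · exact e
      · exact absurd h (key N hN (e ▸ hx : d ∈ N))
    · exact absurd h (key N hN (h3.ge (mem_top (⟨d, hd⟩ : H))))
  · have h4 := hgen N h
    have h5 := hN a⁻¹ (G'.inv_mem ha) d h4
    rw [inv_inv] at h5
    rcases hdich _ (nm_subgroupOf (hN.mono hH)) with h3 | h3
    · rcases mem_zpowers_two h2 (h3 (show (⟨_, ha2⟩ : H) ∈ N.subgroupOf H from h5)) with e | e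
      · exact absurd (by simpa [mul_assoc, inv_mul_eq_one, eq_comm] using
          (show a⁻¹ * d * a = 1 from e)) h1
      · exact absurd e ha1
    · have h6 : H ≤ N := fun x hx => h3.ge (mem_top (⟨x, hx⟩ : H))
      rcases hmax (N ⊓ G') (le_inf h6 hH) inf_le_right with h7 | h7
      · refine absurd h7.le (key _ (fun g hg x hx => ⟨hN g hg x hx.1, ?_⟩) ⟨h4, hH hd⟩)
        exact G'.mul_mem (G'.mul_mem hg hx.2) (G'.inv_mem hg)
      · exact h7.ge.trans inf_le_left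

theorem relIndex_of_max {G1 : Type*} [Group G1] [Finite G1] (f : G1 →* G) {H1 K : Subgroup G1}
    (hK : K ≤ H1) (hmax : ∀ M : Subgroup G1, K ≤ M → M ≤ H1 → M = K ∨ M = H1) {C : Subgroup G}
    (h1 : K.map f ≤ C) (h2 : ¬ H1.map f ≤ C) {n : ℕ} (hn : Nat.card H1 = n * Nat.card K) :
    C.relIndex (H1.map f) = n := by
  rw [← relIndex_comap, ← inf_relIndex_left]
  rcases hmax (H1 ⊓ C.comap f) (le_inf hK (map_le_iff_le_comap.1 h1)) inf_le_left with h | h
  · rw [h]; exact index_subgroupOf hK hn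
  · exact absurd (map_le_iff_le_comap.2 (h.ge.trans inf_le_right)) h2

/-- transfer of the dichotomy to an image -/
theorem dich_map {G1 : Type*} [Group G1] (f : G1 →* G) {H1 Z : Subgroup G1}
    (hdich : ∀ N : Subgroup H1, N.Normal → N ≤ Z.subgroupOf H1 ∨ N = ⊤) :
    ∀ N : Subgroup (H1.map f), N.Normal → N ≤ (Z.map f).subgroupOf (H1.map f) ∨ N = ⊤ := by
  intro N hN
  rcases hdich (N.comap (f.subgroupMap H1)) (hN.comap _) with h | h
  · left
    intro x hx
    obtain ⟨y, rfl⟩ := f.subgroupMap_surjective H1 x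
    exact ⟨y, h hx, rfl⟩
  · right
    rw [eq_top_iff]
    intro x _
    obtain ⟨y, rfl⟩ := f.subgroupMap_surjective H1 x
    exact h.ge (mem_top y)

theorem fi23_arith {k b c n : ℕ} (hn : n = 129123503308800) (h : k = (1 + 3510 + b) * n)
    (hb : b ≤ 28160) (hc : c * b = n) (h17 : 17 ∣ k) (h23 : 23 ∣ k) : b = 8 ∨ b = 28160 := by
  have c1 : Nat.Coprime 17 n := by rw [hn]; norm_num
  have c2 : Nat.Coprime 23 n := by rw [hn]; norm_num
  rw [h] at h17 h23
  have h1 : 17 ∣ 1 + 3510 + b := c1.dvd_mul_right.1 h17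
  have h2 : 23 ∣ 1 + 3510 + b := c2.dvd_mul_right.1 h23
  obtain ⟨m, hm⟩ : 17 * 23 ∣ 1 + 3510 + b := Nat.Coprime.mul_dvd_of_dvd_of_dvd (by norm_num) h1 h2
  have h3 : b ∣ n := Dvd.intro_left c hc
  have key : ∀ m < 82, 391 * m - 3511 ∣ 129123503308800 → m ≤ 9 ∨ m = 81 := by decide +kernel
  have e : b = 391 * m - 3511 := by omega
  have := key m (by omega) (by rw [← e, ← hn]; exact h3)
  omega

end pure

end Cfsg.Agent.H4
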