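import Cfsg.Agent.H4.Fis3

/-! Checks for generation by elements of prime order; glue for product models. -/

set_option autoImplicit false

namespace Cfsg.Agent.H4

open Subgroup Cfsg.Agent.H5 Cfsg.Agent.H5.Mdl

section mdl

variable {G M : Type*} [Group G] [Monoid M] {m : Mdl G M}

/-- `tg s = x * y s` with a word `x`, both factors of order dividing `p` -/
noncomputable def chkPW (mul : ℕ → ℕ → ℕ) (one : ℕ) (gl : ℕ → ℕ) (ws : List (List ℕ)) (tg y : ℕ → ℕ)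
    (p s : ℕ) : ℕ :=
  force (wd mul one gl (getW ws s)) fun x => force (y s) fun z =>
    Nat.add (Nat.xor (mul x z) (tg s))
      (Nat.add (Nat.xor (pw mul one x p) one) (Nat.xor (pw mul one z p) one))

theorem in_of_chkPW {H N : Subgroup G} {p : ℕ} (hN : ∀ x ∈ H, x ^ p = 1 → x ∈ N) {gl tg y : ℕ → ℕ}
    (hg : m.El H gl) {ws : List (List ℕ)} {ng : ℕ} (ht : ∀ s < ng, m.In H (tg s))
    (hc : ∀ s < ng, chkPW m.mul m.one gl ws tg y p s = 0) : ∀ s < ng, m.In N (tg s) := by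
  intro s hs
  obtain ⟨h1, h2⟩ := add_eq_zero' (hc s hs)
  obtain ⟨h2, h3⟩ := add_eq_zero' h2
  obtain ⟨a, ha, ea⟩ := hg.wd (getW ws s)
  obtain ⟨b, hb, eb⟩ := (hg.wd (getW ws s)).of_mul_eq (ht s hs) (xor_eq_zero' h1)
  exact (In.mul ⟨a, hN a ha (pow_eq_one_of_powC ea (xor_eq_zero' h2)), ea⟩
    ⟨b, hN b hb (pow_eq_one_of_powC eb (xor_eq_zero' h3)), eb⟩).of_eq h1

/-- a word of prime order -/
noncomputable def chkQW (mul : ℕ → ℕ → ℕ) (one : ℕ) (key gl : ℕ → ℕ) (w : List ℕ) (p : ℕ) : ℕ :=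
  force (wd mul one gl w) fun x => chkQ mul one key x p

theorem dvd_of_chkQW {key : ℕ → ℕ} (hk : Key m key) {K : Subgroup G} {gl : ℕ → ℕ} (hg : m.El K gl)
    {w : List ℕ} {p : ℕ} (hp : p.Prime) (h : chkQW m.mul m.one key gl w p = 0) : p ∣ Nat.card K :=
  dvd_of_chkQ hk (hg.wd w) hp h

theorem rep_conj' {a x y : ℕ} (h : chkJ m.mul a y x = 0) {g u : G} (eg : m.φ g = m.ev a)
    (eu : m.φ u = m.ev x) : m.φ (g⁻¹ * u * g) = m.ev y := by
  have h1 : m.ev a * m.ev y = m.ev x * m.ev a := by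
    rw [← m.ev_mul, ← m.ev_mul, xor_eq_zero' h]
  rw [mul_assoc, map_mul, map_mul, eu, eg, ← h1, ← eg, ← mul_assoc, ← map_mul, inv_mul_cancel,
    map_one, one_mul]

theorem comm_of_chkJ {a x : ℕ} (h : chkJ m.mul a x x = 0) {g u : G} (eg : m.φ g = m.ev a)
    (eu : m.φ u = m.ev x) : g * u = u * g := mul_inv_eq_iff_eq_mul.1 (conj_of_chkJ h eg eu eu)

theorem not_comm_of_chkN' {key : ℕ → ℕ} (hk : Key m key) {a b : ℕ} {g u : G} (eg : m.φ g = m.ev a)
    (eu : m.φ u = m.ev b) (h : chkN key (m.mul a b) (m.mul b a) = 0) : g * u ≠ u * g :=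
  hk.ne h (rep_mul eg eu) (rep_mul eu eg)

theorem sup_le_of_in {H N : Subgroup G} {gl : ℕ → ℕ} {ng a : ℕ} (hH : H ≤ m.gn gl ng)
    (h : ∀ s < ng + 1, m.In N (cons1 a gl s)) : H.map (MonoidHom.id G) ⊔ zpowers (m.elt a) ≤ N :=
  sup_zpowers_le ((map_id_le H).trans (hH.trans (gn_le fun s hs => h (s + 1) (by omega))))
    (h 0 (by omega)).elt_mem

theorem sup_le_gn {H : Subgroup G} {gl : ℕ → ℕ} {ng a : ℕ} (hH : H ≤ m.gn gl ng)
    (h : m.El ⊤ (cons1 a gl)) :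
    H.map (MonoidHom.id G) ⊔ zpowers (m.elt a) ≤ m.gn (cons1 a gl) (ng + 1) :=
  sup_le_of_in hH (in_gn fun s _ => h s)

end mdl

section pure

variable {G1 G2 : Type*} [Group G1] [Group G2]

theorem map_inl_fst (K : Subgroup G1) :
    (K.map (MonoidHom.inl G1 G2)).map (MonoidHom.fst G1 G2) = K := by
  rw [map_map]; exact Subgroup.map_id K

theorem card_fst_eq {P : Subgroup (G1 × G2)} {Z : Subgroup G1} {d : G1}
    (hd : d ∈ P.comap (MonoidHom.inl G1 G2)) (h1 : d ≠ 1)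
    (hdich : ∀ N : Subgroup P, N.Normal → N ≤ (Z.map (MonoidHom.inl G1 G2)).subgroupOf P ∨ N = ⊤) :
    Nat.card (P.map (MonoidHom.fst G1 G2)) = Nat.card P := by
  have : P.comap (MonoidHom.inr G1 G2) = ⊥ := by
    rcases hdich ((MonoidHom.fst G1 G2).ker.subgroupOf P) inferInstance with h | h
    · rw [eq_bot_iff]
      intro w hw
      obtain ⟨z, -, e⟩ := h (show (⟨(1, w), hw⟩ : P) ∈ _ from rfl)
      exact (congrArg Prod.snd e).symm
    · exact absurd (h.ge (mem_top (⟨(d, 1), hd⟩ : P))) h1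
  rw [card_pair_fst P, this, card_bot, mul_one]

theorem core_pair2 {F : Type*} [CommRing F] [CharP F 2] {n : ℕ}
    (φ : G2 →* Matrix (Fin n) (Fin n) F) (inj : Function.Injective φ)
    {ch : ℕ → ℕ} {A B r : ℕ} (hAB : mul2 n A B = one2 n) (hA : ∀ j < n, chkV (brow n) ch n A j = 0)
    {G' K : Subgroup (G1 × G2)} (hKG : K ≤ G')
    (hR : Reach G' (fun i => (⟨vec2 F n (pt (brow n) ch i)⟩ : Vc (φ.comp (MonoidHom.snd G1 G2)))) n [r])
    (hK : K ≤ MulAction.stabilizer (G1 × G2)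
      (⟨vec2 F n (pt (brow n) ch r)⟩ : Vc (φ.comp (MonoidHom.snd G1 G2)))) :
    ∀ N : Subgroup (G1 × G2), Nm G' N → N ≤ K →
      N ≤ (G'.comap (MonoidHom.inl G1 G2)).map (MonoidHom.inl G1 G2) := by
  rintro N hN h ⟨a, b⟩ hg
  have h1 : φ b = 1 := fix_basis2 (φ.comp (MonoidHom.snd G1 G2)) (g := (a, b)) hAB hA
    (fix_of_reach hN hR (h.trans hK) _ hg)
  obtain rfl : b = 1 := inj (h1.trans (map_one φ).symm)
  exact ⟨a, hKG (h hg), rfl⟩

theorem relIndex_cent_le [Finite G1] [Finite G2] {f : G1 →* G2} {H : Subgroup G1} {d D : G2}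
    (hc : H.map f ≤ centralizer {d}) {A B C : ℕ} (hA : Nat.card H ≤ A)
    (hB : B ≤ Nat.card (Lf f H D)) (e : A = B * C) :
    (centralizer {D⁻¹ * d * D}).relIndex (H.map f) ≤ C := by
  refine (relIndex_le_of_le_left (Lc_le_cent hc D) index_ne_zero_of_finite).trans ?_
  rw [relIndex_Lf]
  exact relIndex_le inf_le_left hA hB e

theorem card_inf_mul_relIndex [Finite G1] (H C : Subgroup G1) :
    Nat.card (H ⊓ C : Subgroup G1) * C.relIndex H = Nat.card H := by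
  rw [← inf_relIndex_left]; exact relIndex_mul_card inf_le_left

end pure

end Cfsg.Agent.H4
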