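import Cfsg.Agent.H4.TC3

set_option autoImplicit false
set_option maxRecDepth 100000

namespace Cfsg.Agent.H4.YHe

open Cfsg.Agent.H5 Cfsg.Agent.H8.TC Cfsg.Agent.H4.TC

def Mx : ℕ := (nat_lit 0x14322220000000004122222000000000321a22200000000022a133300000000022231220000000002223214000000000222324100000000000000000)
def WS : ℕ := (nat_lit 0x757575007474007373007272007171000000000000000000000000000000000000000000000000000000000000000000006565006464006363006262006161000000000000000000000000000000000000000000000000000000575757005656000000000000005353005252005151000000000000000000000000000000000000000000000000000000004747004646000000000000434343424242414141000000000000000000000000000000000000000000000000000000003737003636003535343434000000003232003131000000000000000000000000000000000000000000000000000000002727002626002525242424002323000000000000000000000000000000000000000000000000000000000000000000001717001616001515141414001313000000000000000000000000000000000000000000000000000000000000000000000000000000000000000000000000000000000000000000000000000000000000)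
def AS : ℕ := (nat_lit 0x75747372710000000000000000000000656463626100000000000000000057560000535251000000000000000000474600004342410000000000000000003736353400323100000000000000000027262524230000000000000000000000171615141300000000000000000000000000000000000000000000)
noncomputable def WLd : Tr :=
(.n (.n (.n (.n (.n (.n (.n (.n (.n (.l (nat_lit 0x0))
  (.l (nat_lit 0x0))
 ) (.n (.l (nat_lit 0x76767676))
  (.l (nat_lit 0x453453453453453))
 )) (.n (.n (.l (nat_lit 0x32121))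
  (.l (nat_lit 0x67676767))
 ) (.l (nat_lit 0x0))
 )) (.n (.n (.n (.l (nat_lit 0x12121212))
  (.l (nat_lit 0x2323))
 ) (.l (nat_lit 0x0))
 ) (.n (.n (.l (nat_lit 0x54545454545454545454))
  (.l (nat_lit 0x45454545456))
 ) (.l (nat_lit 0x0))
 ))) (.n (.n (.n (.n (.l (nat_lit 0x0))
  (.l (nat_lit 0x0))
 ) (.l (nat_lit 0x0))
 ) (.n (.n (.l (nat_lit 0x45454545454545454545))
  (.l (nat_lit 0x5763576576))
 ) (.l (nat_lit 0x0))
 )) (.n (.n (.n (.l (nat_lit 0x21212121))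
  (.l (nat_lit 0x45454545454545454545))
 ) (.l (nat_lit 0x0))
 ) (.n (.n (.l (nat_lit 0x67676767))
  (.l (nat_lit 0x45454654545))
 ) (.l (nat_lit 0x0))
 )))) (.n (.n (.n (.n (.n (.l (nat_lit 0x0))
  (.l (nat_lit 0x0))
 ) (.l (nat_lit 0x0))
 ) (.n (.n (.l (nat_lit 0x0))
  (.l (nat_lit 0x23121))
 ) (.l (nat_lit 0x0))
 )) (.n (.n (.n (.l (nat_lit 0x0))
  (.l (nat_lit 0x343434))
 ) (.l (nat_lit 0x0))
 ) (.n (.n (.l (nat_lit 0x54545454564))
  (.l (nat_lit 0x54545456454))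
 ) (.l (nat_lit 0x0))
 ))) (.n (.n (.n (.n (.l (nat_lit 0x0))
  (.l (nat_lit 0x12121212))
 ) (.l (nat_lit 0x0))
 ) (.n (.n (.l (nat_lit 0x0))
  (.l (nat_lit 0x7536756756))
 ) (.l (nat_lit 0x0))
 )) (.n (.n (.n (.l (nat_lit 0x0))
  (.l (nat_lit 0x5656))
 ) (.l (nat_lit 0x0))
 ) (.n (.n (.l (nat_lit 0x0))
  (.l (nat_lit 0x4521452145214521))
 ) (.l (nat_lit 0x0))
 ))))) (.n (.n (.n (.n (.n (.n (.l (nat_lit 0x0))
  (.l (nat_lit 0x0))
 ) (.l (nat_lit 0x0))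
 ) (.n (.n (.l (nat_lit 0x0))
  (.l (nat_lit 0x13212))
 ) (.l (nat_lit 0x0))
 )) (.n (.n (.n (.l (nat_lit 0x0))
  (.l (nat_lit 0x6363))
 ) (.l (nat_lit 0x0))
 ) (.n (.n (.l (nat_lit 0x56454545454))
  (.l (nat_lit 0x54564545454))
 ) (.l (nat_lit 0x0))
 ))) (.n (.n (.n (.n (.l (nat_lit 0x0))
  (.l (nat_lit 0x414141))
 ) (.l (nat_lit 0x0))
 ) (.n (.n (.l (nat_lit 0x45454564545))
  (.l (nat_lit 0x6576576357))
 ) (.l (nat_lit 0x0))
 )) (.n (.n (.n (.l (nat_lit 0x0))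
  (.l (nat_lit 0x1616))
 ) (.l (nat_lit 0x0))
 ) (.n (.n (.l (nat_lit 0x64545454545))
  (.l (nat_lit 0x45454545465))
 ) (.l (nat_lit 0x0))
 )))) (.n (.n (.n (.n (.n (.l (nat_lit 0x0))
  (.l (nat_lit 0x0))
 ) (.l (nat_lit 0x0))
 ) (.n (.n (.l (nat_lit 0x0))
  (.l (nat_lit 0x5765765763))
 ) (.l (nat_lit 0x0))
 )) (.n (.n (.n (.l (nat_lit 0x0))
  (.l (nat_lit 0x7474))
 ) (.l (nat_lit 0x0))
 ) (.n (.n (.l (nat_lit 0x0))
  (.l (nat_lit 0x46545454545))
 ) (.l (nat_lit 0x0))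
 ))) (.n (.n (.n (.n (.l (nat_lit 0x0))
  (.l (nat_lit 0x5252))
 ) (.l (nat_lit 0x0))
 ) (.n (.n (.l (nat_lit 0x0))
  (.l (nat_lit 0x6756753675))
 ) (.l (nat_lit 0x0))
 )) (.n (.n (.n (.l (nat_lit 0x0))
  (.l (nat_lit 0x2727))
 ) (.l (nat_lit 0x0))
 ) (.n (.n (.l (nat_lit 0x0))
  (.l (nat_lit 0x1254125412541254))
 ) (.l (nat_lit 0x0))
 )))))) (.n (.n (.n (.n (.n (.n (.n (.l (nat_lit 0x0))
  (.l (nat_lit 0x0))
 ) (.n (.l (nat_lit 0x7657635765))
  (.l (nat_lit 0x354354354354354))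
 )) (.n (.n (.l (nat_lit 0x345345345345345))
  (.l (nat_lit 0x21213))
 ) (.l (nat_lit 0x0))
 )) (.n (.n (.n (.l (nat_lit 0x12132))
  (.l (nat_lit 0x434343))
 ) (.l (nat_lit 0x0))
 ) (.n (.n (.l (nat_lit 0x5763576576))
  (.l (nat_lit 0x56454545454))
 ) (.l (nat_lit 0x0))
 ))) (.n (.n (.n (.n (.l (nat_lit 0x0))
  (.l (nat_lit 0x21212121))
 ) (.l (nat_lit 0x0))
 ) (.n (.n (.l (nat_lit 0x45645454545))
  (.l (nat_lit 0x7657635765))
 ) (.l (nat_lit 0x0))
 )) (.n (.n (.n (.l (nat_lit 0x21321))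
  (.l (nat_lit 0x6565))
 ) (.l (nat_lit 0x0))
 ) (.n (.n (.l (nat_lit 0x6576357657))
  (.l (nat_lit 0x45454546545))
 ) (.l (nat_lit 0x0))
 )))) (.n (.n (.n (.n (.n (.l (nat_lit 0x0))
  (.l (nat_lit 0x0))
 ) (.l (nat_lit 0x0))
 ) (.n (.n (.l (nat_lit 0x0))
  (.l (nat_lit 0x21231))
 ) (.l (nat_lit 0x0))
 )) (.n (.n (.n (.l (nat_lit 0x0))
  (.l (nat_lit 0x54545454545454545454))
 ) (.l (nat_lit 0x0))
 ) (.n (.n (.l (nat_lit 0x534534534534534))
  (.l (nat_lit 0x54545454564))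
 ) (.l (nat_lit 0x0))
 ))) (.n (.n (.n (.n (.l (nat_lit 0x0))
  (.l (nat_lit 0x3232))
 ) (.l (nat_lit 0x0))
 ) (.n (.n (.l (nat_lit 0x0))
  (.l (nat_lit 0x5675367567))
 ) (.l (nat_lit 0x0))
 )) (.n (.n (.n (.l (nat_lit 0x0))
  (.l (nat_lit 0x76767676))
 ) (.l (nat_lit 0x0))
 ) (.n (.n (.l (nat_lit 0x0))
  (.l (nat_lit 0x5412541254125412))
 ) (.l (nat_lit 0x0))
 ))))) (.n (.n (.n (.n (.n (.n (.l (nat_lit 0x0))
  (.l (nat_lit 0x0))
 ) (.l (nat_lit 0x0))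
 ) (.n (.n (.l (nat_lit 0x0))
  (.l (nat_lit 0x12132))
 ) (.l (nat_lit 0x0))
 )) (.n (.n (.n (.l (nat_lit 0x0))
  (.l (nat_lit 0x141414))
 ) (.l (nat_lit 0x0))
 ) (.n (.n (.l (nat_lit 0x54545645454))
  (.l (nat_lit 0x54545645454))
 ) (.l (nat_lit 0x0))
 ))) (.n (.n (.n (.n (.l (nat_lit 0x0))
  (.l (nat_lit 0x6161))
 ) (.l (nat_lit 0x0))
 ) (.n (.n (.l (nat_lit 0x4521452145214521))
  (.l (nat_lit 0x3675675675))
 ) (.l (nat_lit 0x0))
 )) (.n (.n (.n (.l (nat_lit 0x0))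
  (.l (nat_lit 0x3636))
 ) (.l (nat_lit 0x0))
 ) (.n (.n (.l (nat_lit 0x0))
  (.l (nat_lit 0x2145214521452145))
 ) (.l (nat_lit 0x0))
 )))) (.n (.n (.n (.n (.n (.l (nat_lit 0x0))
  (.l (nat_lit 0x0))
 ) (.l (nat_lit 0x0))
 ) (.n (.n (.l (nat_lit 0x0))
  (.l (nat_lit 0x6357657657))
 ) (.l (nat_lit 0x0))
 )) (.n (.n (.n (.l (nat_lit 0x0))
  (.l (nat_lit 0x2525))
 ) (.l (nat_lit 0x0))
 ) (.n (.n (.l (nat_lit 0x0))
  (.l (nat_lit 0x45465454545))
 ) (.l (nat_lit 0x0))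
 ))) (.n (.n (.n (.n (.l (nat_lit 0x0))
  (.l (nat_lit 0x7272))
 ) (.l (nat_lit 0x0))
 ) (.n (.n (.l (nat_lit 0x0))
  (.l (nat_lit 0x7567567536))
 ) (.l (nat_lit 0x0))
 )) (.n (.n (.n (.l (nat_lit 0x0))
  (.l (nat_lit 0x4747))
 ) (.l (nat_lit 0x0))
 ) (.n (.n (.l (nat_lit 0x0))
  (.l (nat_lit 0x345345345345345))
 ) (.l (nat_lit 0x0))
 ))))))) (.n (.n (.n (.n (.n (.n (.n (.n (.l (nat_lit 0x0))
  (.l (nat_lit 0x0))
 ) (.n (.l (nat_lit 0x7635765765))
  (.l (nat_lit 0x543543543543543))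
 )) (.n (.n (.l (nat_lit 0x3576576576))
  (.l (nat_lit 0x77))
 ) (.l (nat_lit 0x0))
 )) (.n (.n (.n (.l (nat_lit 0x13212))
  (.l (nat_lit 0x33))
 ) (.l (nat_lit 0x0))
 ) (.n (.n (.l (nat_lit 0x5765765763))
  (.l (nat_lit 0x64545454545))
 ) (.l (nat_lit 0x0))
 ))) (.n (.n (.n (.n (.l (nat_lit 0x0))
  (.l (nat_lit 0x11))
 ) (.l (nat_lit 0x0))
 ) (.n (.n (.l (nat_lit 0x45454545456))
  (.l (nat_lit 0x6576357657))
 ) (.l (nat_lit 0x0))
 )) (.n (.n (.n (.l (nat_lit 0x21213))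
  (.l (nat_lit 0x55))
 ) (.l (nat_lit 0x0))
 ) (.n (.n (.l (nat_lit 0x6357657657))
  (.l (nat_lit 0x54545465454))
 ) (.l (nat_lit 0x0))
 )))) (.n (.n (.n (.n (.n (.l (nat_lit 0x0))
  (.l (nat_lit 0x0))
 ) (.l (nat_lit 0x0))
 ) (.n (.n (.l (nat_lit 0x0))
  (.l (nat_lit 0x12312))
 ) (.l (nat_lit 0x0))
 )) (.n (.n (.n (.l (nat_lit 0x0))
  (.l (nat_lit 0x44))
 ) (.l (nat_lit 0x0))
 ) (.n (.n (.l (nat_lit 0x5214521452145214))
  (.l (nat_lit 0x45454545645))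
 ) (.l (nat_lit 0x0))
 ))) (.n (.n (.n (.n (.l (nat_lit 0x0))
  (.l (nat_lit 0x22))
 ) (.l (nat_lit 0x0))
 ) (.n (.n (.l (nat_lit 0x0))
  (.l (nat_lit 0x6753675675))
 ) (.l (nat_lit 0x0))
 )) (.n (.n (.n (.l (nat_lit 0x0))
  (.l (nat_lit 0x66))
 ) (.l (nat_lit 0x0))
 ) (.n (.n (.l (nat_lit 0x0))
  (.l (nat_lit 0x1452145214521452))
 ) (.l (nat_lit 0x0))
 ))))) (.n (.n (.n (.n (.n (.n (.l (nat_lit 0x0))
  (.l (nat_lit 0x0))
 ) (.l (nat_lit 0x0))
 ) (.n (.n (.l (nat_lit 0x0))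
  (.l (nat_lit 0x21321))
 ) (.l (nat_lit 0x0))
 )) (.n (.n (.n (.l (nat_lit 0x0))
  (.l (nat_lit 0x7373))
 ) (.l (nat_lit 0x0))
 ) (.n (.n (.l (nat_lit 0x54564545454))
  (.l (nat_lit 0x45456454545))
 ) (.l (nat_lit 0x0))
 ))) (.n (.n (.n (.n (.l (nat_lit 0x0))
  (.l (nat_lit 0x5151))
 ) (.l (nat_lit 0x0))
 ) (.n (.n (.l (nat_lit 0x45454545645))
  (.l (nat_lit 0x7657657635))
 ) (.l (nat_lit 0x0))
 )) (.n (.n (.n (.l (nat_lit 0x0))
  (.l (nat_lit 0x2626))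
 ) (.l (nat_lit 0x0))
 ) (.n (.n (.l (nat_lit 0x0))
  (.l (nat_lit 0x54545454546))
 ) (.l (nat_lit 0x0))
 )))) (.n (.n (.n (.n (.n (.l (nat_lit 0x0))
  (.l (nat_lit 0x0))
 ) (.l (nat_lit 0x0))
 ) (.n (.n (.l (nat_lit 0x0))
  (.l (nat_lit 0x3576576576))
 ) (.l (nat_lit 0x0))
 )) (.n (.n (.n (.l (nat_lit 0x0))
  (.l (nat_lit 0x1515))
 ) (.l (nat_lit 0x0))
 ) (.n (.n (.l (nat_lit 0x0))
  (.l (nat_lit 0x54654545454))
 ) (.l (nat_lit 0x0))
 ))) (.n (.n (.n (.n (.l (nat_lit 0x0))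
  (.l (nat_lit 0x6262))
 ) (.l (nat_lit 0x0))
 ) (.n (.n (.l (nat_lit 0x0))
  (.l (nat_lit 0x5675675367))
 ) (.l (nat_lit 0x0))
 )) (.n (.n (.n (.l (nat_lit 0x0))
  (.l (nat_lit 0x3737))
 ) (.l (nat_lit 0x0))
 ) (.n (.n (.l (nat_lit 0x0))
  (.l (nat_lit 0x4125412541254125))
 ) (.l (nat_lit 0x0))
 )))))) (.n (.n (.n (.n (.n (.n (.n (.l (nat_lit 0x0))
  (.l (nat_lit 0x0))
 ) (.n (.l (nat_lit 0x7657657635))
  (.l (nat_lit 0x435435435435435))
 )) (.n (.n (.l (nat_lit 0x0))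
  (.l (nat_lit 0x32121))
 ) (.l (nat_lit 0x0))
 )) (.n (.n (.n (.l (nat_lit 0x1452145214521452))
  (.l (nat_lit 0x5353))
 ) (.l (nat_lit 0x0))
 ) (.n (.n (.l (nat_lit 0x5765763576))
  (.l (nat_lit 0x45645454545))
 ) (.l (nat_lit 0x0))
 ))) (.n (.n (.n (.n (.l (nat_lit 0x0))
  (.l (nat_lit 0x3131))
 ) (.l (nat_lit 0x0))
 ) (.n (.n (.l (nat_lit 0x45456454545))
  (.l (nat_lit 0x5765763576))
 ) (.l (nat_lit 0x0))
 )) (.n (.n (.n (.l (nat_lit 0x2145214521452145))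
  (.l (nat_lit 0x757575))
 ) (.l (nat_lit 0x0))
 ) (.n (.n (.l (nat_lit 0x6576576357))
  (.l (nat_lit 0x54545454654))
 ) (.l (nat_lit 0x0))
 )))) (.n (.n (.n (.n (.n (.l (nat_lit 0x0))
  (.l (nat_lit 0x0))
 ) (.l (nat_lit 0x0))
 ) (.n (.n (.l (nat_lit 0x0))
  (.l (nat_lit 0x12123))
 ) (.l (nat_lit 0x0))
 )) (.n (.n (.n (.l (nat_lit 0x0))
  (.l (nat_lit 0x6464))
 ) (.l (nat_lit 0x0))
 ) (.n (.n (.l (nat_lit 0x0))
  (.l (nat_lit 0x65454545454))
 ) (.l (nat_lit 0x0))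
 ))) (.n (.n (.n (.n (.l (nat_lit 0x0))
  (.l (nat_lit 0x424242))
 ) (.l (nat_lit 0x0))
 ) (.n (.n (.l (nat_lit 0x0))
  (.l (nat_lit 0x7567536756))
 ) (.l (nat_lit 0x0))
 )) (.n (.n (.n (.l (nat_lit 0x0))
  (.l (nat_lit 0x1717))
 ) (.l (nat_lit 0x0))
 ) (.n (.n (.l (nat_lit 0x0))
  (.l (nat_lit 0x2541254125412541))
 ) (.l (nat_lit 0x0))
 ))))) (.n (.n (.n (.n (.n (.n (.l (nat_lit 0x0))
  (.l (nat_lit 0x0))
 ) (.l (nat_lit 0x0))
 ) (.n (.n (.l (nat_lit 0x0))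
  (.l (nat_lit 0x31212))
 ) (.l (nat_lit 0x0))
 )) (.n (.n (.n (.l (nat_lit 0x0))
  (.l (nat_lit 0x242424))
 ) (.l (nat_lit 0x0))
 ) (.n (.n (.l (nat_lit 0x54545456454))
  (.l (nat_lit 0x45454564545))
 ) (.l (nat_lit 0x0))
 ))) (.n (.n (.n (.n (.l (nat_lit 0x0))
  (.l (nat_lit 0x7171))
 ) (.l (nat_lit 0x0))
 ) (.n (.n (.l (nat_lit 0x453453453453453))
  (.l (nat_lit 0x5367567567))
 ) (.l (nat_lit 0x0))
 )) (.n (.n (.n (.l (nat_lit 0x0))
  (.l (nat_lit 0x4646))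
 ) (.l (nat_lit 0x0))
 ) (.n (.n (.l (nat_lit 0x0))
  (.l (nat_lit 0x5214521452145214))
 ) (.l (nat_lit 0x0))
 )))) (.n (.n (.n (.n (.n (.l (nat_lit 0x0))
  (.l (nat_lit 0x0))
 ) (.l (nat_lit 0x0))
 ) (.n (.n (.l (nat_lit 0x0))
  (.l (nat_lit 0x7635765765))
 ) (.l (nat_lit 0x0))
 )) (.n (.n (.n (.l (nat_lit 0x0))
  (.l (nat_lit 0x3535))
 ) (.l (nat_lit 0x0))
 ) (.n (.n (.l (nat_lit 0x0))
  (.l (nat_lit 0x54546545454))
 ) (.l (nat_lit 0x0))
 ))) (.n (.n (.n (.n (.l (nat_lit 0x0))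
  (.l (nat_lit 0x1313))
 ) (.l (nat_lit 0x0))
 ) (.n (.n (.l (nat_lit 0x0))
  (.l (nat_lit 0x6756756753))
 ) (.l (nat_lit 0x0))
 )) (.n (.n (.n (.l (nat_lit 0x0))
  (.l (nat_lit 0x575757))
 ) (.l (nat_lit 0x0))
 ) (.n (.n (.l (nat_lit 0x0))
  (.l (nat_lit 0x534534534534534))
 ) (.l (nat_lit 0x0))
 ))))))))
noncomputable def WL : ℕ → ℕ := pad 0 (nat_lit 388) WLd.get
def ALd : ℕ := (nat_lit 0x8104c042600130208808440022060f02078083c001e060d020680834001a140b09058402c1c160c0b05058202c0c16040b01058002c2812120908048382418120a090404818240812020900048481c200e0e0706038281c100e060702038081c000e1205080283814180a0a05040281814080a020500028200c0c06040301018000c10020601020080804000000ee0067002b8011c006e0027000b801d800cc00560023000d8004c0016003a8019400aa0045001a80094002a00740032001500088003400120005000e6006300298010c006600230009801c800c400520021000c80044001200388018400a200410018800840022000000000000000000000000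0000000000000000000000000000000000000000000000000000000000000000000000000000000000000000000000000000000000000000000000000000000000000000000000000000000000000000000000000000000000000000000000000000000000000000000000000000000000000000000000000000000000000000000000000000000000000000000000000000000000000000000000000000000000000000000000000000000000000000000000000000000000000000000000000000000000000000000000000000000000000000000000000000000000000000000000000000000000000000000000000000000000000000000000000000000000000000000000000000000000000000000000000000000000000000000000084814180a0604007600000000000000000000000000000000000000000000001010484014140a0404006700000000000000000000040422020d0a048402418120809020483814100a00040054000000000000000000000000000000000081044081a12090704828240c120008004500000000000000000000000000000000000000000000000000000004002202050100000000000000000000000000000000000000000000000000000800340c0200000021000000000000000000000000000000000000000000000000000818341002040000120000000000000000000000000000000000000000000000000000000000000000000000000000000000000000000000000000000000000000000000000000000000000000)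
def AL (x : ℕ) : ℕ := fld ALd (nat_lit 17) (nat_lit 131071) x

def RL : List (List ℕ) := [[3, 1, 2, 1, 2],
  [3, 6, 7, 5, 6, 7, 5, 6, 7, 5],
  [6, 5, 4, 5, 4, 5, 4, 5, 4, 5, 4],
  [5, 4, 1, 2, 5, 4, 1, 2, 5, 4, 1, 2, 5, 4, 1, 2],
  [5, 4, 3, 5, 4, 3, 5, 4, 3, 5, 4, 3, 5, 4, 3]]

def LL : List ℕ := RL.flatMap fun w => [pk w, pk w.reverse]

theorem cS : rngB (chkWS Mx WS AS) (nat_lit 256) (nat_lit 0) (nat_lit 4) = 0 := by decide +kernel

theorem cL : rngB (chkWL Mx LL WL AL) (nat_lit 388) (nat_lit 0) (nat_lit 7) = 0 := by decide +kernel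

variable {Γ : Type*} [Group Γ]

/-- relations of the Held group, on the letters `f g e d c a b` -/
structure Rel (lt : ℕ → Γ) : Prop where
  zero : lt 0 = 1
  sq : ∀ c, lt c * lt c = 1
  cox : ∀ a < 16, ∀ b < 16, (lt a * lt b) ^ fld Mx 4 15 (a + 16 * b) = 1
  rl : ∀ w ∈ RL, (w.map lt).prod = 1

theorem Rel.inv {lt : ℕ → Γ} (h : Rel lt) : Inv lt WL WS :=
  inv_of_chk h.zero h.sq h.cox (fun u hu => by
      obtain ⟨w, hw, hu⟩ := List.mem_flatMap.1 hu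
      have h1 : ∀ w ∈ RL, ∀ c ∈ w, c < 16 := by decide
      rcases List.mem_pair.1 hu with rfl | rfl
      · rw [val_pk h.zero w (h1 w hw), h.rl w hw]
      · rw [val_pk h.zero _ fun c hc => h1 w hw c (List.mem_reverse.1 hc), prod_rev h.sq,
          h.rl w hw, inv_one])
    (by decide +kernel) (allB (rngB_step (allB0 _ _) cS) (by decide))
    (allB (rngB_step (allB0 _ _) cL) (by decide))

end Cfsg.Agent.H4.YHe
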