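import Cfsg.Agent.H4.HeF

set_option autoImplicit false
set_option maxRecDepth 100000
set_option Elab.async false

namespace Cfsg.Agent.H4.He

open Subgroup Cfsg.Agent.H5 Cfsg.Agent.H5.Mdl 

theorem NJ_0 : rng NJf (nat_lit 0) (nat_lit 2) = 0 := by decide +kernel
theorem cN0S_0 : rng cN0Sf (nat_lit 0) (nat_lit 136) = 0 := by decide +kernel
theorem ZRO_0 : rngB ZROf (nat_lit 2058) (nat_lit 0) (nat_lit 33) = 0 := by decide +kernel
theorem ZY_0 : rngB ZYf (nat_lit 2058) (nat_lit 0) (nat_lit 33) = 0 := by decide +kernel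
theorem qL10RO_0 : rngB qL10ROf (nat_lit 900) (nat_lit 0) (nat_lit 15) = 0 := by decide +kernel
theorem GP_0 : rng GPf (nat_lit 0) (nat_lit 4) = 0 := by decide +kernel
theorem cN1S_0 : rng cN1Sf (nat_lit 0) (nat_lit 36) = 0 := by decide +kernel
theorem qL10yY_0 : rngB qL10yYf (nat_lit 900) (nat_lit 0) (nat_lit 15) = 0 := by decide +kernel
theorem qL30RO_0 : rngB qL30ROf (nat_lit 384) (nat_lit 0) (nat_lit 6) = 0 := by decide +kernel
theorem qL40RO_0 : rngB qL40ROf (nat_lit 360) (nat_lit 0) (nat_lit 6) = 0 := by decide +kernel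
theorem cN0T0 : cNT0 0 = (join (nat_lit 32) (oneF (nat_lit 4)) (one2 (nat_lit 51))) := by decide +kernel
theorem cN1T0 : cNT1 0 = (join (nat_lit 32) (oneF (nat_lit 4)) (one2 (nat_lit 51))) := by decide +kernel
theorem cN2T0 : cNT2 0 = (join (nat_lit 32) (oneF (nat_lit 4)) (one2 (nat_lit 51))) := by decide +kernel
theorem cN3T0 : cNT3 0 = (join (nat_lit 32) (oneF (nat_lit 4)) (one2 (nat_lit 51))) := by decide +kernel
theorem cH0T0 : cHT0 0 = (one2 (nat_lit 51)) := by decide +kernel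
theorem qD0 : qD 0 = (one2 (nat_lit 51)) := by decide +kernel
theorem qhx : pt (brow (nat_lit 51)) qL20y (nat_lit 0) = pt (brow (nat_lit 51)) Y (nat_lit 41) := by decide +kernel
theorem qR4O_0 : rngB qR4Of (nat_lit 136) (nat_lit 0) (nat_lit 3) = 0 := by decide +kernel
theorem cN3S_0 : rng cN3Sf (nat_lit 0) (nat_lit 20) = 0 := by decide +kernel
theorem qR2O_0 : rngB qR2Of (nat_lit 136) (nat_lit 0) (nat_lit 3) = 0 := by decide +kernel
theorem qR3O_0 : rngB qR3Of (nat_lit 136) (nat_lit 0) (nat_lit 3) = 0 := by decide +kernel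
theorem qR4I_0 : rng qR4If (nat_lit 0) (nat_lit 4) = 0 := by decide +kernel
theorem S0RO_0 : rngB S0ROf (nat_lit 255) (nat_lit 0) (nat_lit 4) = 0 := by decide +kernel
theorem qR1O_0 : rngB qR1Of (nat_lit 136) (nat_lit 0) (nat_lit 3) = 0 := by decide +kernel
theorem qL30yY_0 : rngB qL30yYf (nat_lit 384) (nat_lit 0) (nat_lit 6) = 0 := by decide +kernel
theorem qL40yY_0 : rngB qL40yYf (nat_lit 360) (nat_lit 0) (nat_lit 6) = 0 := by decide +kernel
theorem qRHO_0 : rngB qRHOf (nat_lit 136) (nat_lit 0) (nat_lit 3) = 0 := by decide +kernel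
theorem cN2S_0 : rng cN2Sf (nat_lit 0) (nat_lit 10) = 0 := by decide +kernel
theorem qR3I_0 : rng qR3If (nat_lit 0) (nat_lit 3) = 0 := by decide +kernel
theorem qR2I_0 : rng qR2If (nat_lit 0) (nat_lit 3) = 0 := by decide +kernel
theorem qL1W_0 : rng qL1Wf (nat_lit 0) (nat_lit 3) = 0 := by decide +kernel
theorem S0yY_0 : rngB S0yYf (nat_lit 255) (nat_lit 0) (nat_lit 4) = 0 := by decide +kernel
theorem qL21RO_0 : rngB qL21ROf (nat_lit 75) (nat_lit 0) (nat_lit 2) = 0 := by decide +kernel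
theorem qL2W_0 : rng qL2Wf (nat_lit 0) (nat_lit 4) = 0 := by decide +kernel
theorem qR1I_0 : rng qR1If (nat_lit 0) (nat_lit 2) = 0 := by decide +kernel
theorem YY_0 : rngB YYf (nat_lit 136) (nat_lit 0) (nat_lit 3) = 0 := by decide +kernel
theorem cH0S_0 : rng cH0Sf (nat_lit 0) (nat_lit 2) = 0 := by decide +kernel
theorem qL4W_0 : rng qL4Wf (nat_lit 0) (nat_lit 2) = 0 := by decide +kernel
theorem qL3C_0 : rng qL3Cf (nat_lit 0) (nat_lit 3) = 0 := by decide +kernel
theorem crO_0 : rngB crOf (nat_lit 51) (nat_lit 0) (nat_lit 1) = 0 := by decide +kernel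
theorem qL11RO_0 : rngB qL11ROf (nat_lit 16) (nat_lit 0) (nat_lit 1) = 0 := by decide +kernel
theorem NH_0 : rng NHf (nat_lit 0) (nat_lit 2) = 0 := by decide +kernel
theorem SE_0 : rng SEf (nat_lit 0) (nat_lit 2) = 0 := by decide +kernel
theorem qL21yY_0 : rngB qL21yYf (nat_lit 75) (nat_lit 0) (nat_lit 2) = 0 := by decide +kernel
theorem qL22RO_0 : rngB qL22ROf (nat_lit 32) (nat_lit 0) (nat_lit 1) = 0 := by decide +kernel
theorem qL23RO_0 : rngB qL23ROf (nat_lit 6) (nat_lit 0) (nat_lit 1) = 0 := by decide +kernel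
theorem qL31RO_0 : rngB qL31ROf (nat_lit 12) (nat_lit 0) (nat_lit 1) = 0 := by decide +kernel
theorem qL41RO_0 : rngB qL41ROf (nat_lit 4) (nat_lit 0) (nat_lit 1) = 0 := by decide +kernel
theorem SW_0 : rng SWf (nat_lit 0) (nat_lit 6) = 0 := by decide +kernel
theorem qL3W_0 : rng qL3Wf (nat_lit 0) (nat_lit 2) = 0 := by decide +kernel
theorem qL4C_0 : rng qL4Cf (nat_lit 0) (nat_lit 2) = 0 := by decide +kernel
theorem qL20RO_0 : rngB qL20ROf (nat_lit 1) (nat_lit 0) (nat_lit 1) = 0 := by decide +kernel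
theorem S1RO_0 : rngB S1ROf (nat_lit 64) (nat_lit 0) (nat_lit 1) = 0 := by decide +kernel
theorem S2RO_0 : rngB S2ROf (nat_lit 15) (nat_lit 0) (nat_lit 1) = 0 := by decide +kernel
theorem S3RO_0 : rngB S3ROf (nat_lit 4) (nat_lit 0) (nat_lit 1) = 0 := by decide +kernel
theorem qL3E_0 : rng qL3Ef (nat_lit 0) (nat_lit 3) = 0 := by decide +kernel
theorem qL1C_0 : rng qL1Cf (nat_lit 0) (nat_lit 2) = 0 := by decide +kernel
theorem qL2C_0 : rng qL2Cf (nat_lit 0) (nat_lit 2) = 0 := by decide +kernel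
theorem qX_0 : rng qXf (nat_lit 0) (nat_lit 1) = 0 := by decide +kernel
theorem qDI_0 : rng qDIf (nat_lit 0) (nat_lit 5) = 0 := by decide +kernel
theorem cN1G_0 : rng cN1Gf (nat_lit 0) (nat_lit 2) = 0 := by decide +kernel
theorem qL2E_0 : rng qL2Ef (nat_lit 0) (nat_lit 2) = 0 := by decide +kernel
theorem cN0G_0 : rng cN0Gf (nat_lit 0) (nat_lit 2) = 0 := by decide +kernel
theorem cN2G_0 : rng cN2Gf (nat_lit 0) (nat_lit 2) = 0 := by decide +kernel
theorem qL1E_0 : rng qL1Ef (nat_lit 0) (nat_lit 2) = 0 := by decide +kernel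
theorem crV_0 : rng crVf (nat_lit 0) (nat_lit 51) = 0 := by decide +kernel
theorem S1yY_0 : rngB S1yYf (nat_lit 64) (nat_lit 0) (nat_lit 1) = 0 := by decide +kernel
theorem S2yY_0 : rngB S2yYf (nat_lit 15) (nat_lit 0) (nat_lit 1) = 0 := by decide +kernel
theorem S3yY_0 : rngB S3yYf (nat_lit 4) (nat_lit 0) (nat_lit 1) = 0 := by decide +kernel
theorem qL11yY_0 : rngB qL11yYf (nat_lit 16) (nat_lit 0) (nat_lit 1) = 0 := by decide +kernel
theorem qL20yY_0 : rngB qL20yYf (nat_lit 1) (nat_lit 0) (nat_lit 1) = 0 := by decide +kernel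
theorem qL22yY_0 : rngB qL22yYf (nat_lit 32) (nat_lit 0) (nat_lit 1) = 0 := by decide +kernel
theorem qL23yY_0 : rngB qL23yYf (nat_lit 6) (nat_lit 0) (nat_lit 1) = 0 := by decide +kernel
theorem qL31yY_0 : rngB qL31yYf (nat_lit 12) (nat_lit 0) (nat_lit 1) = 0 := by decide +kernel
theorem qL41yY_0 : rngB qL41yYf (nat_lit 4) (nat_lit 0) (nat_lit 1) = 0 := by decide +kernel
theorem qL20X_0 : rng qL20Xf (nat_lit 0) (nat_lit 6) = 0 := by decide +kernel
theorem qBk_0 : rng qBkf (nat_lit 0) (nat_lit 64) = 0 := by decide +kernel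
theorem HI_0 : rng HIf (nat_lit 0) (nat_lit 3) = 0 := by decide +kernel
theorem qL4E_0 : rng qL4Ef (nat_lit 0) (nat_lit 2) = 0 := by decide +kernel
theorem qL21X_0 : rng qL21Xf (nat_lit 0) (nat_lit 4) = 0 := by decide +kernel
theorem NI_0 : rng NIf (nat_lit 0) (nat_lit 2) = 0 := by decide +kernel
theorem qL10X_0 : rng qL10Xf (nat_lit 0) (nat_lit 3) = 0 := by decide +kernel
theorem ZF_0 : rng ZFf (nat_lit 0) (nat_lit 3) = 0 := by decide +kernel
theorem crF_0 : rng crFf (nat_lit 0) (nat_lit 3) = 0 := by decide +kernel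
theorem qL22X_0 : rng qL22Xf (nat_lit 0) (nat_lit 2) = 0 := by decide +kernel
theorem qL30X_0 : rng qL30Xf (nat_lit 0) (nat_lit 2) = 0 := by decide +kernel
theorem qL40X_0 : rng qL40Xf (nat_lit 0) (nat_lit 2) = 0 := by decide +kernel
theorem S0X_0 : rng S0Xf (nat_lit 0) (nat_lit 6) = 0 := by decide +kernel
theorem S1X_0 : rng S1Xf (nat_lit 0) (nat_lit 4) = 0 := by decide +kernel
theorem qtt : (mul2 (nat_lit 51)) (qD 1) (qD 2) = (one2 (nat_lit 51)) := by decide +kernel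
theorem crAB : (mul2 (nat_lit 51)) (crm 0) (crm 1) = (one2 (nat_lit 51)) := by decide +kernel
theorem S2X_0 : rng S2Xf (nat_lit 0) (nat_lit 2) = 0 := by decide +kernel

end Cfsg.Agent.H4.He
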