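import Cfsg.Agent.H4.HeD0

set_option autoImplicit false
set_option maxRecDepth 100000

namespace Cfsg.Agent.H4.He

open Subgroup Cfsg.Agent.H5 Cfsg.Agent.H5.Mdl 

noncomputable abbrev pvA : ℕ → Vc φA := fun x => (⟨vec2 (ZMod 2) 51 x⟩ : Vc φA)
noncomputable abbrev pvS : ℕ → Vi spφ := fun x => (⟨vec4 om e22 x⟩ : Vi spφ)
noncomputable abbrev N : Subgroup (GA × Sp4) := mP.gn Ng 2
noncomputable def NIf : ℕ → ℕ := chkI (mul2 (nat_lit 51)) (one2 (nat_lit 51)) (fun s => hi (nat_lit 32) (Ng s)) Ni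
noncomputable def NJf : ℕ → ℕ := fun s => chkSp (lo (nat_lit 32) (Ng s))
noncomputable abbrev cNK1 : Subgroup (GA × Sp4) := mP.gn cNK1g 2
noncomputable abbrev cNK2 : Subgroup (GA × Sp4) := mP.gn cNK2g 2
noncomputable abbrev cNK3 : Subgroup (GA × Sp4) := mP.gn cNK3g 2
noncomputable def cNe3 : ℕ → ℕ := cel1 (pmul (mul2 (nat_lit 51)) (mulF (nat_lit 4)) (nat_lit 32)) cNT3 (nat_lit 5) (fun _ => (join (nat_lit 32) (oneF (nat_lit 4)) (one2 (nat_lit 51))))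
noncomputable def cNe2 : ℕ → ℕ := cel1 (pmul (mul2 (nat_lit 51)) (mulF (nat_lit 4)) (nat_lit 32)) cNT2 (nat_lit 4) cNe3
noncomputable def cNe1 : ℕ → ℕ := cel1 (pmul (mul2 (nat_lit 51)) (mulF (nat_lit 4)) (nat_lit 32)) cNT1 (nat_lit 6) cNe2
noncomputable def cNe0 : ℕ → ℕ := cel1 (pmul (mul2 (nat_lit 51)) (mulF (nat_lit 4)) (nat_lit 32)) cNT0 (nat_lit 8) cNe1
noncomputable def cN0Sf : ℕ → ℕ := chkS2 (pmul (mul2 (nat_lit 51)) (mulF (nat_lit 4)) (nat_lit 32)) Ng (nat_lit 2) cNT0 cNe1 cN0c (nat_lit 8) (nat_lit 136)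
noncomputable def cN0Gf : ℕ → ℕ := chkG (pmul (mul2 (nat_lit 51)) (mulF (nat_lit 4)) (nat_lit 32)) Ng cNT0 cNK1g [[nat_lit 65, nat_lit 51, nat_lit 0],
  [nat_lit 20, nat_lit 25, nat_lit 1, nat_lit 1, nat_lit 0]]
noncomputable def cN1Sf : ℕ → ℕ := chkS2 (pmul (mul2 (nat_lit 51)) (mulF (nat_lit 4)) (nat_lit 32)) cNK1g (nat_lit 2) cNT1 cNe2 cN1c (nat_lit 6) (nat_lit 36)
noncomputable def cN1Gf : ℕ → ℕ := chkG (pmul (mul2 (nat_lit 51)) (mulF (nat_lit 4)) (nat_lit 32)) cNK1g cNT1 cNK2g [[nat_lit 23, nat_lit 10, nat_lit 1, nat_lit 0, nat_lit 1],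
  [nat_lit 14, nat_lit 22, nat_lit 0, nat_lit 0]]
noncomputable def cN2Sf : ℕ → ℕ := chkS2 (pmul (mul2 (nat_lit 51)) (mulF (nat_lit 4)) (nat_lit 32)) cNK2g (nat_lit 2) cNT2 cNe3 cN2c (nat_lit 4) (nat_lit 10)
noncomputable def cN2Gf : ℕ → ℕ := chkG (pmul (mul2 (nat_lit 51)) (mulF (nat_lit 4)) (nat_lit 32)) cNK2g cNT2 cNK3g [[nat_lit 6, nat_lit 8, nat_lit 1],
  [nat_lit 9, nat_lit 3, nat_lit 0, nat_lit 0, nat_lit 1]]
noncomputable def cN3Sf : ℕ → ℕ := chkS2 (pmul (mul2 (nat_lit 51)) (mulF (nat_lit 4)) (nat_lit 32)) cNK3g (nat_lit 2) cNT3 (fun _ => (join (nat_lit 32) (oneF (nat_lit 4)) (one2 (nat_lit 51)))) cN3c (nat_lit 5) (nat_lit 20)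
noncomputable abbrev H : Subgroup GA := mA.gn Hg 3
noncomputable def HIf : ℕ → ℕ := chkI (mul2 (nat_lit 51)) (one2 (nat_lit 51)) Hg Hi
noncomputable def NHf : ℕ → ℕ := fun s => Nat.xor (Hg s) (hi (nat_lit 32) (Ng s))
noncomputable def cHe0 : ℕ → ℕ := cel1 (mul2 (nat_lit 51)) cHT0 (nat_lit 1) (fun x => hi (nat_lit 32) (cNe0 x))
noncomputable def cH0Sf : ℕ → ℕ := chkS2 (mul2 (nat_lit 51)) Hg (nat_lit 3) cHT0 (fun x => hi (nat_lit 32) (cNe0 x)) cH0c (nat_lit 1) (nat_lit 2)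
noncomputable def SEf : ℕ → ℕ := fun s => Nat.xor (lo (nat_lit 32) (Ng s)) (SP s)
noncomputable def SWf : ℕ → ℕ := chkPl (mulF (nat_lit 4)) SP [[nat_lit 1, nat_lit 1, nat_lit 1, nat_lit 0, nat_lit 1, nat_lit 0, nat_lit 1, nat_lit 0, nat_lit 1, nat_lit 1, nat_lit 1, nat_lit 1, nat_lit 0, nat_lit 1, nat_lit 1, nat_lit 1, nat_lit 1],
  [nat_lit 1, nat_lit 1, nat_lit 1, nat_lit 1, nat_lit 1, nat_lit 1, nat_lit 1, nat_lit 1, nat_lit 1, nat_lit 1, nat_lit 0, nat_lit 1, nat_lit 1, nat_lit 0],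
  [nat_lit 2, nat_lit 3, nat_lit 2, nat_lit 3, nat_lit 3, nat_lit 2, nat_lit 2],
  [nat_lit 3, nat_lit 2, nat_lit 2, nat_lit 3, nat_lit 3, nat_lit 2, nat_lit 2],
  [nat_lit 4, nat_lit 5, nat_lit 5, nat_lit 4, nat_lit 5, nat_lit 5, nat_lit 5, nat_lit 4, nat_lit 5],
  [nat_lit 5, nat_lit 4, nat_lit 5, nat_lit 4, nat_lit 5]] (nat_lit 2)
noncomputable def S0yYf : ℕ → ℕ := chkY can0 (brow (Nat.mul 2 (nat_lit 4))) S0y (nat_lit 255)
noncomputable def S0ROf : ℕ → ℕ := chkO (img4 (nat_lit 4) (shf SP (nat_lit 0))) (brow (Nat.mul 2 (nat_lit 4))) S0y S0Ra (nat_lit 255) [nat_lit 0]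
noncomputable def S0Xf : ℕ → ℕ := chkFx (img4 (nat_lit 4) SP) (brow (Nat.mul 2 (nat_lit 4))) S0y (nat_lit 0) [nat_lit 0, nat_lit 0, nat_lit 0, nat_lit 0, nat_lit 0, nat_lit 0] (nat_lit 2)
noncomputable abbrev SK1 : Subgroup Sp4 := (Subgroup.map (MonoidHom.snd GA Sp4) N) ⊓ MulAction.stabilizer Sp4 (pvS (pt (brow (Nat.mul 2 (nat_lit 4))) S0y (nat_lit 0)))
noncomputable def S1yYf : ℕ → ℕ := chkY can0 (brow (Nat.mul 2 (nat_lit 4))) S1y (nat_lit 64)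
noncomputable def S1ROf : ℕ → ℕ := chkO (img4 (nat_lit 4) (shf SP (nat_lit 2))) (brow (Nat.mul 2 (nat_lit 4))) S1y S1Ra (nat_lit 64) [nat_lit 0]
noncomputable def S1Xf : ℕ → ℕ := chkFx (img4 (nat_lit 4) SP) (brow (Nat.mul 2 (nat_lit 4))) S1y (nat_lit 0) [nat_lit 0, nat_lit 0, nat_lit 0, nat_lit 0] (nat_lit 4)
noncomputable abbrev SK2 : Subgroup Sp4 := SK1 ⊓ MulAction.stabilizer Sp4 (pvS (pt (brow (Nat.mul 2 (nat_lit 4))) S1y (nat_lit 0)))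
noncomputable def S2yYf : ℕ → ℕ := chkY can0 (brow (Nat.mul 2 (nat_lit 4))) S2y (nat_lit 15)
noncomputable def S2ROf : ℕ → ℕ := chkO (img4 (nat_lit 4) (shf SP (nat_lit 4))) (brow (Nat.mul 2 (nat_lit 4))) S2y S2Ra (nat_lit 15) [nat_lit 0]
noncomputable def S2Xf : ℕ → ℕ := chkFx (img4 (nat_lit 4) SP) (brow (Nat.mul 2 (nat_lit 4))) S2y (nat_lit 0) [nat_lit 0, nat_lit 0] (nat_lit 6)
noncomputable abbrev SK3 : Subgroup Sp4 := SK2 ⊓ MulAction.stabilizer Sp4 (pvS (pt (brow (Nat.mul 2 (nat_lit 4))) S2y (nat_lit 0)))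
noncomputable def S3yYf : ℕ → ℕ := chkY can0 (brow (Nat.mul 2 (nat_lit 4))) S3y (nat_lit 4)
noncomputable def S3ROf : ℕ → ℕ := chkO (img4 (nat_lit 4) (shf SP (nat_lit 6))) (brow (Nat.mul 2 (nat_lit 4))) S3y S3Ra (nat_lit 4) [nat_lit 0]
noncomputable def S3Xf : ℕ → ℕ := chkFx (img4 (nat_lit 4) SP) (brow (Nat.mul 2 (nat_lit 4))) S3y (nat_lit 0) [] (nat_lit 8)
noncomputable abbrev SK4 : Subgroup Sp4 := SK3 ⊓ MulAction.stabilizer Sp4 (pvS (pt (brow (Nat.mul 2 (nat_lit 4))) S3y (nat_lit 0)))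
noncomputable def YYf : ℕ → ℕ := chkY can0 (brow (nat_lit 51)) Y (nat_lit 136)
noncomputable def qDIf : ℕ → ℕ := chkI (mul2 (nat_lit 51)) (one2 (nat_lit 51)) qD qDi
noncomputable def qRHOf : ℕ → ℕ := chkO (img2 (nat_lit 51) Hg) (brow (nat_lit 51)) Y qRHa (nat_lit 136) [nat_lit 41]
noncomputable abbrev qL1 : Subgroup GA := Lf (MonoidHom.id GA) H (mA.elt (qD 1))
noncomputable def qL1Ef : ℕ → ℕ := chkE qL1P cHe0 [nat_lit 8528638, nat_lit 2202883]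
noncomputable def qL1Cf : ℕ → ℕ := chkL (mul2 (nat_lit 51)) (qD 1) qL1P cHe0 [nat_lit 8635419, nat_lit 733850]
noncomputable def qL1Wf : ℕ → ℕ := chkPl (mul2 (nat_lit 51)) qL1P [[nat_lit 1, nat_lit 0, nat_lit 1, nat_lit 1, nat_lit 1, nat_lit 1, nat_lit 0, nat_lit 0, nat_lit 0, nat_lit 0, nat_lit 0, nat_lit 0, nat_lit 1],
  [nat_lit 1, nat_lit 0, nat_lit 1, nat_lit 1, nat_lit 1, nat_lit 1, nat_lit 1, nat_lit 0, nat_lit 0, nat_lit 0, nat_lit 1, nat_lit 1, nat_lit 1],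
  [nat_lit 1, nat_lit 1, nat_lit 0, nat_lit 1, nat_lit 0, nat_lit 1, nat_lit 1, nat_lit 1, nat_lit 0, nat_lit 0, nat_lit 1, nat_lit 0]] (nat_lit 2)
noncomputable def qL10yYf : ℕ → ℕ := chkY can0 (brow (nat_lit 51)) qL10y (nat_lit 900)
noncomputable def qL10ROf : ℕ → ℕ := chkO (img2 (nat_lit 51) (shf qL1P (nat_lit 0))) (brow (nat_lit 51)) qL10y qL10Ra (nat_lit 900) [nat_lit 0]
noncomputable def qL10Xf : ℕ → ℕ := chkFx (img2 (nat_lit 51) qL1P) (brow (nat_lit 51)) qL10y (nat_lit 0) [nat_lit 0, nat_lit 0, nat_lit 0] (nat_lit 2)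
noncomputable abbrev qL1K1 : Subgroup GA := qL1 ⊓ MulAction.stabilizer GA (pvA (pt (brow (nat_lit 51)) qL10y (nat_lit 0)))
noncomputable def qL11yYf : ℕ → ℕ := chkY can0 (brow (nat_lit 51)) qL11y (nat_lit 16)
noncomputable def qL11ROf : ℕ → ℕ := chkO (img2 (nat_lit 51) (shf qL1P (nat_lit 2))) (brow (nat_lit 51)) qL11y qL11Ra (nat_lit 16) [nat_lit 0]
noncomputable def qL11Xf : ℕ → ℕ := chkFx (img2 (nat_lit 51) qL1P) (brow (nat_lit 51)) qL11y (nat_lit 0) [] (nat_lit 5)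
noncomputable abbrev qL1K2 : Subgroup GA := qL1K1 ⊓ MulAction.stabilizer GA (pvA (pt (brow (nat_lit 51)) qL11y (nat_lit 0)))
noncomputable abbrev qL2 : Subgroup GA := Lf (MonoidHom.id GA) H (mA.elt (qD 2))
noncomputable def qL2Ef : ℕ → ℕ := chkE qL2P cHe0 [nat_lit 1248483, nat_lit 9551053]
noncomputable def qL2Cf : ℕ → ℕ := chkL (mul2 (nat_lit 51)) (qD 2) qL2P cHe0 [nat_lit 10036883, nat_lit 759334]
noncomputable def qL2Wf : ℕ → ℕ := chkPl (mul2 (nat_lit 51)) qL2P [[nat_lit 1, nat_lit 0, nat_lit 0, nat_lit 0, nat_lit 0, nat_lit 1, nat_lit 1, nat_lit 1, nat_lit 1],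
  [nat_lit 1, nat_lit 0, nat_lit 0, nat_lit 0, nat_lit 1, nat_lit 0, nat_lit 0],
  [nat_lit 2, nat_lit 2, nat_lit 2, nat_lit 3, nat_lit 3, nat_lit 2],
  [nat_lit 2, nat_lit 2, nat_lit 3, nat_lit 3, nat_lit 2, nat_lit 3, nat_lit 3, nat_lit 3]] (nat_lit 2)
noncomputable def qL20yYf : ℕ → ℕ := chkY can0 (brow (nat_lit 51)) qL20y (nat_lit 1)
noncomputable def qL20ROf : ℕ → ℕ := chkO (img2 (nat_lit 51) (shf qL2P (nat_lit 0))) (brow (nat_lit 51)) qL20y qL20Ra (nat_lit 1) [nat_lit 0]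
noncomputable def qL20Xf : ℕ → ℕ := chkFx (img2 (nat_lit 51) qL2P) (brow (nat_lit 51)) qL20y (nat_lit 0) [nat_lit 0, nat_lit 0, nat_lit 0, nat_lit 0, nat_lit 0, nat_lit 0] (nat_lit 0)
noncomputable abbrev qL2K1 : Subgroup GA := qL2 ⊓ MulAction.stabilizer GA (pvA (pt (brow (nat_lit 51)) qL20y (nat_lit 0)))
noncomputable def qL21yYf : ℕ → ℕ := chkY can0 (brow (nat_lit 51)) qL21y (nat_lit 75)
noncomputable def qL21ROf : ℕ → ℕ := chkO (img2 (nat_lit 51) (shf qL2P (nat_lit 0))) (brow (nat_lit 51)) qL21y qL21Ra (nat_lit 75) [nat_lit 0]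
noncomputable def qL21Xf : ℕ → ℕ := chkFx (img2 (nat_lit 51) qL2P) (brow (nat_lit 51)) qL21y (nat_lit 0) [nat_lit 0, nat_lit 0, nat_lit 0, nat_lit 0] (nat_lit 2)
noncomputable abbrev qL2K2 : Subgroup GA := qL2K1 ⊓ MulAction.stabilizer GA (pvA (pt (brow (nat_lit 51)) qL21y (nat_lit 0)))
noncomputable def qL22yYf : ℕ → ℕ := chkY can0 (brow (nat_lit 51)) qL22y (nat_lit 32)
noncomputable def qL22ROf : ℕ → ℕ := chkO (img2 (nat_lit 51) (shf qL2P (nat_lit 2))) (brow (nat_lit 51)) qL22y qL22Ra (nat_lit 32) [nat_lit 16]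
noncomputable def qL22Xf : ℕ → ℕ := chkFx (img2 (nat_lit 51) qL2P) (brow (nat_lit 51)) qL22y (nat_lit 16) [nat_lit 0, nat_lit 0] (nat_lit 4)
noncomputable abbrev qL2K3 : Subgroup GA := qL2K2 ⊓ MulAction.stabilizer GA (pvA (pt (brow (nat_lit 51)) qL22y (nat_lit 16)))
noncomputable def qL23yYf : ℕ → ℕ := chkY can0 (brow (nat_lit 51)) qL23y (nat_lit 6)
noncomputable def qL23ROf : ℕ → ℕ := chkO (img2 (nat_lit 51) (shf qL2P (nat_lit 4))) (brow (nat_lit 51)) qL23y qL23Ra (nat_lit 6) [nat_lit 2]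
noncomputable def qL23Xf : ℕ → ℕ := chkFx (img2 (nat_lit 51) qL2P) (brow (nat_lit 51)) qL23y (nat_lit 2) [] (nat_lit 6)
noncomputable abbrev qL2K4 : Subgroup GA := qL2K3 ⊓ MulAction.stabilizer GA (pvA (pt (brow (nat_lit 51)) qL23y (nat_lit 2)))
noncomputable abbrev qL3 : Subgroup GA := Lf (MonoidHom.id GA) H (mA.elt (qD 3))
noncomputable def qL3Ef : ℕ → ℕ := chkE qL3P cHe0 [nat_lit 1846407, nat_lit 3408522, nat_lit 5418001]
noncomputable def qL3Cf : ℕ → ℕ := chkL (mul2 (nat_lit 51)) (qD 3) qL3P cHe0 [nat_lit 4990599, nat_lit 167534, nat_lit 7899397]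
noncomputable def qL3Wf : ℕ → ℕ := chkPl (mul2 (nat_lit 51)) qL3P [[nat_lit 1, nat_lit 0, nat_lit 2, nat_lit 1, nat_lit 1, nat_lit 0, nat_lit 2],
  [nat_lit 0, nat_lit 1, nat_lit 2, nat_lit 0, nat_lit 2, nat_lit 2, nat_lit 1, nat_lit 1]] (nat_lit 3)
noncomputable def qL30yYf : ℕ → ℕ := chkY can0 (brow (nat_lit 51)) qL30y (nat_lit 384)
noncomputable def qL30ROf : ℕ → ℕ := chkO (img2 (nat_lit 51) (shf qL3P (nat_lit 0))) (brow (nat_lit 51)) qL30y qL30Ra (nat_lit 384) [nat_lit 0]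
noncomputable def qL30Xf : ℕ → ℕ := chkFx (img2 (nat_lit 51) qL3P) (brow (nat_lit 51)) qL30y (nat_lit 0) [nat_lit 0, nat_lit 0] (nat_lit 3)
noncomputable abbrev qL3K1 : Subgroup GA := qL3 ⊓ MulAction.stabilizer GA (pvA (pt (brow (nat_lit 51)) qL30y (nat_lit 0)))
noncomputable def qL31yYf : ℕ → ℕ := chkY can0 (brow (nat_lit 51)) qL31y (nat_lit 12)
noncomputable def qL31ROf : ℕ → ℕ := chkO (img2 (nat_lit 51) (shf qL3P (nat_lit 3))) (brow (nat_lit 51)) qL31y qL31Ra (nat_lit 12) [nat_lit 0]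
noncomputable def qL31Xf : ℕ → ℕ := chkFx (img2 (nat_lit 51) qL3P) (brow (nat_lit 51)) qL31y (nat_lit 0) [] (nat_lit 5)
noncomputable abbrev qL3K2 : Subgroup GA := qL3K1 ⊓ MulAction.stabilizer GA (pvA (pt (brow (nat_lit 51)) qL31y (nat_lit 0)))
noncomputable abbrev qL4 : Subgroup GA := Lf (MonoidHom.id GA) H (mA.elt (qD 4))
noncomputable def qL4Ef : ℕ → ℕ := chkE qL4P cHe0 [nat_lit 6303865, nat_lit 6822592]
noncomputable def qL4Cf : ℕ → ℕ := chkL (mul2 (nat_lit 51)) (qD 4) qL4P cHe0 [nat_lit 4758203, nat_lit 8127709]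
noncomputable def qL4Wf : ℕ → ℕ := chkPl (mul2 (nat_lit 51)) qL4P [[nat_lit 0, nat_lit 0, nat_lit 1, nat_lit 0, nat_lit 0, nat_lit 1, nat_lit 0, nat_lit 1, nat_lit 1, nat_lit 0, nat_lit 1],
  [nat_lit 1, nat_lit 0, nat_lit 1, nat_lit 1, nat_lit 1, nat_lit 0, nat_lit 1, nat_lit 1, nat_lit 1, nat_lit 0]] (nat_lit 2)
noncomputable def qL40yYf : ℕ → ℕ := chkY can0 (brow (nat_lit 51)) qL40y (nat_lit 360)
noncomputable def qL40ROf : ℕ → ℕ := chkO (img2 (nat_lit 51) (shf qL4P (nat_lit 0))) (brow (nat_lit 51)) qL40y qL40Ra (nat_lit 360) [nat_lit 0]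
noncomputable def qL40Xf : ℕ → ℕ := chkFx (img2 (nat_lit 51) qL4P) (brow (nat_lit 51)) qL40y (nat_lit 0) [nat_lit 0, nat_lit 0] (nat_lit 2)
noncomputable abbrev qL4K1 : Subgroup GA := qL4 ⊓ MulAction.stabilizer GA (pvA (pt (brow (nat_lit 51)) qL40y (nat_lit 0)))
noncomputable def qL41yYf : ℕ → ℕ := chkY can0 (brow (nat_lit 51)) qL41y (nat_lit 4)
noncomputable def qL41ROf : ℕ → ℕ := chkO (img2 (nat_lit 51) (shf qL4P (nat_lit 2))) (brow (nat_lit 51)) qL41y qL41Ra (nat_lit 4) [nat_lit 0]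
noncomputable def qL41Xf : ℕ → ℕ := chkFx (img2 (nat_lit 51) qL4P) (brow (nat_lit 51)) qL41y (nat_lit 0) [] (nat_lit 4)
noncomputable abbrev qL4K2 : Subgroup GA := qL4K1 ⊓ MulAction.stabilizer GA (pvA (pt (brow (nat_lit 51)) qL41y (nat_lit 0)))
noncomputable def qB : ℕ := (nat_lit 0x46809353830e08d0126a7061c11a024d4e0c38234049a9c187046809353830e08d0126a7061c11a024d4e0c38234049a9c187046809353830e08d0126a7061c11a024d4e0c38234049a9c187046809353830e08d0126a7061c11a024d4e0c38234049a9c187046809353830e08d0126a7061c11a024d4e0c38234049a9c187046809353830e08d0126a7061c11a024d4e0c38234049a9c187046809353830e08d0126a7061c11a024d4e0c38234049a9c187046809353830e08d0126a7061c11a024d4e0c38234049a9c187046809353830e08d0126a7061c11a024d4e0c38234049a9c187046809353830e08d0126a7061c11a024d4e0c38234049a9c187046809353830e08d0126a7061c11a024d4e0c38234049a9c187046809353830e08d0126a7061c11a024d4e0c38234049a9c187046809353830e08d0126a7061c11a024d4e0c38234049a9c187046809353830e08d0126a7061c11a024d4e0c38234049a9c187046809353830e08d0126a7061c11a024d4e0c38234049a9c187046809353830e08d0126a7061c11a024d4e0c38234049a9c187)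
noncomputable def qBkf : ℕ → ℕ := chkB (img2 (nat_lit 51) (cel1 (mul2 (nat_lit 51)) qL2P (nat_lit 3) qL2P)) (brow (nat_lit 51)) Y (nat_lit 41) qB [nat_lit 6, nat_lit 6, nat_lit 6, nat_lit 6, nat_lit 6, nat_lit 6, nat_lit 6, nat_lit 6, nat_lit 6, nat_lit 6, nat_lit 6, nat_lit 6, nat_lit 6, nat_lit 6, nat_lit 6, nat_lit 6, nat_lit 6, nat_lit 6, nat_lit 6, nat_lit 6, nat_lit 6, nat_lit 6, nat_lit 6, nat_lit 6, nat_lit 6, nat_lit 6, nat_lit 6, nat_lit 6, nat_lit 6, nat_lit 6, nat_lit 6, nat_lit 6, nat_lit 6, nat_lit 6, nat_lit 6, nat_lit 6, nat_lit 6, nat_lit 6, nat_lit 6, nat_lit 6, nat_lit 6, nat_lit 6, nat_lit 6, nat_lit 6, nat_lit 6, nat_lit 6, nat_lit 6, nat_lit 6, nat_lit 6, nat_lit 6, nat_lit 6, nat_lit 6, nat_lit 6, nat_lit 6, nat_lit 6, nat_lit 6, nat_lit 6, nat_lit 6, nat_lit 6, nat_lit 6, nat_lit 6, nat_lit 6, nat_lit 6, nat_lit 6] [nat_lit 0, nat_lit 0, nat_lit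 0, nat_lit 0, nat_lit 0, nat_lit 0, nat_lit 0, nat_lit 0, nat_lit 0, nat_lit 0, nat_lit 0, nat_lit 0, nat_lit 0, nat_lit 0, nat_lit 0, nat_lit 0, nat_lit 0, nat_lit 0, nat_lit 0, nat_lit 0, nat_lit 0, nat_lit 0, nat_lit 0, nat_lit 0, nat_lit 0, nat_lit 0, nat_lit 0, nat_lit 0, nat_lit 0, nat_lit 0, nat_lit 0, nat_lit 0, nat_lit 0, nat_lit 0, nat_lit 0, nat_lit 0, nat_lit 0, nat_lit 0, nat_lit 0, nat_lit 0, nat_lit 0, nat_lit 0, nat_lit 0, nat_lit 0, nat_lit 0, nat_lit 0, nat_lit 0, nat_lit 0, nat_lit 0, nat_lit 0, nat_lit 0, nat_lit 0, nat_lit 0, nat_lit 0, nat_lit 0, nat_lit 0, nat_lit 0, nat_lit 0, nat_lit 0, nat_lit 0, nat_lit 0, nat_lit 0, nat_lit 0, nat_lit 0]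
noncomputable def qR1w : List (List ℕ) := [[nat_lit 1, nat_lit 297985, nat_lit 1, nat_lit 6456838, nat_lit 4, nat_lit 831702],
  [nat_lit 1, nat_lit 203986, nat_lit 1, nat_lit 10263696, nat_lit 2, nat_lit 3448851]]
noncomputable def qR1If : ℕ → ℕ := chkD1 (mul2 (nat_lit 51)) qD cHe0 qR1w (nat_lit 1) (nat_lit 5)
noncomputable def qR1Of : ℕ → ℕ := chkR (img2 (nat_lit 51) qL1P) (img2 (nat_lit 51) cHe0) (brow (nat_lit 51)) Y qR1a (nat_lit 136) qB qR1w (nat_lit 2)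
noncomputable def qR2w : List (List ℕ) := [[nat_lit 2, nat_lit 297985, nat_lit 1, nat_lit 9449684, nat_lit 3, nat_lit 3816037],
  [nat_lit 2, nat_lit 206988, nat_lit 1, nat_lit 9486533, nat_lit 4, nat_lit 8424977],
  [nat_lit 2, nat_lit 3916899, nat_lit 1, nat_lit 5352050, nat_lit 0, nat_lit 0]]
noncomputable def qR2If : ℕ → ℕ := chkD1 (mul2 (nat_lit 51)) qD cHe0 qR2w (nat_lit 2) (nat_lit 5)
noncomputable def qR2Of : ℕ → ℕ := chkR (img2 (nat_lit 51) qL2P) (img2 (nat_lit 51) cHe0) (brow (nat_lit 51)) Y qR2a (nat_lit 136) qB qR2w (nat_lit 3)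
noncomputable def qR3w : List (List ℕ) := [[nat_lit 3, nat_lit 297985, nat_lit 1, nat_lit 1878163, nat_lit 4, nat_lit 1150029],
  [nat_lit 3, nat_lit 67208, nat_lit 1, nat_lit 3413151, nat_lit 3, nat_lit 70],
  [nat_lit 3, nat_lit 178795, nat_lit 1, nat_lit 4428892, nat_lit 1, nat_lit 9635499]]
noncomputable def qR3If : ℕ → ℕ := chkD1 (mul2 (nat_lit 51)) qD cHe0 qR3w (nat_lit 3) (nat_lit 5)
noncomputable def qR3Of : ℕ → ℕ := chkR (img2 (nat_lit 51) qL3P) (img2 (nat_lit 51) cHe0) (brow (nat_lit 51)) Y qR3a (nat_lit 136) qB qR3w (nat_lit 3)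
noncomputable def qR4w : List (List ℕ) := [[nat_lit 4, nat_lit 297985, nat_lit 1, nat_lit 1321634, nat_lit 4, nat_lit 10139853],
  [nat_lit 4, nat_lit 1574080, nat_lit 1, nat_lit 1745632, nat_lit 1, nat_lit 13],
  [nat_lit 4, nat_lit 1586340, nat_lit 1, nat_lit 1055834, nat_lit 3, nat_lit 1837785],
  [nat_lit 4, nat_lit 9447961, nat_lit 1, nat_lit 7876848, nat_lit 2, nat_lit 8422009]]
noncomputable def qR4If : ℕ → ℕ := chkD1 (mul2 (nat_lit 51)) qD cHe0 qR4w (nat_lit 4) (nat_lit 5)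
noncomputable def qR4Of : ℕ → ℕ := chkR (img2 (nat_lit 51) qL4P) (img2 (nat_lit 51) cHe0) (brow (nat_lit 51)) Y qR4a (nat_lit 136) qB qR4w (nat_lit 4)
noncomputable abbrev qG : Subgroup GA := (Subgroup.map (MonoidHom.id GA) H) ⊔ zpowers (mA.elt (qD 1))
noncomputable def qXw : List (List ℕ) := [[nat_lit 2, nat_lit 303725, nat_lit 2, nat_lit 8690693, nat_lit 1, nat_lit 86]]
noncomputable def qXf : ℕ → ℕ := chkD (mul2 (nat_lit 51)) qD cHe0 qXw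
noncomputable def ZYf : ℕ → ℕ := chkY can0 (brow (nat_lit 51)) Z (nat_lit 2058)
noncomputable def Gg : ℕ → ℕ := cons1 (qD 1) Hg
noncomputable def ZROf : ℕ → ℕ := chkO (img2 (nat_lit 51) Gg) (brow (nat_lit 51)) Z ZRa (nat_lit 2058) [nat_lit 0]
noncomputable def ZFf : ℕ → ℕ := chkF (img2 (nat_lit 51) Hg) (brow (nat_lit 51)) Z (nat_lit 0) []
noncomputable def qe : ℕ → ℕ := del1 (mul2 (nat_lit 51)) qD (nat_lit 3) (nat_lit 24) cHe0
noncomputable def GPf : ℕ → ℕ := chkP (mul2 (nat_lit 51)) (one2 (nat_lit 51)) Gg qe [[nat_lit 573673422206220, nat_lit 433358748525498],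
  [nat_lit 704889954583740, nat_lit 1232441840578748],
  [nat_lit 655316257968858, nat_lit 392621394506761],
  [nat_lit 1271600021308300, nat_lit 1351319265288404]] (nat_lit 7)
noncomputable def crOf : ℕ → ℕ := chkO (img2 (nat_lit 51) Gg) (brow (nat_lit 51)) cry cra (nat_lit 51) [nat_lit 0]
noncomputable def crVf : ℕ → ℕ := chkV (brow (nat_lit 51)) cry (nat_lit 51) (crm 0)
noncomputable def crFf : ℕ → ℕ := chkF (img2 (nat_lit 51) Hg) (brow (nat_lit 51)) cry (nat_lit 0) []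

end Cfsg.Agent.H4.He
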