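import Cfsg.Agent.H4.HeC0

set_option autoImplicit false
set_option maxRecDepth 100000

namespace Cfsg.Agent.H4.He

open Subgroup Cfsg.Agent.H5 Cfsg.Agent.H5.Mdl 

attribute [local irreducible] look Tr.get

theorem NI : ∀ i < 2, (chkI (mul2 (nat_lit 51)) (one2 (nat_lit 51)) (fun s => hi (nat_lit 32) (Ng s)) Ni) i = 0 :=
  (rng_step (all0 _) NI_0)
theorem NJ : ∀ i < 2, (fun s => chkSp (lo (nat_lit 32) (Ng s))) i = 0 :=
  (rng_step (all0 _) NJ_0)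
theorem N_top : ∀ s < 2, mP.In ⊤ (Ng s) :=
  fun s hs => in_pair (in_of_chkI mA (fun _ => rfl) NI s hs) (in_Sp4 (NJ s hs))
theorem N_in : ∀ s < 2, mP.In N (Ng s) :=
  in_gn N_top
theorem N_eg : mP.El N Ng :=
  el_gn N_top
theorem cN0S : ∀ i < 136, (chkS2 (pmul (mul2 (nat_lit 51)) (mulF (nat_lit 4)) (nat_lit 32)) Ng (nat_lit 2) cNT0 cNe1 cN0c (nat_lit 8) (nat_lit 136)) i = 0 :=
  (rng_step (all0 _) cN0S_0)
theorem cN0elT : mP.El N cNT0 :=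
  el_of_pad (inT_of_chkS2 (m := mP) cN0T0 (by decide) N_in cN0S)
theorem cN0G : ∀ i < 2, (chkG (pmul (mul2 (nat_lit 51)) (mulF (nat_lit 4)) (nat_lit 32)) Ng cNT0 cNK1g [[nat_lit 65, nat_lit 51, nat_lit 0],
  [nat_lit 20, nat_lit 25, nat_lit 1, nat_lit 1, nat_lit 0]]) i = 0 :=
  (rng_step (all0 _) cN0G_0)
theorem cN0inG : ∀ s < 2, mP.In N (cNK1g s) :=
  in_of_chkG N_eg cN0elT cN0G
theorem cNK1_top : ∀ s < 2, mP.In ⊤ (cNK1g s) :=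
  fun s hs => (cN0inG s hs).top
theorem cNK1_in : ∀ s < 2, mP.In cNK1 (cNK1g s) :=
  in_gn cNK1_top
theorem cNK1_eg : mP.El cNK1 cNK1g :=
  el_gn cNK1_top
theorem cN0le : cNK1 ≤ N :=
  gn_le cN0inG
theorem cN1S : ∀ i < 36, (chkS2 (pmul (mul2 (nat_lit 51)) (mulF (nat_lit 4)) (nat_lit 32)) cNK1g (nat_lit 2) cNT1 cNe2 cN1c (nat_lit 6) (nat_lit 36)) i = 0 :=
  (rng_step (all0 _) cN1S_0)
theorem cN1elT : mP.El cNK1 cNT1 :=
  el_of_pad (inT_of_chkS2 (m := mP) cN1T0 (by decide) cNK1_in cN1S)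
theorem cN1G : ∀ i < 2, (chkG (pmul (mul2 (nat_lit 51)) (mulF (nat_lit 4)) (nat_lit 32)) cNK1g cNT1 cNK2g [[nat_lit 23, nat_lit 10, nat_lit 1, nat_lit 0, nat_lit 1],
  [nat_lit 14, nat_lit 22, nat_lit 0, nat_lit 0]]) i = 0 :=
  (rng_step (all0 _) cN1G_0)
theorem cN1inG : ∀ s < 2, mP.In cNK1 (cNK2g s) :=
  in_of_chkG cNK1_eg cN1elT cN1G
theorem cNK2_top : ∀ s < 2, mP.In ⊤ (cNK2g s) :=
  fun s hs => (cN1inG s hs).top
theorem cNK2_in : ∀ s < 2, mP.In cNK2 (cNK2g s) :=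
  in_gn cNK2_top
theorem cNK2_eg : mP.El cNK2 cNK2g :=
  el_gn cNK2_top
theorem cN1le : cNK2 ≤ cNK1 :=
  gn_le cN1inG
theorem cN2S : ∀ i < 10, (chkS2 (pmul (mul2 (nat_lit 51)) (mulF (nat_lit 4)) (nat_lit 32)) cNK2g (nat_lit 2) cNT2 cNe3 cN2c (nat_lit 4) (nat_lit 10)) i = 0 :=
  (rng_step (all0 _) cN2S_0)
theorem cN2elT : mP.El cNK2 cNT2 :=
  el_of_pad (inT_of_chkS2 (m := mP) cN2T0 (by decide) cNK2_in cN2S)
theorem cN2G : ∀ i < 2, (chkG (pmul (mul2 (nat_lit 51)) (mulF (nat_lit 4)) (nat_lit 32)) cNK2g cNT2 cNK3g [[nat_lit 6, nat_lit 8, nat_lit 1],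
  [nat_lit 9, nat_lit 3, nat_lit 0, nat_lit 0, nat_lit 1]]) i = 0 :=
  (rng_step (all0 _) cN2G_0)
theorem cN2inG : ∀ s < 2, mP.In cNK2 (cNK3g s) :=
  in_of_chkG cNK2_eg cN2elT cN2G
theorem cNK3_top : ∀ s < 2, mP.In ⊤ (cNK3g s) :=
  fun s hs => (cN2inG s hs).top
theorem cNK3_in : ∀ s < 2, mP.In cNK3 (cNK3g s) :=
  in_gn cNK3_top
theorem cNK3_eg : mP.El cNK3 cNK3g :=
  el_gn cNK3_top
theorem cN2le : cNK3 ≤ cNK2 :=
  gn_le cN2inG
theorem cN3S : ∀ i < 20, (chkS2 (pmul (mul2 (nat_lit 51)) (mulF (nat_lit 4)) (nat_lit 32)) cNK3g (nat_lit 2) cNT3 (fun _ => (join (nat_lit 32) (oneF (nat_lit 4)) (one2 (nat_lit 51)))) cN3c (nat_lit 5) (nat_lit 20)) i = 0 :=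
  (rng_step (all0 _) cN3S_0)
theorem cN3elT : mP.El cNK3 cNT3 :=
  el_of_pad (inT_of_chkS2 (m := mP) cN3T0 (by decide) cNK3_in cN3S)
theorem cN3le : (⊥ : Subgroup (GA × Sp4)) ≤ cNK3 :=
  bot_le
theorem cN3ub : Nat.card cNK3 ≤ 20 :=
  (ub_of_chkS2 (m := mP) (el_one (m := mP) ⊥) (by decide) cN3T0 cN3S card_bot_le).trans (by norm_num)
theorem cN3el : mP.El cNK3 cNe3 :=
  el_cel1 cN3elT ((el_one (m := mP) ⊥).mono cN3le) _
theorem cN2ub : Nat.card cNK2 ≤ 200 :=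
  (ub_of_chkS2 (m := mP) cN3el (by decide) cN2T0 cN2S cN3ub).trans (by norm_num)
theorem cN2el : mP.El cNK2 cNe2 :=
  el_cel1 cN2elT (cN3el.mono cN2le) _
theorem cN1ub : Nat.card cNK1 ≤ 7200 :=
  (ub_of_chkS2 (m := mP) cN2el (by decide) cN1T0 cN1S cN2ub).trans (by norm_num)
theorem cN1el : mP.El cNK1 cNe1 :=
  el_cel1 cN1elT (cN2el.mono cN1le) _
theorem cN0ub : Nat.card N ≤ 979200 :=
  (ub_of_chkS2 (m := mP) cN1el (by decide) cN0T0 cN0S cN1ub).trans (by norm_num)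
theorem cN0el : mP.El N cNe0 :=
  el_cel1 cN0elT (cN1el.mono cN0le) _
theorem HI : ∀ i < 3, (chkI (mul2 (nat_lit 51)) (one2 (nat_lit 51)) Hg Hi) i = 0 :=
  (rng_step (all0 _) HI_0)
theorem H_top : ∀ s < 3, mA.In ⊤ (Hg s) :=
  in_of_chkI mA (fun _ => rfl) HI
theorem H_in : ∀ s < 3, mA.In H (Hg s) :=
  in_gn H_top
theorem H_eg : mA.El H Hg :=
  el_gn H_top
theorem NH : ∀ i < 2, (fun s => Nat.xor (Hg s) (hi (nat_lit 32) (Ng s))) i = 0 :=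
  (rng_step (all0 _) NH_0)
theorem cH0S : ∀ i < 2, (chkS2 (mul2 (nat_lit 51)) Hg (nat_lit 3) cHT0 (fun x => hi (nat_lit 32) (cNe0 x)) cH0c (nat_lit 1) (nat_lit 2)) i = 0 :=
  (rng_step (all0 _) cH0S_0)
theorem cH0elT : mA.El H cHT0 :=
  el_of_pad (inT_of_chkS2 (m := mA) cH0T0 (by decide) H_in cH0S)
theorem cH0le : (Subgroup.map (MonoidHom.fst GA Sp4) N) ≤ H :=
  ((pr_fst mA mS 32 hb).map_gn N_top).le.trans (gn_le fun s hs => (H_eg s).of_eq (NH s hs))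
theorem cH0ub : Nat.card H ≤ 1958400 :=
  (ub_of_chkS2 (m := mA) ((pr_fst mA mS 32 hb).el cN0el) (by decide) cH0T0 cH0S ((card_map_le _ _).trans cN0ub)).trans (by norm_num)
theorem cH0el : mA.El H cHe0 :=
  el_cel1 cH0elT (((pr_fst mA mS 32 hb).el cN0el).mono cH0le) _
theorem SE : ∀ i < 2, (fun s => Nat.xor (lo (nat_lit 32) (Ng s)) (SP s)) i = 0 :=
  (rng_step (all0 _) SE_0)
theorem Sin0 : ∀ u < 2, mS.In (Subgroup.map (MonoidHom.snd GA Sp4) N) (SP u) :=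
  fun s hs => ((pr_snd mA mS 32 hb).in (N_in s hs)).of_eq (SE s hs)
theorem SW : ∀ i < 6, (chkPl (mulF (nat_lit 4)) SP [[nat_lit 1, nat_lit 1, nat_lit 1, nat_lit 0, nat_lit 1, nat_lit 0, nat_lit 1, nat_lit 0, nat_lit 1, nat_lit 1, nat_lit 1, nat_lit 1, nat_lit 0, nat_lit 1, nat_lit 1, nat_lit 1, nat_lit 1],
  [nat_lit 1, nat_lit 1, nat_lit 1, nat_lit 1, nat_lit 1, nat_lit 1, nat_lit 1, nat_lit 1, nat_lit 1, nat_lit 1, nat_lit 0, nat_lit 1, nat_lit 1, nat_lit 0],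
  [nat_lit 2, nat_lit 3, nat_lit 2, nat_lit 3, nat_lit 3, nat_lit 2, nat_lit 2],
  [nat_lit 3, nat_lit 2, nat_lit 2, nat_lit 3, nat_lit 3, nat_lit 2, nat_lit 2],
  [nat_lit 4, nat_lit 5, nat_lit 5, nat_lit 4, nat_lit 5, nat_lit 5, nat_lit 5, nat_lit 4, nat_lit 5],
  [nat_lit 5, nat_lit 4, nat_lit 5, nat_lit 4, nat_lit 5]] (nat_lit 2)) i = 0 :=
  (rng_step (all0 _) SW_0)
theorem Sel : mS.El (Subgroup.map (MonoidHom.snd GA Sp4) N) SP :=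
  el_of_pad (in_pool Sin0 SW)
theorem Ss0 : Suf mS (Subgroup.map (MonoidHom.snd GA Sp4) N) SP 0 :=
  suf0 Sel
theorem S0yY : ∀ i < 255, (chkY can0 (brow (Nat.mul 2 (nat_lit 4))) S0y (nat_lit 255)) i = 0 :=
  allB (rngB_step (allB0 _ _) S0yY_0) (by decide)
theorem S0yD : Dist (fun i => pvS (pt (brow (Nat.mul 2 (nat_lit 4))) S0y i)) 255 :=
  dist_of_chk (canT4 e22 hom spφ) S0yY
theorem S0RO : ∀ i < 255, (chkO (img4 (nat_lit 4) (shf SP (nat_lit 0))) (brow (Nat.mul 2 (nat_lit 4))) S0y S0Ra (nat_lit 255) [nat_lit 0]) i = 0 :=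
  allB (rngB_step (allB0 _ _) S0RO_0) (by decide)
theorem S0R : Reach (Subgroup.map (MonoidHom.snd GA Sp4) N) (fun i => pvS (pt (brow (Nat.mul 2 (nat_lit 4))) S0y i)) 255 [nat_lit 0] :=
  reach_of_chk ((acts4 (m := mS) e22 hom spφ hS (shf SP (nat_lit 0))).ex Ss0.el) S0RO
theorem S0X : ∀ i < 6, (chkFx (img4 (nat_lit 4) SP) (brow (Nat.mul 2 (nat_lit 4))) S0y (nat_lit 0) [nat_lit 0, nat_lit 0, nat_lit 0, nat_lit 0, nat_lit 0, nat_lit 0] (nat_lit 2)) i = 0 :=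
  (rng_step (all0 _) S0X_0)
theorem Ss1 : Suf mS SK1 SP 2 :=
  Ss0.step (by decide) (by decide) (acts4 (m := mS) e22 hom spφ hS SP) S0X
theorem S1yY : ∀ i < 64, (chkY can0 (brow (Nat.mul 2 (nat_lit 4))) S1y (nat_lit 64)) i = 0 :=
  allB (rngB_step (allB0 _ _) S1yY_0) (by decide)
theorem S1yD : Dist (fun i => pvS (pt (brow (Nat.mul 2 (nat_lit 4))) S1y i)) 64 :=
  dist_of_chk (canT4 e22 hom spφ) S1yY
theorem S1RO : ∀ i < 64, (chkO (img4 (nat_lit 4) (shf SP (nat_lit 2))) (brow (Nat.mul 2 (nat_lit 4))) S1y S1Ra (nat_lit 64) [nat_lit 0]) i = 0 :=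
  allB (rngB_step (allB0 _ _) S1RO_0) (by decide)
theorem S1R : Reach SK1 (fun i => pvS (pt (brow (Nat.mul 2 (nat_lit 4))) S1y i)) 64 [nat_lit 0] :=
  reach_of_chk ((acts4 (m := mS) e22 hom spφ hS (shf SP (nat_lit 2))).ex Ss1.el) S1RO
theorem S1X : ∀ i < 4, (chkFx (img4 (nat_lit 4) SP) (brow (Nat.mul 2 (nat_lit 4))) S1y (nat_lit 0) [nat_lit 0, nat_lit 0, nat_lit 0, nat_lit 0] (nat_lit 4)) i = 0 :=
  (rng_step (all0 _) S1X_0)
theorem Ss2 : Suf mS SK2 SP 4 :=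
  Ss1.step (by decide) (by decide) (acts4 (m := mS) e22 hom spφ hS SP) S1X
theorem S2yY : ∀ i < 15, (chkY can0 (brow (Nat.mul 2 (nat_lit 4))) S2y (nat_lit 15)) i = 0 :=
  allB (rngB_step (allB0 _ _) S2yY_0) (by decide)
theorem S2yD : Dist (fun i => pvS (pt (brow (Nat.mul 2 (nat_lit 4))) S2y i)) 15 :=
  dist_of_chk (canT4 e22 hom spφ) S2yY
theorem S2RO : ∀ i < 15, (chkO (img4 (nat_lit 4) (shf SP (nat_lit 4))) (brow (Nat.mul 2 (nat_lit 4))) S2y S2Ra (nat_lit 15) [nat_lit 0]) i = 0 :=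
  allB (rngB_step (allB0 _ _) S2RO_0) (by decide)
theorem S2R : Reach SK2 (fun i => pvS (pt (brow (Nat.mul 2 (nat_lit 4))) S2y i)) 15 [nat_lit 0] :=
  reach_of_chk ((acts4 (m := mS) e22 hom spφ hS (shf SP (nat_lit 4))).ex Ss2.el) S2RO
theorem S2X : ∀ i < 2, (chkFx (img4 (nat_lit 4) SP) (brow (Nat.mul 2 (nat_lit 4))) S2y (nat_lit 0) [nat_lit 0, nat_lit 0] (nat_lit 6)) i = 0 :=
  (rng_step (all0 _) S2X_0)
theorem Ss3 : Suf mS SK3 SP 6 :=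
  Ss2.step (by decide) (by decide) (acts4 (m := mS) e22 hom spφ hS SP) S2X
theorem S3yY : ∀ i < 4, (chkY can0 (brow (Nat.mul 2 (nat_lit 4))) S3y (nat_lit 4)) i = 0 :=
  allB (rngB_step (allB0 _ _) S3yY_0) (by decide)
theorem S3yD : Dist (fun i => pvS (pt (brow (Nat.mul 2 (nat_lit 4))) S3y i)) 4 :=
  dist_of_chk (canT4 e22 hom spφ) S3yY
theorem S3RO : ∀ i < 4, (chkO (img4 (nat_lit 4) (shf SP (nat_lit 6))) (brow (Nat.mul 2 (nat_lit 4))) S3y S3Ra (nat_lit 4) [nat_lit 0]) i = 0 :=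
  allB (rngB_step (allB0 _ _) S3RO_0) (by decide)
theorem S3R : Reach SK3 (fun i => pvS (pt (brow (Nat.mul 2 (nat_lit 4))) S3y i)) 4 [nat_lit 0] :=
  reach_of_chk ((acts4 (m := mS) e22 hom spφ hS (shf SP (nat_lit 6))).ex Ss3.el) S3RO
theorem S3X : ∀ i < 0, (chkFx (img4 (nat_lit 4) SP) (brow (Nat.mul 2 (nat_lit 4))) S3y (nat_lit 0) [] (nat_lit 8)) i = 0 :=
  (all0 _)
theorem Ss4 : Suf mS SK4 SP 8 :=
  Ss3.step (by decide) (by decide) (acts4 (m := mS) e22 hom spφ hS SP) S3X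
theorem Slb4 : 1 ≤ Nat.card SK4 :=
  one_le_card _
theorem Slb3 : 4 ≤ Nat.card SK3 :=
  le_of_eq_of_le (by norm_num) (card_ge S3yD S3R Slb4)
theorem Slb2 : 60 ≤ Nat.card SK2 :=
  le_of_eq_of_le (by norm_num) (card_ge S2yD S2R Slb3)
theorem Slb1 : 3840 ≤ Nat.card SK1 :=
  le_of_eq_of_le (by norm_num) (card_ge S1yD S1R Slb2)
theorem Slb0 : 979200 ≤ Nat.card (Subgroup.map (MonoidHom.snd GA Sp4) N) :=
  le_of_eq_of_le (by norm_num) (card_ge S0yD S0R Slb1)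
theorem YY : ∀ i < 136, (chkY can0 (brow (nat_lit 51)) Y (nat_lit 136)) i = 0 :=
  allB (rngB_step (allB0 _ _) YY_0) (by decide)
theorem YD : Dist (fun i => pvA (pt (brow (nat_lit 51)) Y i)) 136 :=
  dist_of_chk (canT2 φA) YY
theorem qDI : ∀ i < 5, (chkI (mul2 (nat_lit 51)) (one2 (nat_lit 51)) qD qDi) i = 0 :=
  (rng_step (all0 _) qDI_0)
theorem qelD : mA.El ⊤ qD :=
  el_of_pad (in_of_chkI mA (fun _ => rfl) qDI)
theorem qd0 : (mA.elt (qD 0)) = 1 :=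
  elt_of_eq_one qD0
theorem qtinv : (mA.elt (qD 1))⁻¹ = (mA.elt (qD 2)) :=
  elt_inv_eq (qelD 1) (qelD 2) qtt
theorem qRHO : ∀ i < 136, (chkO (img2 (nat_lit 51) Hg) (brow (nat_lit 51)) Y qRHa (nat_lit 136) [nat_lit 41]) i = 0 :=
  allB (rngB_step (allB0 _ _) qRHO_0) (by decide)
theorem qRH : Reach H (fun i => pvA (pt (brow (nat_lit 51)) Y i)) 136 [nat_lit 41] :=
  reach_of_chk ((acts2 (m := mA) φA hA Hg).ex H_eg) qRHO
theorem qL1E : ∀ i < 2, (chkE qL1P cHe0 [nat_lit 8528638, nat_lit 2202883]) i = 0 :=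
  (rng_step (all0 _) qL1E_0)
theorem qL1C : ∀ i < 2, (chkL (mul2 (nat_lit 51)) (qD 1) qL1P cHe0 [nat_lit 8635419, nat_lit 733850]) i = 0 :=
  (rng_step (all0 _) qL1C_0)
theorem qL1in0 : ∀ u < 2, mA.In qL1 (qL1P u) :=
  in_Lf (pr_id mA) cH0el (qelD 1) (in_of_chkE cH0el qL1E) qL1C
theorem qL1W : ∀ i < 3, (chkPl (mul2 (nat_lit 51)) qL1P [[nat_lit 1, nat_lit 0, nat_lit 1, nat_lit 1, nat_lit 1, nat_lit 1, nat_lit 0, nat_lit 0, nat_lit 0, nat_lit 0, nat_lit 0, nat_lit 0, nat_lit 1],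
  [nat_lit 1, nat_lit 0, nat_lit 1, nat_lit 1, nat_lit 1, nat_lit 1, nat_lit 1, nat_lit 0, nat_lit 0, nat_lit 0, nat_lit 1, nat_lit 1, nat_lit 1],
  [nat_lit 1, nat_lit 1, nat_lit 0, nat_lit 1, nat_lit 0, nat_lit 1, nat_lit 1, nat_lit 1, nat_lit 0, nat_lit 0, nat_lit 1, nat_lit 0]] (nat_lit 2)) i = 0 :=
  (rng_step (all0 _) qL1W_0)
theorem qL1el : mA.El qL1 qL1P :=
  el_of_pad (in_pool qL1in0 qL1W)
theorem qL1s0 : Suf mA qL1 qL1P 0 :=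
  suf0 qL1el
theorem qL10yY : ∀ i < 900, (chkY can0 (brow (nat_lit 51)) qL10y (nat_lit 900)) i = 0 :=
  allB (rngB_step (allB0 _ _) qL10yY_0) (by decide)
theorem qL10yD : Dist (fun i => pvA (pt (brow (nat_lit 51)) qL10y i)) 900 :=
  dist_of_chk (canT2 φA) qL10yY
theorem qL10RO : ∀ i < 900, (chkO (img2 (nat_lit 51) (shf qL1P (nat_lit 0))) (brow (nat_lit 51)) qL10y qL10Ra (nat_lit 900) [nat_lit 0]) i = 0 :=
  allB (rngB_step (allB0 _ _) qL10RO_0) (by decide)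
theorem qL10R : Reach qL1 (fun i => pvA (pt (brow (nat_lit 51)) qL10y i)) 900 [nat_lit 0] :=
  reach_of_chk ((acts2 (m := mA) φA hA (shf qL1P (nat_lit 0))).ex qL1s0.el) qL10RO
theorem qL10X : ∀ i < 3, (chkFx (img2 (nat_lit 51) qL1P) (brow (nat_lit 51)) qL10y (nat_lit 0) [nat_lit 0, nat_lit 0, nat_lit 0] (nat_lit 2)) i = 0 :=
  (rng_step (all0 _) qL10X_0)
theorem qL1s1 : Suf mA qL1K1 qL1P 2 :=
  qL1s0.step (by decide) (by decide) (acts2 (m := mA) φA hA qL1P) qL10X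
theorem qL11yY : ∀ i < 16, (chkY can0 (brow (nat_lit 51)) qL11y (nat_lit 16)) i = 0 :=
  allB (rngB_step (allB0 _ _) qL11yY_0) (by decide)
theorem qL11yD : Dist (fun i => pvA (pt (brow (nat_lit 51)) qL11y i)) 16 :=
  dist_of_chk (canT2 φA) qL11yY
theorem qL11RO : ∀ i < 16, (chkO (img2 (nat_lit 51) (shf qL1P (nat_lit 2))) (brow (nat_lit 51)) qL11y qL11Ra (nat_lit 16) [nat_lit 0]) i = 0 :=
  allB (rngB_step (allB0 _ _) qL11RO_0) (by decide)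
theorem qL11R : Reach qL1K1 (fun i => pvA (pt (brow (nat_lit 51)) qL11y i)) 16 [nat_lit 0] :=
  reach_of_chk ((acts2 (m := mA) φA hA (shf qL1P (nat_lit 2))).ex qL1s1.el) qL11RO
theorem qL11X : ∀ i < 0, (chkFx (img2 (nat_lit 51) qL1P) (brow (nat_lit 51)) qL11y (nat_lit 0) [] (nat_lit 5)) i = 0 :=
  (all0 _)
theorem qL1s2 : Suf mA qL1K2 qL1P 5 :=
  qL1s1.step (by decide) (by decide) (acts2 (m := mA) φA hA qL1P) qL11X
theorem qL1lb2 : 1 ≤ Nat.card qL1K2 :=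
  one_le_card _
theorem qL1lb1 : 16 ≤ Nat.card qL1K1 :=
  le_of_eq_of_le (by norm_num) (card_ge qL11yD qL11R qL1lb2)
theorem qL1lb0 : 14400 ≤ Nat.card qL1 :=
  le_of_eq_of_le (by norm_num) (card_ge qL10yD qL10R qL1lb1)
theorem qL2E : ∀ i < 2, (chkE qL2P cHe0 [nat_lit 1248483, nat_lit 9551053]) i = 0 :=
  (rng_step (all0 _) qL2E_0)
theorem qL2C : ∀ i < 2, (chkL (mul2 (nat_lit 51)) (qD 2) qL2P cHe0 [nat_lit 10036883, nat_lit 759334]) i = 0 :=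
  (rng_step (all0 _) qL2C_0)
theorem qL2in0 : ∀ u < 2, mA.In qL2 (qL2P u) :=
  in_Lf (pr_id mA) cH0el (qelD 2) (in_of_chkE cH0el qL2E) qL2C
theorem qL2W : ∀ i < 4, (chkPl (mul2 (nat_lit 51)) qL2P [[nat_lit 1, nat_lit 0, nat_lit 0, nat_lit 0, nat_lit 0, nat_lit 1, nat_lit 1, nat_lit 1, nat_lit 1],
  [nat_lit 1, nat_lit 0, nat_lit 0, nat_lit 0, nat_lit 1, nat_lit 0, nat_lit 0],
  [nat_lit 2, nat_lit 2, nat_lit 2, nat_lit 3, nat_lit 3, nat_lit 2],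
  [nat_lit 2, nat_lit 2, nat_lit 3, nat_lit 3, nat_lit 2, nat_lit 3, nat_lit 3, nat_lit 3]] (nat_lit 2)) i = 0 :=
  (rng_step (all0 _) qL2W_0)
theorem qL2el : mA.El qL2 qL2P :=
  el_of_pad (in_pool qL2in0 qL2W)
theorem qL2s0 : Suf mA qL2 qL2P 0 :=
  suf0 qL2el
theorem qL20yY : ∀ i < 1, (chkY can0 (brow (nat_lit 51)) qL20y (nat_lit 1)) i = 0 :=
  allB (rngB_step (allB0 _ _) qL20yY_0) (by decide)
theorem qL20yD : Dist (fun i => pvA (pt (brow (nat_lit 51)) qL20y i)) 1 :=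
  dist_of_chk (canT2 φA) qL20yY
theorem qL20RO : ∀ i < 1, (chkO (img2 (nat_lit 51) (shf qL2P (nat_lit 0))) (brow (nat_lit 51)) qL20y qL20Ra (nat_lit 1) [nat_lit 0]) i = 0 :=
  allB (rngB_step (allB0 _ _) qL20RO_0) (by decide)
theorem qL20R : Reach qL2 (fun i => pvA (pt (brow (nat_lit 51)) qL20y i)) 1 [nat_lit 0] :=
  reach_of_chk ((acts2 (m := mA) φA hA (shf qL2P (nat_lit 0))).ex qL2s0.el) qL20RO
theorem qL20X : ∀ i < 6, (chkFx (img2 (nat_lit 51) qL2P) (brow (nat_lit 51)) qL20y (nat_lit 0) [nat_lit 0, nat_lit 0, nat_lit 0, nat_lit 0, nat_lit 0, nat_lit 0] (nat_lit 0)) i = 0 :=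
  (rng_step (all0 _) qL20X_0)
theorem qL2s1 : Suf mA qL2K1 qL2P 0 :=
  qL2s0.step (by decide) (by decide) (acts2 (m := mA) φA hA qL2P) qL20X
theorem qL21yY : ∀ i < 75, (chkY can0 (brow (nat_lit 51)) qL21y (nat_lit 75)) i = 0 :=
  allB (rngB_step (allB0 _ _) qL21yY_0) (by decide)
theorem qL21yD : Dist (fun i => pvA (pt (brow (nat_lit 51)) qL21y i)) 75 :=
  dist_of_chk (canT2 φA) qL21yY
theorem qL21RO : ∀ i < 75, (chkO (img2 (nat_lit 51) (shf qL2P (nat_lit 0))) (brow (nat_lit 51)) qL21y qL21Ra (nat_lit 75) [nat_lit 0]) i = 0 :=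
  allB (rngB_step (allB0 _ _) qL21RO_0) (by decide)
theorem qL21R : Reach qL2K1 (fun i => pvA (pt (brow (nat_lit 51)) qL21y i)) 75 [nat_lit 0] :=
  reach_of_chk ((acts2 (m := mA) φA hA (shf qL2P (nat_lit 0))).ex qL2s1.el) qL21RO
theorem qL21X : ∀ i < 4, (chkFx (img2 (nat_lit 51) qL2P) (brow (nat_lit 51)) qL21y (nat_lit 0) [nat_lit 0, nat_lit 0, nat_lit 0, nat_lit 0] (nat_lit 2)) i = 0 :=
  (rng_step (all0 _) qL21X_0)
theorem qL2s2 : Suf mA qL2K2 qL2P 2 :=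
  qL2s1.step (by decide) (by decide) (acts2 (m := mA) φA hA qL2P) qL21X
theorem qL22yY : ∀ i < 32, (chkY can0 (brow (nat_lit 51)) qL22y (nat_lit 32)) i = 0 :=
  allB (rngB_step (allB0 _ _) qL22yY_0) (by decide)
theorem qL22yD : Dist (fun i => pvA (pt (brow (nat_lit 51)) qL22y i)) 32 :=
  dist_of_chk (canT2 φA) qL22yY
theorem qL22RO : ∀ i < 32, (chkO (img2 (nat_lit 51) (shf qL2P (nat_lit 2))) (brow (nat_lit 51)) qL22y qL22Ra (nat_lit 32) [nat_lit 16]) i = 0 :=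
  allB (rngB_step (allB0 _ _) qL22RO_0) (by decide)
theorem qL22R : Reach qL2K2 (fun i => pvA (pt (brow (nat_lit 51)) qL22y i)) 32 [nat_lit 16] :=
  reach_of_chk ((acts2 (m := mA) φA hA (shf qL2P (nat_lit 2))).ex qL2s2.el) qL22RO
theorem qL22X : ∀ i < 2, (chkFx (img2 (nat_lit 51) qL2P) (brow (nat_lit 51)) qL22y (nat_lit 16) [nat_lit 0, nat_lit 0] (nat_lit 4)) i = 0 :=
  (rng_step (all0 _) qL22X_0)
theorem qL2s3 : Suf mA qL2K3 qL2P 4 :=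
  qL2s2.step (by decide) (by decide) (acts2 (m := mA) φA hA qL2P) qL22X
theorem qL23yY : ∀ i < 6, (chkY can0 (brow (nat_lit 51)) qL23y (nat_lit 6)) i = 0 :=
  allB (rngB_step (allB0 _ _) qL23yY_0) (by decide)
theorem qL23yD : Dist (fun i => pvA (pt (brow (nat_lit 51)) qL23y i)) 6 :=
  dist_of_chk (canT2 φA) qL23yY
theorem qL23RO : ∀ i < 6, (chkO (img2 (nat_lit 51) (shf qL2P (nat_lit 4))) (brow (nat_lit 51)) qL23y qL23Ra (nat_lit 6) [nat_lit 2]) i = 0 :=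
  allB (rngB_step (allB0 _ _) qL23RO_0) (by decide)
theorem qL23R : Reach qL2K3 (fun i => pvA (pt (brow (nat_lit 51)) qL23y i)) 6 [nat_lit 2] :=
  reach_of_chk ((acts2 (m := mA) φA hA (shf qL2P (nat_lit 4))).ex qL2s3.el) qL23RO
theorem qL23X : ∀ i < 0, (chkFx (img2 (nat_lit 51) qL2P) (brow (nat_lit 51)) qL23y (nat_lit 2) [] (nat_lit 6)) i = 0 :=
  (all0 _)
theorem qL2s4 : Suf mA qL2K4 qL2P 6 :=
  qL2s3.step (by decide) (by decide) (acts2 (m := mA) φA hA qL2P) qL23X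
theorem qL2lb4 : 1 ≤ Nat.card qL2K4 :=
  one_le_card _
theorem qL2lb3 : 6 ≤ Nat.card qL2K3 :=
  le_of_eq_of_le (by norm_num) (card_ge qL23yD qL23R qL2lb4)
theorem qL2lb2 : 192 ≤ Nat.card qL2K2 :=
  le_of_eq_of_le (by norm_num) (card_ge qL22yD qL22R qL2lb3)
theorem qL2lb1 : 14400 ≤ Nat.card qL2K1 :=
  le_of_eq_of_le (by norm_num) (card_ge qL21yD qL21R qL2lb2)
theorem qL2lb0 : 14400 ≤ Nat.card qL2 :=
  le_of_eq_of_le (by norm_num) (card_ge qL20yD qL20R qL2lb1)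
theorem qL3E : ∀ i < 3, (chkE qL3P cHe0 [nat_lit 1846407, nat_lit 3408522, nat_lit 5418001]) i = 0 :=
  (rng_step (all0 _) qL3E_0)
theorem qL3C : ∀ i < 3, (chkL (mul2 (nat_lit 51)) (qD 3) qL3P cHe0 [nat_lit 4990599, nat_lit 167534, nat_lit 7899397]) i = 0 :=
  (rng_step (all0 _) qL3C_0)
theorem qL3in0 : ∀ u < 3, mA.In qL3 (qL3P u) :=
  in_Lf (pr_id mA) cH0el (qelD 3) (in_of_chkE cH0el qL3E) qL3C
theorem qL3W : ∀ i < 2, (chkPl (mul2 (nat_lit 51)) qL3P [[nat_lit 1, nat_lit 0, nat_lit 2, nat_lit 1, nat_lit 1, nat_lit 0, nat_lit 2],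
  [nat_lit 0, nat_lit 1, nat_lit 2, nat_lit 0, nat_lit 2, nat_lit 2, nat_lit 1, nat_lit 1]] (nat_lit 3)) i = 0 :=
  (rng_step (all0 _) qL3W_0)
theorem qL3el : mA.El qL3 qL3P :=
  el_of_pad (in_pool qL3in0 qL3W)
theorem qL3s0 : Suf mA qL3 qL3P 0 :=
  suf0 qL3el
theorem qL30yY : ∀ i < 384, (chkY can0 (brow (nat_lit 51)) qL30y (nat_lit 384)) i = 0 :=
  allB (rngB_step (allB0 _ _) qL30yY_0) (by decide)
theorem qL30yD : Dist (fun i => pvA (pt (brow (nat_lit 51)) qL30y i)) 384 :=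
  dist_of_chk (canT2 φA) qL30yY
theorem qL30RO : ∀ i < 384, (chkO (img2 (nat_lit 51) (shf qL3P (nat_lit 0))) (brow (nat_lit 51)) qL30y qL30Ra (nat_lit 384) [nat_lit 0]) i = 0 :=
  allB (rngB_step (allB0 _ _) qL30RO_0) (by decide)
theorem qL30R : Reach qL3 (fun i => pvA (pt (brow (nat_lit 51)) qL30y i)) 384 [nat_lit 0] :=
  reach_of_chk ((acts2 (m := mA) φA hA (shf qL3P (nat_lit 0))).ex qL3s0.el) qL30RO
theorem qL30X : ∀ i < 2, (chkFx (img2 (nat_lit 51) qL3P) (brow (nat_lit 51)) qL30y (nat_lit 0) [nat_lit 0, nat_lit 0] (nat_lit 3)) i = 0 :=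
  (rng_step (all0 _) qL30X_0)
theorem qL3s1 : Suf mA qL3K1 qL3P 3 :=
  qL3s0.step (by decide) (by decide) (acts2 (m := mA) φA hA qL3P) qL30X
theorem qL31yY : ∀ i < 12, (chkY can0 (brow (nat_lit 51)) qL31y (nat_lit 12)) i = 0 :=
  allB (rngB_step (allB0 _ _) qL31yY_0) (by decide)
theorem qL31yD : Dist (fun i => pvA (pt (brow (nat_lit 51)) qL31y i)) 12 :=
  dist_of_chk (canT2 φA) qL31yY
theorem qL31RO : ∀ i < 12, (chkO (img2 (nat_lit 51) (shf qL3P (nat_lit 3))) (brow (nat_lit 51)) qL31y qL31Ra (nat_lit 12) [nat_lit 0]) i = 0 :=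
  allB (rngB_step (allB0 _ _) qL31RO_0) (by decide)
theorem qL31R : Reach qL3K1 (fun i => pvA (pt (brow (nat_lit 51)) qL31y i)) 12 [nat_lit 0] :=
  reach_of_chk ((acts2 (m := mA) φA hA (shf qL3P (nat_lit 3))).ex qL3s1.el) qL31RO
theorem qL31X : ∀ i < 0, (chkFx (img2 (nat_lit 51) qL3P) (brow (nat_lit 51)) qL31y (nat_lit 0) [] (nat_lit 5)) i = 0 :=
  (all0 _)
theorem qL3s2 : Suf mA qL3K2 qL3P 5 :=
  qL3s1.step (by decide) (by decide) (acts2 (m := mA) φA hA qL3P) qL31X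
theorem qL3lb2 : 1 ≤ Nat.card qL3K2 :=
  one_le_card _
theorem qL3lb1 : 12 ≤ Nat.card qL3K1 :=
  le_of_eq_of_le (by norm_num) (card_ge qL31yD qL31R qL3lb2)
theorem qL3lb0 : 4608 ≤ Nat.card qL3 :=
  le_of_eq_of_le (by norm_num) (card_ge qL30yD qL30R qL3lb1)
theorem qL4E : ∀ i < 2, (chkE qL4P cHe0 [nat_lit 6303865, nat_lit 6822592]) i = 0 :=
  (rng_step (all0 _) qL4E_0)
theorem qL4C : ∀ i < 2, (chkL (mul2 (nat_lit 51)) (qD 4) qL4P cHe0 [nat_lit 4758203, nat_lit 8127709]) i = 0 :=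
  (rng_step (all0 _) qL4C_0)
theorem qL4in0 : ∀ u < 2, mA.In qL4 (qL4P u) :=
  in_Lf (pr_id mA) cH0el (qelD 4) (in_of_chkE cH0el qL4E) qL4C
theorem qL4W : ∀ i < 2, (chkPl (mul2 (nat_lit 51)) qL4P [[nat_lit 0, nat_lit 0, nat_lit 1, nat_lit 0, nat_lit 0, nat_lit 1, nat_lit 0, nat_lit 1, nat_lit 1, nat_lit 0, nat_lit 1],
  [nat_lit 1, nat_lit 0, nat_lit 1, nat_lit 1, nat_lit 1, nat_lit 0, nat_lit 1, nat_lit 1, nat_lit 1, nat_lit 0]] (nat_lit 2)) i = 0 :=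
  (rng_step (all0 _) qL4W_0)
theorem qL4el : mA.El qL4 qL4P :=
  el_of_pad (in_pool qL4in0 qL4W)
theorem qL4s0 : Suf mA qL4 qL4P 0 :=
  suf0 qL4el
theorem qL40yY : ∀ i < 360, (chkY can0 (brow (nat_lit 51)) qL40y (nat_lit 360)) i = 0 :=
  allB (rngB_step (allB0 _ _) qL40yY_0) (by decide)
theorem qL40yD : Dist (fun i => pvA (pt (brow (nat_lit 51)) qL40y i)) 360 :=
  dist_of_chk (canT2 φA) qL40yY
theorem qL40RO : ∀ i < 360, (chkO (img2 (nat_lit 51) (shf qL4P (nat_lit 0))) (brow (nat_lit 51)) qL40y qL40Ra (nat_lit 360) [nat_lit 0]) i = 0 :=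
  allB (rngB_step (allB0 _ _) qL40RO_0) (by decide)
theorem qL40R : Reach qL4 (fun i => pvA (pt (brow (nat_lit 51)) qL40y i)) 360 [nat_lit 0] :=
  reach_of_chk ((acts2 (m := mA) φA hA (shf qL4P (nat_lit 0))).ex qL4s0.el) qL40RO
theorem qL40X : ∀ i < 2, (chkFx (img2 (nat_lit 51) qL4P) (brow (nat_lit 51)) qL40y (nat_lit 0) [nat_lit 0, nat_lit 0] (nat_lit 2)) i = 0 :=
  (rng_step (all0 _) qL40X_0)
theorem qL4s1 : Suf mA qL4K1 qL4P 2 :=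
  qL4s0.step (by decide) (by decide) (acts2 (m := mA) φA hA qL4P) qL40X
theorem qL41yY : ∀ i < 4, (chkY can0 (brow (nat_lit 51)) qL41y (nat_lit 4)) i = 0 :=
  allB (rngB_step (allB0 _ _) qL41yY_0) (by decide)
theorem qL41yD : Dist (fun i => pvA (pt (brow (nat_lit 51)) qL41y i)) 4 :=
  dist_of_chk (canT2 φA) qL41yY
theorem qL41RO : ∀ i < 4, (chkO (img2 (nat_lit 51) (shf qL4P (nat_lit 2))) (brow (nat_lit 51)) qL41y qL41Ra (nat_lit 4) [nat_lit 0]) i = 0 :=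
  allB (rngB_step (allB0 _ _) qL41RO_0) (by decide)
theorem qL41R : Reach qL4K1 (fun i => pvA (pt (brow (nat_lit 51)) qL41y i)) 4 [nat_lit 0] :=
  reach_of_chk ((acts2 (m := mA) φA hA (shf qL4P (nat_lit 2))).ex qL4s1.el) qL41RO
theorem qL41X : ∀ i < 0, (chkFx (img2 (nat_lit 51) qL4P) (brow (nat_lit 51)) qL41y (nat_lit 0) [] (nat_lit 4)) i = 0 :=
  (all0 _)
theorem qL4s2 : Suf mA qL4K2 qL4P 4 :=
  qL4s1.step (by decide) (by decide) (acts2 (m := mA) φA hA qL4P) qL41X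
theorem qL4lb2 : 1 ≤ Nat.card qL4K2 :=
  one_le_card _
theorem qL4lb1 : 4 ≤ Nat.card qL4K1 :=
  le_of_eq_of_le (by norm_num) (card_ge qL41yD qL41R qL4lb2)
theorem qL4lb0 : 1440 ≤ Nat.card qL4 :=
  le_of_eq_of_le (by norm_num) (card_ge qL40yD qL40R qL4lb1)
theorem qex : MulAction.orbit H (pvA (pt (brow (nat_lit 51)) Y (nat_lit 41))) = (fun i => pvA (pt (brow (nat_lit 51)) Y i)) '' {i | i < 136} ∧ H ⊓ MulAction.stabilizer GA (pvA (pt (brow (nat_lit 51)) Y (nat_lit 41))) = qL2K1 ∧ Nat.card H = 136 * 14400 ∧ Nat.card qL2K1 = 14400 :=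
  orbit_eq_of_card YD (qRH.sub fun r hr => ⟨1, one_mem _, by rw [List.mem_singleton.1 hr, one_smul]⟩)
    (inf_le_inf inf_le_left (congrArg (fun z => MulAction.stabilizer GA (pvA z)) qhx).le) qL2lb1 (cH0ub.trans (by norm_num))
theorem qhK : H ⊓ MulAction.stabilizer GA (pvA (pt (brow (nat_lit 51)) Y (nat_lit 41))) ≤ Lf (MonoidHom.id GA) H (mA.elt (qD 1))⁻¹ :=
  qtinv.symm ▸ (qex.2.1.le.trans inf_le_left)
theorem qBk : ∀ i < 64, (chkB (img2 (nat_lit 51) (cel1 (mul2 (nat_lit 51)) qL2P (nat_lit 3) qL2P)) (brow (nat_lit 51)) Y (nat_lit 41) qB [nat_lit 6, nat_lit 6, nat_lit 6, nat_lit 6, nat_lit 6, nat_lit 6, nat_lit 6, nat_lit 6, nat_lit 6, nat_lit 6, nat_lit 6, nat_lit 6, nat_lit 6, nat_lit 6, nat_lit 6, nat_lit 6, nat_lit 6, nat_lit 6, nat_lit 6, nat_lit 6, nat_lit 6, nat_lit 6, nat_lit 6, nat_lit 6, nat_lit 6, nat_lit 6, nat_lit 6, nat_lit 6, nat_lit 6,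 nat_lit 6, nat_lit 6, nat_lit 6, nat_lit 6, nat_lit 6, nat_lit 6, nat_lit 6, nat_lit 6, nat_lit 6, nat_lit 6, nat_lit 6, nat_lit 6, nat_lit 6, nat_lit 6, nat_lit 6, nat_lit 6, nat_lit 6, nat_lit 6, nat_lit 6, nat_lit 6, nat_lit 6, nat_lit 6, nat_lit 6, nat_lit 6, nat_lit 6, nat_lit 6, nat_lit 6, nat_lit 6, nat_lit 6, nat_lit 6, nat_lit 6, nat_lit 6, nat_lit 6, nat_lit 6, nat_lit 6] [nat_lit 0, nat_lit 0, nat_lit 0, nat_lit 0, nat_lit 0, nat_lit 0, nat_lit 0, nat_lit 0, nat_lit 0, nat_lit 0, nat_lit 0, nat_lit 0, nat_lit 0, nat_lit 0, nat_lit 0, nat_lit 0, nat_lit 0, nat_lit 0, nat_lit 0, nat_lit 0, nat_lit 0, nat_lit 0, nat_lit 0, nat_lit 0, nat_lit 0, nat_lit 0, nat_lit 0, nat_lit 0, nat_lit 0, nat_lit 0, nat_lit 0, nat_lit 0, nat_lit 0, nat_lit 0, nat_lit 0, nat_lit 0, nat_lit 0, nat_lit 0, nat_lit 0, nat_lit 0, nat_lit 0, nat_lit 0, nat_lit 0, nat_lit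 0, nat_lit 0, nat_lit 0, nat_lit 0, nat_lit 0, nat_lit 0, nat_lit 0, nat_lit 0, nat_lit 0, nat_lit 0, nat_lit 0, nat_lit 0, nat_lit 0, nat_lit 0, nat_lit 0, nat_lit 0, nat_lit 0, nat_lit 0, nat_lit 0, nat_lit 0, nat_lit 0]) i = 0 :=
  (rng_step (all0 _) qBk_0)
theorem qhB : Rows (Lf (MonoidHom.id GA) H (mA.elt (qD 1))⁻¹) pvA (brow (nat_lit 51)) qB (pvA (pt (brow (nat_lit 51)) Y (nat_lit 41))) :=
  qtinv.symm ▸ rows_of_chkB (acts2 (m := mA) φA hA (cel1 (mul2 (nat_lit 51)) qL2P (nat_lit 3) qL2P)) (el_cel1 qL2el qL2el _) qBk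
theorem qR1I : ∀ i < 2, (chkD1 (mul2 (nat_lit 51)) qD cHe0 qR1w (nat_lit 1) (nat_lit 5)) i = 0 :=
  (rng_step (all0 _) qR1I_0)
theorem qR1O : ∀ i < 136, (chkR (img2 (nat_lit 51) qL1P) (img2 (nat_lit 51) cHe0) (brow (nat_lit 51)) Y qR1a (nat_lit 136) qB qR1w (nat_lit 2)) i = 0 :=
  allB (rngB_step (allB0 _ _) qR1O_0) (by decide)
theorem qR1 : ∀ h ∈ (Subgroup.map (MonoidHom.id GA) H), ∃ j < 5, DCos (Subgroup.map (MonoidHom.id GA) H) (mA.elt (qD j)) ((mA.elt (qD 1)) * h * (mA.elt (qD 1))) :=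
  dc_row (pr_id mA) qelD cH0el qex.1.le qhK qhB (acts2 (m := mA) φA hA qL1P) qL1el (acts2 (m := mA) φA hA cHe0) qR1O qR1I
theorem qR2I : ∀ i < 3, (chkD1 (mul2 (nat_lit 51)) qD cHe0 qR2w (nat_lit 2) (nat_lit 5)) i = 0 :=
  (rng_step (all0 _) qR2I_0)
theorem qR2O : ∀ i < 136, (chkR (img2 (nat_lit 51) qL2P) (img2 (nat_lit 51) cHe0) (brow (nat_lit 51)) Y qR2a (nat_lit 136) qB qR2w (nat_lit 3)) i = 0 :=
  allB (rngB_step (allB0 _ _) qR2O_0) (by decide)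
theorem qR2 : ∀ h ∈ (Subgroup.map (MonoidHom.id GA) H), ∃ j < 5, DCos (Subgroup.map (MonoidHom.id GA) H) (mA.elt (qD j)) ((mA.elt (qD 2)) * h * (mA.elt (qD 1))) :=
  dc_row (pr_id mA) qelD cH0el qex.1.le qhK qhB (acts2 (m := mA) φA hA qL2P) qL2el (acts2 (m := mA) φA hA cHe0) qR2O qR2I
theorem qR3I : ∀ i < 3, (chkD1 (mul2 (nat_lit 51)) qD cHe0 qR3w (nat_lit 3) (nat_lit 5)) i = 0 :=
  (rng_step (all0 _) qR3I_0)
theorem qR3O : ∀ i < 136, (chkR (img2 (nat_lit 51) qL3P) (img2 (nat_lit 51) cHe0) (brow (nat_lit 51)) Y qR3a (nat_lit 136) qB qR3w (nat_lit 3)) i = 0 :=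
  allB (rngB_step (allB0 _ _) qR3O_0) (by decide)
theorem qR3 : ∀ h ∈ (Subgroup.map (MonoidHom.id GA) H), ∃ j < 5, DCos (Subgroup.map (MonoidHom.id GA) H) (mA.elt (qD j)) ((mA.elt (qD 3)) * h * (mA.elt (qD 1))) :=
  dc_row (pr_id mA) qelD cH0el qex.1.le qhK qhB (acts2 (m := mA) φA hA qL3P) qL3el (acts2 (m := mA) φA hA cHe0) qR3O qR3I
theorem qR4I : ∀ i < 4, (chkD1 (mul2 (nat_lit 51)) qD cHe0 qR4w (nat_lit 4) (nat_lit 5)) i = 0 :=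
  (rng_step (all0 _) qR4I_0)
theorem qR4O : ∀ i < 136, (chkR (img2 (nat_lit 51) qL4P) (img2 (nat_lit 51) cHe0) (brow (nat_lit 51)) Y qR4a (nat_lit 136) qB qR4w (nat_lit 4)) i = 0 :=
  allB (rngB_step (allB0 _ _) qR4O_0) (by decide)
theorem qR4 : ∀ h ∈ (Subgroup.map (MonoidHom.id GA) H), ∃ j < 5, DCos (Subgroup.map (MonoidHom.id GA) H) (mA.elt (qD j)) ((mA.elt (qD 4)) * h * (mA.elt (qD 1))) :=
  dc_row (pr_id mA) qelD cH0el qex.1.le qhK qhB (acts2 (m := mA) φA hA qL4P) qL4el (acts2 (m := mA) φA hA cHe0) qR4O qR4I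
theorem qcov : ∀ g ∈ qG, ∃ i < 5, DCos (Subgroup.map (MonoidHom.id GA) H) (mA.elt (qD i)) g :=
  dc_cover (d := fun i => mA.elt (qD i)) (by decide) qd0
    (all_succ (all_succ (all_succ (all_succ (all_succ all_nil (dc_row0 (by decide) qd0)) qR1) qR2) qR3) qR4)
theorem qhBs : ∀ i < 5, getN [nat_lit 1958400, nat_lit 14400, nat_lit 14400, nat_lit 4608, nat_lit 1440] i ≤ Nat.card (Lf (MonoidHom.id GA) H (mA.elt (qD i))) :=
  (all_succ (all_succ (all_succ (all_succ (all_succ all_nil (by rw [qd0, Lf_one, qex.2.2.1]; decide)) qL1lb0) qL2lb0) qL3lb0) qL4lb0)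
theorem qub : Nat.card qG ≤ Nat.card (Subgroup.map (MonoidHom.id GA) H) * 2058 :=
  (dc_ub qcov cH0ub (getN [nat_lit 1958400, nat_lit 14400, nat_lit 14400, nat_lit 4608, nat_lit 1440]) (getN [nat_lit 1, nat_lit 136, nat_lit 136, nat_lit 425, nat_lit 1360]) qhBs (by decide +kernel)).trans_eq (congrArg _ (by decide +kernel))
theorem qM1 : ∀ N : Subgroup GA, (Subgroup.map (MonoidHom.id GA) H) ≤ N → (mA.elt (qD 1)) ∈ N → (mA.elt (qD 1)) ∈ N :=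
  fun _ _ h => h
theorem qM3 : ∀ N : Subgroup GA, (Subgroup.map (MonoidHom.id GA) H) ≤ N → (mA.elt (qD 3)) ∈ N → (mA.elt (qD 1)) ∈ N :=
  fun N hN h => let ⟨_, ha, _, hb, _, hc, _, e⟩ := eq_of_chkD qelD ((pr_id mA).el cH0el) (add_eq_zero' (qR3I 1 (by decide))).1; (mem3 hN ha hb hc e).2 h h
theorem qM4 : ∀ N : Subgroup GA, (Subgroup.map (MonoidHom.id GA) H) ≤ N → (mA.elt (qD 4)) ∈ N → (mA.elt (qD 1)) ∈ N :=
  fun N hN h => let ⟨_, ha, _, hb, _, hc, _, e⟩ := eq_of_chkD qelD ((pr_id mA).el cH0el) (add_eq_zero' (qR4I 0 (by decide))).1; (mem3 hN ha hb hc e).2 h h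
theorem qX : ∀ i < 1, (chkD (mul2 (nat_lit 51)) qD cHe0 qXw) i = 0 :=
  (rng_step (all0 _) qX_0)
theorem qM2 : ∀ N : Subgroup GA, (Subgroup.map (MonoidHom.id GA) H) ≤ N → (mA.elt (qD 2)) ∈ N → (mA.elt (qD 1)) ∈ N :=
  fun N hN h => let ⟨_, ha, _, hb, _, hc, _, e⟩ := eq_of_chkD qelD ((pr_id mA).el cH0el) (qX 0 (by decide)); qM1 N hN ((mem3 hN ha hb hc e).1 h h)
theorem qmax : ∀ N : Subgroup GA, (Subgroup.map (MonoidHom.id GA) H) ≤ N → N ≤ qG → N = (Subgroup.map (MonoidHom.id GA) H) ∨ N = qG :=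
  dc_max (d := fun i => mA.elt (qD i)) qd0 le_rfl qcov
    (all_succ (all_succ (all_succ (all_succ (all_succ all_nil (fun h => absurd h (by decide))) (fun _ => qM1)) (fun _ => qM2)) (fun _ => qM3)) (fun _ => qM4))
theorem qG0 : (mA.elt (qD 0)) ∈ qG :=
  qd0 ▸ one_mem _
theorem qG1 : (mA.elt (qD 1)) ∈ qG :=
  mem_sup_right (mem_zpowers _)
theorem qG4 : (mA.elt (qD 4)) ∈ qG :=
  let ⟨_, ha, _, hb, _, hc, _, e⟩ := eq_of_chkD qelD ((pr_id mA).el cH0el) (add_eq_zero' (qR1I 0 (by decide))).1; (mem3 le_sup_left ha hb hc e).1 qG1 qG1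
theorem qG2 : (mA.elt (qD 2)) ∈ qG :=
  let ⟨_, ha, _, hb, _, hc, _, e⟩ := eq_of_chkD qelD ((pr_id mA).el cH0el) (add_eq_zero' (qR1I 1 (by decide))).1; (mem3 le_sup_left ha hb hc e).1 qG1 qG1
theorem qG3 : (mA.elt (qD 3)) ∈ qG :=
  let ⟨_, ha, _, hb, _, hc, _, e⟩ := eq_of_chkD qelD ((pr_id mA).el cH0el) (add_eq_zero' (qR4I 2 (by decide))).1; (mem3 le_sup_left ha hb hc e).1 qG4 qG1
theorem qelG : mA.El qG qD :=
  el_of_pad (in_of_elt qelD (all_succ (all_succ (all_succ (all_succ (all_succ all_nil qG0) qG1) qG2) qG3) qG4))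
theorem ZY : ∀ i < 2058, (chkY can0 (brow (nat_lit 51)) Z (nat_lit 2058)) i = 0 :=
  allB (rngB_step (allB0 _ _) ZY_0) (by decide)
theorem ZD : Dist (fun i => pvA (pt (brow (nat_lit 51)) Z i)) 2058 :=
  dist_of_chk (canT2 φA) ZY
theorem Geg : mA.El qG Gg :=
  El.cons1 (qelG 1) (((pr_id mA).el H_eg).mono le_sup_left)
theorem ZRO : ∀ i < 2058, (chkO (img2 (nat_lit 51) Gg) (brow (nat_lit 51)) Z ZRa (nat_lit 2058) [nat_lit 0]) i = 0 :=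
  allB (rngB_step (allB0 _ _) ZRO_0) (by decide)
theorem ZR : Reach qG (fun i => pvA (pt (brow (nat_lit 51)) Z i)) 2058 [nat_lit 0] :=
  reach_of_chk ((acts2 (m := mA) φA hA Gg).ex Geg) ZRO
theorem ZF : ∀ i < 3, (chkF (img2 (nat_lit 51) Hg) (brow (nat_lit 51)) Z (nat_lit 0) []) i = 0 :=
  (rng_step (all0 _) ZF_0)
theorem Zfx : H ≤ MulAction.stabilizer GA (pvA (pt (brow (nat_lit 51)) Z (nat_lit 0))) :=
  gn_le_stab (acts2 (m := mA) φA hA Hg) ZF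
theorem qel : mA.El qG qe :=
  el_del1 qelG (((pr_id mA).el cH0el).mono le_sup_left) _ _
theorem GP : ∀ i < 4, (chkP (mul2 (nat_lit 51)) (one2 (nat_lit 51)) Gg qe [[nat_lit 573673422206220, nat_lit 433358748525498],
  [nat_lit 704889954583740, nat_lit 1232441840578748],
  [nat_lit 655316257968858, nat_lit 392621394506761],
  [nat_lit 1271600021308300, nat_lit 1351319265288404]] (nat_lit 7)) i = 0 :=
  (rng_step (all0 _) GP_0)
theorem crO : ∀ i < 51, (chkO (img2 (nat_lit 51) Gg) (brow (nat_lit 51)) cry cra (nat_lit 51) [nat_lit 0]) i = 0 :=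
  allB (rngB_step (allB0 _ _) crO_0) (by decide)
theorem crR : Reach qG (fun i => pvA (pt (brow (nat_lit 51)) cry i)) 51 [nat_lit 0] :=
  reach_of_chk ((acts2 (m := mA) φA hA Gg).ex Geg) crO
theorem crV : ∀ i < 51, (chkV (brow (nat_lit 51)) cry (nat_lit 51) (crm 0)) i = 0 :=
  (rng_step (all0 _) crV_0)
theorem crF : ∀ i < 3, (chkF (img2 (nat_lit 51) Hg) (brow (nat_lit 51)) cry (nat_lit 0) []) i = 0 :=
  (rng_step (all0 _) crF_0)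
theorem cr : ∀ N : Subgroup GA, Nm qG N → N ≤ H → N ≤ ⊥ :=
  core_vec2 φA Units.val_injective crAB crV crR (gn_le_stab (acts2 (m := mA) φA hA Hg) crF)

theorem cardH : Nat.card H = 1958400 := qex.2.2.1.trans (by norm_num)

theorem cardG : Nat.card qG = 4030387200 :=
  le_antisymm (qub.trans (by rw [card_map_id, cardH]))
    (le_of_eq_of_le (by norm_num) (lower ZD ZR ((le_map_id H).trans le_sup_left) Zfx cardH.ge))

theorem genG (N : Subgroup GA) (h : ∀ x ∈ qG, x ^ 7 = 1 → x ∈ N) : qG ≤ N :=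
  have h1 := in_of_chkP' h qel GP
  sup_zpowers_le ((map_id_le H).trans (gn_le fun s hs => h1 (s + 1) (by omega)))
    (h1 0 (by decide)).elt_mem

theorem simpleG : IsSimpleGroup qG :=
  simple_rel (by rw [cardG]; norm_num) (dich_rel le_sup_left 7 (by rw [card_map_id, cardH]; norm_num) qmax
    (fun N hN h => cr N hN (h.trans (map_id_le H))) fun N _ h => genG N h)

noncomputable abbrev N0 : Subgroup GA := N.map (MonoidHom.fst GA Sp4)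

theorem cardN0 : Nat.card N0 = 979200 :=
  le_antisymm ((card_map_le _ _).trans cN0ub) (Nat.le_of_mul_le_mul_left (c := 2) (cardH.ge.trans
    (card_le_of_cover (cover_of_chkS2 (m := mA) ((pr_fst mA mS 32 hb).el cN0el) (by decide) cH0T0 cH0S)).2) two_pos)

theorem isoN0 : Nonempty (N0 ≃* Sp4) := equiv_of_card N cN0ub cardN0.ge Slb0 card_Sp4_le

end Cfsg.Agent.H4.He
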