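import Cfsg.Agent.H4.J4F

set_option autoImplicit false
set_option maxRecDepth 100000
set_option Elab.async false

namespace Cfsg.Agent.H4.J4

open Subgroup Cfsg.Agent.H5 Cfsg.Agent.H5.Mdl 

theorem qR1O_0 : rngB qR1Of (nat_lit 15180) (nat_lit 0) (nat_lit 232) = 0 := by decide +kernel
theorem qR6O_0 : rngB qR6Of (nat_lit 15180) (nat_lit 0) (nat_lit 238) = 0 := by decide +kernel
theorem YY_0 : rngB YYf (nat_lit 15180) (nat_lit 0) (nat_lit 238) = 0 := by decide +kernel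
theorem qR5I_0 : rng qR5If (nat_lit 0) (nat_lit 23) = 0 := by decide +kernel
theorem c8S_0 : rng c8Sf (nat_lit 0) (nat_lit 64) = 0 := by decide +kernel
theorem c1S_0 : rng c1Sf (nat_lit 0) (nat_lit 23) = 0 := by decide +kernel
theorem qL2W_0 : rng qL2Wf (nat_lit 0) (nat_lit 23) = 0 := by decide +kernel
theorem c5S_0 : rng c5Sf (nat_lit 0) (nat_lit 16) = 0 := by decide +kernel
theorem c4S_0 : rng c4Sf (nat_lit 0) (nat_lit 20) = 0 := by decide +kernel
theorem qL60RO_0 : rngB qL60ROf (nat_lit 759) (nat_lit 0) (nat_lit 12) = 0 := by decide +kernel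
theorem PZY_0 : rngB PZYf (nat_lit 1331) (nat_lit 0) (nat_lit 21) = 0 := by decide +kernel
theorem qR1O_1 : rngB qR1Of (nat_lit 15180) (nat_lit 232) (nat_lit 6) = 0 := by decide +kernel
theorem PE_0 : rng PEf (nat_lit 0) (nat_lit 3) = 0 := by decide +kernel
theorem qL21RO_0 : rngB qL21ROf (nat_lit 384) (nat_lit 0) (nat_lit 6) = 0 := by decide +kernel
theorem qL60yY_0 : rngB qL60yYf (nat_lit 759) (nat_lit 0) (nat_lit 12) = 0 := by decide +kernel
theorem qL12RO_0 : rngB qL12ROf (nat_lit 256) (nat_lit 0) (nat_lit 4) = 0 := by decide +kernel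
theorem c2T0 : cT2 0 = (one2 (nat_lit 112)) := by decide +kernel
theorem c5T0 : cT5 0 = (one2 (nat_lit 112)) := by decide +kernel
theorem c8T0 : cT8 0 = (one2 (nat_lit 112)) := by decide +kernel
theorem qL11X_0 : rng qL11Xf (nat_lit 0) (nat_lit 28) = 0 := by decide +kernel
theorem c7G_0 : rng c7Gf (nat_lit 0) (nat_lit 6) = 0 := by decide +kernel
theorem qL4C_0 : rng qL4Cf (nat_lit 0) (nat_lit 2) = 0 := by decide +kernel
theorem qL11RO_0 : rngB qL11ROf (nat_lit 168) (nat_lit 0) (nat_lit 3) = 0 := by decide +kernel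
theorem qL31RO_0 : rngB qL31ROf (nat_lit 192) (nat_lit 0) (nat_lit 3) = 0 := by decide +kernel
theorem qL4E_0 : rng qL4Ef (nat_lit 0) (nat_lit 2) = 0 := by decide +kernel
theorem qL51RO_0 : rngB qL51ROf (nat_lit 128) (nat_lit 0) (nat_lit 2) = 0 := by decide +kernel
theorem qL22X_0 : rng qL22Xf (nat_lit 0) (nat_lit 16) = 0 := by decide +kernel
theorem qL5E_0 : rng qL5Ef (nat_lit 0) (nat_lit 2) = 0 := by decide +kernel
theorem qL6E_0 : rng qL6Ef (nat_lit 0) (nat_lit 2) = 0 := by decide +kernel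
theorem c4G_0 : rng c4Gf (nat_lit 0) (nat_lit 3) = 0 := by decide +kernel
theorem qL50RO_0 : rngB qL50ROf (nat_lit 72) (nat_lit 0) (nat_lit 2) = 0 := by decide +kernel
theorem qL30yY_0 : rngB qL30yYf (nat_lit 192) (nat_lit 0) (nat_lit 3) = 0 := by decide +kernel
theorem qL30X_0 : rng qL30Xf (nat_lit 0) (nat_lit 8) = 0 := by decide +kernel
theorem c2G_0 : rng c2Gf (nat_lit 0) (nat_lit 2) = 0 := by decide +kernel
theorem c1G_0 : rng c1Gf (nat_lit 0) (nat_lit 2) = 0 := by decide +kernel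
theorem qL17RO_0 : rngB qL17ROf (nat_lit 2) (nat_lit 0) (nat_lit 1) = 0 := by decide +kernel
theorem qL23RO_0 : rngB qL23ROf (nat_lit 2) (nat_lit 0) (nat_lit 1) = 0 := by decide +kernel
theorem qL26RO_0 : rngB qL26ROf (nat_lit 2) (nat_lit 0) (nat_lit 1) = 0 := by decide +kernel
theorem qL10RO_0 : rngB qL10ROf (nat_lit 1) (nat_lit 0) (nat_lit 1) = 0 := by decide +kernel
theorem qL15RO_0 : rngB qL15ROf (nat_lit 2) (nat_lit 0) (nat_lit 1) = 0 := by decide +kernel
theorem qL32RO_0 : rngB qL32ROf (nat_lit 2) (nat_lit 0) (nat_lit 1) = 0 := by decide +kernel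
theorem qL40yY_0 : rngB qL40yYf (nat_lit 120) (nat_lit 0) (nat_lit 2) = 0 := by decide +kernel
theorem qL51yY_0 : rngB qL51yYf (nat_lit 128) (nat_lit 0) (nat_lit 2) = 0 := by decide +kernel
theorem qL40X_0 : rng qL40Xf (nat_lit 0) (nat_lit 4) = 0 := by decide +kernel
theorem qL10yY_0 : rngB qL10yYf (nat_lit 1) (nat_lit 0) (nat_lit 1) = 0 := by decide +kernel
theorem qL13yY_0 : rngB qL13yYf (nat_lit 12) (nat_lit 0) (nat_lit 1) = 0 := by decide +kernel
theorem qL16yY_0 : rngB qL16yYf (nat_lit 2) (nat_lit 0) (nat_lit 1) = 0 := by decide +kernel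
theorem qL19yY_0 : rngB qL19yYf (nat_lit 2) (nat_lit 0) (nat_lit 1) = 0 := by decide +kernel
theorem qL24yY_0 : rngB qL24yYf (nat_lit 2) (nat_lit 0) (nat_lit 1) = 0 := by decide +kernel
theorem qL27yY_0 : rngB qL27yYf (nat_lit 2) (nat_lit 0) (nat_lit 1) = 0 := by decide +kernel
theorem qL61yY_0 : rngB qL61yYf (nat_lit 8) (nat_lit 0) (nat_lit 1) = 0 := by decide +kernel
theorem crF_0 : rng crFf (nat_lit 0) (nat_lit 2) = 0 := by decide +kernel

end Cfsg.Agent.H4.J4
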