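import Cfsg.Agent.H4.J4F

set_option autoImplicit false
set_option maxRecDepth 100000
set_option Elab.async false

namespace Cfsg.Agent.H4.J4

open Subgroup Cfsg.Agent.H5 Cfsg.Agent.H5.Mdl 

theorem qR2O_0 : rngB qR2Of (nat_lit 15180) (nat_lit 0) (nat_lit 233) = 0 := by decide +kernel
theorem qR3O_0 : rngB qR3Of (nat_lit 15180) (nat_lit 0) (nat_lit 238) = 0 := by decide +kernel
theorem c7S_0 : rng c7Sf (nat_lit 0) (nat_lit 32) = 0 := by decide +kernel
theorem qR4I_0 : rng qR4If (nat_lit 0) (nat_lit 19) = 0 := by decide +kernel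
theorem qR3I_0 : rng qR3If (nat_lit 0) (nat_lit 17) = 0 := by decide +kernel
theorem c0S_0 : rng c0Sf (nat_lit 0) (nat_lit 24) = 0 := by decide +kernel
theorem qR1I_0 : rng qR1If (nat_lit 0) (nat_lit 7) = 0 := by decide +kernel
theorem qR2I_0 : rng qR2If (nat_lit 0) (nat_lit 6) = 0 := by decide +kernel
theorem qL1W_0 : rng qL1Wf (nat_lit 0) (nat_lit 28) = 0 := by decide +kernel
theorem qL5W_0 : rng qL5Wf (nat_lit 0) (nat_lit 4) = 0 := by decide +kernel
theorem qL3W_0 : rng qL3Wf (nat_lit 0) (nat_lit 8) = 0 := by decide +kernel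
theorem Q37 : chkQW (mul2 (nat_lit 112)) (one2 (nat_lit 112)) kA Gg [nat_lit 1, nat_lit 0, nat_lit 1, nat_lit 2, nat_lit 1, nat_lit 0, nat_lit 1] 37 = 0 := by decide +kernel
theorem qR2O_1 : rngB qR2Of (nat_lit 15180) (nat_lit 233) (nat_lit 5) = 0 := by decide +kernel
theorem c6G_0 : rng c6Gf (nat_lit 0) (nat_lit 11) = 0 := by decide +kernel
theorem c6S_0 : rng c6Sf (nat_lit 0) (nat_lit 3) = 0 := by decide +kernel
theorem c0T0 : cT0 0 = (one2 (nat_lit 112)) := by decide +kernel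
theorem c3T0 : cT3 0 = (one2 (nat_lit 112)) := by decide +kernel
theorem c6T0 : cT6 0 = (one2 (nat_lit 112)) := by decide +kernel
theorem qD0 : qD 0 = (one2 (nat_lit 112)) := by decide +kernel
theorem qL12X_0 : rng qL12Xf (nat_lit 0) (nat_lit 25) = 0 := by decide +kernel
theorem qL1C_0 : rng qL1Cf (nat_lit 0) (nat_lit 2) = 0 := by decide +kernel
theorem qL6C_0 : rng qL6Cf (nat_lit 0) (nat_lit 2) = 0 := by decide +kernel
theorem qL30RO_0 : rngB qL30ROf (nat_lit 192) (nat_lit 0) (nat_lit 3) = 0 := by decide +kernel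
theorem c5G_0 : rng c5Gf (nat_lit 0) (nat_lit 5) = 0 := by decide +kernel
theorem qL6W_0 : rng qL6Wf (nat_lit 0) (nat_lit 2) = 0 := by decide +kernel
theorem qL1E_0 : rng qL1Ef (nat_lit 0) (nat_lit 2) = 0 := by decide +kernel
theorem qL21yY_0 : rngB qL21yYf (nat_lit 384) (nat_lit 0) (nat_lit 6) = 0 := by decide +kernel
theorem qDI_0 : rng qDIf (nat_lit 0) (nat_lit 7) = 0 := by decide +kernel
theorem qL2E_0 : rng qL2Ef (nat_lit 0) (nat_lit 2) = 0 := by decide +kernel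
theorem qL22RO_0 : rngB qL22ROf (nat_lit 96) (nat_lit 0) (nat_lit 2) = 0 := by decide +kernel
theorem qL23X_0 : rng qL23Xf (nat_lit 0) (nat_lit 11) = 0 := by decide +kernel
theorem qL11yY_0 : rngB qL11yYf (nat_lit 168) (nat_lit 0) (nat_lit 3) = 0 := by decide +kernel
theorem qL31yY_0 : rngB qL31yYf (nat_lit 192) (nat_lit 0) (nat_lit 3) = 0 := by decide +kernel
theorem qL24X_0 : rng qL24Xf (nat_lit 0) (nat_lit 7) = 0 := by decide +kernel
theorem c0G_0 : rng c0Gf (nat_lit 0) (nat_lit 2) = 0 := by decide +kernel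
theorem qL16RO_0 : rngB qL16ROf (nat_lit 2) (nat_lit 0) (nat_lit 1) = 0 := by decide +kernel
theorem qL20RO_0 : rngB qL20ROf (nat_lit 15) (nat_lit 0) (nat_lit 1) = 0 := by decide +kernel
theorem qL25RO_0 : rngB qL25ROf (nat_lit 2) (nat_lit 0) (nat_lit 1) = 0 := by decide +kernel
theorem crV_0 : rng crVf (nat_lit 0) (nat_lit 112) = 0 := by decide +kernel
theorem qL18RO_0 : rngB qL18ROf (nat_lit 2) (nat_lit 0) (nat_lit 1) = 0 := by decide +kernel
theorem qL33RO_0 : rngB qL33ROf (nat_lit 2) (nat_lit 0) (nat_lit 1) = 0 := by decide +kernel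
theorem qL50yY_0 : rngB qL50yYf (nat_lit 72) (nat_lit 0) (nat_lit 2) = 0 := by decide +kernel
theorem qL17X_0 : rng qL17Xf (nat_lit 0) (nat_lit 4) = 0 := by decide +kernel
theorem qL25X_0 : rng qL25Xf (nat_lit 0) (nat_lit 4) = 0 := by decide +kernel
theorem qL50X_0 : rng qL50Xf (nat_lit 0) (nat_lit 4) = 0 := by decide +kernel
theorem qL14yY_0 : rngB qL14yYf (nat_lit 2) (nat_lit 0) (nat_lit 1) = 0 := by decide +kernel
theorem qL17yY_0 : rngB qL17yYf (nat_lit 2) (nat_lit 0) (nat_lit 1) = 0 := by decide +kernel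
theorem qL20yY_0 : rngB qL20yYf (nat_lit 15) (nat_lit 0) (nat_lit 1) = 0 := by decide +kernel
theorem qL25yY_0 : rngB qL25yYf (nat_lit 2) (nat_lit 0) (nat_lit 1) = 0 := by decide +kernel
theorem qL32yY_0 : rngB qL32yYf (nat_lit 2) (nat_lit 0) (nat_lit 1) = 0 := by decide +kernel
theorem qL18X_0 : rng qL18Xf (nat_lit 0) (nat_lit 2) = 0 := by decide +kernel
theorem qL32X_0 : rng qL32Xf (nat_lit 0) (nat_lit 2) = 0 := by decide +kernel
theorem qtt : (mul2 (nat_lit 112)) (qD 1) (qD 1) = (one2 (nat_lit 112)) := by decide +kernel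

end Cfsg.Agent.H4.J4
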