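import Cfsg.Agent.H4.J4F

set_option autoImplicit false
set_option maxRecDepth 100000
set_option Elab.async false

namespace Cfsg.Agent.H4.J4

open Subgroup Cfsg.Agent.H5 Cfsg.Agent.H5.Mdl 

theorem qR5O_0 : rngB qR5Of (nat_lit 15180) (nat_lit 0) (nat_lit 238) = 0 := by decide +kernel
theorem qR4O_0 : rngB qR4Of (nat_lit 15180) (nat_lit 0) (nat_lit 238) = 0 := by decide +kernel
theorem qRHO_0 : rngB qRHOf (nat_lit 15180) (nat_lit 0) (nat_lit 238) = 0 := by decide +kernel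
theorem qR6I_0 : rng qR6If (nat_lit 0) (nat_lit 13) = 0 := by decide +kernel
theorem GP_0 : rng GPf (nat_lit 0) (nat_lit 3) = 0 := by decide +kernel
theorem c2S_0 : rng c2Sf (nat_lit 0) (nat_lit 22) = 0 := by decide +kernel
theorem PRO_0 : rngB PROf (nat_lit 1331) (nat_lit 0) (nat_lit 21) = 0 := by decide +kernel
theorem c3S_0 : rng c3Sf (nat_lit 0) (nat_lit 21) = 0 := by decide +kernel
theorem PC_0 : rng PCf (nat_lit 0) (nat_lit 9) = 0 := by decide +kernel
theorem Q43 : chkQW (mul2 (nat_lit 112)) (one2 (nat_lit 112)) kA Gg [nat_lit 1, nat_lit 1, nat_lit 0, nat_lit 1, nat_lit 2, nat_lit 2, nat_lit 1] 43 = 0 := by decide +kernel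
theorem Q29 : chkQW (mul2 (nat_lit 112)) (one2 (nat_lit 112)) kA Gg [nat_lit 2, nat_lit 2, nat_lit 2, nat_lit 0, nat_lit 0, nat_lit 0, nat_lit 2, nat_lit 0, nat_lit 1, nat_lit 2, nat_lit 2] 29 = 0 := by decide +kernel
theorem Q31 : chkQW (mul2 (nat_lit 112)) (one2 (nat_lit 112)) kA Gg [nat_lit 1, nat_lit 0, nat_lit 1, nat_lit 1, nat_lit 0, nat_lit 2, nat_lit 1, nat_lit 0] 31 = 0 := by decide +kernel
theorem qL4W_0 : rng qL4Wf (nat_lit 0) (nat_lit 4) = 0 := by decide +kernel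
theorem qL10X_0 : rng qL10Xf (nat_lit 0) (nat_lit 30) = 0 := by decide +kernel
theorem c1T0 : cT1 0 = (one2 (nat_lit 112)) := by decide +kernel
theorem c4T0 : cT4 0 = (one2 (nat_lit 112)) := by decide +kernel
theorem c7T0 : cT7 0 = (one2 (nat_lit 112)) := by decide +kernel
theorem qhx : pt (brow (nat_lit 112)) qL10y (nat_lit 0) = pt (brow (nat_lit 112)) Y (nat_lit 5188) := by decide +kernel
theorem qL20X_0 : rng qL20Xf (nat_lit 0) (nat_lit 23) = 0 := by decide +kernel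
theorem qL13X_0 : rng qL13Xf (nat_lit 0) (nat_lit 22) = 0 := by decide +kernel
theorem qL3C_0 : rng qL3Cf (nat_lit 0) (nat_lit 2) = 0 := by decide +kernel
theorem qL21X_0 : rng qL21Xf (nat_lit 0) (nat_lit 20) = 0 := by decide +kernel
theorem qL5C_0 : rng qL5Cf (nat_lit 0) (nat_lit 2) = 0 := by decide +kernel
theorem qL2C_0 : rng qL2Cf (nat_lit 0) (nat_lit 2) = 0 := by decide +kernel
theorem qL41RO_0 : rngB qL41ROf (nat_lit 128) (nat_lit 0) (nat_lit 2) = 0 := by decide +kernel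
theorem qL14X_0 : rng qL14Xf (nat_lit 0) (nat_lit 16) = 0 := by decide +kernel
theorem qL3E_0 : rng qL3Ef (nat_lit 0) (nat_lit 2) = 0 := by decide +kernel
theorem crO_0 : rngB crOf (nat_lit 112) (nat_lit 0) (nat_lit 2) = 0 := by decide +kernel
theorem qL40RO_0 : rngB qL40ROf (nat_lit 120) (nat_lit 0) (nat_lit 2) = 0 := by decide +kernel
theorem qL15X_0 : rng qL15Xf (nat_lit 0) (nat_lit 11) = 0 := by decide +kernel
theorem qL12yY_0 : rngB qL12yYf (nat_lit 256) (nat_lit 0) (nat_lit 4) = 0 := by decide +kernel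
theorem qL16X_0 : rng qL16Xf (nat_lit 0) (nat_lit 7) = 0 := by decide +kernel
theorem c3G_0 : rng c3Gf (nat_lit 0) (nat_lit 2) = 0 := by decide +kernel
theorem qL13RO_0 : rngB qL13ROf (nat_lit 12) (nat_lit 0) (nat_lit 1) = 0 := by decide +kernel
theorem qL19RO_0 : rngB qL19ROf (nat_lit 2) (nat_lit 0) (nat_lit 1) = 0 := by decide +kernel
theorem qL24RO_0 : rngB qL24ROf (nat_lit 2) (nat_lit 0) (nat_lit 1) = 0 := by decide +kernel
theorem qL61RO_0 : rngB qL61ROf (nat_lit 8) (nat_lit 0) (nat_lit 1) = 0 := by decide +kernel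
theorem qL14RO_0 : rngB qL14ROf (nat_lit 2) (nat_lit 0) (nat_lit 1) = 0 := by decide +kernel
theorem qL27RO_0 : rngB qL27ROf (nat_lit 2) (nat_lit 0) (nat_lit 1) = 0 := by decide +kernel
theorem qL22yY_0 : rngB qL22yYf (nat_lit 96) (nat_lit 0) (nat_lit 2) = 0 := by decide +kernel
theorem qL41yY_0 : rngB qL41yYf (nat_lit 128) (nat_lit 0) (nat_lit 2) = 0 := by decide +kernel
theorem HI_0 : rng HIf (nat_lit 0) (nat_lit 2) = 0 := by decide +kernel
theorem qL31X_0 : rng qL31Xf (nat_lit 0) (nat_lit 4) = 0 := by decide +kernel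
theorem qBk_0 : rng qBkf (nat_lit 0) (nat_lit 64) = 0 := by decide +kernel
theorem qL15yY_0 : rngB qL15yYf (nat_lit 2) (nat_lit 0) (nat_lit 1) = 0 := by decide +kernel
theorem qL18yY_0 : rngB qL18yYf (nat_lit 2) (nat_lit 0) (nat_lit 1) = 0 := by decide +kernel
theorem qL23yY_0 : rngB qL23yYf (nat_lit 2) (nat_lit 0) (nat_lit 1) = 0 := by decide +kernel
theorem qL26yY_0 : rngB qL26yYf (nat_lit 2) (nat_lit 0) (nat_lit 1) = 0 := by decide +kernel
theorem qL33yY_0 : rngB qL33yYf (nat_lit 2) (nat_lit 0) (nat_lit 1) = 0 := by decide +kernel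
theorem qL26X_0 : rng qL26Xf (nat_lit 0) (nat_lit 2) = 0 := by decide +kernel
theorem qL60X_0 : rng qL60Xf (nat_lit 0) (nat_lit 2) = 0 := by decide +kernel
theorem crAB : (mul2 (nat_lit 112)) (crm 0) (crm 1) = (one2 (nat_lit 112)) := by decide +kernel

end Cfsg.Agent.H4.J4
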