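import Cfsg.Agent.H4.J4D0

set_option autoImplicit false
set_option maxRecDepth 100000

namespace Cfsg.Agent.H4.J4

open Subgroup Cfsg.Agent.H5 Cfsg.Agent.H5.Mdl 

noncomputable abbrev pvA : ℕ → Vc φA := fun x => (⟨vec2 (ZMod 2) 112 x⟩ : Vc φA)
noncomputable abbrev H : Subgroup GA := mA.gn Hg 2
noncomputable def HIf : ℕ → ℕ := chkI (mul2 (nat_lit 112)) (one2 (nat_lit 112)) Hg Hi
noncomputable abbrev cK1 : Subgroup GA := mA.gn cK1g 2
noncomputable abbrev cK2 : Subgroup GA := mA.gn cK2g 2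
noncomputable abbrev cK3 : Subgroup GA := mA.gn cK3g 2
noncomputable abbrev cK4 : Subgroup GA := mA.gn cK4g 2
noncomputable abbrev cK5 : Subgroup GA := mA.gn cK5g 3
noncomputable abbrev cK6 : Subgroup GA := mA.gn cK6g 5
noncomputable abbrev cK7 : Subgroup GA := mA.gn cK7g 11
noncomputable abbrev cK8 : Subgroup GA := mA.gn cK8g 6
noncomputable def ce8 : ℕ → ℕ := cel1 (mul2 (nat_lit 112)) cT8 (nat_lit 6) (fun _ => (one2 (nat_lit 112)))
noncomputable def ce7 : ℕ → ℕ := cel1 (mul2 (nat_lit 112)) cT7 (nat_lit 5) ce8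
noncomputable def ce6 : ℕ → ℕ := cel1 (mul2 (nat_lit 112)) cT6 (nat_lit 2) ce7
noncomputable def ce5 : ℕ → ℕ := cel1 (mul2 (nat_lit 112)) cT5 (nat_lit 4) ce6
noncomputable def ce4 : ℕ → ℕ := cel1 (mul2 (nat_lit 112)) cT4 (nat_lit 5) ce5
noncomputable def ce3 : ℕ → ℕ := cel1 (mul2 (nat_lit 112)) cT3 (nat_lit 5) ce4
noncomputable def ce2 : ℕ → ℕ := cel1 (mul2 (nat_lit 112)) cT2 (nat_lit 5) ce3
noncomputable def ce1 : ℕ → ℕ := cel1 (mul2 (nat_lit 112)) cT1 (nat_lit 5) ce2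
noncomputable def ce0 : ℕ → ℕ := cel1 (mul2 (nat_lit 112)) cT0 (nat_lit 5) ce1
noncomputable def c0Sf : ℕ → ℕ := chkS2 (mul2 (nat_lit 112)) Hg (nat_lit 2) cT0 ce1 c0c (nat_lit 5) (nat_lit 24)
noncomputable def c0Gf : ℕ → ℕ := chkG (mul2 (nat_lit 112)) Hg cT0 cK1g [[nat_lit 6, nat_lit 15, nat_lit 0, nat_lit 1],
  [nat_lit 9, nat_lit 6, nat_lit 1, nat_lit 1]]
noncomputable def c1Sf : ℕ → ℕ := chkS2 (mul2 (nat_lit 112)) cK1g (nat_lit 2) cT1 ce2 c1c (nat_lit 5) (nat_lit 23)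
noncomputable def c1Gf : ℕ → ℕ := chkG (mul2 (nat_lit 112)) cK1g cT1 cK2g [[nat_lit 0, nat_lit 22, nat_lit 0, nat_lit 1],
  [nat_lit 2, nat_lit 8, nat_lit 1, nat_lit 0]]
noncomputable def c2Sf : ℕ → ℕ := chkS2 (mul2 (nat_lit 112)) cK2g (nat_lit 2) cT2 ce3 c2c (nat_lit 5) (nat_lit 22)
noncomputable def c2Gf : ℕ → ℕ := chkG (mul2 (nat_lit 112)) cK2g cT2 cK3g [[nat_lit 18, nat_lit 16, nat_lit 0, nat_lit 1, nat_lit 1],
  [nat_lit 21, nat_lit 18, nat_lit 0]]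
noncomputable def c3Sf : ℕ → ℕ := chkS2 (mul2 (nat_lit 112)) cK3g (nat_lit 2) cT3 ce4 c3c (nat_lit 5) (nat_lit 21)
noncomputable def c3Gf : ℕ → ℕ := chkG (mul2 (nat_lit 112)) cK3g cT3 cK4g [[nat_lit 20, nat_lit 6, nat_lit 0, nat_lit 1, nat_lit 1],
  [nat_lit 17, nat_lit 15, nat_lit 1]]
noncomputable def c4Sf : ℕ → ℕ := chkS2 (mul2 (nat_lit 112)) cK4g (nat_lit 2) cT4 ce5 c4c (nat_lit 5) (nat_lit 20)
noncomputable def c4Gf : ℕ → ℕ := chkG (mul2 (nat_lit 112)) cK4g cT4 cK5g [[nat_lit 18, nat_lit 7, nat_lit 0, nat_lit 0, nat_lit 1],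
  [nat_lit 0, nat_lit 2, nat_lit 0, nat_lit 1, nat_lit 0],
  [nat_lit 1, nat_lit 14, nat_lit 0, nat_lit 0, nat_lit 1]]
noncomputable def c5Sf : ℕ → ℕ := chkS2 (mul2 (nat_lit 112)) cK5g (nat_lit 3) cT5 ce6 c5c (nat_lit 4) (nat_lit 16)
noncomputable def c5Gf : ℕ → ℕ := chkG (mul2 (nat_lit 112)) cK5g cT5 cK6g [[nat_lit 0, nat_lit 7, nat_lit 2, nat_lit 1],
  [nat_lit 7, nat_lit 4, nat_lit 1, nat_lit 2, nat_lit 0],
  [nat_lit 13, nat_lit 15, nat_lit 2, nat_lit 0],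
  [nat_lit 8, nat_lit 3, nat_lit 2, nat_lit 0, nat_lit 0],
  [nat_lit 14, nat_lit 8, nat_lit 1, nat_lit 2]]
noncomputable def c6Sf : ℕ → ℕ := chkS2 (mul2 (nat_lit 112)) cK6g (nat_lit 5) cT6 ce7 c6c (nat_lit 2) (nat_lit 3)
noncomputable def c6Gf : ℕ → ℕ := chkG (mul2 (nat_lit 112)) cK6g cT6 cK7g [[nat_lit 0, nat_lit 0, nat_lit 3],
  [nat_lit 2, nat_lit 0, nat_lit 3, nat_lit 1, nat_lit 2],
  [nat_lit 0, nat_lit 1, nat_lit 1, nat_lit 2],
  [nat_lit 1, nat_lit 1, nat_lit 3, nat_lit 0, nat_lit 0],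
  [nat_lit 2, nat_lit 2, nat_lit 0],
  [nat_lit 2, nat_lit 0, nat_lit 1, nat_lit 1, nat_lit 4],
  [nat_lit 1, nat_lit 2, nat_lit 1, nat_lit 0, nat_lit 2],
  [nat_lit 2, nat_lit 1, nat_lit 2, nat_lit 0, nat_lit 3],
  [nat_lit 0, nat_lit 1, nat_lit 2, nat_lit 1],
  [nat_lit 0, nat_lit 2, nat_lit 2, nat_lit 4, nat_lit 3],
  [nat_lit 2, nat_lit 1, nat_lit 4, nat_lit 2]]
noncomputable def c7Sf : ℕ → ℕ := chkS2 (mul2 (nat_lit 112)) cK7g (nat_lit 11) cT7 ce8 c7c (nat_lit 5) (nat_lit 32)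
noncomputable def c7Gf : ℕ → ℕ := chkG (mul2 (nat_lit 112)) cK7g cT7 cK8g [[nat_lit 25, nat_lit 20, nat_lit 10, nat_lit 8, nat_lit 5],
  [nat_lit 9, nat_lit 7, nat_lit 10, nat_lit 2, nat_lit 9],
  [nat_lit 0, nat_lit 15, nat_lit 5, nat_lit 0, nat_lit 7],
  [nat_lit 25, nat_lit 24, nat_lit 10, nat_lit 4],
  [nat_lit 13, nat_lit 26, nat_lit 9],
  [nat_lit 16, nat_lit 1, nat_lit 3, nat_lit 8]]
noncomputable def c8Sf : ℕ → ℕ := chkS2 (mul2 (nat_lit 112)) cK8g (nat_lit 6) cT8 (fun _ => (one2 (nat_lit 112))) c8c (nat_lit 6) (nat_lit 64)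
noncomputable def YYf : ℕ → ℕ := chkY can0 (brow (nat_lit 112)) Y (nat_lit 15180)
noncomputable def qDIf : ℕ → ℕ := chkI (mul2 (nat_lit 112)) (one2 (nat_lit 112)) qD qDi
noncomputable def qRHOf : ℕ → ℕ := chkO (img2 (nat_lit 112) Hg) (brow (nat_lit 112)) Y qRHa (nat_lit 15180) [nat_lit 5188]
noncomputable abbrev qL1 : Subgroup GA := Lf (MonoidHom.id GA) H (mA.elt (qD 1))
noncomputable def qL1Ef : ℕ → ℕ := chkE qL1P ce0 [nat_lit 93049016559, nat_lit 4220885861645]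
noncomputable def qL1Cf : ℕ → ℕ := chkL (mul2 (nat_lit 112)) (qD 1) qL1P ce0 [nat_lit 2627187549874, nat_lit 1778700014225]
noncomputable def qL1Wf : ℕ → ℕ := chkPl (mul2 (nat_lit 112)) qL1P [[nat_lit 0, nat_lit 1, nat_lit 1, nat_lit 0, nat_lit 1, nat_lit 0, nat_lit 1, nat_lit 1, nat_lit 0],
  [nat_lit 0, nat_lit 1, nat_lit 0, nat_lit 0, nat_lit 0, nat_lit 0, nat_lit 1, nat_lit 1, nat_lit 0, nat_lit 0],
  [nat_lit 1, nat_lit 0, nat_lit 1, nat_lit 0, nat_lit 0, nat_lit 1],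
  [nat_lit 3, nat_lit 2, nat_lit 2, nat_lit 3, nat_lit 4, nat_lit 4, nat_lit 2],
  [nat_lit 4, nat_lit 3, nat_lit 2, nat_lit 2, nat_lit 3, nat_lit 2, nat_lit 4],
  [nat_lit 3, nat_lit 4, nat_lit 3, nat_lit 4, nat_lit 3, nat_lit 4],
  [nat_lit 7, nat_lit 6, nat_lit 7, nat_lit 5, nat_lit 5, nat_lit 7, nat_lit 6, nat_lit 7],
  [nat_lit 5, nat_lit 6, nat_lit 7, nat_lit 6, nat_lit 5, nat_lit 6, nat_lit 5, nat_lit 5, nat_lit 7, nat_lit 6],
  [nat_lit 5, nat_lit 5, nat_lit 6, nat_lit 5, nat_lit 6, nat_lit 5, nat_lit 6, nat_lit 7, nat_lit 5, nat_lit 7],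
  [nat_lit 6, nat_lit 6, nat_lit 7, nat_lit 7, nat_lit 7],
  [nat_lit 7, nat_lit 6, nat_lit 6, nat_lit 7, nat_lit 7],
  [nat_lit 7, nat_lit 5, nat_lit 5],
  [nat_lit 13, nat_lit 8, nat_lit 12, nat_lit 8],
  [nat_lit 9, nat_lit 8, nat_lit 8],
  [nat_lit 8, nat_lit 12, nat_lit 10],
  [nat_lit 8, nat_lit 10, nat_lit 8, nat_lit 8, nat_lit 9],
  [nat_lit 8, nat_lit 8, nat_lit 11],
  [nat_lit 14, nat_lit 14, nat_lit 18, nat_lit 14, nat_lit 14, nat_lit 16],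
  [nat_lit 14, nat_lit 16, nat_lit 14, nat_lit 15],
  [nat_lit 14, nat_lit 14, nat_lit 15],
  [nat_lit 17],
  [nat_lit 20, nat_lit 20, nat_lit 20, nat_lit 20, nat_lit 19],
  [nat_lit 20, nat_lit 20, nat_lit 19, nat_lit 20, nat_lit 20, nat_lit 21],
  [nat_lit 22, nat_lit 19],
  [nat_lit 25, nat_lit 24, nat_lit 24, nat_lit 24],
  [nat_lit 24, nat_lit 24, nat_lit 23, nat_lit 24, nat_lit 25],
  [nat_lit 26, nat_lit 26, nat_lit 26, nat_lit 26, nat_lit 27],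
  [nat_lit 26, nat_lit 27, nat_lit 26]] (nat_lit 2)
noncomputable def qL10yYf : ℕ → ℕ := chkY can0 (brow (nat_lit 112)) qL10y (nat_lit 1)
noncomputable def qL10ROf : ℕ → ℕ := chkO (img2 (nat_lit 112) (shf qL1P (nat_lit 0))) (brow (nat_lit 112)) qL10y qL10Ra (nat_lit 1) [nat_lit 0]
noncomputable def qL10Xf : ℕ → ℕ := chkFx (img2 (nat_lit 112) qL1P) (brow (nat_lit 112)) qL10y (nat_lit 0) [nat_lit 0, nat_lit 0, nat_lit 0, nat_lit 0, nat_lit 0, nat_lit 0, nat_lit 0, nat_lit 0, nat_lit 0, nat_lit 0, nat_lit 0, nat_lit 0, nat_lit 0, nat_lit 0, nat_lit 0, nat_lit 0, nat_lit 0, nat_lit 0, nat_lit 0, nat_lit 0, nat_lit 0, nat_lit 0, nat_lit 0, nat_lit 0, nat_lit 0, nat_lit 0, nat_lit 0, nat_lit 0, nat_lit 0, nat_lit 0] (nat_lit 0)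
noncomputable abbrev qL1K1 : Subgroup GA := qL1 ⊓ MulAction.stabilizer GA (pvA (pt (brow (nat_lit 112)) qL10y (nat_lit 0)))
noncomputable def qL11yYf : ℕ → ℕ := chkY can0 (brow (nat_lit 112)) qL11y (nat_lit 168)
noncomputable def qL11ROf : ℕ → ℕ := chkO (img2 (nat_lit 112) (shf qL1P (nat_lit 0))) (brow (nat_lit 112)) qL11y qL11Ra (nat_lit 168) [nat_lit 140]
noncomputable def qL11Xf : ℕ → ℕ := chkFx (img2 (nat_lit 112) qL1P) (brow (nat_lit 112)) qL11y (nat_lit 140) [nat_lit 0, nat_lit 0, nat_lit 0, nat_lit 0, nat_lit 0, nat_lit 0, nat_lit 0, nat_lit 0, nat_lit 0, nat_lit 0, nat_lit 0, nat_lit 0, nat_lit 0, nat_lit 0, nat_lit 0, nat_lit 0, nat_lit 0, nat_lit 0, nat_lit 0, nat_lit 0, nat_lit 0, nat_lit 0, nat_lit 0, nat_lit 0, nat_lit 0, nat_lit 0, nat_lit 0, nat_lit 0] (nat_lit 2)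
noncomputable abbrev qL1K2 : Subgroup GA := qL1K1 ⊓ MulAction.stabilizer GA (pvA (pt (brow (nat_lit 112)) qL11y (nat_lit 140)))
noncomputable def qL12yYf : ℕ → ℕ := chkY can0 (brow (nat_lit 112)) qL12y (nat_lit 256)
noncomputable def qL12ROf : ℕ → ℕ := chkO (img2 (nat_lit 112) (shf qL1P (nat_lit 2))) (brow (nat_lit 112)) qL12y qL12Ra (nat_lit 256) [nat_lit 87]
noncomputable def qL12Xf : ℕ → ℕ := chkFx (img2 (nat_lit 112) qL1P) (brow (nat_lit 112)) qL12y (nat_lit 87) [nat_lit 0, nat_lit 0, nat_lit 0, nat_lit 0, nat_lit 0, nat_lit 0, nat_lit 0, nat_lit 0, nat_lit 0, nat_lit 0, nat_lit 0, nat_lit 0, nat_lit 0, nat_lit 0, nat_lit 0, nat_lit 0, nat_lit 0, nat_lit 0, nat_lit 0, nat_lit 0, nat_lit 0, nat_lit 0, nat_lit 0, nat_lit 0, nat_lit 0] (nat_lit 5)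
noncomputable abbrev qL1K3 : Subgroup GA := qL1K2 ⊓ MulAction.stabilizer GA (pvA (pt (brow (nat_lit 112)) qL12y (nat_lit 87)))
noncomputable def qL13yYf : ℕ → ℕ := chkY can0 (brow (nat_lit 112)) qL13y (nat_lit 12)
noncomputable def qL13ROf : ℕ → ℕ := chkO (img2 (nat_lit 112) (shf qL1P (nat_lit 5))) (brow (nat_lit 112)) qL13y qL13Ra (nat_lit 12) [nat_lit 11]
noncomputable def qL13Xf : ℕ → ℕ := chkFx (img2 (nat_lit 112) qL1P) (brow (nat_lit 112)) qL13y (nat_lit 11) [nat_lit 0, nat_lit 0, nat_lit 0, nat_lit 0, nat_lit 0, nat_lit 0, nat_lit 0, nat_lit 0, nat_lit 0, nat_lit 0, nat_lit 0, nat_lit 0, nat_lit 0, nat_lit 0, nat_lit 0, nat_lit 0, nat_lit 0, nat_lit 0, nat_lit 0, nat_lit 0, nat_lit 0, nat_lit 0] (nat_lit 8)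
noncomputable abbrev qL1K4 : Subgroup GA := qL1K3 ⊓ MulAction.stabilizer GA (pvA (pt (brow (nat_lit 112)) qL13y (nat_lit 11)))
noncomputable def qL14yYf : ℕ → ℕ := chkY can0 (brow (nat_lit 112)) qL14y (nat_lit 2)
noncomputable def qL14ROf : ℕ → ℕ := chkO (img2 (nat_lit 112) (shf qL1P (nat_lit 8))) (brow (nat_lit 112)) qL14y qL14Ra (nat_lit 2) [nat_lit 0]
noncomputable def qL14Xf : ℕ → ℕ := chkFx (img2 (nat_lit 112) qL1P) (brow (nat_lit 112)) qL14y (nat_lit 0) [nat_lit 0, nat_lit 0, nat_lit 0, nat_lit 0, nat_lit 0, nat_lit 0, nat_lit 0, nat_lit 0, nat_lit 0, nat_lit 0, nat_lit 0, nat_lit 0, nat_lit 0, nat_lit 0, nat_lit 0, nat_lit 0] (nat_lit 14)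
noncomputable abbrev qL1K5 : Subgroup GA := qL1K4 ⊓ MulAction.stabilizer GA (pvA (pt (brow (nat_lit 112)) qL14y (nat_lit 0)))
noncomputable def qL15yYf : ℕ → ℕ := chkY can0 (brow (nat_lit 112)) qL15y (nat_lit 2)
noncomputable def qL15ROf : ℕ → ℕ := chkO (img2 (nat_lit 112) (shf qL1P (nat_lit 14))) (brow (nat_lit 112)) qL15y qL15Ra (nat_lit 2) [nat_lit 1]
noncomputable def qL15Xf : ℕ → ℕ := chkFx (img2 (nat_lit 112) qL1P) (brow (nat_lit 112)) qL15y (nat_lit 1) [nat_lit 0, nat_lit 0, nat_lit 0, nat_lit 0, nat_lit 0, nat_lit 0, nat_lit 0, nat_lit 0, nat_lit 0, nat_lit 0, nat_lit 0] (nat_lit 19)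
noncomputable abbrev qL1K6 : Subgroup GA := qL1K5 ⊓ MulAction.stabilizer GA (pvA (pt (brow (nat_lit 112)) qL15y (nat_lit 1)))
noncomputable def qL16yYf : ℕ → ℕ := chkY can0 (brow (nat_lit 112)) qL16y (nat_lit 2)
noncomputable def qL16ROf : ℕ → ℕ := chkO (img2 (nat_lit 112) (shf qL1P (nat_lit 19))) (brow (nat_lit 112)) qL16y qL16Ra (nat_lit 2) [nat_lit 0]
noncomputable def qL16Xf : ℕ → ℕ := chkFx (img2 (nat_lit 112) qL1P) (brow (nat_lit 112)) qL16y (nat_lit 0) [nat_lit 0, nat_lit 0, nat_lit 0, nat_lit 0, nat_lit 0, nat_lit 0, nat_lit 0] (nat_lit 23)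
noncomputable abbrev qL1K7 : Subgroup GA := qL1K6 ⊓ MulAction.stabilizer GA (pvA (pt (brow (nat_lit 112)) qL16y (nat_lit 0)))
noncomputable def qL17yYf : ℕ → ℕ := chkY can0 (brow (nat_lit 112)) qL17y (nat_lit 2)
noncomputable def qL17ROf : ℕ → ℕ := chkO (img2 (nat_lit 112) (shf qL1P (nat_lit 23))) (brow (nat_lit 112)) qL17y qL17Ra (nat_lit 2) [nat_lit 1]
noncomputable def qL17Xf : ℕ → ℕ := chkFx (img2 (nat_lit 112) qL1P) (brow (nat_lit 112)) qL17y (nat_lit 1) [nat_lit 0, nat_lit 0, nat_lit 0, nat_lit 0] (nat_lit 26)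
noncomputable abbrev qL1K8 : Subgroup GA := qL1K7 ⊓ MulAction.stabilizer GA (pvA (pt (brow (nat_lit 112)) qL17y (nat_lit 1)))
noncomputable def qL18yYf : ℕ → ℕ := chkY can0 (brow (nat_lit 112)) qL18y (nat_lit 2)
noncomputable def qL18ROf : ℕ → ℕ := chkO (img2 (nat_lit 112) (shf qL1P (nat_lit 26))) (brow (nat_lit 112)) qL18y qL18Ra (nat_lit 2) [nat_lit 1]
noncomputable def qL18Xf : ℕ → ℕ := chkFx (img2 (nat_lit 112) qL1P) (brow (nat_lit 112)) qL18y (nat_lit 1) [nat_lit 0, nat_lit 0] (nat_lit 28)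
noncomputable abbrev qL1K9 : Subgroup GA := qL1K8 ⊓ MulAction.stabilizer GA (pvA (pt (brow (nat_lit 112)) qL18y (nat_lit 1)))
noncomputable def qL19yYf : ℕ → ℕ := chkY can0 (brow (nat_lit 112)) qL19y (nat_lit 2)
noncomputable def qL19ROf : ℕ → ℕ := chkO (img2 (nat_lit 112) (shf qL1P (nat_lit 28))) (brow (nat_lit 112)) qL19y qL19Ra (nat_lit 2) [nat_lit 0]
noncomputable def qL19Xf : ℕ → ℕ := chkFx (img2 (nat_lit 112) qL1P) (brow (nat_lit 112)) qL19y (nat_lit 0) [] (nat_lit 30)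
noncomputable abbrev qL1K10 : Subgroup GA := qL1K9 ⊓ MulAction.stabilizer GA (pvA (pt (brow (nat_lit 112)) qL19y (nat_lit 0)))
noncomputable abbrev qL2 : Subgroup GA := Lf (MonoidHom.id GA) H (mA.elt (qD 2))
noncomputable def qL2Ef : ℕ → ℕ := chkE qL2P ce0 [nat_lit 2562385642720, nat_lit 3494226566626]
noncomputable def qL2Cf : ℕ → ℕ := chkL (mul2 (nat_lit 112)) (qD 2) qL2P ce0 [nat_lit 2570975183509, nat_lit 10112672247]
noncomputable def qL2Wf : ℕ → ℕ := chkPl (mul2 (nat_lit 112)) qL2P [[nat_lit 1, nat_lit 1, nat_lit 1, nat_lit 0, nat_lit 1, nat_lit 0, nat_lit 0, nat_lit 1, nat_lit 0, nat_lit 1, nat_lit 0, nat_lit 1],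
  [nat_lit 0, nat_lit 1, nat_lit 1, nat_lit 0, nat_lit 1, nat_lit 1],
  [nat_lit 0, nat_lit 0, nat_lit 1, nat_lit 1, nat_lit 1, nat_lit 1, nat_lit 0, nat_lit 1, nat_lit 0],
  [nat_lit 4, nat_lit 4, nat_lit 3, nat_lit 2, nat_lit 3, nat_lit 3, nat_lit 4, nat_lit 3, nat_lit 4, nat_lit 4],
  [nat_lit 2, nat_lit 4, nat_lit 2, nat_lit 4, nat_lit 2, nat_lit 3, nat_lit 4, nat_lit 3, nat_lit 4, nat_lit 4],
  [nat_lit 4, nat_lit 2, nat_lit 2, nat_lit 4, nat_lit 2, nat_lit 3, nat_lit 3, nat_lit 2],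
  [nat_lit 4, nat_lit 2, nat_lit 3, nat_lit 4, nat_lit 2, nat_lit 4],
  [nat_lit 5, nat_lit 5, nat_lit 5, nat_lit 6, nat_lit 5, nat_lit 5, nat_lit 5, nat_lit 6, nat_lit 5, nat_lit 5, nat_lit 8, nat_lit 7, nat_lit 5, nat_lit 8, nat_lit 6, nat_lit 5, nat_lit 5],
  [nat_lit 5, nat_lit 5, nat_lit 8, nat_lit 6, nat_lit 5, nat_lit 6, nat_lit 5, nat_lit 7, nat_lit 8],
  [nat_lit 5, nat_lit 6, nat_lit 5, nat_lit 5, nat_lit 8, nat_lit 6, nat_lit 8, nat_lit 7, nat_lit 6],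
  [nat_lit 8, nat_lit 6, nat_lit 7, nat_lit 5, nat_lit 6, nat_lit 5, nat_lit 6, nat_lit 5, nat_lit 5, nat_lit 5, nat_lit 5, nat_lit 8, nat_lit 5, nat_lit 5, nat_lit 5],
  [nat_lit 6, nat_lit 5, nat_lit 5, nat_lit 5, nat_lit 7, nat_lit 5, nat_lit 5, nat_lit 5, nat_lit 5, nat_lit 5, nat_lit 8, nat_lit 5, nat_lit 6, nat_lit 8, nat_lit 6, nat_lit 5, nat_lit 5],
  [nat_lit 12, nat_lit 11, nat_lit 9, nat_lit 11],
  [nat_lit 11, nat_lit 10, nat_lit 11, nat_lit 9],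
  [nat_lit 11, nat_lit 11, nat_lit 9, nat_lit 11, nat_lit 11],
  [nat_lit 11, nat_lit 13, nat_lit 11, nat_lit 11, nat_lit 9],
  [nat_lit 15, nat_lit 15, nat_lit 15, nat_lit 15, nat_lit 16],
  [nat_lit 15, nat_lit 15, nat_lit 15, nat_lit 15, nat_lit 14],
  [nat_lit 15, nat_lit 17, nat_lit 15, nat_lit 15],
  [nat_lit 18, nat_lit 18, nat_lit 19, nat_lit 18],
  [nat_lit 18, nat_lit 18, nat_lit 18, nat_lit 20],
  [nat_lit 22, nat_lit 21, nat_lit 22],
  [nat_lit 21, nat_lit 22, nat_lit 22]] (nat_lit 2)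
noncomputable def qL20yYf : ℕ → ℕ := chkY can0 (brow (nat_lit 112)) qL20y (nat_lit 15)
noncomputable def qL20ROf : ℕ → ℕ := chkO (img2 (nat_lit 112) (shf qL2P (nat_lit 0))) (brow (nat_lit 112)) qL20y qL20Ra (nat_lit 15) [nat_lit 1]
noncomputable def qL20Xf : ℕ → ℕ := chkFx (img2 (nat_lit 112) qL2P) (brow (nat_lit 112)) qL20y (nat_lit 1) [nat_lit 0, nat_lit 0, nat_lit 0, nat_lit 0, nat_lit 0, nat_lit 0, nat_lit 0, nat_lit 0, nat_lit 0, nat_lit 0, nat_lit 0, nat_lit 0, nat_lit 0, nat_lit 0, nat_lit 0, nat_lit 0, nat_lit 0, nat_lit 0, nat_lit 0, nat_lit 0, nat_lit 0, nat_lit 0, nat_lit 0] (nat_lit 2)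
noncomputable abbrev qL2K1 : Subgroup GA := qL2 ⊓ MulAction.stabilizer GA (pvA (pt (brow (nat_lit 112)) qL20y (nat_lit 1)))
noncomputable def qL21yYf : ℕ → ℕ := chkY can0 (brow (nat_lit 112)) qL21y (nat_lit 384)
noncomputable def qL21ROf : ℕ → ℕ := chkO (img2 (nat_lit 112) (shf qL2P (nat_lit 2))) (brow (nat_lit 112)) qL21y qL21Ra (nat_lit 384) [nat_lit 250]
noncomputable def qL21Xf : ℕ → ℕ := chkFx (img2 (nat_lit 112) qL2P) (brow (nat_lit 112)) qL21y (nat_lit 250) [nat_lit 0, nat_lit 0, nat_lit 0, nat_lit 0, nat_lit 0, nat_lit 0, nat_lit 0, nat_lit 0, nat_lit 0, nat_lit 0, nat_lit 0, nat_lit 0, nat_lit 0, nat_lit 0, nat_lit 0, nat_lit 0, nat_lit 0, nat_lit 0, nat_lit 0, nat_lit 0] (nat_lit 5)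
noncomputable abbrev qL2K2 : Subgroup GA := qL2K1 ⊓ MulAction.stabilizer GA (pvA (pt (brow (nat_lit 112)) qL21y (nat_lit 250)))
noncomputable def qL22yYf : ℕ → ℕ := chkY can0 (brow (nat_lit 112)) qL22y (nat_lit 96)
noncomputable def qL22ROf : ℕ → ℕ := chkO (img2 (nat_lit 112) (shf qL2P (nat_lit 5))) (brow (nat_lit 112)) qL22y qL22Ra (nat_lit 96) [nat_lit 45]
noncomputable def qL22Xf : ℕ → ℕ := chkFx (img2 (nat_lit 112) qL2P) (brow (nat_lit 112)) qL22y (nat_lit 45) [nat_lit 0, nat_lit 0, nat_lit 0, nat_lit 0, nat_lit 0, nat_lit 0, nat_lit 0, nat_lit 0, nat_lit 0, nat_lit 0, nat_lit 0, nat_lit 0, nat_lit 0, nat_lit 0, nat_lit 0, nat_lit 0] (nat_lit 9)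
noncomputable abbrev qL2K3 : Subgroup GA := qL2K2 ⊓ MulAction.stabilizer GA (pvA (pt (brow (nat_lit 112)) qL22y (nat_lit 45)))
noncomputable def qL23yYf : ℕ → ℕ := chkY can0 (brow (nat_lit 112)) qL23y (nat_lit 2)
noncomputable def qL23ROf : ℕ → ℕ := chkO (img2 (nat_lit 112) (shf qL2P (nat_lit 9))) (brow (nat_lit 112)) qL23y qL23Ra (nat_lit 2) [nat_lit 0]
noncomputable def qL23Xf : ℕ → ℕ := chkFx (img2 (nat_lit 112) qL2P) (brow (nat_lit 112)) qL23y (nat_lit 0) [nat_lit 0, nat_lit 0, nat_lit 0, nat_lit 0, nat_lit 0, nat_lit 0, nat_lit 0, nat_lit 0, nat_lit 0, nat_lit 0, nat_lit 0] (nat_lit 14)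
noncomputable abbrev qL2K4 : Subgroup GA := qL2K3 ⊓ MulAction.stabilizer GA (pvA (pt (brow (nat_lit 112)) qL23y (nat_lit 0)))
noncomputable def qL24yYf : ℕ → ℕ := chkY can0 (brow (nat_lit 112)) qL24y (nat_lit 2)
noncomputable def qL24ROf : ℕ → ℕ := chkO (img2 (nat_lit 112) (shf qL2P (nat_lit 14))) (brow (nat_lit 112)) qL24y qL24Ra (nat_lit 2) [nat_lit 0]
noncomputable def qL24Xf : ℕ → ℕ := chkFx (img2 (nat_lit 112) qL2P) (brow (nat_lit 112)) qL24y (nat_lit 0) [nat_lit 0, nat_lit 0, nat_lit 0, nat_lit 0, nat_lit 0, nat_lit 0, nat_lit 0] (nat_lit 18)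
noncomputable abbrev qL2K5 : Subgroup GA := qL2K4 ⊓ MulAction.stabilizer GA (pvA (pt (brow (nat_lit 112)) qL24y (nat_lit 0)))
noncomputable def qL25yYf : ℕ → ℕ := chkY can0 (brow (nat_lit 112)) qL25y (nat_lit 2)
noncomputable def qL25ROf : ℕ → ℕ := chkO (img2 (nat_lit 112) (shf qL2P (nat_lit 18))) (brow (nat_lit 112)) qL25y qL25Ra (nat_lit 2) [nat_lit 1]
noncomputable def qL25Xf : ℕ → ℕ := chkFx (img2 (nat_lit 112) qL2P) (brow (nat_lit 112)) qL25y (nat_lit 1) [nat_lit 0, nat_lit 0, nat_lit 0, nat_lit 0] (nat_lit 21)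
noncomputable abbrev qL2K6 : Subgroup GA := qL2K5 ⊓ MulAction.stabilizer GA (pvA (pt (brow (nat_lit 112)) qL25y (nat_lit 1)))
noncomputable def qL26yYf : ℕ → ℕ := chkY can0 (brow (nat_lit 112)) qL26y (nat_lit 2)
noncomputable def qL26ROf : ℕ → ℕ := chkO (img2 (nat_lit 112) (shf qL2P (nat_lit 21))) (brow (nat_lit 112)) qL26y qL26Ra (nat_lit 2) [nat_lit 1]
noncomputable def qL26Xf : ℕ → ℕ := chkFx (img2 (nat_lit 112) qL2P) (brow (nat_lit 112)) qL26y (nat_lit 1) [nat_lit 0, nat_lit 0] (nat_lit 23)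
noncomputable abbrev qL2K7 : Subgroup GA := qL2K6 ⊓ MulAction.stabilizer GA (pvA (pt (brow (nat_lit 112)) qL26y (nat_lit 1)))
noncomputable def qL27yYf : ℕ → ℕ := chkY can0 (brow (nat_lit 112)) qL27y (nat_lit 2)
noncomputable def qL27ROf : ℕ → ℕ := chkO (img2 (nat_lit 112) (shf qL2P (nat_lit 23))) (brow (nat_lit 112)) qL27y qL27Ra (nat_lit 2) [nat_lit 0]
noncomputable def qL27Xf : ℕ → ℕ := chkFx (img2 (nat_lit 112) qL2P) (brow (nat_lit 112)) qL27y (nat_lit 0) [] (nat_lit 25)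
noncomputable abbrev qL2K8 : Subgroup GA := qL2K7 ⊓ MulAction.stabilizer GA (pvA (pt (brow (nat_lit 112)) qL27y (nat_lit 0)))
noncomputable abbrev qL3 : Subgroup GA := Lf (MonoidHom.id GA) H (mA.elt (qD 3))
noncomputable def qL3Ef : ℕ → ℕ := chkE qL3P ce0 [nat_lit 292312174115, nat_lit 1846940086960]
noncomputable def qL3Cf : ℕ → ℕ := chkL (mul2 (nat_lit 112)) (qD 3) qL3P ce0 [nat_lit 598042348976, nat_lit 3680023753038]
noncomputable def qL3Wf : ℕ → ℕ := chkPl (mul2 (nat_lit 112)) qL3P [[nat_lit 0, nat_lit 1, nat_lit 0, nat_lit 0, nat_lit 0, nat_lit 0, nat_lit 0, nat_lit 1, nat_lit 0, nat_lit 1, nat_lit 0],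
  [nat_lit 0, nat_lit 0, nat_lit 1, nat_lit 0, nat_lit 0, nat_lit 0, nat_lit 0, nat_lit 1, nat_lit 1, nat_lit 1, nat_lit 1, nat_lit 1],
  [nat_lit 0, nat_lit 0, nat_lit 0, nat_lit 0, nat_lit 0, nat_lit 1, nat_lit 0, nat_lit 0, nat_lit 1, nat_lit 1, nat_lit 1],
  [nat_lit 1, nat_lit 0, nat_lit 1, nat_lit 0, nat_lit 0],
  [nat_lit 2, nat_lit 5, nat_lit 5, nat_lit 4, nat_lit 5, nat_lit 2],
  [nat_lit 5, nat_lit 3, nat_lit 4, nat_lit 2, nat_lit 2],
  [nat_lit 6, nat_lit 6, nat_lit 7, nat_lit 6, nat_lit 6],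
  [nat_lit 6, nat_lit 6, nat_lit 7, nat_lit 6, nat_lit 6]] (nat_lit 2)
noncomputable def qL30yYf : ℕ → ℕ := chkY can0 (brow (nat_lit 112)) qL30y (nat_lit 192)
noncomputable def qL30ROf : ℕ → ℕ := chkO (img2 (nat_lit 112) (shf qL3P (nat_lit 0))) (brow (nat_lit 112)) qL30y qL30Ra (nat_lit 192) [nat_lit 69]
noncomputable def qL30Xf : ℕ → ℕ := chkFx (img2 (nat_lit 112) qL3P) (brow (nat_lit 112)) qL30y (nat_lit 69) [nat_lit 0, nat_lit 0, nat_lit 0, nat_lit 0, nat_lit 0, nat_lit 0, nat_lit 0, nat_lit 0] (nat_lit 2)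
noncomputable abbrev qL3K1 : Subgroup GA := qL3 ⊓ MulAction.stabilizer GA (pvA (pt (brow (nat_lit 112)) qL30y (nat_lit 69)))
noncomputable def qL31yYf : ℕ → ℕ := chkY can0 (brow (nat_lit 112)) qL31y (nat_lit 192)
noncomputable def qL31ROf : ℕ → ℕ := chkO (img2 (nat_lit 112) (shf qL3P (nat_lit 2))) (brow (nat_lit 112)) qL31y qL31Ra (nat_lit 192) [nat_lit 27]
noncomputable def qL31Xf : ℕ → ℕ := chkFx (img2 (nat_lit 112) qL3P) (brow (nat_lit 112)) qL31y (nat_lit 27) [nat_lit 0, nat_lit 0, nat_lit 0, nat_lit 0] (nat_lit 6)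
noncomputable abbrev qL3K2 : Subgroup GA := qL3K1 ⊓ MulAction.stabilizer GA (pvA (pt (brow (nat_lit 112)) qL31y (nat_lit 27)))
noncomputable def qL32yYf : ℕ → ℕ := chkY can0 (brow (nat_lit 112)) qL32y (nat_lit 2)
noncomputable def qL32ROf : ℕ → ℕ := chkO (img2 (nat_lit 112) (shf qL3P (nat_lit 6))) (brow (nat_lit 112)) qL32y qL32Ra (nat_lit 2) [nat_lit 1]
noncomputable def qL32Xf : ℕ → ℕ := chkFx (img2 (nat_lit 112) qL3P) (brow (nat_lit 112)) qL32y (nat_lit 1) [nat_lit 0, nat_lit 0] (nat_lit 8)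
noncomputable abbrev qL3K3 : Subgroup GA := qL3K2 ⊓ MulAction.stabilizer GA (pvA (pt (brow (nat_lit 112)) qL32y (nat_lit 1)))
noncomputable def qL33yYf : ℕ → ℕ := chkY can0 (brow (nat_lit 112)) qL33y (nat_lit 2)
noncomputable def qL33ROf : ℕ → ℕ := chkO (img2 (nat_lit 112) (shf qL3P (nat_lit 8))) (brow (nat_lit 112)) qL33y qL33Ra (nat_lit 2) [nat_lit 0]
noncomputable def qL33Xf : ℕ → ℕ := chkFx (img2 (nat_lit 112) qL3P) (brow (nat_lit 112)) qL33y (nat_lit 0) [] (nat_lit 10)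
noncomputable abbrev qL3K4 : Subgroup GA := qL3K3 ⊓ MulAction.stabilizer GA (pvA (pt (brow (nat_lit 112)) qL33y (nat_lit 0)))
noncomputable abbrev qL4 : Subgroup GA := Lf (MonoidHom.id GA) H (mA.elt (qD 4))
noncomputable def qL4Ef : ℕ → ℕ := chkE qL4P ce0 [nat_lit 3155628171411, nat_lit 1844067313139]
noncomputable def qL4Cf : ℕ → ℕ := chkL (mul2 (nat_lit 112)) (qD 4) qL4P ce0 [nat_lit 4147915194498, nat_lit 4205426854245]
noncomputable def qL4Wf : ℕ → ℕ := chkPl (mul2 (nat_lit 112)) qL4P [[nat_lit 0, nat_lit 1, nat_lit 1, nat_lit 0, nat_lit 0, nat_lit 1],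
  [nat_lit 0, nat_lit 1, nat_lit 0, nat_lit 0, nat_lit 0, nat_lit 0, nat_lit 1, nat_lit 1, nat_lit 1, nat_lit 0, nat_lit 0],
  [nat_lit 0, nat_lit 0, nat_lit 1, nat_lit 1, nat_lit 0, nat_lit 0, nat_lit 0, nat_lit 1, nat_lit 0, nat_lit 1, nat_lit 0],
  [nat_lit 0, nat_lit 0, nat_lit 0, nat_lit 1, nat_lit 0, nat_lit 0, nat_lit 1, nat_lit 0, nat_lit 1, nat_lit 1, nat_lit 0]] (nat_lit 2)
noncomputable def qL40yYf : ℕ → ℕ := chkY can0 (brow (nat_lit 112)) qL40y (nat_lit 120)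
noncomputable def qL40ROf : ℕ → ℕ := chkO (img2 (nat_lit 112) (shf qL4P (nat_lit 0))) (brow (nat_lit 112)) qL40y qL40Ra (nat_lit 120) [nat_lit 51]
noncomputable def qL40Xf : ℕ → ℕ := chkFx (img2 (nat_lit 112) qL4P) (brow (nat_lit 112)) qL40y (nat_lit 51) [nat_lit 0, nat_lit 0, nat_lit 0, nat_lit 0] (nat_lit 2)
noncomputable abbrev qL4K1 : Subgroup GA := qL4 ⊓ MulAction.stabilizer GA (pvA (pt (brow (nat_lit 112)) qL40y (nat_lit 51)))
noncomputable def qL41yYf : ℕ → ℕ := chkY can0 (brow (nat_lit 112)) qL41y (nat_lit 128)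
noncomputable def qL41ROf : ℕ → ℕ := chkO (img2 (nat_lit 112) (shf qL4P (nat_lit 2))) (brow (nat_lit 112)) qL41y qL41Ra (nat_lit 128) [nat_lit 85]
noncomputable def qL41Xf : ℕ → ℕ := chkFx (img2 (nat_lit 112) qL4P) (brow (nat_lit 112)) qL41y (nat_lit 85) [] (nat_lit 6)
noncomputable abbrev qL4K2 : Subgroup GA := qL4K1 ⊓ MulAction.stabilizer GA (pvA (pt (brow (nat_lit 112)) qL41y (nat_lit 85)))
noncomputable abbrev qL5 : Subgroup GA := Lf (MonoidHom.id GA) H (mA.elt (qD 5))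
noncomputable def qL5Ef : ℕ → ℕ := chkE qL5P ce0 [nat_lit 3871144418381, nat_lit 1926562482289]
noncomputable def qL5Cf : ℕ → ℕ := chkL (mul2 (nat_lit 112)) (qD 5) qL5P ce0 [nat_lit 683000864854, nat_lit 296397448435]
noncomputable def qL5Wf : ℕ → ℕ := chkPl (mul2 (nat_lit 112)) qL5P [[nat_lit 0, nat_lit 0, nat_lit 1, nat_lit 0, nat_lit 1, nat_lit 0, nat_lit 1, nat_lit 1, nat_lit 1, nat_lit 1, nat_lit 1, nat_lit 0, nat_lit 1, nat_lit 0, nat_lit 0, nat_lit 1, nat_lit 1, nat_lit 0, nat_lit 0, nat_lit 1, nat_lit 1, nat_lit 1, nat_lit 0, nat_lit 0],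
  [nat_lit 0, nat_lit 0, nat_lit 1, nat_lit 0, nat_lit 0, nat_lit 0, nat_lit 1, nat_lit 1, nat_lit 0, nat_lit 1, nat_lit 1, nat_lit 1, nat_lit 0],
  [nat_lit 1, nat_lit 1, nat_lit 0, nat_lit 1, nat_lit 1, nat_lit 0, nat_lit 1, nat_lit 0, nat_lit 1, nat_lit 1, nat_lit 0, nat_lit 0, nat_lit 0, nat_lit 1, nat_lit 0, nat_lit 0, nat_lit 0, nat_lit 1, nat_lit 0, nat_lit 1, nat_lit 0, nat_lit 1, nat_lit 0, nat_lit 0, nat_lit 1, nat_lit 1],
  [nat_lit 0, nat_lit 0, nat_lit 0, nat_lit 0, nat_lit 1, nat_lit 1, nat_lit 0, nat_lit 1, nat_lit 1, nat_lit 1, nat_lit 0, nat_lit 1, nat_lit 0, nat_lit 1, nat_lit 1, nat_lit 1, nat_lit 0, nat_lit 0, nat_lit 0]] (nat_lit 2)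
noncomputable def qL50yYf : ℕ → ℕ := chkY can0 (brow (nat_lit 112)) qL50y (nat_lit 72)
noncomputable def qL50ROf : ℕ → ℕ := chkO (img2 (nat_lit 112) (shf qL5P (nat_lit 0))) (brow (nat_lit 112)) qL50y qL50Ra (nat_lit 72) [nat_lit 69]
noncomputable def qL50Xf : ℕ → ℕ := chkFx (img2 (nat_lit 112) qL5P) (brow (nat_lit 112)) qL50y (nat_lit 69) [nat_lit 0, nat_lit 0, nat_lit 0, nat_lit 0] (nat_lit 2)
noncomputable abbrev qL5K1 : Subgroup GA := qL5 ⊓ MulAction.stabilizer GA (pvA (pt (brow (nat_lit 112)) qL50y (nat_lit 69)))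
noncomputable def qL51yYf : ℕ → ℕ := chkY can0 (brow (nat_lit 112)) qL51y (nat_lit 128)
noncomputable def qL51ROf : ℕ → ℕ := chkO (img2 (nat_lit 112) (shf qL5P (nat_lit 2))) (brow (nat_lit 112)) qL51y qL51Ra (nat_lit 128) [nat_lit 37]
noncomputable def qL51Xf : ℕ → ℕ := chkFx (img2 (nat_lit 112) qL5P) (brow (nat_lit 112)) qL51y (nat_lit 37) [] (nat_lit 6)
noncomputable abbrev qL5K2 : Subgroup GA := qL5K1 ⊓ MulAction.stabilizer GA (pvA (pt (brow (nat_lit 112)) qL51y (nat_lit 37)))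
noncomputable abbrev qL6 : Subgroup GA := Lf (MonoidHom.id GA) H (mA.elt (qD 6))
noncomputable def qL6Ef : ℕ → ℕ := chkE qL6P ce0 [nat_lit 1142796860488, nat_lit 3662987562184]
noncomputable def qL6Cf : ℕ → ℕ := chkL (mul2 (nat_lit 112)) (qD 6) qL6P ce0 [nat_lit 4108239193399, nat_lit 2181081370853]
noncomputable def qL6Wf : ℕ → ℕ := chkPl (mul2 (nat_lit 112)) qL6P [[nat_lit 0, nat_lit 0, nat_lit 0, nat_lit 0, nat_lit 1, nat_lit 0, nat_lit 1, nat_lit 1, nat_lit 0, nat_lit 0, nat_lit 1],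
  [nat_lit 1, nat_lit 1, nat_lit 1, nat_lit 1, nat_lit 0, nat_lit 0, nat_lit 0, nat_lit 1]] (nat_lit 2)
noncomputable def qL60yYf : ℕ → ℕ := chkY can0 (brow (nat_lit 112)) qL60y (nat_lit 759)
noncomputable def qL60ROf : ℕ → ℕ := chkO (img2 (nat_lit 112) (shf qL6P (nat_lit 0))) (brow (nat_lit 112)) qL60y qL60Ra (nat_lit 759) [nat_lit 493]
noncomputable def qL60Xf : ℕ → ℕ := chkFx (img2 (nat_lit 112) qL6P) (brow (nat_lit 112)) qL60y (nat_lit 493) [nat_lit 0, nat_lit 0] (nat_lit 2)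
noncomputable abbrev qL6K1 : Subgroup GA := qL6 ⊓ MulAction.stabilizer GA (pvA (pt (brow (nat_lit 112)) qL60y (nat_lit 493)))
noncomputable def qL61yYf : ℕ → ℕ := chkY can0 (brow (nat_lit 112)) qL61y (nat_lit 8)
noncomputable def qL61ROf : ℕ → ℕ := chkO (img2 (nat_lit 112) (shf qL6P (nat_lit 2))) (brow (nat_lit 112)) qL61y qL61Ra (nat_lit 8) [nat_lit 0]
noncomputable def qL61Xf : ℕ → ℕ := chkFx (img2 (nat_lit 112) qL6P) (brow (nat_lit 112)) qL61y (nat_lit 0) [] (nat_lit 4)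
noncomputable abbrev qL6K2 : Subgroup GA := qL6K1 ⊓ MulAction.stabilizer GA (pvA (pt (brow (nat_lit 112)) qL61y (nat_lit 0)))
noncomputable def qB : ℕ := (nat_lit 0x55da422549fe0bde27850bf39e8d55da422549fe0bde27850bf39e8d55da422549fe0bde27850bf39e8d55da422549fe0bde27850bf39e8d55da422549fe0bde27850bf39e8d55da422549fe0bde27850bf39e8d55da422549fe0bde27850bf39e8d55da422549fe0bde27850bf39e8d55da422549fe0bde27850bf39e8d55da422549fe0bde27850bf39e8d55da422549fe0bde27850bf39e8d55da422549fe0bde27850bf39e8d55da422549fe0bde27850bf39e8d55da422549fe0bde27850bf39e8d55da422549fe0bde27850bf39e8d55da422549fe0bde27850bf39e8d55da422549fe0bde27850bf39e8d55da422549fe0bde27850bf39e8d55da422549fe0bde27850bf39e8d55da422549fe0bde27850bf39e8d55da422549fe0bde27850bf39e8d55da422549fe0bde27850bf39e8d55da422549fe0bde27850bf39e8d55da422549fe0bde27850bf39e8d55da422549fe0bde27850bf39e8d55da422549fe0bde27850bf39e8d55da422549f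e0bde27850bf39e8d55da422549fe0bde27850bf39e8d55da422549fe0bde27850bf39e8d55da422549fe0bde27850bf39e8d55da422549fe0bde27850bf39e8d55da422549fe0bde27850bf39e8d55da422549fe0bde27850bf39e8d55da422549fe0bde27850bf39e8d55da422549fe0bde27850bf39e8d55da422549fe0bde27850bf39e8d55da422549fe0bde27850bf39e8d55da422549fe0bde27850bf39e8d55da422549fe0bde27850bf39e8d55da422549fe0bde27850bf39e8d55da422549fe0bde27850bf39e8d55da422549fe0bde27850bf39e8d55da422549fe0bde27850bf39e8d55da422549fe0bde27850bf39e8d55da422549fe0bde27850bf39e8d55da422549fe0bde27850bf39e8d55da422549fe0bde27850bf39e8d55da422549fe0bde27850bf39e8d55da422549fe0bde27850bf39e8d55da422549fe0bde27850bf39e8d55da422549fe0bde27850bf39e8d55da422549fe0bde27850bf39e8d55da422549fe0bde27850bf39e8d55da422549fe0bde27850bf39e8d55da422549fe0bde27850bf39e8d55da422549fe0bde27850bf39e8d55da422549fe0bde27850bf39e8d55da422549fe0bde27850bf39e8d55da422549fe0bde27850bf39e8d55da422549fe0bde27850bf39e8d55da422549fe0bde27850bf39e8d55da422549fe0bde27850bf39e8d55da422549fe0bde27850bf39e8d55da422549fe0bde27850bf39e8d)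
noncomputable def qBkf : ℕ → ℕ := chkB (img2 (nat_lit 112) (cel1 (mul2 (nat_lit 112)) qL1P (nat_lit 5) qL1P)) (brow (nat_lit 112)) Y (nat_lit 5188) qB [nat_lit 30, nat_lit 30, nat_lit 30, nat_lit 30, nat_lit 30, nat_lit 30, nat_lit 30, nat_lit 30, nat_lit 30, nat_lit 30, nat_lit 30, nat_lit 30, nat_lit 30, nat_lit 30, nat_lit 30, nat_lit 30, nat_lit 30, nat_lit 30, nat_lit 30, nat_lit 30, nat_lit 30, nat_lit 30, nat_lit 30, nat_lit 30, nat_lit 30, nat_lit 30, nat_lit 30, nat_lit 30, nat_lit 30, nat_lit 30, nat_lit 30, nat_lit 30, nat_lit 30, nat_lit 30, nat_lit 30, nat_lit 30, nat_lit 30, nat_lit 30, nat_lit 30, nat_lit 30, nat_lit 30, nat_lit 30, nat_lit 30, nat_lit 30, nat_lit 30, nat_lit 30, nat_lit 30, nat_lit 30, nat_lit 30, nat_lit 30, nat_lit 30, nat_lit 30, nat_lit 30, nat_lit 30, nat_lit 30, nat_lit 30, nat_lit 30, nat_lit 30, nat_lit 30, nat_lit 30, nat_lit 30, nat_lit 30, nat_lit 30,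 nat_lit 30] [nat_lit 0, nat_lit 0, nat_lit 0, nat_lit 0, nat_lit 0, nat_lit 0, nat_lit 0, nat_lit 0, nat_lit 0, nat_lit 0, nat_lit 0, nat_lit 0, nat_lit 0, nat_lit 0, nat_lit 0, nat_lit 0, nat_lit 0, nat_lit 0, nat_lit 0, nat_lit 0, nat_lit 0, nat_lit 0, nat_lit 0, nat_lit 0, nat_lit 0, nat_lit 0, nat_lit 0, nat_lit 0, nat_lit 0, nat_lit 0, nat_lit 0, nat_lit 0, nat_lit 0, nat_lit 0, nat_lit 0, nat_lit 0, nat_lit 0, nat_lit 0, nat_lit 0, nat_lit 0, nat_lit 0, nat_lit 0, nat_lit 0, nat_lit 0, nat_lit 0, nat_lit 0, nat_lit 0, nat_lit 0, nat_lit 0, nat_lit 0, nat_lit 0, nat_lit 0, nat_lit 0, nat_lit 0, nat_lit 0, nat_lit 0, nat_lit 0, nat_lit 0, nat_lit 0, nat_lit 0, nat_lit 0, nat_lit 0, nat_lit 0, nat_lit 0]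
noncomputable def qR1w : List (List ℕ) := [[nat_lit 1, nat_lit 138512695744, nat_lit 1, nat_lit 333208194065, nat_lit 4, nat_lit 3048495169847],
  [nat_lit 1, nat_lit 2611421039616, nat_lit 1, nat_lit 976384310887, nat_lit 3, nat_lit 1695175808241],
  [nat_lit 1, nat_lit 21486567728, nat_lit 1, nat_lit 2288425218192, nat_lit 1, nat_lit 1156638606477],
  [nat_lit 1, nat_lit 1765483238405, nat_lit 1, nat_lit 1484664188387, nat_lit 1, nat_lit 3730698781973],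
  [nat_lit 1, nat_lit 3466154115076, nat_lit 1, nat_lit 2820854097103, nat_lit 2, nat_lit 2751239201495],
  [nat_lit 1, nat_lit 1165357559809, nat_lit 1, nat_lit 3861890978146, nat_lit 0, nat_lit 0],
  [nat_lit 1, nat_lit 3333975846450, nat_lit 1, nat_lit 1551892889984, nat_lit 1, nat_lit 2776879217933]]
noncomputable def qR1If : ℕ → ℕ := chkD1 (mul2 (nat_lit 112)) qD ce0 qR1w (nat_lit 1) (nat_lit 7)
noncomputable def qR1Of : ℕ → ℕ := chkR (img2 (nat_lit 112) qL1P) (img2 (nat_lit 112) ce0) (brow (nat_lit 112)) Y qR1a (nat_lit 15180) qB qR1w (nat_lit 7)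
noncomputable def qR2w : List (List ℕ) := [[nat_lit 2, nat_lit 138512695744, nat_lit 1, nat_lit 1306916206761, nat_lit 5, nat_lit 1138209329517],
  [nat_lit 2, nat_lit 3981435273356, nat_lit 1, nat_lit 2854850467221, nat_lit 3, nat_lit 944055175758],
  [nat_lit 2, nat_lit 3004336439301, nat_lit 1, nat_lit 2009447120107, nat_lit 3, nat_lit 3389413494385],
  [nat_lit 2, nat_lit 646608585163, nat_lit 1, nat_lit 2442024690339, nat_lit 2, nat_lit 874817047585],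
  [nat_lit 2, nat_lit 1765483238405, nat_lit 1, nat_lit 3036747643306, nat_lit 1, nat_lit 91655519859],
  [nat_lit 2, nat_lit 2625173422085, nat_lit 1, nat_lit 474599237739, nat_lit 2, nat_lit 618522847951]]
noncomputable def qR2If : ℕ → ℕ := chkD1 (mul2 (nat_lit 112)) qD ce0 qR2w (nat_lit 2) (nat_lit 7)
noncomputable def qR2Of : ℕ → ℕ := chkR (img2 (nat_lit 112) qL2P) (img2 (nat_lit 112) ce0) (brow (nat_lit 112)) Y qR2a (nat_lit 15180) qB qR2w (nat_lit 6)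
noncomputable def qR3w : List (List ℕ) := [[nat_lit 3, nat_lit 138512695744, nat_lit 1, nat_lit 2171411779588, nat_lit 5, nat_lit 822378982],
  [nat_lit 3, nat_lit 94489296320, nat_lit 1, nat_lit 623126184099, nat_lit 6, nat_lit 187083925878],
  [nat_lit 3, nat_lit 3111741915136, nat_lit 1, nat_lit 3484201058566, nat_lit 4, nat_lit 459003007377],
  [nat_lit 3, nat_lit 163208779283, nat_lit 1, nat_lit 3763143775431, nat_lit 4, nat_lit 3816685651115],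
  [nat_lit 3, nat_lit 1687937260544, nat_lit 1, nat_lit 1136571826506, nat_lit 5, nat_lit 3973195420936],
  [nat_lit 3, nat_lit 1443962552333, nat_lit 1, nat_lit 2505427141904, nat_lit 3, nat_lit 3793703339146],
  [nat_lit 3, nat_lit 1177291129399, nat_lit 1, nat_lit 3470350945969, nat_lit 5, nat_lit 736626324680],
  [nat_lit 3, nat_lit 43372260433, nat_lit 1, nat_lit 153079104738, nat_lit 3, nat_lit 2555815546285],
  [nat_lit 3, nat_lit 2376060633344, nat_lit 1, nat_lit 813236306503, nat_lit 4, nat_lit 1576387872401],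
  [nat_lit 3, nat_lit 3728534946167, nat_lit 1, nat_lit 664076230016, nat_lit 3, nat_lit 571646018828],
  [nat_lit 3, nat_lit 518718045184, nat_lit 1, nat_lit 605774093669, nat_lit 3, nat_lit 1830779557461],
  [nat_lit 3, nat_lit 938895999369, nat_lit 1, nat_lit 3471354283530, nat_lit 3, nat_lit 4146929878487],
  [nat_lit 3, nat_lit 2188633964849, nat_lit 1, nat_lit 1077348481472, nat_lit 5, nat_lit 4014664072259],
  [nat_lit 3, nat_lit 2406423801170, nat_lit 1, nat_lit 492418944098, nat_lit 2, nat_lit 705467618848],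
  [nat_lit 3, nat_lit 2220970115150, nat_lit 1, nat_lit 570236843234, nat_lit 1, nat_lit 3261122332675],
  [nat_lit 3, nat_lit 2086295324691, nat_lit 1, nat_lit 646710508740, nat_lit 2, nat_lit 3919740248649],
  [nat_lit 3, nat_lit 1378766618961, nat_lit 1, nat_lit 2373143876772, nat_lit 3, nat_lit 2000257623122]]
noncomputable def qR3If : ℕ → ℕ := chkD1 (mul2 (nat_lit 112)) qD ce0 qR3w (nat_lit 3) (nat_lit 7)
noncomputable def qR3Of : ℕ → ℕ := chkR (img2 (nat_lit 112) qL3P) (img2 (nat_lit 112) ce0) (brow (nat_lit 112)) Y qR3a (nat_lit 15180) qB qR3w (nat_lit 17)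
noncomputable def qR4w : List (List ℕ) := [[nat_lit 4, nat_lit 138512695744, nat_lit 1, nat_lit 4002182308240, nat_lit 6, nat_lit 3921661238953],
  [nat_lit 4, nat_lit 94489296320, nat_lit 1, nat_lit 3124910630415, nat_lit 6, nat_lit 3080399239884],
  [nat_lit 4, nat_lit 2130505120774, nat_lit 1, nat_lit 1747400774278, nat_lit 5, nat_lit 1863212799468],
  [nat_lit 4, nat_lit 62310592531, nat_lit 1, nat_lit 449698124035, nat_lit 3, nat_lit 3247537538470],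
  [nat_lit 4, nat_lit 2611421039616, nat_lit 1, nat_lit 1839027457237, nat_lit 4, nat_lit 2629097990148],
  [nat_lit 4, nat_lit 12889771029, nat_lit 1, nat_lit 1521543655956, nat_lit 5, nat_lit 4207765170736],
  [nat_lit 4, nat_lit 1855831688213, nat_lit 1, nat_lit 59031180584, nat_lit 6, nat_lit 1963251506403],
  [nat_lit 4, nat_lit 1649823187117, nat_lit 1, nat_lit 2412402355622, nat_lit 3, nat_lit 2968746410437],
  [nat_lit 4, nat_lit 4065191790597, nat_lit 1, nat_lit 3964593680945, nat_lit 5, nat_lit 59224009865],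
  [nat_lit 4, nat_lit 365080608973, nat_lit 1, nat_lit 887119615568, nat_lit 4, nat_lit 1330411383400],
  [nat_lit 4, nat_lit 2665564086822, nat_lit 1, nat_lit 532690312551, nat_lit 5, nat_lit 439169237551],
  [nat_lit 4, nat_lit 3917358564033, nat_lit 1, nat_lit 2343879051589, nat_lit 4, nat_lit 1401642195977],
  [nat_lit 4, nat_lit 1967162229984, nat_lit 1, nat_lit 2452834587680, nat_lit 4, nat_lit 3206708150952],
  [nat_lit 4, nat_lit 2749329113323, nat_lit 1, nat_lit 1640848834944, nat_lit 4, nat_lit 1650322783650],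
  [nat_lit 4, nat_lit 2130310643076, nat_lit 1, nat_lit 1250056123951, nat_lit 4, nat_lit 3280325476994],
  [nat_lit 4, nat_lit 1883355325452, nat_lit 1, nat_lit 1040768386612, nat_lit 4, nat_lit 1888794744300],
  [nat_lit 4, nat_lit 1821684989961, nat_lit 1, nat_lit 2579877841612, nat_lit 3, nat_lit 849240805943],
  [nat_lit 4, nat_lit 1297181318242, nat_lit 1, nat_lit 4383057367267, nat_lit 4, nat_lit 4281417634244],
  [nat_lit 4, nat_lit 619786535940, nat_lit 1, nat_lit 3879565995723, nat_lit 1, nat_lit 1769669739078]]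
noncomputable def qR4If : ℕ → ℕ := chkD1 (mul2 (nat_lit 112)) qD ce0 qR4w (nat_lit 4) (nat_lit 7)
noncomputable def qR4Of : ℕ → ℕ := chkR (img2 (nat_lit 112) qL4P) (img2 (nat_lit 112) ce0) (brow (nat_lit 112)) Y qR4a (nat_lit 15180) qB qR4w (nat_lit 19)
noncomputable def qR5w : List (List ℕ) := [[nat_lit 5, nat_lit 138512695744, nat_lit 1, nat_lit 3278481509024, nat_lit 6, nat_lit 2442306132641],
  [nat_lit 5, nat_lit 2130505120774, nat_lit 1, nat_lit 3418239577346, nat_lit 5, nat_lit 3943090429397],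
  [nat_lit 5, nat_lit 62310592531, nat_lit 1, nat_lit 1742098257446, nat_lit 6, nat_lit 4000930289103],
  [nat_lit 5, nat_lit 3981435273356, nat_lit 1, nat_lit 3143353353259, nat_lit 6, nat_lit 2346515023145],
  [nat_lit 5, nat_lit 3111741915136, nat_lit 1, nat_lit 3003028812000, nat_lit 3, nat_lit 299989439971],
  [nat_lit 5, nat_lit 1306006651330, nat_lit 1, nat_lit 2546365382999, nat_lit 5, nat_lit 166003411281],
  [nat_lit 5, nat_lit 1580548239503, nat_lit 1, nat_lit 2536220143209, nat_lit 4, nat_lit 2273045943382],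
  [nat_lit 5, nat_lit 3004336439301, nat_lit 1, nat_lit 3492986278257, nat_lit 4, nat_lit 4160523217322],
  [nat_lit 5, nat_lit 378032619538, nat_lit 1, nat_lit 1743104805970, nat_lit 5, nat_lit 3643386375351],
  [nat_lit 5, nat_lit 1398078981280, nat_lit 1, nat_lit 3872666257844, nat_lit 5, nat_lit 1481211390068],
  [nat_lit 5, nat_lit 4151085905173, nat_lit 1, nat_lit 1187713062391, nat_lit 5, nat_lit 1880227053990],
  [nat_lit 5, nat_lit 3367262828679, nat_lit 1, nat_lit 2729828658433, nat_lit 5, nat_lit 4229083649507],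
  [nat_lit 5, nat_lit 2665564086822, nat_lit 1, nat_lit 1513391920560, nat_lit 5, nat_lit 4394737810637],
  [nat_lit 5, nat_lit 3236258432227, nat_lit 1, nat_lit 1625721941280, nat_lit 4, nat_lit 64425825454],
  [nat_lit 5, nat_lit 1177290970113, nat_lit 1, nat_lit 2138072064050, nat_lit 5, nat_lit 601840786920],
  [nat_lit 5, nat_lit 2749189076645, nat_lit 1, nat_lit 196533557681, nat_lit 4, nat_lit 3769356490816],
  [nat_lit 5, nat_lit 3005571138120, nat_lit 1, nat_lit 1001603481985, nat_lit 3, nat_lit 29143643496],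
  [nat_lit 5, nat_lit 2939955839200, nat_lit 1, nat_lit 1455005373639, nat_lit 5, nat_lit 251557955021],
  [nat_lit 5, nat_lit 1578415528967, nat_lit 1, nat_lit 2776742729257, nat_lit 5, nat_lit 2064442112679],
  [nat_lit 5, nat_lit 3002301693546, nat_lit 1, nat_lit 954709610769, nat_lit 2, nat_lit 4078274063860],
  [nat_lit 5, nat_lit 1544075578791, nat_lit 1, nat_lit 1687025033463, nat_lit 3, nat_lit 1187675342337],
  [nat_lit 5, nat_lit 1271660709328, nat_lit 1, nat_lit 1182660960679, nat_lit 3, nat_lit 464543716463],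
  [nat_lit 5, nat_lit 1626769409391, nat_lit 1, nat_lit 3224047354344, nat_lit 5, nat_lit 2683683521958]]
noncomputable def qR5If : ℕ → ℕ := chkD1 (mul2 (nat_lit 112)) qD ce0 qR5w (nat_lit 5) (nat_lit 7)
noncomputable def qR5Of : ℕ → ℕ := chkR (img2 (nat_lit 112) qL5P) (img2 (nat_lit 112) ce0) (brow (nat_lit 112)) Y qR5a (nat_lit 15180) qB qR5w (nat_lit 23)
noncomputable def qR6w : List (List ℕ) := [[nat_lit 6, nat_lit 138512695744, nat_lit 1, nat_lit 2820335547912, nat_lit 6, nat_lit 97690585094],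
  [nat_lit 6, nat_lit 94489296320, nat_lit 1, nat_lit 1106341385898, nat_lit 5, nat_lit 1701757062481],
  [nat_lit 6, nat_lit 62310592531, nat_lit 1, nat_lit 220454956171, nat_lit 6, nat_lit 3775383243339],
  [nat_lit 6, nat_lit 3981435273356, nat_lit 1, nat_lit 279746613609, nat_lit 6, nat_lit 580695501313],
  [nat_lit 6, nat_lit 4709253137, nat_lit 1, nat_lit 3442826291405, nat_lit 6, nat_lit 4300573643249],
  [nat_lit 6, nat_lit 1306006651330, nat_lit 1, nat_lit 1643612840979, nat_lit 4, nat_lit 151178721867],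
  [nat_lit 6, nat_lit 3004336439301, nat_lit 1, nat_lit 237234534405, nat_lit 5, nat_lit 2696506743011],
  [nat_lit 6, nat_lit 3448870273639, nat_lit 1, nat_lit 4051565885075, nat_lit 5, nat_lit 203273000102],
  [nat_lit 6, nat_lit 163208779283, nat_lit 1, nat_lit 324647671475, nat_lit 4, nat_lit 40952214115],
  [nat_lit 6, nat_lit 2736162618549, nat_lit 1, nat_lit 559355731395, nat_lit 3, nat_lit 1435705653459],
  [nat_lit 6, nat_lit 1177291129399, nat_lit 1, nat_lit 1337151737196, nat_lit 4, nat_lit 2623228262884],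
  [nat_lit 6, nat_lit 3049829761607, nat_lit 1, nat_lit 2205738716430, nat_lit 6, nat_lit 1021381429742],
  [nat_lit 6, nat_lit 3023669013682, nat_lit 1, nat_lit 791292171413, nat_lit 6, nat_lit 3063356759]]
noncomputable def qR6If : ℕ → ℕ := chkD1 (mul2 (nat_lit 112)) qD ce0 qR6w (nat_lit 6) (nat_lit 7)
noncomputable def qR6Of : ℕ → ℕ := chkR (img2 (nat_lit 112) qL6P) (img2 (nat_lit 112) ce0) (brow (nat_lit 112)) Y qR6a (nat_lit 15180) qB qR6w (nat_lit 13)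
noncomputable abbrev qG : Subgroup GA := (Subgroup.map (MonoidHom.id GA) H) ⊔ zpowers (mA.elt (qD 1))
noncomputable abbrev Gg : ℕ → ℕ := cons1 (qD 1) Hg
noncomputable def qe : ℕ → ℕ := del1 (mul2 (nat_lit 112)) qD (nat_lit 3) (nat_lit 42) ce0
noncomputable abbrev P : Subgroup GA := mA.gn Pg 3
noncomputable def PEf : ℕ → ℕ := chkE Pg qe [nat_lit 42737919690080644619044126, nat_lit 28077368120696, nat_lit 35559575729344930431923260]
noncomputable def PCf : ℕ → ℕ := chkPC (mul2 (nat_lit 112)) (one2 (nat_lit 112)) Pg [[],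
  [],
  [],
  [nat_lit 0],
  [],
  [],
  [nat_lit 0],
  [nat_lit 0, nat_lit 1],
  []] (nat_lit 3) (nat_lit 11)
noncomputable def PZYf : ℕ → ℕ := chkY can0 (brow (nat_lit 112)) PZ (nat_lit 1331)
noncomputable def PROf : ℕ → ℕ := chkO (img2 (nat_lit 112) Pg) (brow (nat_lit 112)) PZ PRa (nat_lit 1331) [nat_lit 0]
noncomputable def GPf : ℕ → ℕ := chkPW (mul2 (nat_lit 112)) (one2 (nat_lit 112)) Gg [[nat_lit 2, nat_lit 1, nat_lit 2, nat_lit 0, nat_lit 1, nat_lit 2],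
  [nat_lit 2, nat_lit 0, nat_lit 2, nat_lit 1, nat_lit 2, nat_lit 0, nat_lit 1],
  [nat_lit 0, nat_lit 0, nat_lit 1, nat_lit 1, nat_lit 2, nat_lit 2, nat_lit 1, nat_lit 2, nat_lit 0, nat_lit 2, nat_lit 0]] Gg GPy (nat_lit 31)
noncomputable def crOf : ℕ → ℕ := chkO (img2 (nat_lit 112) Gg) (brow (nat_lit 112)) cry cra (nat_lit 112) [nat_lit 55]
noncomputable def crVf : ℕ → ℕ := chkV (brow (nat_lit 112)) cry (nat_lit 112) (crm 0)
noncomputable def crFf : ℕ → ℕ := chkF (img2 (nat_lit 112) Hg) (brow (nat_lit 112)) cry (nat_lit 55) []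

end Cfsg.Agent.H4.J4
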