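import Cfsg.Agent.H4.J4C0
import Cfsg.Agent.H4.J4C1
import Cfsg.Agent.H4.J4C2

set_option autoImplicit false
set_option maxRecDepth 100000

namespace Cfsg.Agent.H4.J4

open Subgroup Cfsg.Agent.H5 Cfsg.Agent.H5.Mdl 

attribute [local irreducible] look Tr.get

theorem HI : ∀ i < 2, (chkI (mul2 (nat_lit 112)) (one2 (nat_lit 112)) Hg Hi) i = 0 :=
  (rng_step (all0 _) HI_0)
theorem H_top : ∀ s < 2, mA.In ⊤ (Hg s) :=
  in_of_chkI mA (fun _ => rfl) HI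
theorem H_in : ∀ s < 2, mA.In H (Hg s) :=
  in_gn H_top
theorem H_eg : mA.El H Hg :=
  el_gn H_top
theorem c0S : ∀ i < 24, (chkS2 (mul2 (nat_lit 112)) Hg (nat_lit 2) cT0 ce1 c0c (nat_lit 5) (nat_lit 24)) i = 0 :=
  (rng_step (all0 _) c0S_0)
theorem c0elT : mA.El H cT0 :=
  el_of_pad (inT_of_chkS2 (m := mA) c0T0 (by decide) H_in c0S)
theorem c0G : ∀ i < 2, (chkG (mul2 (nat_lit 112)) Hg cT0 cK1g [[nat_lit 6, nat_lit 15, nat_lit 0, nat_lit 1],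
  [nat_lit 9, nat_lit 6, nat_lit 1, nat_lit 1]]) i = 0 :=
  (rng_step (all0 _) c0G_0)
theorem c0inG : ∀ s < 2, mA.In H (cK1g s) :=
  in_of_chkG H_eg c0elT c0G
theorem cK1_top : ∀ s < 2, mA.In ⊤ (cK1g s) :=
  fun s hs => (c0inG s hs).top
theorem cK1_in : ∀ s < 2, mA.In cK1 (cK1g s) :=
  in_gn cK1_top
theorem cK1_eg : mA.El cK1 cK1g :=
  el_gn cK1_top
theorem c0le : cK1 ≤ H :=
  gn_le c0inG
theorem c1S : ∀ i < 23, (chkS2 (mul2 (nat_lit 112)) cK1g (nat_lit 2) cT1 ce2 c1c (nat_lit 5) (nat_lit 23)) i = 0 :=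
  (rng_step (all0 _) c1S_0)
theorem c1elT : mA.El cK1 cT1 :=
  el_of_pad (inT_of_chkS2 (m := mA) c1T0 (by decide) cK1_in c1S)
theorem c1G : ∀ i < 2, (chkG (mul2 (nat_lit 112)) cK1g cT1 cK2g [[nat_lit 0, nat_lit 22, nat_lit 0, nat_lit 1],
  [nat_lit 2, nat_lit 8, nat_lit 1, nat_lit 0]]) i = 0 :=
  (rng_step (all0 _) c1G_0)
theorem c1inG : ∀ s < 2, mA.In cK1 (cK2g s) :=
  in_of_chkG cK1_eg c1elT c1G
theorem cK2_top : ∀ s < 2, mA.In ⊤ (cK2g s) :=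
  fun s hs => (c1inG s hs).top
theorem cK2_in : ∀ s < 2, mA.In cK2 (cK2g s) :=
  in_gn cK2_top
theorem cK2_eg : mA.El cK2 cK2g :=
  el_gn cK2_top
theorem c1le : cK2 ≤ cK1 :=
  gn_le c1inG
theorem c2S : ∀ i < 22, (chkS2 (mul2 (nat_lit 112)) cK2g (nat_lit 2) cT2 ce3 c2c (nat_lit 5) (nat_lit 22)) i = 0 :=
  (rng_step (all0 _) c2S_0)
theorem c2elT : mA.El cK2 cT2 :=
  el_of_pad (inT_of_chkS2 (m := mA) c2T0 (by decide) cK2_in c2S)
theorem c2G : ∀ i < 2, (chkG (mul2 (nat_lit 112)) cK2g cT2 cK3g [[nat_lit 18, nat_lit 16, nat_lit 0, nat_lit 1, nat_lit 1],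
  [nat_lit 21, nat_lit 18, nat_lit 0]]) i = 0 :=
  (rng_step (all0 _) c2G_0)
theorem c2inG : ∀ s < 2, mA.In cK2 (cK3g s) :=
  in_of_chkG cK2_eg c2elT c2G
theorem cK3_top : ∀ s < 2, mA.In ⊤ (cK3g s) :=
  fun s hs => (c2inG s hs).top
theorem cK3_in : ∀ s < 2, mA.In cK3 (cK3g s) :=
  in_gn cK3_top
theorem cK3_eg : mA.El cK3 cK3g :=
  el_gn cK3_top
theorem c2le : cK3 ≤ cK2 :=
  gn_le c2inG
theorem c3S : ∀ i < 21, (chkS2 (mul2 (nat_lit 112)) cK3g (nat_lit 2) cT3 ce4 c3c (nat_lit 5) (nat_lit 21)) i = 0 :=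
  (rng_step (all0 _) c3S_0)
theorem c3elT : mA.El cK3 cT3 :=
  el_of_pad (inT_of_chkS2 (m := mA) c3T0 (by decide) cK3_in c3S)
theorem c3G : ∀ i < 2, (chkG (mul2 (nat_lit 112)) cK3g cT3 cK4g [[nat_lit 20, nat_lit 6, nat_lit 0, nat_lit 1, nat_lit 1],
  [nat_lit 17, nat_lit 15, nat_lit 1]]) i = 0 :=
  (rng_step (all0 _) c3G_0)
theorem c3inG : ∀ s < 2, mA.In cK3 (cK4g s) :=
  in_of_chkG cK3_eg c3elT c3G
theorem cK4_top : ∀ s < 2, mA.In ⊤ (cK4g s) :=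
  fun s hs => (c3inG s hs).top
theorem cK4_in : ∀ s < 2, mA.In cK4 (cK4g s) :=
  in_gn cK4_top
theorem cK4_eg : mA.El cK4 cK4g :=
  el_gn cK4_top
theorem c3le : cK4 ≤ cK3 :=
  gn_le c3inG
theorem c4S : ∀ i < 20, (chkS2 (mul2 (nat_lit 112)) cK4g (nat_lit 2) cT4 ce5 c4c (nat_lit 5) (nat_lit 20)) i = 0 :=
  (rng_step (all0 _) c4S_0)
theorem c4elT : mA.El cK4 cT4 :=
  el_of_pad (inT_of_chkS2 (m := mA) c4T0 (by decide) cK4_in c4S)
theorem c4G : ∀ i < 3, (chkG (mul2 (nat_lit 112)) cK4g cT4 cK5g [[nat_lit 18, nat_lit 7, nat_lit 0, nat_lit 0, nat_lit 1],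
  [nat_lit 0, nat_lit 2, nat_lit 0, nat_lit 1, nat_lit 0],
  [nat_lit 1, nat_lit 14, nat_lit 0, nat_lit 0, nat_lit 1]]) i = 0 :=
  (rng_step (all0 _) c4G_0)
theorem c4inG : ∀ s < 3, mA.In cK4 (cK5g s) :=
  in_of_chkG cK4_eg c4elT c4G
theorem cK5_top : ∀ s < 3, mA.In ⊤ (cK5g s) :=
  fun s hs => (c4inG s hs).top
theorem cK5_in : ∀ s < 3, mA.In cK5 (cK5g s) :=
  in_gn cK5_top
theorem cK5_eg : mA.El cK5 cK5g :=
  el_gn cK5_top
theorem c4le : cK5 ≤ cK4 :=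
  gn_le c4inG
theorem c5S : ∀ i < 16, (chkS2 (mul2 (nat_lit 112)) cK5g (nat_lit 3) cT5 ce6 c5c (nat_lit 4) (nat_lit 16)) i = 0 :=
  (rng_step (all0 _) c5S_0)
theorem c5elT : mA.El cK5 cT5 :=
  el_of_pad (inT_of_chkS2 (m := mA) c5T0 (by decide) cK5_in c5S)
theorem c5G : ∀ i < 5, (chkG (mul2 (nat_lit 112)) cK5g cT5 cK6g [[nat_lit 0, nat_lit 7, nat_lit 2, nat_lit 1],
  [nat_lit 7, nat_lit 4, nat_lit 1, nat_lit 2, nat_lit 0],
  [nat_lit 13, nat_lit 15, nat_lit 2, nat_lit 0],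
  [nat_lit 8, nat_lit 3, nat_lit 2, nat_lit 0, nat_lit 0],
  [nat_lit 14, nat_lit 8, nat_lit 1, nat_lit 2]]) i = 0 :=
  (rng_step (all0 _) c5G_0)
theorem c5inG : ∀ s < 5, mA.In cK5 (cK6g s) :=
  in_of_chkG cK5_eg c5elT c5G
theorem cK6_top : ∀ s < 5, mA.In ⊤ (cK6g s) :=
  fun s hs => (c5inG s hs).top
theorem cK6_in : ∀ s < 5, mA.In cK6 (cK6g s) :=
  in_gn cK6_top
theorem cK6_eg : mA.El cK6 cK6g :=
  el_gn cK6_top
theorem c5le : cK6 ≤ cK5 :=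
  gn_le c5inG
theorem c6S : ∀ i < 3, (chkS2 (mul2 (nat_lit 112)) cK6g (nat_lit 5) cT6 ce7 c6c (nat_lit 2) (nat_lit 3)) i = 0 :=
  (rng_step (all0 _) c6S_0)
theorem c6elT : mA.El cK6 cT6 :=
  el_of_pad (inT_of_chkS2 (m := mA) c6T0 (by decide) cK6_in c6S)
theorem c6G : ∀ i < 11, (chkG (mul2 (nat_lit 112)) cK6g cT6 cK7g [[nat_lit 0, nat_lit 0, nat_lit 3],
  [nat_lit 2, nat_lit 0, nat_lit 3, nat_lit 1, nat_lit 2],
  [nat_lit 0, nat_lit 1, nat_lit 1, nat_lit 2],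
  [nat_lit 1, nat_lit 1, nat_lit 3, nat_lit 0, nat_lit 0],
  [nat_lit 2, nat_lit 2, nat_lit 0],
  [nat_lit 2, nat_lit 0, nat_lit 1, nat_lit 1, nat_lit 4],
  [nat_lit 1, nat_lit 2, nat_lit 1, nat_lit 0, nat_lit 2],
  [nat_lit 2, nat_lit 1, nat_lit 2, nat_lit 0, nat_lit 3],
  [nat_lit 0, nat_lit 1, nat_lit 2, nat_lit 1],
  [nat_lit 0, nat_lit 2, nat_lit 2, nat_lit 4, nat_lit 3],
  [nat_lit 2, nat_lit 1, nat_lit 4, nat_lit 2]]) i = 0 :=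
  (rng_step (all0 _) c6G_0)
theorem c6inG : ∀ s < 11, mA.In cK6 (cK7g s) :=
  in_of_chkG cK6_eg c6elT c6G
theorem cK7_top : ∀ s < 11, mA.In ⊤ (cK7g s) :=
  fun s hs => (c6inG s hs).top
theorem cK7_in : ∀ s < 11, mA.In cK7 (cK7g s) :=
  in_gn cK7_top
theorem cK7_eg : mA.El cK7 cK7g :=
  el_gn cK7_top
theorem c6le : cK7 ≤ cK6 :=
  gn_le c6inG
theorem c7S : ∀ i < 32, (chkS2 (mul2 (nat_lit 112)) cK7g (nat_lit 11) cT7 ce8 c7c (nat_lit 5) (nat_lit 32)) i = 0 :=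
  (rng_step (all0 _) c7S_0)
theorem c7elT : mA.El cK7 cT7 :=
  el_of_pad (inT_of_chkS2 (m := mA) c7T0 (by decide) cK7_in c7S)
theorem c7G : ∀ i < 6, (chkG (mul2 (nat_lit 112)) cK7g cT7 cK8g [[nat_lit 25, nat_lit 20, nat_lit 10, nat_lit 8, nat_lit 5],
  [nat_lit 9, nat_lit 7, nat_lit 10, nat_lit 2, nat_lit 9],
  [nat_lit 0, nat_lit 15, nat_lit 5, nat_lit 0, nat_lit 7],
  [nat_lit 25, nat_lit 24, nat_lit 10, nat_lit 4],
  [nat_lit 13, nat_lit 26, nat_lit 9],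
  [nat_lit 16, nat_lit 1, nat_lit 3, nat_lit 8]]) i = 0 :=
  (rng_step (all0 _) c7G_0)
theorem c7inG : ∀ s < 6, mA.In cK7 (cK8g s) :=
  in_of_chkG cK7_eg c7elT c7G
theorem cK8_top : ∀ s < 6, mA.In ⊤ (cK8g s) :=
  fun s hs => (c7inG s hs).top
theorem cK8_in : ∀ s < 6, mA.In cK8 (cK8g s) :=
  in_gn cK8_top
theorem cK8_eg : mA.El cK8 cK8g :=
  el_gn cK8_top
theorem c7le : cK8 ≤ cK7 :=
  gn_le c7inG
theorem c8S : ∀ i < 64, (chkS2 (mul2 (nat_lit 112)) cK8g (nat_lit 6) cT8 (fun _ => (one2 (nat_lit 112))) c8c (nat_lit 6) (nat_lit 64)) i = 0 :=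
  (rng_step (all0 _) c8S_0)
theorem c8elT : mA.El cK8 cT8 :=
  el_of_pad (inT_of_chkS2 (m := mA) c8T0 (by decide) cK8_in c8S)
theorem c8le : (⊥ : Subgroup GA) ≤ cK8 :=
  bot_le
theorem c8ub : Nat.card cK8 ≤ 64 :=
  (ub_of_chkS2 (m := mA) (el_one (m := mA) ⊥) (by decide) c8T0 c8S card_bot_le).trans (by norm_num)
theorem c8el : mA.El cK8 ce8 :=
  el_cel1 c8elT ((el_one (m := mA) ⊥).mono c8le) _
theorem c7ub : Nat.card cK7 ≤ 2048 :=
  (ub_of_chkS2 (m := mA) c8el (by decide) c7T0 c7S c8ub).trans (by norm_num)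
theorem c7el : mA.El cK7 ce7 :=
  el_cel1 c7elT (c8el.mono c7le) _
theorem c6ub : Nat.card cK6 ≤ 6144 :=
  (ub_of_chkS2 (m := mA) c7el (by decide) c6T0 c6S c7ub).trans (by norm_num)
theorem c6el : mA.El cK6 ce6 :=
  el_cel1 c6elT (c7el.mono c6le) _
theorem c5ub : Nat.card cK5 ≤ 98304 :=
  (ub_of_chkS2 (m := mA) c6el (by decide) c5T0 c5S c6ub).trans (by norm_num)
theorem c5el : mA.El cK5 ce5 :=
  el_cel1 c5elT (c6el.mono c5le) _
theorem c4ub : Nat.card cK4 ≤ 1966080 :=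
  (ub_of_chkS2 (m := mA) c5el (by decide) c4T0 c4S c5ub).trans (by norm_num)
theorem c4el : mA.El cK4 ce4 :=
  el_cel1 c4elT (c5el.mono c4le) _
theorem c3ub : Nat.card cK3 ≤ 41287680 :=
  (ub_of_chkS2 (m := mA) c4el (by decide) c3T0 c3S c4ub).trans (by norm_num)
theorem c3el : mA.El cK3 ce3 :=
  el_cel1 c3elT (c4el.mono c3le) _
theorem c2ub : Nat.card cK2 ≤ 908328960 :=
  (ub_of_chkS2 (m := mA) c3el (by decide) c2T0 c2S c3ub).trans (by norm_num)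
theorem c2el : mA.El cK2 ce2 :=
  el_cel1 c2elT (c3el.mono c2le) _
theorem c1ub : Nat.card cK1 ≤ 20891566080 :=
  (ub_of_chkS2 (m := mA) c2el (by decide) c1T0 c1S c2ub).trans (by norm_num)
theorem c1el : mA.El cK1 ce1 :=
  el_cel1 c1elT (c2el.mono c1le) _
theorem c0ub : Nat.card H ≤ 501397585920 :=
  (ub_of_chkS2 (m := mA) c1el (by decide) c0T0 c0S c1ub).trans (by norm_num)
theorem c0el : mA.El H ce0 :=
  el_cel1 c0elT (c1el.mono c0le) _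
theorem YY : ∀ i < 15180, (chkY can0 (brow (nat_lit 112)) Y (nat_lit 15180)) i = 0 :=
  allB (rngB_step (allB0 _ _) YY_0) (by decide)
theorem YD : Dist (fun i => pvA (pt (brow (nat_lit 112)) Y i)) 15180 :=
  dist_of_chk (canT2 φA) YY
theorem qDI : ∀ i < 7, (chkI (mul2 (nat_lit 112)) (one2 (nat_lit 112)) qD qDi) i = 0 :=
  (rng_step (all0 _) qDI_0)
theorem qelD : mA.El ⊤ qD :=
  el_of_pad (in_of_chkI mA (fun _ => rfl) qDI)
theorem qd0 : (mA.elt (qD 0)) = 1 :=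
  elt_of_eq_one qD0
theorem qtinv : (mA.elt (qD 1))⁻¹ = (mA.elt (qD 1)) :=
  elt_inv_eq (qelD 1) (qelD 1) qtt
theorem qRHO : ∀ i < 15180, (chkO (img2 (nat_lit 112) Hg) (brow (nat_lit 112)) Y qRHa (nat_lit 15180) [nat_lit 5188]) i = 0 :=
  allB (rngB_step (allB0 _ _) qRHO_0) (by decide)
theorem qRH : Reach H (fun i => pvA (pt (brow (nat_lit 112)) Y i)) 15180 [nat_lit 5188] :=
  reach_of_chk ((acts2 (m := mA) φA hA Hg).ex H_eg) qRHO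
theorem qL1E : ∀ i < 2, (chkE qL1P ce0 [nat_lit 93049016559, nat_lit 4220885861645]) i = 0 :=
  (rng_step (all0 _) qL1E_0)
theorem qL1C : ∀ i < 2, (chkL (mul2 (nat_lit 112)) (qD 1) qL1P ce0 [nat_lit 2627187549874, nat_lit 1778700014225]) i = 0 :=
  (rng_step (all0 _) qL1C_0)
theorem qL1in0 : ∀ u < 2, mA.In qL1 (qL1P u) :=
  in_Lf (pr_id mA) c0el (qelD 1) (in_of_chkE c0el qL1E) qL1C
theorem qL1W : ∀ i < 28, (chkPl (mul2 (nat_lit 112)) qL1P [[nat_lit 0, nat_lit 1, nat_lit 1, nat_lit 0, nat_lit 1, nat_lit 0, nat_lit 1, nat_lit 1, nat_lit 0],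
  [nat_lit 0, nat_lit 1, nat_lit 0, nat_lit 0, nat_lit 0, nat_lit 0, nat_lit 1, nat_lit 1, nat_lit 0, nat_lit 0],
  [nat_lit 1, nat_lit 0, nat_lit 1, nat_lit 0, nat_lit 0, nat_lit 1],
  [nat_lit 3, nat_lit 2, nat_lit 2, nat_lit 3, nat_lit 4, nat_lit 4, nat_lit 2],
  [nat_lit 4, nat_lit 3, nat_lit 2, nat_lit 2, nat_lit 3, nat_lit 2, nat_lit 4],
  [nat_lit 3, nat_lit 4, nat_lit 3, nat_lit 4, nat_lit 3, nat_lit 4],
  [nat_lit 7, nat_lit 6, nat_lit 7, nat_lit 5, nat_lit 5, nat_lit 7, nat_lit 6, nat_lit 7],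
  [nat_lit 5, nat_lit 6, nat_lit 7, nat_lit 6, nat_lit 5, nat_lit 6, nat_lit 5, nat_lit 5, nat_lit 7, nat_lit 6],
  [nat_lit 5, nat_lit 5, nat_lit 6, nat_lit 5, nat_lit 6, nat_lit 5, nat_lit 6, nat_lit 7, nat_lit 5, nat_lit 7],
  [nat_lit 6, nat_lit 6, nat_lit 7, nat_lit 7, nat_lit 7],
  [nat_lit 7, nat_lit 6, nat_lit 6, nat_lit 7, nat_lit 7],
  [nat_lit 7, nat_lit 5, nat_lit 5],
  [nat_lit 13, nat_lit 8, nat_lit 12, nat_lit 8],
  [nat_lit 9, nat_lit 8, nat_lit 8],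
  [nat_lit 8, nat_lit 12, nat_lit 10],
  [nat_lit 8, nat_lit 10, nat_lit 8, nat_lit 8, nat_lit 9],
  [nat_lit 8, nat_lit 8, nat_lit 11],
  [nat_lit 14, nat_lit 14, nat_lit 18, nat_lit 14, nat_lit 14, nat_lit 16],
  [nat_lit 14, nat_lit 16, nat_lit 14, nat_lit 15],
  [nat_lit 14, nat_lit 14, nat_lit 15],
  [nat_lit 17],
  [nat_lit 20, nat_lit 20, nat_lit 20, nat_lit 20, nat_lit 19],
  [nat_lit 20, nat_lit 20, nat_lit 19, nat_lit 20, nat_lit 20, nat_lit 21],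
  [nat_lit 22, nat_lit 19],
  [nat_lit 25, nat_lit 24, nat_lit 24, nat_lit 24],
  [nat_lit 24, nat_lit 24, nat_lit 23, nat_lit 24, nat_lit 25],
  [nat_lit 26, nat_lit 26, nat_lit 26, nat_lit 26, nat_lit 27],
  [nat_lit 26, nat_lit 27, nat_lit 26]] (nat_lit 2)) i = 0 :=
  (rng_step (all0 _) qL1W_0)
theorem qL1el : mA.El qL1 qL1P :=
  el_of_pad (in_pool qL1in0 qL1W)
theorem qL1s0 : Suf mA qL1 qL1P 0 :=
  suf0 qL1el
theorem qL10yY : ∀ i < 1, (chkY can0 (brow (nat_lit 112)) qL10y (nat_lit 1)) i = 0 :=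
  allB (rngB_step (allB0 _ _) qL10yY_0) (by decide)
theorem qL10yD : Dist (fun i => pvA (pt (brow (nat_lit 112)) qL10y i)) 1 :=
  dist_of_chk (canT2 φA) qL10yY
theorem qL10RO : ∀ i < 1, (chkO (img2 (nat_lit 112) (shf qL1P (nat_lit 0))) (brow (nat_lit 112)) qL10y qL10Ra (nat_lit 1) [nat_lit 0]) i = 0 :=
  allB (rngB_step (allB0 _ _) qL10RO_0) (by decide)
theorem qL10R : Reach qL1 (fun i => pvA (pt (brow (nat_lit 112)) qL10y i)) 1 [nat_lit 0] :=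
  reach_of_chk ((acts2 (m := mA) φA hA (shf qL1P (nat_lit 0))).ex qL1s0.el) qL10RO
theorem qL10X : ∀ i < 30, (chkFx (img2 (nat_lit 112) qL1P) (brow (nat_lit 112)) qL10y (nat_lit 0) [nat_lit 0, nat_lit 0, nat_lit 0, nat_lit 0, nat_lit 0, nat_lit 0, nat_lit 0, nat_lit 0, nat_lit 0, nat_lit 0, nat_lit 0, nat_lit 0, nat_lit 0, nat_lit 0, nat_lit 0, nat_lit 0, nat_lit 0, nat_lit 0, nat_lit 0, nat_lit 0, nat_lit 0, nat_lit 0, nat_lit 0, nat_lit 0, nat_lit 0, nat_lit 0, nat_lit 0, nat_lit 0, nat_lit 0, nat_lit 0] (nat_lit 0)) i = 0 :=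
  (rng_step (all0 _) qL10X_0)
theorem qL1s1 : Suf mA qL1K1 qL1P 0 :=
  qL1s0.step (by decide) (by decide) (acts2 (m := mA) φA hA qL1P) qL10X
theorem qL11yY : ∀ i < 168, (chkY can0 (brow (nat_lit 112)) qL11y (nat_lit 168)) i = 0 :=
  allB (rngB_step (allB0 _ _) qL11yY_0) (by decide)
theorem qL11yD : Dist (fun i => pvA (pt (brow (nat_lit 112)) qL11y i)) 168 :=
  dist_of_chk (canT2 φA) qL11yY
theorem qL11RO : ∀ i < 168, (chkO (img2 (nat_lit 112) (shf qL1P (nat_lit 0))) (brow (nat_lit 112)) qL11y qL11Ra (nat_lit 168) [nat_lit 140]) i = 0 :=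
  allB (rngB_step (allB0 _ _) qL11RO_0) (by decide)
theorem qL11R : Reach qL1K1 (fun i => pvA (pt (brow (nat_lit 112)) qL11y i)) 168 [nat_lit 140] :=
  reach_of_chk ((acts2 (m := mA) φA hA (shf qL1P (nat_lit 0))).ex qL1s1.el) qL11RO
theorem qL11X : ∀ i < 28, (chkFx (img2 (nat_lit 112) qL1P) (brow (nat_lit 112)) qL11y (nat_lit 140) [nat_lit 0, nat_lit 0, nat_lit 0, nat_lit 0, nat_lit 0, nat_lit 0, nat_lit 0, nat_lit 0, nat_lit 0, nat_lit 0, nat_lit 0, nat_lit 0, nat_lit 0, nat_lit 0, nat_lit 0, nat_lit 0, nat_lit 0, nat_lit 0, nat_lit 0, nat_lit 0, nat_lit 0, nat_lit 0, nat_lit 0, nat_lit 0, nat_lit 0, nat_lit 0, nat_lit 0, nat_lit 0] (nat_lit 2)) i = 0 :=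
  (rng_step (all0 _) qL11X_0)
theorem qL1s2 : Suf mA qL1K2 qL1P 2 :=
  qL1s1.step (by decide) (by decide) (acts2 (m := mA) φA hA qL1P) qL11X
theorem qL12yY : ∀ i < 256, (chkY can0 (brow (nat_lit 112)) qL12y (nat_lit 256)) i = 0 :=
  allB (rngB_step (allB0 _ _) qL12yY_0) (by decide)
theorem qL12yD : Dist (fun i => pvA (pt (brow (nat_lit 112)) qL12y i)) 256 :=
  dist_of_chk (canT2 φA) qL12yY
theorem qL12RO : ∀ i < 256, (chkO (img2 (nat_lit 112) (shf qL1P (nat_lit 2))) (brow (nat_lit 112)) qL12y qL12Ra (nat_lit 256) [nat_lit 87]) i = 0 :=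
  allB (rngB_step (allB0 _ _) qL12RO_0) (by decide)
theorem qL12R : Reach qL1K2 (fun i => pvA (pt (brow (nat_lit 112)) qL12y i)) 256 [nat_lit 87] :=
  reach_of_chk ((acts2 (m := mA) φA hA (shf qL1P (nat_lit 2))).ex qL1s2.el) qL12RO
theorem qL12X : ∀ i < 25, (chkFx (img2 (nat_lit 112) qL1P) (brow (nat_lit 112)) qL12y (nat_lit 87) [nat_lit 0, nat_lit 0, nat_lit 0, nat_lit 0, nat_lit 0, nat_lit 0, nat_lit 0, nat_lit 0, nat_lit 0, nat_lit 0, nat_lit 0, nat_lit 0, nat_lit 0, nat_lit 0, nat_lit 0, nat_lit 0, nat_lit 0, nat_lit 0, nat_lit 0, nat_lit 0, nat_lit 0, nat_lit 0, nat_lit 0, nat_lit 0, nat_lit 0] (nat_lit 5)) i = 0 :=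
  (rng_step (all0 _) qL12X_0)
theorem qL1s3 : Suf mA qL1K3 qL1P 5 :=
  qL1s2.step (by decide) (by decide) (acts2 (m := mA) φA hA qL1P) qL12X
theorem qL13yY : ∀ i < 12, (chkY can0 (brow (nat_lit 112)) qL13y (nat_lit 12)) i = 0 :=
  allB (rngB_step (allB0 _ _) qL13yY_0) (by decide)
theorem qL13yD : Dist (fun i => pvA (pt (brow (nat_lit 112)) qL13y i)) 12 :=
  dist_of_chk (canT2 φA) qL13yY
theorem qL13RO : ∀ i < 12, (chkO (img2 (nat_lit 112) (shf qL1P (nat_lit 5))) (brow (nat_lit 112)) qL13y qL13Ra (nat_lit 12) [nat_lit 11]) i = 0 :=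
  allB (rngB_step (allB0 _ _) qL13RO_0) (by decide)
theorem qL13R : Reach qL1K3 (fun i => pvA (pt (brow (nat_lit 112)) qL13y i)) 12 [nat_lit 11] :=
  reach_of_chk ((acts2 (m := mA) φA hA (shf qL1P (nat_lit 5))).ex qL1s3.el) qL13RO
theorem qL13X : ∀ i < 22, (chkFx (img2 (nat_lit 112) qL1P) (brow (nat_lit 112)) qL13y (nat_lit 11) [nat_lit 0, nat_lit 0, nat_lit 0, nat_lit 0, nat_lit 0, nat_lit 0, nat_lit 0, nat_lit 0, nat_lit 0, nat_lit 0, nat_lit 0, nat_lit 0, nat_lit 0, nat_lit 0, nat_lit 0, nat_lit 0, nat_lit 0, nat_lit 0, nat_lit 0, nat_lit 0, nat_lit 0, nat_lit 0] (nat_lit 8)) i = 0 :=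
  (rng_step (all0 _) qL13X_0)
theorem qL1s4 : Suf mA qL1K4 qL1P 8 :=
  qL1s3.step (by decide) (by decide) (acts2 (m := mA) φA hA qL1P) qL13X
theorem qL14yY : ∀ i < 2, (chkY can0 (brow (nat_lit 112)) qL14y (nat_lit 2)) i = 0 :=
  allB (rngB_step (allB0 _ _) qL14yY_0) (by decide)
theorem qL14yD : Dist (fun i => pvA (pt (brow (nat_lit 112)) qL14y i)) 2 :=
  dist_of_chk (canT2 φA) qL14yY
theorem qL14RO : ∀ i < 2, (chkO (img2 (nat_lit 112) (shf qL1P (nat_lit 8))) (brow (nat_lit 112)) qL14y qL14Ra (nat_lit 2) [nat_lit 0]) i = 0 :=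
  allB (rngB_step (allB0 _ _) qL14RO_0) (by decide)
theorem qL14R : Reach qL1K4 (fun i => pvA (pt (brow (nat_lit 112)) qL14y i)) 2 [nat_lit 0] :=
  reach_of_chk ((acts2 (m := mA) φA hA (shf qL1P (nat_lit 8))).ex qL1s4.el) qL14RO
theorem qL14X : ∀ i < 16, (chkFx (img2 (nat_lit 112) qL1P) (brow (nat_lit 112)) qL14y (nat_lit 0) [nat_lit 0, nat_lit 0, nat_lit 0, nat_lit 0, nat_lit 0, nat_lit 0, nat_lit 0, nat_lit 0, nat_lit 0, nat_lit 0, nat_lit 0, nat_lit 0, nat_lit 0, nat_lit 0, nat_lit 0, nat_lit 0] (nat_lit 14)) i = 0 :=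
  (rng_step (all0 _) qL14X_0)
theorem qL1s5 : Suf mA qL1K5 qL1P 14 :=
  qL1s4.step (by decide) (by decide) (acts2 (m := mA) φA hA qL1P) qL14X
theorem qL15yY : ∀ i < 2, (chkY can0 (brow (nat_lit 112)) qL15y (nat_lit 2)) i = 0 :=
  allB (rngB_step (allB0 _ _) qL15yY_0) (by decide)
theorem qL15yD : Dist (fun i => pvA (pt (brow (nat_lit 112)) qL15y i)) 2 :=
  dist_of_chk (canT2 φA) qL15yY
theorem qL15RO : ∀ i < 2, (chkO (img2 (nat_lit 112) (shf qL1P (nat_lit 14))) (brow (nat_lit 112)) qL15y qL15Ra (nat_lit 2) [nat_lit 1]) i = 0 :=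
  allB (rngB_step (allB0 _ _) qL15RO_0) (by decide)
theorem qL15R : Reach qL1K5 (fun i => pvA (pt (brow (nat_lit 112)) qL15y i)) 2 [nat_lit 1] :=
  reach_of_chk ((acts2 (m := mA) φA hA (shf qL1P (nat_lit 14))).ex qL1s5.el) qL15RO
theorem qL15X : ∀ i < 11, (chkFx (img2 (nat_lit 112) qL1P) (brow (nat_lit 112)) qL15y (nat_lit 1) [nat_lit 0, nat_lit 0, nat_lit 0, nat_lit 0, nat_lit 0, nat_lit 0, nat_lit 0, nat_lit 0, nat_lit 0, nat_lit 0, nat_lit 0] (nat_lit 19)) i = 0 :=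
  (rng_step (all0 _) qL15X_0)
theorem qL1s6 : Suf mA qL1K6 qL1P 19 :=
  qL1s5.step (by decide) (by decide) (acts2 (m := mA) φA hA qL1P) qL15X
theorem qL16yY : ∀ i < 2, (chkY can0 (brow (nat_lit 112)) qL16y (nat_lit 2)) i = 0 :=
  allB (rngB_step (allB0 _ _) qL16yY_0) (by decide)
theorem qL16yD : Dist (fun i => pvA (pt (brow (nat_lit 112)) qL16y i)) 2 :=
  dist_of_chk (canT2 φA) qL16yY
theorem qL16RO : ∀ i < 2, (chkO (img2 (nat_lit 112) (shf qL1P (nat_lit 19))) (brow (nat_lit 112)) qL16y qL16Ra (nat_lit 2) [nat_lit 0]) i = 0 :=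
  allB (rngB_step (allB0 _ _) qL16RO_0) (by decide)
theorem qL16R : Reach qL1K6 (fun i => pvA (pt (brow (nat_lit 112)) qL16y i)) 2 [nat_lit 0] :=
  reach_of_chk ((acts2 (m := mA) φA hA (shf qL1P (nat_lit 19))).ex qL1s6.el) qL16RO
theorem qL16X : ∀ i < 7, (chkFx (img2 (nat_lit 112) qL1P) (brow (nat_lit 112)) qL16y (nat_lit 0) [nat_lit 0, nat_lit 0, nat_lit 0, nat_lit 0, nat_lit 0, nat_lit 0, nat_lit 0] (nat_lit 23)) i = 0 :=
  (rng_step (all0 _) qL16X_0)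
theorem qL1s7 : Suf mA qL1K7 qL1P 23 :=
  qL1s6.step (by decide) (by decide) (acts2 (m := mA) φA hA qL1P) qL16X
theorem qL17yY : ∀ i < 2, (chkY can0 (brow (nat_lit 112)) qL17y (nat_lit 2)) i = 0 :=
  allB (rngB_step (allB0 _ _) qL17yY_0) (by decide)
theorem qL17yD : Dist (fun i => pvA (pt (brow (nat_lit 112)) qL17y i)) 2 :=
  dist_of_chk (canT2 φA) qL17yY
theorem qL17RO : ∀ i < 2, (chkO (img2 (nat_lit 112) (shf qL1P (nat_lit 23))) (brow (nat_lit 112)) qL17y qL17Ra (nat_lit 2) [nat_lit 1]) i = 0 :=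
  allB (rngB_step (allB0 _ _) qL17RO_0) (by decide)
theorem qL17R : Reach qL1K7 (fun i => pvA (pt (brow (nat_lit 112)) qL17y i)) 2 [nat_lit 1] :=
  reach_of_chk ((acts2 (m := mA) φA hA (shf qL1P (nat_lit 23))).ex qL1s7.el) qL17RO
theorem qL17X : ∀ i < 4, (chkFx (img2 (nat_lit 112) qL1P) (brow (nat_lit 112)) qL17y (nat_lit 1) [nat_lit 0, nat_lit 0, nat_lit 0, nat_lit 0] (nat_lit 26)) i = 0 :=
  (rng_step (all0 _) qL17X_0)
theorem qL1s8 : Suf mA qL1K8 qL1P 26 :=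
  qL1s7.step (by decide) (by decide) (acts2 (m := mA) φA hA qL1P) qL17X
theorem qL18yY : ∀ i < 2, (chkY can0 (brow (nat_lit 112)) qL18y (nat_lit 2)) i = 0 :=
  allB (rngB_step (allB0 _ _) qL18yY_0) (by decide)
theorem qL18yD : Dist (fun i => pvA (pt (brow (nat_lit 112)) qL18y i)) 2 :=
  dist_of_chk (canT2 φA) qL18yY
theorem qL18RO : ∀ i < 2, (chkO (img2 (nat_lit 112) (shf qL1P (nat_lit 26))) (brow (nat_lit 112)) qL18y qL18Ra (nat_lit 2) [nat_lit 1]) i = 0 :=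
  allB (rngB_step (allB0 _ _) qL18RO_0) (by decide)
theorem qL18R : Reach qL1K8 (fun i => pvA (pt (brow (nat_lit 112)) qL18y i)) 2 [nat_lit 1] :=
  reach_of_chk ((acts2 (m := mA) φA hA (shf qL1P (nat_lit 26))).ex qL1s8.el) qL18RO
theorem qL18X : ∀ i < 2, (chkFx (img2 (nat_lit 112) qL1P) (brow (nat_lit 112)) qL18y (nat_lit 1) [nat_lit 0, nat_lit 0] (nat_lit 28)) i = 0 :=
  (rng_step (all0 _) qL18X_0)
theorem qL1s9 : Suf mA qL1K9 qL1P 28 :=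
  qL1s8.step (by decide) (by decide) (acts2 (m := mA) φA hA qL1P) qL18X
theorem qL19yY : ∀ i < 2, (chkY can0 (brow (nat_lit 112)) qL19y (nat_lit 2)) i = 0 :=
  allB (rngB_step (allB0 _ _) qL19yY_0) (by decide)
theorem qL19yD : Dist (fun i => pvA (pt (brow (nat_lit 112)) qL19y i)) 2 :=
  dist_of_chk (canT2 φA) qL19yY
theorem qL19RO : ∀ i < 2, (chkO (img2 (nat_lit 112) (shf qL1P (nat_lit 28))) (brow (nat_lit 112)) qL19y qL19Ra (nat_lit 2) [nat_lit 0]) i = 0 :=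
  allB (rngB_step (allB0 _ _) qL19RO_0) (by decide)
theorem qL19R : Reach qL1K9 (fun i => pvA (pt (brow (nat_lit 112)) qL19y i)) 2 [nat_lit 0] :=
  reach_of_chk ((acts2 (m := mA) φA hA (shf qL1P (nat_lit 28))).ex qL1s9.el) qL19RO
theorem qL19X : ∀ i < 0, (chkFx (img2 (nat_lit 112) qL1P) (brow (nat_lit 112)) qL19y (nat_lit 0) [] (nat_lit 30)) i = 0 :=
  (all0 _)
theorem qL1s10 : Suf mA qL1K10 qL1P 30 :=
  qL1s9.step (by decide) (by decide) (acts2 (m := mA) φA hA qL1P) qL19X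
theorem qL1lb10 : 1 ≤ Nat.card qL1K10 :=
  one_le_card _
theorem qL1lb9 : 2 ≤ Nat.card qL1K9 :=
  le_of_eq_of_le (by norm_num) (card_ge qL19yD qL19R qL1lb10)
theorem qL1lb8 : 4 ≤ Nat.card qL1K8 :=
  le_of_eq_of_le (by norm_num) (card_ge qL18yD qL18R qL1lb9)
theorem qL1lb7 : 8 ≤ Nat.card qL1K7 :=
  le_of_eq_of_le (by norm_num) (card_ge qL17yD qL17R qL1lb8)
theorem qL1lb6 : 16 ≤ Nat.card qL1K6 :=
  le_of_eq_of_le (by norm_num) (card_ge qL16yD qL16R qL1lb7)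
theorem qL1lb5 : 32 ≤ Nat.card qL1K5 :=
  le_of_eq_of_le (by norm_num) (card_ge qL15yD qL15R qL1lb6)
theorem qL1lb4 : 64 ≤ Nat.card qL1K4 :=
  le_of_eq_of_le (by norm_num) (card_ge qL14yD qL14R qL1lb5)
theorem qL1lb3 : 768 ≤ Nat.card qL1K3 :=
  le_of_eq_of_le (by norm_num) (card_ge qL13yD qL13R qL1lb4)
theorem qL1lb2 : 196608 ≤ Nat.card qL1K2 :=
  le_of_eq_of_le (by norm_num) (card_ge qL12yD qL12R qL1lb3)
theorem qL1lb1 : 33030144 ≤ Nat.card qL1K1 :=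
  le_of_eq_of_le (by norm_num) (card_ge qL11yD qL11R qL1lb2)
theorem qL1lb0 : 33030144 ≤ Nat.card qL1 :=
  le_of_eq_of_le (by norm_num) (card_ge qL10yD qL10R qL1lb1)
theorem qL2E : ∀ i < 2, (chkE qL2P ce0 [nat_lit 2562385642720, nat_lit 3494226566626]) i = 0 :=
  (rng_step (all0 _) qL2E_0)
theorem qL2C : ∀ i < 2, (chkL (mul2 (nat_lit 112)) (qD 2) qL2P ce0 [nat_lit 2570975183509, nat_lit 10112672247]) i = 0 :=
  (rng_step (all0 _) qL2C_0)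
theorem qL2in0 : ∀ u < 2, mA.In qL2 (qL2P u) :=
  in_Lf (pr_id mA) c0el (qelD 2) (in_of_chkE c0el qL2E) qL2C
theorem qL2W : ∀ i < 23, (chkPl (mul2 (nat_lit 112)) qL2P [[nat_lit 1, nat_lit 1, nat_lit 1, nat_lit 0, nat_lit 1, nat_lit 0, nat_lit 0, nat_lit 1, nat_lit 0, nat_lit 1, nat_lit 0, nat_lit 1],
  [nat_lit 0, nat_lit 1, nat_lit 1, nat_lit 0, nat_lit 1, nat_lit 1],
  [nat_lit 0, nat_lit 0, nat_lit 1, nat_lit 1, nat_lit 1, nat_lit 1, nat_lit 0, nat_lit 1, nat_lit 0],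
  [nat_lit 4, nat_lit 4, nat_lit 3, nat_lit 2, nat_lit 3, nat_lit 3, nat_lit 4, nat_lit 3, nat_lit 4, nat_lit 4],
  [nat_lit 2, nat_lit 4, nat_lit 2, nat_lit 4, nat_lit 2, nat_lit 3, nat_lit 4, nat_lit 3, nat_lit 4, nat_lit 4],
  [nat_lit 4, nat_lit 2, nat_lit 2, nat_lit 4, nat_lit 2, nat_lit 3, nat_lit 3, nat_lit 2],
  [nat_lit 4, nat_lit 2, nat_lit 3, nat_lit 4, nat_lit 2, nat_lit 4],
  [nat_lit 5, nat_lit 5, nat_lit 5, nat_lit 6, nat_lit 5, nat_lit 5, nat_lit 5, nat_lit 6, nat_lit 5, nat_lit 5, nat_lit 8, nat_lit 7, nat_lit 5, nat_lit 8, nat_lit 6, nat_lit 5, nat_lit 5],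
  [nat_lit 5, nat_lit 5, nat_lit 8, nat_lit 6, nat_lit 5, nat_lit 6, nat_lit 5, nat_lit 7, nat_lit 8],
  [nat_lit 5, nat_lit 6, nat_lit 5, nat_lit 5, nat_lit 8, nat_lit 6, nat_lit 8, nat_lit 7, nat_lit 6],
  [nat_lit 8, nat_lit 6, nat_lit 7, nat_lit 5, nat_lit 6, nat_lit 5, nat_lit 6, nat_lit 5, nat_lit 5, nat_lit 5, nat_lit 5, nat_lit 8, nat_lit 5, nat_lit 5, nat_lit 5],
  [nat_lit 6, nat_lit 5, nat_lit 5, nat_lit 5, nat_lit 7, nat_lit 5, nat_lit 5, nat_lit 5, nat_lit 5, nat_lit 5, nat_lit 8, nat_lit 5, nat_lit 6, nat_lit 8, nat_lit 6, nat_lit 5, nat_lit 5],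
  [nat_lit 12, nat_lit 11, nat_lit 9, nat_lit 11],
  [nat_lit 11, nat_lit 10, nat_lit 11, nat_lit 9],
  [nat_lit 11, nat_lit 11, nat_lit 9, nat_lit 11, nat_lit 11],
  [nat_lit 11, nat_lit 13, nat_lit 11, nat_lit 11, nat_lit 9],
  [nat_lit 15, nat_lit 15, nat_lit 15, nat_lit 15, nat_lit 16],
  [nat_lit 15, nat_lit 15, nat_lit 15, nat_lit 15, nat_lit 14],
  [nat_lit 15, nat_lit 17, nat_lit 15, nat_lit 15],
  [nat_lit 18, nat_lit 18, nat_lit 19, nat_lit 18],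
  [nat_lit 18, nat_lit 18, nat_lit 18, nat_lit 20],
  [nat_lit 22, nat_lit 21, nat_lit 22],
  [nat_lit 21, nat_lit 22, nat_lit 22]] (nat_lit 2)) i = 0 :=
  (rng_step (all0 _) qL2W_0)
theorem qL2el : mA.El qL2 qL2P :=
  el_of_pad (in_pool qL2in0 qL2W)
theorem qL2s0 : Suf mA qL2 qL2P 0 :=
  suf0 qL2el
theorem qL20yY : ∀ i < 15, (chkY can0 (brow (nat_lit 112)) qL20y (nat_lit 15)) i = 0 :=
  allB (rngB_step (allB0 _ _) qL20yY_0) (by decide)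
theorem qL20yD : Dist (fun i => pvA (pt (brow (nat_lit 112)) qL20y i)) 15 :=
  dist_of_chk (canT2 φA) qL20yY
theorem qL20RO : ∀ i < 15, (chkO (img2 (nat_lit 112) (shf qL2P (nat_lit 0))) (brow (nat_lit 112)) qL20y qL20Ra (nat_lit 15) [nat_lit 1]) i = 0 :=
  allB (rngB_step (allB0 _ _) qL20RO_0) (by decide)
theorem qL20R : Reach qL2 (fun i => pvA (pt (brow (nat_lit 112)) qL20y i)) 15 [nat_lit 1] :=
  reach_of_chk ((acts2 (m := mA) φA hA (shf qL2P (nat_lit 0))).ex qL2s0.el) qL20RO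
theorem qL20X : ∀ i < 23, (chkFx (img2 (nat_lit 112) qL2P) (brow (nat_lit 112)) qL20y (nat_lit 1) [nat_lit 0, nat_lit 0, nat_lit 0, nat_lit 0, nat_lit 0, nat_lit 0, nat_lit 0, nat_lit 0, nat_lit 0, nat_lit 0, nat_lit 0, nat_lit 0, nat_lit 0, nat_lit 0, nat_lit 0, nat_lit 0, nat_lit 0, nat_lit 0, nat_lit 0, nat_lit 0, nat_lit 0, nat_lit 0, nat_lit 0] (nat_lit 2)) i = 0 :=
  (rng_step (all0 _) qL20X_0)
theorem qL2s1 : Suf mA qL2K1 qL2P 2 :=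
  qL2s0.step (by decide) (by decide) (acts2 (m := mA) φA hA qL2P) qL20X
theorem qL21yY : ∀ i < 384, (chkY can0 (brow (nat_lit 112)) qL21y (nat_lit 384)) i = 0 :=
  allB (rngB_step (allB0 _ _) qL21yY_0) (by decide)
theorem qL21yD : Dist (fun i => pvA (pt (brow (nat_lit 112)) qL21y i)) 384 :=
  dist_of_chk (canT2 φA) qL21yY
theorem qL21RO : ∀ i < 384, (chkO (img2 (nat_lit 112) (shf qL2P (nat_lit 2))) (brow (nat_lit 112)) qL21y qL21Ra (nat_lit 384) [nat_lit 250]) i = 0 :=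
  allB (rngB_step (allB0 _ _) qL21RO_0) (by decide)
theorem qL21R : Reach qL2K1 (fun i => pvA (pt (brow (nat_lit 112)) qL21y i)) 384 [nat_lit 250] :=
  reach_of_chk ((acts2 (m := mA) φA hA (shf qL2P (nat_lit 2))).ex qL2s1.el) qL21RO
theorem qL21X : ∀ i < 20, (chkFx (img2 (nat_lit 112) qL2P) (brow (nat_lit 112)) qL21y (nat_lit 250) [nat_lit 0, nat_lit 0, nat_lit 0, nat_lit 0, nat_lit 0, nat_lit 0, nat_lit 0, nat_lit 0, nat_lit 0, nat_lit 0, nat_lit 0, nat_lit 0, nat_lit 0, nat_lit 0, nat_lit 0, nat_lit 0, nat_lit 0, nat_lit 0, nat_lit 0, nat_lit 0] (nat_lit 5)) i = 0 :=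
  (rng_step (all0 _) qL21X_0)
theorem qL2s2 : Suf mA qL2K2 qL2P 5 :=
  qL2s1.step (by decide) (by decide) (acts2 (m := mA) φA hA qL2P) qL21X
theorem qL22yY : ∀ i < 96, (chkY can0 (brow (nat_lit 112)) qL22y (nat_lit 96)) i = 0 :=
  allB (rngB_step (allB0 _ _) qL22yY_0) (by decide)
theorem qL22yD : Dist (fun i => pvA (pt (brow (nat_lit 112)) qL22y i)) 96 :=
  dist_of_chk (canT2 φA) qL22yY
theorem qL22RO : ∀ i < 96, (chkO (img2 (nat_lit 112) (shf qL2P (nat_lit 5))) (brow (nat_lit 112)) qL22y qL22Ra (nat_lit 96) [nat_lit 45]) i = 0 :=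
  allB (rngB_step (allB0 _ _) qL22RO_0) (by decide)
theorem qL22R : Reach qL2K2 (fun i => pvA (pt (brow (nat_lit 112)) qL22y i)) 96 [nat_lit 45] :=
  reach_of_chk ((acts2 (m := mA) φA hA (shf qL2P (nat_lit 5))).ex qL2s2.el) qL22RO
theorem qL22X : ∀ i < 16, (chkFx (img2 (nat_lit 112) qL2P) (brow (nat_lit 112)) qL22y (nat_lit 45) [nat_lit 0, nat_lit 0, nat_lit 0, nat_lit 0, nat_lit 0, nat_lit 0, nat_lit 0, nat_lit 0, nat_lit 0, nat_lit 0, nat_lit 0, nat_lit 0, nat_lit 0, nat_lit 0, nat_lit 0, nat_lit 0] (nat_lit 9)) i = 0 :=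
  (rng_step (all0 _) qL22X_0)
theorem qL2s3 : Suf mA qL2K3 qL2P 9 :=
  qL2s2.step (by decide) (by decide) (acts2 (m := mA) φA hA qL2P) qL22X
theorem qL23yY : ∀ i < 2, (chkY can0 (brow (nat_lit 112)) qL23y (nat_lit 2)) i = 0 :=
  allB (rngB_step (allB0 _ _) qL23yY_0) (by decide)
theorem qL23yD : Dist (fun i => pvA (pt (brow (nat_lit 112)) qL23y i)) 2 :=
  dist_of_chk (canT2 φA) qL23yY
theorem qL23RO : ∀ i < 2, (chkO (img2 (nat_lit 112) (shf qL2P (nat_lit 9))) (brow (nat_lit 112)) qL23y qL23Ra (nat_lit 2) [nat_lit 0]) i = 0 :=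
  allB (rngB_step (allB0 _ _) qL23RO_0) (by decide)
theorem qL23R : Reach qL2K3 (fun i => pvA (pt (brow (nat_lit 112)) qL23y i)) 2 [nat_lit 0] :=
  reach_of_chk ((acts2 (m := mA) φA hA (shf qL2P (nat_lit 9))).ex qL2s3.el) qL23RO
theorem qL23X : ∀ i < 11, (chkFx (img2 (nat_lit 112) qL2P) (brow (nat_lit 112)) qL23y (nat_lit 0) [nat_lit 0, nat_lit 0, nat_lit 0, nat_lit 0, nat_lit 0, nat_lit 0, nat_lit 0, nat_lit 0, nat_lit 0, nat_lit 0, nat_lit 0] (nat_lit 14)) i = 0 :=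
  (rng_step (all0 _) qL23X_0)
theorem qL2s4 : Suf mA qL2K4 qL2P 14 :=
  qL2s3.step (by decide) (by decide) (acts2 (m := mA) φA hA qL2P) qL23X
theorem qL24yY : ∀ i < 2, (chkY can0 (brow (nat_lit 112)) qL24y (nat_lit 2)) i = 0 :=
  allB (rngB_step (allB0 _ _) qL24yY_0) (by decide)
theorem qL24yD : Dist (fun i => pvA (pt (brow (nat_lit 112)) qL24y i)) 2 :=
  dist_of_chk (canT2 φA) qL24yY
theorem qL24RO : ∀ i < 2, (chkO (img2 (nat_lit 112) (shf qL2P (nat_lit 14))) (brow (nat_lit 112)) qL24y qL24Ra (nat_lit 2) [nat_lit 0]) i = 0 :=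
  allB (rngB_step (allB0 _ _) qL24RO_0) (by decide)
theorem qL24R : Reach qL2K4 (fun i => pvA (pt (brow (nat_lit 112)) qL24y i)) 2 [nat_lit 0] :=
  reach_of_chk ((acts2 (m := mA) φA hA (shf qL2P (nat_lit 14))).ex qL2s4.el) qL24RO
theorem qL24X : ∀ i < 7, (chkFx (img2 (nat_lit 112) qL2P) (brow (nat_lit 112)) qL24y (nat_lit 0) [nat_lit 0, nat_lit 0, nat_lit 0, nat_lit 0, nat_lit 0, nat_lit 0, nat_lit 0] (nat_lit 18)) i = 0 :=
  (rng_step (all0 _) qL24X_0)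
theorem qL2s5 : Suf mA qL2K5 qL2P 18 :=
  qL2s4.step (by decide) (by decide) (acts2 (m := mA) φA hA qL2P) qL24X
theorem qL25yY : ∀ i < 2, (chkY can0 (brow (nat_lit 112)) qL25y (nat_lit 2)) i = 0 :=
  allB (rngB_step (allB0 _ _) qL25yY_0) (by decide)
theorem qL25yD : Dist (fun i => pvA (pt (brow (nat_lit 112)) qL25y i)) 2 :=
  dist_of_chk (canT2 φA) qL25yY
theorem qL25RO : ∀ i < 2, (chkO (img2 (nat_lit 112) (shf qL2P (nat_lit 18))) (brow (nat_lit 112)) qL25y qL25Ra (nat_lit 2) [nat_lit 1]) i = 0 :=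
  allB (rngB_step (allB0 _ _) qL25RO_0) (by decide)
theorem qL25R : Reach qL2K5 (fun i => pvA (pt (brow (nat_lit 112)) qL25y i)) 2 [nat_lit 1] :=
  reach_of_chk ((acts2 (m := mA) φA hA (shf qL2P (nat_lit 18))).ex qL2s5.el) qL25RO
theorem qL25X : ∀ i < 4, (chkFx (img2 (nat_lit 112) qL2P) (brow (nat_lit 112)) qL25y (nat_lit 1) [nat_lit 0, nat_lit 0, nat_lit 0, nat_lit 0] (nat_lit 21)) i = 0 :=
  (rng_step (all0 _) qL25X_0)
theorem qL2s6 : Suf mA qL2K6 qL2P 21 :=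
  qL2s5.step (by decide) (by decide) (acts2 (m := mA) φA hA qL2P) qL25X
theorem qL26yY : ∀ i < 2, (chkY can0 (brow (nat_lit 112)) qL26y (nat_lit 2)) i = 0 :=
  allB (rngB_step (allB0 _ _) qL26yY_0) (by decide)
theorem qL26yD : Dist (fun i => pvA (pt (brow (nat_lit 112)) qL26y i)) 2 :=
  dist_of_chk (canT2 φA) qL26yY
theorem qL26RO : ∀ i < 2, (chkO (img2 (nat_lit 112) (shf qL2P (nat_lit 21))) (brow (nat_lit 112)) qL26y qL26Ra (nat_lit 2) [nat_lit 1]) i = 0 :=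
  allB (rngB_step (allB0 _ _) qL26RO_0) (by decide)
theorem qL26R : Reach qL2K6 (fun i => pvA (pt (brow (nat_lit 112)) qL26y i)) 2 [nat_lit 1] :=
  reach_of_chk ((acts2 (m := mA) φA hA (shf qL2P (nat_lit 21))).ex qL2s6.el) qL26RO
theorem qL26X : ∀ i < 2, (chkFx (img2 (nat_lit 112) qL2P) (brow (nat_lit 112)) qL26y (nat_lit 1) [nat_lit 0, nat_lit 0] (nat_lit 23)) i = 0 :=
  (rng_step (all0 _) qL26X_0)
theorem qL2s7 : Suf mA qL2K7 qL2P 23 :=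
  qL2s6.step (by decide) (by decide) (acts2 (m := mA) φA hA qL2P) qL26X
theorem qL27yY : ∀ i < 2, (chkY can0 (brow (nat_lit 112)) qL27y (nat_lit 2)) i = 0 :=
  allB (rngB_step (allB0 _ _) qL27yY_0) (by decide)
theorem qL27yD : Dist (fun i => pvA (pt (brow (nat_lit 112)) qL27y i)) 2 :=
  dist_of_chk (canT2 φA) qL27yY
theorem qL27RO : ∀ i < 2, (chkO (img2 (nat_lit 112) (shf qL2P (nat_lit 23))) (brow (nat_lit 112)) qL27y qL27Ra (nat_lit 2) [nat_lit 0]) i = 0 :=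
  allB (rngB_step (allB0 _ _) qL27RO_0) (by decide)
theorem qL27R : Reach qL2K7 (fun i => pvA (pt (brow (nat_lit 112)) qL27y i)) 2 [nat_lit 0] :=
  reach_of_chk ((acts2 (m := mA) φA hA (shf qL2P (nat_lit 23))).ex qL2s7.el) qL27RO
theorem qL27X : ∀ i < 0, (chkFx (img2 (nat_lit 112) qL2P) (brow (nat_lit 112)) qL27y (nat_lit 0) [] (nat_lit 25)) i = 0 :=
  (all0 _)
theorem qL2s8 : Suf mA qL2K8 qL2P 25 :=
  qL2s7.step (by decide) (by decide) (acts2 (m := mA) φA hA qL2P) qL27X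
theorem qL2lb8 : 1 ≤ Nat.card qL2K8 :=
  one_le_card _
theorem qL2lb7 : 2 ≤ Nat.card qL2K7 :=
  le_of_eq_of_le (by norm_num) (card_ge qL27yD qL27R qL2lb8)
theorem qL2lb6 : 4 ≤ Nat.card qL2K6 :=
  le_of_eq_of_le (by norm_num) (card_ge qL26yD qL26R qL2lb7)
theorem qL2lb5 : 8 ≤ Nat.card qL2K5 :=
  le_of_eq_of_le (by norm_num) (card_ge qL25yD qL25R qL2lb6)
theorem qL2lb4 : 16 ≤ Nat.card qL2K4 :=
  le_of_eq_of_le (by norm_num) (card_ge qL24yD qL24R qL2lb5)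
theorem qL2lb3 : 32 ≤ Nat.card qL2K3 :=
  le_of_eq_of_le (by norm_num) (card_ge qL23yD qL23R qL2lb4)
theorem qL2lb2 : 3072 ≤ Nat.card qL2K2 :=
  le_of_eq_of_le (by norm_num) (card_ge qL22yD qL22R qL2lb3)
theorem qL2lb1 : 1179648 ≤ Nat.card qL2K1 :=
  le_of_eq_of_le (by norm_num) (card_ge qL21yD qL21R qL2lb2)
theorem qL2lb0 : 17694720 ≤ Nat.card qL2 :=
  le_of_eq_of_le (by norm_num) (card_ge qL20yD qL20R qL2lb1)
theorem qL3E : ∀ i < 2, (chkE qL3P ce0 [nat_lit 292312174115, nat_lit 1846940086960]) i = 0 :=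
  (rng_step (all0 _) qL3E_0)
theorem qL3C : ∀ i < 2, (chkL (mul2 (nat_lit 112)) (qD 3) qL3P ce0 [nat_lit 598042348976, nat_lit 3680023753038]) i = 0 :=
  (rng_step (all0 _) qL3C_0)
theorem qL3in0 : ∀ u < 2, mA.In qL3 (qL3P u) :=
  in_Lf (pr_id mA) c0el (qelD 3) (in_of_chkE c0el qL3E) qL3C
theorem qL3W : ∀ i < 8, (chkPl (mul2 (nat_lit 112)) qL3P [[nat_lit 0, nat_lit 1, nat_lit 0, nat_lit 0, nat_lit 0, nat_lit 0, nat_lit 0, nat_lit 1, nat_lit 0, nat_lit 1, nat_lit 0],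
  [nat_lit 0, nat_lit 0, nat_lit 1, nat_lit 0, nat_lit 0, nat_lit 0, nat_lit 0, nat_lit 1, nat_lit 1, nat_lit 1, nat_lit 1, nat_lit 1],
  [nat_lit 0, nat_lit 0, nat_lit 0, nat_lit 0, nat_lit 0, nat_lit 1, nat_lit 0, nat_lit 0, nat_lit 1, nat_lit 1, nat_lit 1],
  [nat_lit 1, nat_lit 0, nat_lit 1, nat_lit 0, nat_lit 0],
  [nat_lit 2, nat_lit 5, nat_lit 5, nat_lit 4, nat_lit 5, nat_lit 2],
  [nat_lit 5, nat_lit 3, nat_lit 4, nat_lit 2, nat_lit 2],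
  [nat_lit 6, nat_lit 6, nat_lit 7, nat_lit 6, nat_lit 6],
  [nat_lit 6, nat_lit 6, nat_lit 7, nat_lit 6, nat_lit 6]] (nat_lit 2)) i = 0 :=
  (rng_step (all0 _) qL3W_0)
theorem qL3el : mA.El qL3 qL3P :=
  el_of_pad (in_pool qL3in0 qL3W)
theorem qL3s0 : Suf mA qL3 qL3P 0 :=
  suf0 qL3el
theorem qL30yY : ∀ i < 192, (chkY can0 (brow (nat_lit 112)) qL30y (nat_lit 192)) i = 0 :=
  allB (rngB_step (allB0 _ _) qL30yY_0) (by decide)
theorem qL30yD : Dist (fun i => pvA (pt (brow (nat_lit 112)) qL30y i)) 192 :=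
  dist_of_chk (canT2 φA) qL30yY
theorem qL30RO : ∀ i < 192, (chkO (img2 (nat_lit 112) (shf qL3P (nat_lit 0))) (brow (nat_lit 112)) qL30y qL30Ra (nat_lit 192) [nat_lit 69]) i = 0 :=
  allB (rngB_step (allB0 _ _) qL30RO_0) (by decide)
theorem qL30R : Reach qL3 (fun i => pvA (pt (brow (nat_lit 112)) qL30y i)) 192 [nat_lit 69] :=
  reach_of_chk ((acts2 (m := mA) φA hA (shf qL3P (nat_lit 0))).ex qL3s0.el) qL30RO
theorem qL30X : ∀ i < 8, (chkFx (img2 (nat_lit 112) qL3P) (brow (nat_lit 112)) qL30y (nat_lit 69) [nat_lit 0, nat_lit 0, nat_lit 0, nat_lit 0, nat_lit 0, nat_lit 0, nat_lit 0, nat_lit 0] (nat_lit 2)) i = 0 :=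
  (rng_step (all0 _) qL30X_0)
theorem qL3s1 : Suf mA qL3K1 qL3P 2 :=
  qL3s0.step (by decide) (by decide) (acts2 (m := mA) φA hA qL3P) qL30X
theorem qL31yY : ∀ i < 192, (chkY can0 (brow (nat_lit 112)) qL31y (nat_lit 192)) i = 0 :=
  allB (rngB_step (allB0 _ _) qL31yY_0) (by decide)
theorem qL31yD : Dist (fun i => pvA (pt (brow (nat_lit 112)) qL31y i)) 192 :=
  dist_of_chk (canT2 φA) qL31yY
theorem qL31RO : ∀ i < 192, (chkO (img2 (nat_lit 112) (shf qL3P (nat_lit 2))) (brow (nat_lit 112)) qL31y qL31Ra (nat_lit 192) [nat_lit 27]) i = 0 :=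
  allB (rngB_step (allB0 _ _) qL31RO_0) (by decide)
theorem qL31R : Reach qL3K1 (fun i => pvA (pt (brow (nat_lit 112)) qL31y i)) 192 [nat_lit 27] :=
  reach_of_chk ((acts2 (m := mA) φA hA (shf qL3P (nat_lit 2))).ex qL3s1.el) qL31RO
theorem qL31X : ∀ i < 4, (chkFx (img2 (nat_lit 112) qL3P) (brow (nat_lit 112)) qL31y (nat_lit 27) [nat_lit 0, nat_lit 0, nat_lit 0, nat_lit 0] (nat_lit 6)) i = 0 :=
  (rng_step (all0 _) qL31X_0)
theorem qL3s2 : Suf mA qL3K2 qL3P 6 :=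
  qL3s1.step (by decide) (by decide) (acts2 (m := mA) φA hA qL3P) qL31X
theorem qL32yY : ∀ i < 2, (chkY can0 (brow (nat_lit 112)) qL32y (nat_lit 2)) i = 0 :=
  allB (rngB_step (allB0 _ _) qL32yY_0) (by decide)
theorem qL32yD : Dist (fun i => pvA (pt (brow (nat_lit 112)) qL32y i)) 2 :=
  dist_of_chk (canT2 φA) qL32yY
theorem qL32RO : ∀ i < 2, (chkO (img2 (nat_lit 112) (shf qL3P (nat_lit 6))) (brow (nat_lit 112)) qL32y qL32Ra (nat_lit 2) [nat_lit 1]) i = 0 :=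
  allB (rngB_step (allB0 _ _) qL32RO_0) (by decide)
theorem qL32R : Reach qL3K2 (fun i => pvA (pt (brow (nat_lit 112)) qL32y i)) 2 [nat_lit 1] :=
  reach_of_chk ((acts2 (m := mA) φA hA (shf qL3P (nat_lit 6))).ex qL3s2.el) qL32RO
theorem qL32X : ∀ i < 2, (chkFx (img2 (nat_lit 112) qL3P) (brow (nat_lit 112)) qL32y (nat_lit 1) [nat_lit 0, nat_lit 0] (nat_lit 8)) i = 0 :=
  (rng_step (all0 _) qL32X_0)
theorem qL3s3 : Suf mA qL3K3 qL3P 8 :=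
  qL3s2.step (by decide) (by decide) (acts2 (m := mA) φA hA qL3P) qL32X
theorem qL33yY : ∀ i < 2, (chkY can0 (brow (nat_lit 112)) qL33y (nat_lit 2)) i = 0 :=
  allB (rngB_step (allB0 _ _) qL33yY_0) (by decide)
theorem qL33yD : Dist (fun i => pvA (pt (brow (nat_lit 112)) qL33y i)) 2 :=
  dist_of_chk (canT2 φA) qL33yY
theorem qL33RO : ∀ i < 2, (chkO (img2 (nat_lit 112) (shf qL3P (nat_lit 8))) (brow (nat_lit 112)) qL33y qL33Ra (nat_lit 2) [nat_lit 0]) i = 0 :=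
  allB (rngB_step (allB0 _ _) qL33RO_0) (by decide)
theorem qL33R : Reach qL3K3 (fun i => pvA (pt (brow (nat_lit 112)) qL33y i)) 2 [nat_lit 0] :=
  reach_of_chk ((acts2 (m := mA) φA hA (shf qL3P (nat_lit 8))).ex qL3s3.el) qL33RO
theorem qL33X : ∀ i < 0, (chkFx (img2 (nat_lit 112) qL3P) (brow (nat_lit 112)) qL33y (nat_lit 0) [] (nat_lit 10)) i = 0 :=
  (all0 _)
theorem qL3s4 : Suf mA qL3K4 qL3P 10 :=
  qL3s3.step (by decide) (by decide) (acts2 (m := mA) φA hA qL3P) qL33X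
theorem qL3lb4 : 1 ≤ Nat.card qL3K4 :=
  one_le_card _
theorem qL3lb3 : 2 ≤ Nat.card qL3K3 :=
  le_of_eq_of_le (by norm_num) (card_ge qL33yD qL33R qL3lb4)
theorem qL3lb2 : 4 ≤ Nat.card qL3K2 :=
  le_of_eq_of_le (by norm_num) (card_ge qL32yD qL32R qL3lb3)
theorem qL3lb1 : 768 ≤ Nat.card qL3K1 :=
  le_of_eq_of_le (by norm_num) (card_ge qL31yD qL31R qL3lb2)
theorem qL3lb0 : 147456 ≤ Nat.card qL3 :=
  le_of_eq_of_le (by norm_num) (card_ge qL30yD qL30R qL3lb1)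
theorem qL4E : ∀ i < 2, (chkE qL4P ce0 [nat_lit 3155628171411, nat_lit 1844067313139]) i = 0 :=
  (rng_step (all0 _) qL4E_0)
theorem qL4C : ∀ i < 2, (chkL (mul2 (nat_lit 112)) (qD 4) qL4P ce0 [nat_lit 4147915194498, nat_lit 4205426854245]) i = 0 :=
  (rng_step (all0 _) qL4C_0)
theorem qL4in0 : ∀ u < 2, mA.In qL4 (qL4P u) :=
  in_Lf (pr_id mA) c0el (qelD 4) (in_of_chkE c0el qL4E) qL4C
theorem qL4W : ∀ i < 4, (chkPl (mul2 (nat_lit 112)) qL4P [[nat_lit 0, nat_lit 1, nat_lit 1, nat_lit 0, nat_lit 0, nat_lit 1],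
  [nat_lit 0, nat_lit 1, nat_lit 0, nat_lit 0, nat_lit 0, nat_lit 0, nat_lit 1, nat_lit 1, nat_lit 1, nat_lit 0, nat_lit 0],
  [nat_lit 0, nat_lit 0, nat_lit 1, nat_lit 1, nat_lit 0, nat_lit 0, nat_lit 0, nat_lit 1, nat_lit 0, nat_lit 1, nat_lit 0],
  [nat_lit 0, nat_lit 0, nat_lit 0, nat_lit 1, nat_lit 0, nat_lit 0, nat_lit 1, nat_lit 0, nat_lit 1, nat_lit 1, nat_lit 0]] (nat_lit 2)) i = 0 :=
  (rng_step (all0 _) qL4W_0)
theorem qL4el : mA.El qL4 qL4P :=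
  el_of_pad (in_pool qL4in0 qL4W)
theorem qL4s0 : Suf mA qL4 qL4P 0 :=
  suf0 qL4el
theorem qL40yY : ∀ i < 120, (chkY can0 (brow (nat_lit 112)) qL40y (nat_lit 120)) i = 0 :=
  allB (rngB_step (allB0 _ _) qL40yY_0) (by decide)
theorem qL40yD : Dist (fun i => pvA (pt (brow (nat_lit 112)) qL40y i)) 120 :=
  dist_of_chk (canT2 φA) qL40yY
theorem qL40RO : ∀ i < 120, (chkO (img2 (nat_lit 112) (shf qL4P (nat_lit 0))) (brow (nat_lit 112)) qL40y qL40Ra (nat_lit 120) [nat_lit 51]) i = 0 :=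
  allB (rngB_step (allB0 _ _) qL40RO_0) (by decide)
theorem qL40R : Reach qL4 (fun i => pvA (pt (brow (nat_lit 112)) qL40y i)) 120 [nat_lit 51] :=
  reach_of_chk ((acts2 (m := mA) φA hA (shf qL4P (nat_lit 0))).ex qL4s0.el) qL40RO
theorem qL40X : ∀ i < 4, (chkFx (img2 (nat_lit 112) qL4P) (brow (nat_lit 112)) qL40y (nat_lit 51) [nat_lit 0, nat_lit 0, nat_lit 0, nat_lit 0] (nat_lit 2)) i = 0 :=
  (rng_step (all0 _) qL40X_0)
theorem qL4s1 : Suf mA qL4K1 qL4P 2 :=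
  qL4s0.step (by decide) (by decide) (acts2 (m := mA) φA hA qL4P) qL40X
theorem qL41yY : ∀ i < 128, (chkY can0 (brow (nat_lit 112)) qL41y (nat_lit 128)) i = 0 :=
  allB (rngB_step (allB0 _ _) qL41yY_0) (by decide)
theorem qL41yD : Dist (fun i => pvA (pt (brow (nat_lit 112)) qL41y i)) 128 :=
  dist_of_chk (canT2 φA) qL41yY
theorem qL41RO : ∀ i < 128, (chkO (img2 (nat_lit 112) (shf qL4P (nat_lit 2))) (brow (nat_lit 112)) qL41y qL41Ra (nat_lit 128) [nat_lit 85]) i = 0 :=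
  allB (rngB_step (allB0 _ _) qL41RO_0) (by decide)
theorem qL41R : Reach qL4K1 (fun i => pvA (pt (brow (nat_lit 112)) qL41y i)) 128 [nat_lit 85] :=
  reach_of_chk ((acts2 (m := mA) φA hA (shf qL4P (nat_lit 2))).ex qL4s1.el) qL41RO
theorem qL41X : ∀ i < 0, (chkFx (img2 (nat_lit 112) qL4P) (brow (nat_lit 112)) qL41y (nat_lit 85) [] (nat_lit 6)) i = 0 :=
  (all0 _)
theorem qL4s2 : Suf mA qL4K2 qL4P 6 :=
  qL4s1.step (by decide) (by decide) (acts2 (m := mA) φA hA qL4P) qL41X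
theorem qL4lb2 : 1 ≤ Nat.card qL4K2 :=
  one_le_card _
theorem qL4lb1 : 128 ≤ Nat.card qL4K1 :=
  le_of_eq_of_le (by norm_num) (card_ge qL41yD qL41R qL4lb2)
theorem qL4lb0 : 15360 ≤ Nat.card qL4 :=
  le_of_eq_of_le (by norm_num) (card_ge qL40yD qL40R qL4lb1)
theorem qL5E : ∀ i < 2, (chkE qL5P ce0 [nat_lit 3871144418381, nat_lit 1926562482289]) i = 0 :=
  (rng_step (all0 _) qL5E_0)
theorem qL5C : ∀ i < 2, (chkL (mul2 (nat_lit 112)) (qD 5) qL5P ce0 [nat_lit 683000864854, nat_lit 296397448435]) i = 0 :=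
  (rng_step (all0 _) qL5C_0)
theorem qL5in0 : ∀ u < 2, mA.In qL5 (qL5P u) :=
  in_Lf (pr_id mA) c0el (qelD 5) (in_of_chkE c0el qL5E) qL5C
theorem qL5W : ∀ i < 4, (chkPl (mul2 (nat_lit 112)) qL5P [[nat_lit 0, nat_lit 0, nat_lit 1, nat_lit 0, nat_lit 1, nat_lit 0, nat_lit 1, nat_lit 1, nat_lit 1, nat_lit 1, nat_lit 1, nat_lit 0, nat_lit 1, nat_lit 0, nat_lit 0, nat_lit 1, nat_lit 1, nat_lit 0, nat_lit 0, nat_lit 1, nat_lit 1, nat_lit 1, nat_lit 0, nat_lit 0],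
  [nat_lit 0, nat_lit 0, nat_lit 1, nat_lit 0, nat_lit 0, nat_lit 0, nat_lit 1, nat_lit 1, nat_lit 0, nat_lit 1, nat_lit 1, nat_lit 1, nat_lit 0],
  [nat_lit 1, nat_lit 1, nat_lit 0, nat_lit 1, nat_lit 1, nat_lit 0, nat_lit 1, nat_lit 0, nat_lit 1, nat_lit 1, nat_lit 0, nat_lit 0, nat_lit 0, nat_lit 1, nat_lit 0, nat_lit 0, nat_lit 0, nat_lit 1, nat_lit 0, nat_lit 1, nat_lit 0, nat_lit 1, nat_lit 0, nat_lit 0, nat_lit 1, nat_lit 1],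
  [nat_lit 0, nat_lit 0, nat_lit 0, nat_lit 0, nat_lit 1, nat_lit 1, nat_lit 0, nat_lit 1, nat_lit 1, nat_lit 1, nat_lit 0, nat_lit 1, nat_lit 0, nat_lit 1, nat_lit 1, nat_lit 1, nat_lit 0, nat_lit 0, nat_lit 0]] (nat_lit 2)) i = 0 :=
  (rng_step (all0 _) qL5W_0)
theorem qL5el : mA.El qL5 qL5P :=
  el_of_pad (in_pool qL5in0 qL5W)
theorem qL5s0 : Suf mA qL5 qL5P 0 :=
  suf0 qL5el
theorem qL50yY : ∀ i < 72, (chkY can0 (brow (nat_lit 112)) qL50y (nat_lit 72)) i = 0 :=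
  allB (rngB_step (allB0 _ _) qL50yY_0) (by decide)
theorem qL50yD : Dist (fun i => pvA (pt (brow (nat_lit 112)) qL50y i)) 72 :=
  dist_of_chk (canT2 φA) qL50yY
theorem qL50RO : ∀ i < 72, (chkO (img2 (nat_lit 112) (shf qL5P (nat_lit 0))) (brow (nat_lit 112)) qL50y qL50Ra (nat_lit 72) [nat_lit 69]) i = 0 :=
  allB (rngB_step (allB0 _ _) qL50RO_0) (by decide)
theorem qL50R : Reach qL5 (fun i => pvA (pt (brow (nat_lit 112)) qL50y i)) 72 [nat_lit 69] :=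
  reach_of_chk ((acts2 (m := mA) φA hA (shf qL5P (nat_lit 0))).ex qL5s0.el) qL50RO
theorem qL50X : ∀ i < 4, (chkFx (img2 (nat_lit 112) qL5P) (brow (nat_lit 112)) qL50y (nat_lit 69) [nat_lit 0, nat_lit 0, nat_lit 0, nat_lit 0] (nat_lit 2)) i = 0 :=
  (rng_step (all0 _) qL50X_0)
theorem qL5s1 : Suf mA qL5K1 qL5P 2 :=
  qL5s0.step (by decide) (by decide) (acts2 (m := mA) φA hA qL5P) qL50X
theorem qL51yY : ∀ i < 128, (chkY can0 (brow (nat_lit 112)) qL51y (nat_lit 128)) i = 0 :=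
  allB (rngB_step (allB0 _ _) qL51yY_0) (by decide)
theorem qL51yD : Dist (fun i => pvA (pt (brow (nat_lit 112)) qL51y i)) 128 :=
  dist_of_chk (canT2 φA) qL51yY
theorem qL51RO : ∀ i < 128, (chkO (img2 (nat_lit 112) (shf qL5P (nat_lit 2))) (brow (nat_lit 112)) qL51y qL51Ra (nat_lit 128) [nat_lit 37]) i = 0 :=
  allB (rngB_step (allB0 _ _) qL51RO_0) (by decide)
theorem qL51R : Reach qL5K1 (fun i => pvA (pt (brow (nat_lit 112)) qL51y i)) 128 [nat_lit 37] :=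
  reach_of_chk ((acts2 (m := mA) φA hA (shf qL5P (nat_lit 2))).ex qL5s1.el) qL51RO
theorem qL51X : ∀ i < 0, (chkFx (img2 (nat_lit 112) qL5P) (brow (nat_lit 112)) qL51y (nat_lit 37) [] (nat_lit 6)) i = 0 :=
  (all0 _)
theorem qL5s2 : Suf mA qL5K2 qL5P 6 :=
  qL5s1.step (by decide) (by decide) (acts2 (m := mA) φA hA qL5P) qL51X
theorem qL5lb2 : 1 ≤ Nat.card qL5K2 :=
  one_le_card _
theorem qL5lb1 : 128 ≤ Nat.card qL5K1 :=
  le_of_eq_of_le (by norm_num) (card_ge qL51yD qL51R qL5lb2)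
theorem qL5lb0 : 9216 ≤ Nat.card qL5 :=
  le_of_eq_of_le (by norm_num) (card_ge qL50yD qL50R qL5lb1)
theorem qL6E : ∀ i < 2, (chkE qL6P ce0 [nat_lit 1142796860488, nat_lit 3662987562184]) i = 0 :=
  (rng_step (all0 _) qL6E_0)
theorem qL6C : ∀ i < 2, (chkL (mul2 (nat_lit 112)) (qD 6) qL6P ce0 [nat_lit 4108239193399, nat_lit 2181081370853]) i = 0 :=
  (rng_step (all0 _) qL6C_0)
theorem qL6in0 : ∀ u < 2, mA.In qL6 (qL6P u) :=
  in_Lf (pr_id mA) c0el (qelD 6) (in_of_chkE c0el qL6E) qL6C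
theorem qL6W : ∀ i < 2, (chkPl (mul2 (nat_lit 112)) qL6P [[nat_lit 0, nat_lit 0, nat_lit 0, nat_lit 0, nat_lit 1, nat_lit 0, nat_lit 1, nat_lit 1, nat_lit 0, nat_lit 0, nat_lit 1],
  [nat_lit 1, nat_lit 1, nat_lit 1, nat_lit 1, nat_lit 0, nat_lit 0, nat_lit 0, nat_lit 1]] (nat_lit 2)) i = 0 :=
  (rng_step (all0 _) qL6W_0)
theorem qL6el : mA.El qL6 qL6P :=
  el_of_pad (in_pool qL6in0 qL6W)
theorem qL6s0 : Suf mA qL6 qL6P 0 :=
  suf0 qL6el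
theorem qL60yY : ∀ i < 759, (chkY can0 (brow (nat_lit 112)) qL60y (nat_lit 759)) i = 0 :=
  allB (rngB_step (allB0 _ _) qL60yY_0) (by decide)
theorem qL60yD : Dist (fun i => pvA (pt (brow (nat_lit 112)) qL60y i)) 759 :=
  dist_of_chk (canT2 φA) qL60yY
theorem qL60RO : ∀ i < 759, (chkO (img2 (nat_lit 112) (shf qL6P (nat_lit 0))) (brow (nat_lit 112)) qL60y qL60Ra (nat_lit 759) [nat_lit 493]) i = 0 :=
  allB (rngB_step (allB0 _ _) qL60RO_0) (by decide)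
theorem qL60R : Reach qL6 (fun i => pvA (pt (brow (nat_lit 112)) qL60y i)) 759 [nat_lit 493] :=
  reach_of_chk ((acts2 (m := mA) φA hA (shf qL6P (nat_lit 0))).ex qL6s0.el) qL60RO
theorem qL60X : ∀ i < 2, (chkFx (img2 (nat_lit 112) qL6P) (brow (nat_lit 112)) qL60y (nat_lit 493) [nat_lit 0, nat_lit 0] (nat_lit 2)) i = 0 :=
  (rng_step (all0 _) qL60X_0)
theorem qL6s1 : Suf mA qL6K1 qL6P 2 :=
  qL6s0.step (by decide) (by decide) (acts2 (m := mA) φA hA qL6P) qL60X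
theorem qL61yY : ∀ i < 8, (chkY can0 (brow (nat_lit 112)) qL61y (nat_lit 8)) i = 0 :=
  allB (rngB_step (allB0 _ _) qL61yY_0) (by decide)
theorem qL61yD : Dist (fun i => pvA (pt (brow (nat_lit 112)) qL61y i)) 8 :=
  dist_of_chk (canT2 φA) qL61yY
theorem qL61RO : ∀ i < 8, (chkO (img2 (nat_lit 112) (shf qL6P (nat_lit 2))) (brow (nat_lit 112)) qL61y qL61Ra (nat_lit 8) [nat_lit 0]) i = 0 :=
  allB (rngB_step (allB0 _ _) qL61RO_0) (by decide)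
theorem qL61R : Reach qL6K1 (fun i => pvA (pt (brow (nat_lit 112)) qL61y i)) 8 [nat_lit 0] :=
  reach_of_chk ((acts2 (m := mA) φA hA (shf qL6P (nat_lit 2))).ex qL6s1.el) qL61RO
theorem qL61X : ∀ i < 0, (chkFx (img2 (nat_lit 112) qL6P) (brow (nat_lit 112)) qL61y (nat_lit 0) [] (nat_lit 4)) i = 0 :=
  (all0 _)
theorem qL6s2 : Suf mA qL6K2 qL6P 4 :=
  qL6s1.step (by decide) (by decide) (acts2 (m := mA) φA hA qL6P) qL61X
theorem qL6lb2 : 1 ≤ Nat.card qL6K2 :=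
  one_le_card _
theorem qL6lb1 : 8 ≤ Nat.card qL6K1 :=
  le_of_eq_of_le (by norm_num) (card_ge qL61yD qL61R qL6lb2)
theorem qL6lb0 : 6072 ≤ Nat.card qL6 :=
  le_of_eq_of_le (by norm_num) (card_ge qL60yD qL60R qL6lb1)
theorem qex : MulAction.orbit H (pvA (pt (brow (nat_lit 112)) Y (nat_lit 5188))) = (fun i => pvA (pt (brow (nat_lit 112)) Y i)) '' {i | i < 15180} ∧ H ⊓ MulAction.stabilizer GA (pvA (pt (brow (nat_lit 112)) Y (nat_lit 5188))) = qL1K1 ∧ Nat.card H = 15180 * 33030144 ∧ Nat.card qL1K1 = 33030144 :=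
  orbit_eq_of_card YD (qRH.sub fun r hr => ⟨1, one_mem _, by rw [List.mem_singleton.1 hr, one_smul]⟩)
    (inf_le_inf inf_le_left (congrArg (fun z => MulAction.stabilizer GA (pvA z)) qhx).le) qL1lb1 (c0ub.trans (by norm_num))
theorem qhK : H ⊓ MulAction.stabilizer GA (pvA (pt (brow (nat_lit 112)) Y (nat_lit 5188))) ≤ Lf (MonoidHom.id GA) H (mA.elt (qD 1))⁻¹ :=
  qtinv.symm ▸ (qex.2.1.le.trans inf_le_left)
theorem qBk : ∀ i < 64, (chkB (img2 (nat_lit 112) (cel1 (mul2 (nat_lit 112)) qL1P (nat_lit 5) qL1P)) (brow (nat_lit 112)) Y (nat_lit 5188) qB [nat_lit 30, nat_lit 30, nat_lit 30, nat_lit 30, nat_lit 30, nat_lit 30, nat_lit 30, nat_lit 30, nat_lit 30, nat_lit 30, nat_lit 30, nat_lit 30, nat_lit 30, nat_lit 30, nat_lit 30, nat_lit 30, nat_lit 30, nat_lit 30, nat_lit 30, nat_lit 30, nat_lit 30, nat_lit 30, nat_lit 30, nat_lit 30, nat_lit 30, nat_lit 30, nat_lit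 30, nat_lit 30, nat_lit 30, nat_lit 30, nat_lit 30, nat_lit 30, nat_lit 30, nat_lit 30, nat_lit 30, nat_lit 30, nat_lit 30, nat_lit 30, nat_lit 30, nat_lit 30, nat_lit 30, nat_lit 30, nat_lit 30, nat_lit 30, nat_lit 30, nat_lit 30, nat_lit 30, nat_lit 30, nat_lit 30, nat_lit 30, nat_lit 30, nat_lit 30, nat_lit 30, nat_lit 30, nat_lit 30, nat_lit 30, nat_lit 30, nat_lit 30, nat_lit 30, nat_lit 30, nat_lit 30, nat_lit 30, nat_lit 30, nat_lit 30] [nat_lit 0, nat_lit 0, nat_lit 0, nat_lit 0, nat_lit 0, nat_lit 0, nat_lit 0, nat_lit 0, nat_lit 0, nat_lit 0, nat_lit 0, nat_lit 0, nat_lit 0, nat_lit 0, nat_lit 0, nat_lit 0, nat_lit 0, nat_lit 0, nat_lit 0, nat_lit 0, nat_lit 0, nat_lit 0, nat_lit 0, nat_lit 0, nat_lit 0, nat_lit 0, nat_lit 0, nat_lit 0, nat_lit 0, nat_lit 0, nat_lit 0, nat_lit 0, nat_lit 0, nat_lit 0, nat_lit 0, nat_lit 0, nat_lit 0, nat_lit 0, nat_lit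 0, nat_lit 0, nat_lit 0, nat_lit 0, nat_lit 0, nat_lit 0, nat_lit 0, nat_lit 0, nat_lit 0, nat_lit 0, nat_lit 0, nat_lit 0, nat_lit 0, nat_lit 0, nat_lit 0, nat_lit 0, nat_lit 0, nat_lit 0, nat_lit 0, nat_lit 0, nat_lit 0, nat_lit 0, nat_lit 0, nat_lit 0, nat_lit 0, nat_lit 0]) i = 0 :=
  (rng_step (all0 _) qBk_0)
theorem qhB : Rows (Lf (MonoidHom.id GA) H (mA.elt (qD 1))⁻¹) pvA (brow (nat_lit 112)) qB (pvA (pt (brow (nat_lit 112)) Y (nat_lit 5188))) :=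
  qtinv.symm ▸ rows_of_chkB (acts2 (m := mA) φA hA (cel1 (mul2 (nat_lit 112)) qL1P (nat_lit 5) qL1P)) (el_cel1 qL1el qL1el _) qBk
theorem qR1I : ∀ i < 7, (chkD1 (mul2 (nat_lit 112)) qD ce0 qR1w (nat_lit 1) (nat_lit 7)) i = 0 :=
  (rng_step (all0 _) qR1I_0)
theorem qR1O : ∀ i < 15180, (chkR (img2 (nat_lit 112) qL1P) (img2 (nat_lit 112) ce0) (brow (nat_lit 112)) Y qR1a (nat_lit 15180) qB qR1w (nat_lit 7)) i = 0 :=
  allB (rngB_step (rngB_step (allB0 _ _) qR1O_0) qR1O_1) (by decide)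
theorem qR1 : ∀ h ∈ (Subgroup.map (MonoidHom.id GA) H), ∃ j < 7, DCos (Subgroup.map (MonoidHom.id GA) H) (mA.elt (qD j)) ((mA.elt (qD 1)) * h * (mA.elt (qD 1))) :=
  dc_row (pr_id mA) qelD c0el qex.1.le qhK qhB (acts2 (m := mA) φA hA qL1P) qL1el (acts2 (m := mA) φA hA ce0) qR1O qR1I
theorem qR2I : ∀ i < 6, (chkD1 (mul2 (nat_lit 112)) qD ce0 qR2w (nat_lit 2) (nat_lit 7)) i = 0 :=
  (rng_step (all0 _) qR2I_0)
theorem qR2O : ∀ i < 15180, (chkR (img2 (nat_lit 112) qL2P) (img2 (nat_lit 112) ce0) (brow (nat_lit 112)) Y qR2a (nat_lit 15180) qB qR2w (nat_lit 6)) i = 0 :=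
  allB (rngB_step (rngB_step (allB0 _ _) qR2O_0) qR2O_1) (by decide)
theorem qR2 : ∀ h ∈ (Subgroup.map (MonoidHom.id GA) H), ∃ j < 7, DCos (Subgroup.map (MonoidHom.id GA) H) (mA.elt (qD j)) ((mA.elt (qD 2)) * h * (mA.elt (qD 1))) :=
  dc_row (pr_id mA) qelD c0el qex.1.le qhK qhB (acts2 (m := mA) φA hA qL2P) qL2el (acts2 (m := mA) φA hA ce0) qR2O qR2I
theorem qR3I : ∀ i < 17, (chkD1 (mul2 (nat_lit 112)) qD ce0 qR3w (nat_lit 3) (nat_lit 7)) i = 0 :=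
  (rng_step (all0 _) qR3I_0)
theorem qR3O : ∀ i < 15180, (chkR (img2 (nat_lit 112) qL3P) (img2 (nat_lit 112) ce0) (brow (nat_lit 112)) Y qR3a (nat_lit 15180) qB qR3w (nat_lit 17)) i = 0 :=
  allB (rngB_step (allB0 _ _) qR3O_0) (by decide)
theorem qR3 : ∀ h ∈ (Subgroup.map (MonoidHom.id GA) H), ∃ j < 7, DCos (Subgroup.map (MonoidHom.id GA) H) (mA.elt (qD j)) ((mA.elt (qD 3)) * h * (mA.elt (qD 1))) :=
  dc_row (pr_id mA) qelD c0el qex.1.le qhK qhB (acts2 (m := mA) φA hA qL3P) qL3el (acts2 (m := mA) φA hA ce0) qR3O qR3I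
theorem qR4I : ∀ i < 19, (chkD1 (mul2 (nat_lit 112)) qD ce0 qR4w (nat_lit 4) (nat_lit 7)) i = 0 :=
  (rng_step (all0 _) qR4I_0)
theorem qR4O : ∀ i < 15180, (chkR (img2 (nat_lit 112) qL4P) (img2 (nat_lit 112) ce0) (brow (nat_lit 112)) Y qR4a (nat_lit 15180) qB qR4w (nat_lit 19)) i = 0 :=
  allB (rngB_step (allB0 _ _) qR4O_0) (by decide)
theorem qR4 : ∀ h ∈ (Subgroup.map (MonoidHom.id GA) H), ∃ j < 7, DCos (Subgroup.map (MonoidHom.id GA) H) (mA.elt (qD j)) ((mA.elt (qD 4)) * h * (mA.elt (qD 1))) :=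
  dc_row (pr_id mA) qelD c0el qex.1.le qhK qhB (acts2 (m := mA) φA hA qL4P) qL4el (acts2 (m := mA) φA hA ce0) qR4O qR4I
theorem qR5I : ∀ i < 23, (chkD1 (mul2 (nat_lit 112)) qD ce0 qR5w (nat_lit 5) (nat_lit 7)) i = 0 :=
  (rng_step (all0 _) qR5I_0)
theorem qR5O : ∀ i < 15180, (chkR (img2 (nat_lit 112) qL5P) (img2 (nat_lit 112) ce0) (brow (nat_lit 112)) Y qR5a (nat_lit 15180) qB qR5w (nat_lit 23)) i = 0 :=
  allB (rngB_step (allB0 _ _) qR5O_0) (by decide)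
theorem qR5 : ∀ h ∈ (Subgroup.map (MonoidHom.id GA) H), ∃ j < 7, DCos (Subgroup.map (MonoidHom.id GA) H) (mA.elt (qD j)) ((mA.elt (qD 5)) * h * (mA.elt (qD 1))) :=
  dc_row (pr_id mA) qelD c0el qex.1.le qhK qhB (acts2 (m := mA) φA hA qL5P) qL5el (acts2 (m := mA) φA hA ce0) qR5O qR5I
theorem qR6I : ∀ i < 13, (chkD1 (mul2 (nat_lit 112)) qD ce0 qR6w (nat_lit 6) (nat_lit 7)) i = 0 :=
  (rng_step (all0 _) qR6I_0)
theorem qR6O : ∀ i < 15180, (chkR (img2 (nat_lit 112) qL6P) (img2 (nat_lit 112) ce0) (brow (nat_lit 112)) Y qR6a (nat_lit 15180) qB qR6w (nat_lit 13)) i = 0 :=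
  allB (rngB_step (allB0 _ _) qR6O_0) (by decide)
theorem qR6 : ∀ h ∈ (Subgroup.map (MonoidHom.id GA) H), ∃ j < 7, DCos (Subgroup.map (MonoidHom.id GA) H) (mA.elt (qD j)) ((mA.elt (qD 6)) * h * (mA.elt (qD 1))) :=
  dc_row (pr_id mA) qelD c0el qex.1.le qhK qhB (acts2 (m := mA) φA hA qL6P) qL6el (acts2 (m := mA) φA hA ce0) qR6O qR6I
theorem qcov : ∀ g ∈ qG, ∃ i < 7, DCos (Subgroup.map (MonoidHom.id GA) H) (mA.elt (qD i)) g :=
  dc_cover (d := fun i => mA.elt (qD i)) (by decide) qd0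
    (all_succ (all_succ (all_succ (all_succ (all_succ (all_succ (all_succ all_nil (dc_row0 (by decide) qd0)) qR1) qR2) qR3) qR4) qR5) qR6)
theorem qhBs : ∀ i < 7, getN [nat_lit 501397585920, nat_lit 33030144, nat_lit 17694720, nat_lit 147456, nat_lit 15360, nat_lit 9216, nat_lit 6072] i ≤ Nat.card (Lf (MonoidHom.id GA) H (mA.elt (qD i))) :=
  (all_succ (all_succ (all_succ (all_succ (all_succ (all_succ (all_succ all_nil (by rw [qd0, Lf_one, qex.2.2.1]; decide)) qL1lb0) qL2lb0) qL3lb0) qL4lb0) qL5lb0) qL6lb0)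
theorem qub : Nat.card qG ≤ Nat.card (Subgroup.map (MonoidHom.id GA) H) * 173067389 :=
  (dc_ub qcov c0ub (getN [nat_lit 501397585920, nat_lit 33030144, nat_lit 17694720, nat_lit 147456, nat_lit 15360, nat_lit 9216, nat_lit 6072]) (getN [nat_lit 1, nat_lit 15180, nat_lit 28336, nat_lit 3400320, nat_lit 32643072, nat_lit 54405120, nat_lit 82575360]) qhBs (by decide +kernel)).trans_eq (congrArg _ (by decide +kernel))
theorem qM1 : ∀ N : Subgroup GA, (Subgroup.map (MonoidHom.id GA) H) ≤ N → (mA.elt (qD 1)) ∈ N → (mA.elt (qD 1)) ∈ N :=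
  fun _ _ h => h
theorem qM2 : ∀ N : Subgroup GA, (Subgroup.map (MonoidHom.id GA) H) ≤ N → (mA.elt (qD 2)) ∈ N → (mA.elt (qD 1)) ∈ N :=
  fun N hN h => let ⟨_, ha, _, hb, _, hc, _, e⟩ := eq_of_chkD qelD ((pr_id mA).el c0el) (add_eq_zero' (qR2I 3 (by decide))).1; (mem3 hN ha hb hc e).2 h h
theorem qM3 : ∀ N : Subgroup GA, (Subgroup.map (MonoidHom.id GA) H) ≤ N → (mA.elt (qD 3)) ∈ N → (mA.elt (qD 1)) ∈ N :=
  fun N hN h => let ⟨_, ha, _, hb, _, hc, _, e⟩ := eq_of_chkD qelD ((pr_id mA).el c0el) (add_eq_zero' (qR3I 5 (by decide))).1; (mem3 hN ha hb hc e).2 h h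
theorem qM4 : ∀ N : Subgroup GA, (Subgroup.map (MonoidHom.id GA) H) ≤ N → (mA.elt (qD 4)) ∈ N → (mA.elt (qD 1)) ∈ N :=
  fun N hN h => let ⟨_, ha, _, hb, _, hc, _, e⟩ := eq_of_chkD qelD ((pr_id mA).el c0el) (add_eq_zero' (qR4I 4 (by decide))).1; (mem3 hN ha hb hc e).2 h h
theorem qM5 : ∀ N : Subgroup GA, (Subgroup.map (MonoidHom.id GA) H) ≤ N → (mA.elt (qD 5)) ∈ N → (mA.elt (qD 1)) ∈ N :=
  fun N hN h => let ⟨_, ha, _, hb, _, hc, _, e⟩ := eq_of_chkD qelD ((pr_id mA).el c0el) (add_eq_zero' (qR5I 1 (by decide))).1; (mem3 hN ha hb hc e).2 h h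
theorem qM6 : ∀ N : Subgroup GA, (Subgroup.map (MonoidHom.id GA) H) ≤ N → (mA.elt (qD 6)) ∈ N → (mA.elt (qD 1)) ∈ N :=
  fun N hN h => let ⟨_, ha, _, hb, _, hc, _, e⟩ := eq_of_chkD qelD ((pr_id mA).el c0el) (add_eq_zero' (qR6I 0 (by decide))).1; (mem3 hN ha hb hc e).2 h h
theorem qmax : ∀ N : Subgroup GA, (Subgroup.map (MonoidHom.id GA) H) ≤ N → N ≤ qG → N = (Subgroup.map (MonoidHom.id GA) H) ∨ N = qG :=
  dc_max (d := fun i => mA.elt (qD i)) qd0 le_rfl qcov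
    (all_succ (all_succ (all_succ (all_succ (all_succ (all_succ (all_succ all_nil (fun h => absurd h (by decide))) (fun _ => qM1)) (fun _ => qM2)) (fun _ => qM3)) (fun _ => qM4)) (fun _ => qM5)) (fun _ => qM6))
theorem qG0 : (mA.elt (qD 0)) ∈ qG :=
  qd0 ▸ one_mem _
theorem qG1 : (mA.elt (qD 1)) ∈ qG :=
  mem_sup_right (mem_zpowers _)
theorem qG4 : (mA.elt (qD 4)) ∈ qG :=
  let ⟨_, ha, _, hb, _, hc, _, e⟩ := eq_of_chkD qelD ((pr_id mA).el c0el) (add_eq_zero' (qR1I 0 (by decide))).1; (mem3 le_sup_left ha hb hc e).1 qG1 qG1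
theorem qG3 : (mA.elt (qD 3)) ∈ qG :=
  let ⟨_, ha, _, hb, _, hc, _, e⟩ := eq_of_chkD qelD ((pr_id mA).el c0el) (add_eq_zero' (qR1I 1 (by decide))).1; (mem3 le_sup_left ha hb hc e).1 qG1 qG1
theorem qG2 : (mA.elt (qD 2)) ∈ qG :=
  let ⟨_, ha, _, hb, _, hc, _, e⟩ := eq_of_chkD qelD ((pr_id mA).el c0el) (add_eq_zero' (qR1I 4 (by decide))).1; (mem3 le_sup_left ha hb hc e).1 qG1 qG1
theorem qG6 : (mA.elt (qD 6)) ∈ qG :=
  let ⟨_, ha, _, hb, _, hc, _, e⟩ := eq_of_chkD qelD ((pr_id mA).el c0el) (add_eq_zero' (qR4I 0 (by decide))).1; (mem3 le_sup_left ha hb hc e).1 qG4 qG1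
theorem qG5 : (mA.elt (qD 5)) ∈ qG :=
  let ⟨_, ha, _, hb, _, hc, _, e⟩ := eq_of_chkD qelD ((pr_id mA).el c0el) (add_eq_zero' (qR4I 2 (by decide))).1; (mem3 le_sup_left ha hb hc e).1 qG4 qG1
theorem qelG : mA.El qG qD :=
  el_of_pad (in_of_elt qelD (all_succ (all_succ (all_succ (all_succ (all_succ (all_succ (all_succ all_nil qG0) qG1) qG2) qG3) qG4) qG5) qG6))
theorem G_eg : mA.El qG Gg :=
  El.cons1 ⟨_, mem_sup_right (mem_zpowers _), (qelD 1).elt⟩ (((pr_id mA).el H_eg).mono le_sup_left)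
theorem G_gn : qG ≤ mA.gn Gg 3 :=
  sup_le_gn le_rfl (G_eg.mono le_top)
theorem qel : mA.El qG qe :=
  el_del1 qelG (((pr_id mA).el c0el).mono le_sup_left) _ _
theorem PE : ∀ i < 3, (chkE Pg qe [nat_lit 42737919690080644619044126, nat_lit 28077368120696, nat_lit 35559575729344930431923260]) i = 0 :=
  (rng_step (all0 _) PE_0)
theorem PG : ∀ s < 3, mA.In qG (Pg s) :=
  in_of_chkE qel PE
theorem P_top : ∀ s < 3, mA.In ⊤ (Pg s) :=
  fun s hs => (PG s hs).top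
theorem P_in : ∀ s < 3, mA.In P (Pg s) :=
  in_gn P_top
theorem P_eg : mA.El P Pg :=
  el_gn P_top
theorem PC : ∀ i < 9, (chkPC (mul2 (nat_lit 112)) (one2 (nat_lit 112)) Pg [[],
  [],
  [],
  [nat_lit 0],
  [],
  [],
  [nat_lit 0],
  [nat_lit 0, nat_lit 1],
  []] (nat_lit 3) (nat_lit 11)) i = 0 :=
  (rng_step (all0 _) PC_0)
theorem PZY : ∀ i < 1331, (chkY can0 (brow (nat_lit 112)) PZ (nat_lit 1331)) i = 0 :=
  allB (rngB_step (allB0 _ _) PZY_0) (by decide)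
theorem PZD : Dist (fun i => pvA (pt (brow (nat_lit 112)) PZ i)) 1331 :=
  dist_of_chk (canT2 φA) PZY
theorem PRO : ∀ i < 1331, (chkO (img2 (nat_lit 112) Pg) (brow (nat_lit 112)) PZ PRa (nat_lit 1331) [nat_lit 0]) i = 0 :=
  allB (rngB_step (allB0 _ _) PRO_0) (by decide)
theorem PR : Reach P (fun i => pvA (pt (brow (nat_lit 112)) PZ i)) 1331 [nat_lit 0] :=
  reach_of_chk ((acts2 (m := mA) φA hA Pg).ex P_eg) PRO
theorem d11 : 11 ^ (2 + 1) ∣ Nat.card qG :=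
  pow_dvd_of_pgroup (by norm_num) (pgroup_of_chkPC (p := 11) (e := 1) P_top PC) (gn_le PG)
    (card_ge PZD PR (one_le_card _)) (by norm_num)
theorem GP : ∀ i < 3, (chkPW (mul2 (nat_lit 112)) (one2 (nat_lit 112)) Gg [[nat_lit 2, nat_lit 1, nat_lit 2, nat_lit 0, nat_lit 1, nat_lit 2],
  [nat_lit 2, nat_lit 0, nat_lit 2, nat_lit 1, nat_lit 2, nat_lit 0, nat_lit 1],
  [nat_lit 0, nat_lit 0, nat_lit 1, nat_lit 1, nat_lit 2, nat_lit 2, nat_lit 1, nat_lit 2, nat_lit 0, nat_lit 2, nat_lit 0]] Gg GPy (nat_lit 31)) i = 0 :=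
  (rng_step (all0 _) GP_0)
theorem crO : ∀ i < 112, (chkO (img2 (nat_lit 112) Gg) (brow (nat_lit 112)) cry cra (nat_lit 112) [nat_lit 55]) i = 0 :=
  allB (rngB_step (allB0 _ _) crO_0) (by decide)
theorem crR : Reach qG (fun i => pvA (pt (brow (nat_lit 112)) cry i)) 112 [nat_lit 55] :=
  reach_of_chk ((acts2 (m := mA) φA hA Gg).ex G_eg) crO
theorem crV : ∀ i < 112, (chkV (brow (nat_lit 112)) cry (nat_lit 112) (crm 0)) i = 0 :=
  (rng_step (all0 _) crV_0)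
theorem crF : ∀ i < 2, (chkF (img2 (nat_lit 112) Hg) (brow (nat_lit 112)) cry (nat_lit 55) []) i = 0 :=
  (rng_step (all0 _) crF_0)
theorem cr : ∀ N : Subgroup GA, Nm qG N → N ≤ H → N ≤ ⊥ :=
  core_vec2 φA Units.val_injective crAB crV crR (gn_le_stab (acts2 (m := mA) φA hA Hg) crF)

theorem cardH : Nat.card H = 501397585920 := qex.2.2.1.trans (by norm_num)

theorem arith {n : ℕ} (h0 : 0 < n) (h1 : 501397585920 ∣ n) (h2 : 11 ^ (2 + 1) ∣ n) (h3 : 29 ∣ n)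
    (h4 : 31 ∣ n) (h5 : 37 ∣ n) (h6 : 43 ∣ n) (h : n ≤ 501397585920 * 173067389) :
    n = 86775571046077562880 := by
  have a1 : 45581598720 ∣ n := dvd_trans (by norm_num) h1
  have a2 := Nat.Coprime.mul_dvd_of_dvd_of_dvd (by norm_num) a1 h2
  have a3 := Nat.Coprime.mul_dvd_of_dvd_of_dvd (by norm_num) a2 h3
  have a4 := Nat.Coprime.mul_dvd_of_dvd_of_dvd (by norm_num) a3 h4
  have a5 := Nat.Coprime.mul_dvd_of_dvd_of_dvd (by norm_num) a4 h5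
  have a6 := Nat.Coprime.mul_dvd_of_dvd_of_dvd (by norm_num) a5 h6
  exact eq_of_dvd_of_le h0 (by simpa using a6) (by simpa using h)

theorem HG : H ≤ qG := (le_map_id H).trans le_sup_left

theorem cardG : Nat.card qG = 86775571046077562880 :=
  arith Nat.card_pos (cardH ▸ card_dvd_of_le HG) d11 (dvd_of_chkQW keyA G_eg (by norm_num) Q29)
    (dvd_of_chkQW keyA G_eg (by norm_num) Q31) (dvd_of_chkQW keyA G_eg (by norm_num) Q37)
    (dvd_of_chkQW keyA G_eg (by norm_num) Q43) (qub.trans (by rw [card_map_id, cardH]))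

theorem simpleG : IsSimpleGroup qG :=
  simple_rel (by rw [cardG]; norm_num) (dich_rel le_sup_left 31 (by rw [card_map_id, cardH]; norm_num) qmax
    (fun N hN h => cr N hN (h.trans (map_id_le H)))
    fun N _ h => G_gn.trans (gn_le (in_of_chkPW h G_eg (fun s _ => G_eg s) GP)))

end Cfsg.Agent.H4.J4
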