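import Cfsg.Agent.H4.J5F

set_option autoImplicit false
set_option maxRecDepth 100000
set_option Elab.async false

namespace Cfsg.Agent.H4.J4

open Subgroup Cfsg.Agent.H5 Cfsg.Agent.H5.Mdl 

theorem FI_0 : rng FIf (nat_lit 0) (nat_lit 551) = 0 := by decide +kernel
theorem FI_3 : rng FIf (nat_lit 1653) (nat_lit 395) = 0 := by decide +kernel
theorem CO_4 : rng COf (nat_lit 1156) (nat_lit 289) = 0 := by decide +kernel
theorem ES_0 : rng ESf (nat_lit 0) (nat_lit 144) = 0 := by decide +kernel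
theorem m0S_0 : rng m0Sf (nat_lit 0) (nat_lit 77) = 0 := by decide +kernel
theorem lW_0 : rng lWf (nat_lit 0) (nat_lit 44) = 0 := by decide +kernel
theorem nQJ_0 : rng nQJf (nat_lit 0) (nat_lit 36) = 0 := by decide +kernel
theorem nNJ_0 : rng nNJf (nat_lit 0) (nat_lit 21) = 0 := by decide +kernel
theorem CW1_0 : rng CW1f (nat_lit 0) (nat_lit 7) = 0 := by decide +kernel
theorem l0X_0 : rng l0Xf (nat_lit 0) (nat_lit 44) = 0 := by decide +kernel
theorem l1X_0 : rng l1Xf (nat_lit 0) (nat_lit 41) = 0 := by decide +kernel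
theorem l2X_0 : rng l2Xf (nat_lit 0) (nat_lit 37) = 0 := by decide +kernel
theorem m0T0 : mT0 0 = (one2 (nat_lit 112)) := by decide +kernel
theorem m3T0 : mT3 0 = (one2 (nat_lit 112)) := by decide +kernel
theorem m6T0 : mT6 0 = (one2 (nat_lit 112)) := by decide +kernel
theorem C1Xs : Nat.xor (sc 0) (C1g 2) = 0 := by decide +kernel
theorem C0c0T0 : C0cT0 0 = (one2 (nat_lit 112)) := by decide +kernel
theorem corex3 : pt (brow (nat_lit 112)) x3y (nat_lit 1) = pt (brow (nat_lit 112)) x0y (nat_lit 39) := by decide +kernel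
theorem m6G_0 : rng m6Gf (nat_lit 0) (nat_lit 7) = 0 := by decide +kernel
theorem m7G_0 : rng m7Gf (nat_lit 0) (nat_lit 6) = 0 := by decide +kernel
theorem wQE_0 : rng wQEf (nat_lit 0) (nat_lit 12) = 0 := by decide +kernel
theorem l5X_0 : rng l5Xf (nat_lit 0) (nat_lit 16) = 0 := by decide +kernel
theorem mxRO_0 : rngB mxROf (nat_lit 77) (nat_lit 0) (nat_lit 2) = 0 := by decide +kernel
theorem mxE_0 : rng mxEf (nat_lit 0) (nat_lit 2) = 0 := by decide +kernel
theorem BY1_0 : rng BY1f (nat_lit 0) (nat_lit 10) = 0 := by decide +kernel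
theorem BY4_0 : rng BY4f (nat_lit 0) (nat_lit 10) = 0 := by decide +kernel
theorem m3G_0 : rng m3Gf (nat_lit 0) (nat_lit 3) = 0 := by decide +kernel
theorem m0G_0 : rng m0Gf (nat_lit 0) (nat_lit 2) = 0 := by decide +kernel
theorem x4F_0 : rng x4Ff (nat_lit 0) (nat_lit 7) = 0 := by decide +kernel
theorem l0RO_0 : rngB l0ROf (nat_lit 30) (nat_lit 0) (nat_lit 1) = 0 := by decide +kernel
theorem l5RO_0 : rngB l5ROf (nat_lit 2) (nat_lit 0) (nat_lit 1) = 0 := by decide +kernel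
theorem l10RO_0 : rngB l10ROf (nat_lit 2) (nat_lit 0) (nat_lit 1) = 0 := by decide +kernel
theorem x3RO_0 : rngB x3ROf (nat_lit 3) (nat_lit 0) (nat_lit 1) = 0 := by decide +kernel
theorem l8RO_0 : rngB l8ROf (nat_lit 2) (nat_lit 0) (nat_lit 1) = 0 := by decide +kernel
theorem x0yY_0 : rngB x0yYf (nat_lit 77) (nat_lit 0) (nat_lit 2) = 0 := by decide +kernel
theorem x3F_0 : rng x3Ff (nat_lit 0) (nat_lit 3) = 0 := by decide +kernel
theorem l3yY_0 : rngB l3yYf (nat_lit 2) (nat_lit 0) (nat_lit 1) = 0 := by decide +kernel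
theorem l6yY_0 : rngB l6yYf (nat_lit 2) (nat_lit 0) (nat_lit 1) = 0 := by decide +kernel
theorem l9yY_0 : rngB l9yYf (nat_lit 2) (nat_lit 0) (nat_lit 1) = 0 := by decide +kernel
theorem x2yY_0 : rngB x2yYf (nat_lit 15) (nat_lit 0) (nat_lit 1) = 0 := by decide +kernel
theorem zq : chkQ (mul2 (nat_lit 112)) (one2 (nat_lit 112)) kA (zc 0) 2 = 0 := by decide +kernel
theorem x0F_0 : rng x0Ff (nat_lit 0) (nat_lit 2) = 0 := by decide +kernel
theorem zQE_0 : rng zQEf (nat_lit 0) (nat_lit 1) = 0 := by decide +kernel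
theorem mxM0 : chkM (img2 (nat_lit 112) mxg0) (brow (nat_lit 112)) x0y (nat_lit 31) x0y [nat_lit 19] [nat_lit 0] 0 = 0 := by decide +kernel

end Cfsg.Agent.H4.J4
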