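import Cfsg.Agent.H4.J5F

set_option autoImplicit false
set_option maxRecDepth 100000
set_option Elab.async false

namespace Cfsg.Agent.H4.J4

open Subgroup Cfsg.Agent.H5 Cfsg.Agent.H5.Mdl 

theorem FI_1 : rng FIf (nat_lit 551) (nat_lit 551) = 0 := by decide +kernel
theorem CO_0 : rng COf (nat_lit 0) (nat_lit 289) = 0 := by decide +kernel
theorem CO_2 : rng COf (nat_lit 578) (nat_lit 289) = 0 := by decide +kernel
theorem CO_5 : rng COf (nat_lit 1445) (nat_lit 289) = 0 := by decide +kernel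
theorem m8S_0 : rng m8Sf (nat_lit 0) (nat_lit 64) = 0 := by decide +kernel
theorem CO_6 : rng COf (nat_lit 1734) (nat_lit 37) = 0 := by decide +kernel
theorem m2S_0 : rng m2Sf (nat_lit 0) (nat_lit 15) = 0 := by decide +kernel
theorem m4S_0 : rng m4Sf (nat_lit 0) (nat_lit 8) = 0 := by decide +kernel
theorem PP_0 : rng PPf (nat_lit 0) (nat_lit 55) = 0 := by decide +kernel
theorem m5G_0 : rng m5Gf (nat_lit 0) (nat_lit 12) = 0 := by decide +kernel
theorem C1c0S_0 : rng C1c0Sf (nat_lit 0) (nat_lit 2) = 0 := by decide +kernel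
theorem l3X_0 : rng l3Xf (nat_lit 0) (nat_lit 29) = 0 := by decide +kernel
theorem m2T0 : mT2 0 = (one2 (nat_lit 112)) := by decide +kernel
theorem m5T0 : mT5 0 = (one2 (nat_lit 112)) := by decide +kernel
theorem m8T0 : mT8 0 = (one2 (nat_lit 112)) := by decide +kernel
theorem C0Xs : Nat.xor (sc 0) (C0g 2) = 0 := by decide +kernel
theorem corex2 : pt (brow (nat_lit 112)) x2y (nat_lit 5) = pt (brow (nat_lit 112)) x0y (nat_lit 21) := by decide +kernel
theorem m7S_0 : rng m7Sf (nat_lit 0) (nat_lit 2) = 0 := by decide +kernel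
theorem M11_0 : rng M11f (nat_lit 0) (nat_lit 2) = 0 := by decide +kernel
theorem m3S_0 : rng m3Sf (nat_lit 0) (nat_lit 3) = 0 := by decide +kernel
theorem KHE_0 : rng KHEf (nat_lit 0) (nat_lit 2) = 0 := by decide +kernel
theorem l2RO_0 : rngB l2ROf (nat_lit 96) (nat_lit 0) (nat_lit 2) = 0 := by decide +kernel
theorem mxR1O_0 : rngB mxR1Of (nat_lit 77) (nat_lit 0) (nat_lit 2) = 0 := by decide +kernel
theorem l6X_0 : rng l6Xf (nat_lit 0) (nat_lit 11) = 0 := by decide +kernel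
theorem BY3_0 : rng BY3f (nat_lit 0) (nat_lit 10) = 0 := by decide +kernel
theorem BY6_0 : rng BY6f (nat_lit 0) (nat_lit 10) = 0 := by decide +kernel
theorem C1E_0 : rng C1Ef (nat_lit 0) (nat_lit 3) = 0 := by decide +kernel
theorem l7X_0 : rng l7Xf (nat_lit 0) (nat_lit 7) = 0 := by decide +kernel
theorem m1G_0 : rng m1Gf (nat_lit 0) (nat_lit 2) = 0 := by decide +kernel
theorem l4RO_0 : rngB l4ROf (nat_lit 2) (nat_lit 0) (nat_lit 1) = 0 := by decide +kernel
theorem l9RO_0 : rngB l9ROf (nat_lit 2) (nat_lit 0) (nat_lit 1) = 0 := by decide +kernel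
theorem x2RO_0 : rngB x2ROf (nat_lit 15) (nat_lit 0) (nat_lit 1) = 0 := by decide +kernel
theorem C0X_0 : rng C0Xf (nat_lit 0) (nat_lit 2) = 0 := by decide +kernel
theorem m2G_0 : rng m2Gf (nat_lit 0) (nat_lit 2) = 0 := by decide +kernel
theorem l8X_0 : rng l8Xf (nat_lit 0) (nat_lit 4) = 0 := by decide +kernel
theorem C1F_0 : rng C1Ff (nat_lit 0) (nat_lit 3) = 0 := by decide +kernel
theorem l4yY_0 : rngB l4yYf (nat_lit 2) (nat_lit 0) (nat_lit 1) = 0 := by decide +kernel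
theorem l7yY_0 : rngB l7yYf (nat_lit 2) (nat_lit 0) (nat_lit 1) = 0 := by decide +kernel
theorem l10yY_0 : rngB l10yYf (nat_lit 2) (nat_lit 0) (nat_lit 1) = 0 := by decide +kernel
theorem x3yY_0 : rngB x3yYf (nat_lit 3) (nat_lit 0) (nat_lit 1) = 0 := by decide +kernel
theorem l9X_0 : rng l9Xf (nat_lit 0) (nat_lit 2) = 0 := by decide +kernel
theorem x2F_0 : rng x2Ff (nat_lit 0) (nat_lit 2) = 0 := by decide +kernel
theorem mxM1 : chkM (img2 (nat_lit 112) mxg1) (brow (nat_lit 112)) x0y (nat_lit 31) x0y [nat_lit 68] [nat_lit 0] 0 = 0 := by decide +kernel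

end Cfsg.Agent.H4.J4
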