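import Cfsg.Agent.H4.J5F

set_option autoImplicit false
set_option maxRecDepth 100000
set_option Elab.async false

namespace Cfsg.Agent.H4.J4

open Subgroup Cfsg.Agent.H5 Cfsg.Agent.H5.Mdl 

theorem FI_2 : rng FIf (nat_lit 1102) (nat_lit 551) = 0 := by decide +kernel
theorem CO_1 : rng COf (nat_lit 289) (nat_lit 289) = 0 := by decide +kernel
theorem CO_3 : rng COf (nat_lit 867) (nat_lit 289) = 0 := by decide +kernel
theorem m6S_0 : rng m6Sf (nat_lit 0) (nat_lit 45) = 0 := by decide +kernel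
theorem m6S_1 : rng m6Sf (nat_lit 45) (nat_lit 19) = 0 := by decide +kernel
theorem m1S_0 : rng m1Sf (nat_lit 0) (nat_lit 16) = 0 := by decide +kernel
theorem nEJ_0 : rng nEJf (nat_lit 0) (nat_lit 22) = 0 := by decide +kernel
theorem m5S_0 : rng m5Sf (nat_lit 0) (nat_lit 3) = 0 := by decide +kernel
theorem C0c0S_0 : rng C0c0Sf (nat_lit 0) (nat_lit 2) = 0 := by decide +kernel
theorem l1RO_0 : rngB l1ROf (nat_lit 384) (nat_lit 0) (nat_lit 6) = 0 := by decide +kernel
theorem MGE_0 : rng MGEf (nat_lit 0) (nat_lit 2) = 0 := by decide +kernel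
theorem m1T0 : mT1 0 = (one2 (nat_lit 112)) := by decide +kernel
theorem m4T0 : mT4 0 = (one2 (nat_lit 112)) := by decide +kernel
theorem m7T0 : mT7 0 = (one2 (nat_lit 112)) := by decide +kernel
theorem C1c0T0 : C1cT0 0 = (one2 (nat_lit 112)) := by decide +kernel
theorem corex1 : pt (brow (nat_lit 112)) x1y (nat_lit 15) = pt (brow (nat_lit 112)) x0y (nat_lit 72) := by decide +kernel
theorem corex4 : pt (brow (nat_lit 112)) x4y (nat_lit 0) = pt (brow (nat_lit 112)) x0y (nat_lit 23) := by decide +kernel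
theorem m4G_0 : rng m4Gf (nat_lit 0) (nat_lit 7) = 0 := by decide +kernel
theorem l4X_0 : rng l4Xf (nat_lit 0) (nat_lit 22) = 0 := by decide +kernel
theorem DCE_0 : rng DCEf (nat_lit 0) (nat_lit 2) = 0 := by decide +kernel
theorem l1yY_0 : rngB l1yYf (nat_lit 384) (nat_lit 0) (nat_lit 6) = 0 := by decide +kernel
theorem x0RO_0 : rngB x0ROf (nat_lit 77) (nat_lit 0) (nat_lit 2) = 0 := by decide +kernel
theorem mxR0O_0 : rngB mxR0Of (nat_lit 77) (nat_lit 0) (nat_lit 2) = 0 := by decide +kernel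
theorem BY2_0 : rng BY2f (nat_lit 0) (nat_lit 10) = 0 := by decide +kernel
theorem BY5_0 : rng BY5f (nat_lit 0) (nat_lit 10) = 0 := by decide +kernel
theorem sHE_0 : rng sHEf (nat_lit 0) (nat_lit 1) = 0 := by decide +kernel
theorem x4RO_0 : rngB x4ROf (nat_lit 8) (nat_lit 0) (nat_lit 1) = 0 := by decide +kernel
theorem C0J_0 : rng C0Jf (nat_lit 0) (nat_lit 3) = 0 := by decide +kernel
theorem l3RO_0 : rngB l3ROf (nat_lit 2) (nat_lit 0) (nat_lit 1) = 0 := by decide +kernel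
theorem l6RO_0 : rngB l6ROf (nat_lit 2) (nat_lit 0) (nat_lit 1) = 0 := by decide +kernel
theorem x1RO_0 : rngB x1ROf (nat_lit 16) (nat_lit 0) (nat_lit 1) = 0 := by decide +kernel
theorem C1X_0 : rng C1Xf (nat_lit 0) (nat_lit 2) = 0 := by decide +kernel
theorem l7RO_0 : rngB l7ROf (nat_lit 2) (nat_lit 0) (nat_lit 1) = 0 := by decide +kernel
theorem l2yY_0 : rngB l2yYf (nat_lit 96) (nat_lit 0) (nat_lit 2) = 0 := by decide +kernel
theorem CW2_0 : rng CW2f (nat_lit 0) (nat_lit 1) = 0 := by decide +kernel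
theorem l0yY_0 : rngB l0yYf (nat_lit 30) (nat_lit 0) (nat_lit 1) = 0 := by decide +kernel
theorem l5yY_0 : rngB l5yYf (nat_lit 2) (nat_lit 0) (nat_lit 1) = 0 := by decide +kernel
theorem l8yY_0 : rngB l8yYf (nat_lit 2) (nat_lit 0) (nat_lit 1) = 0 := by decide +kernel
theorem x1yY_0 : rngB x1yYf (nat_lit 16) (nat_lit 0) (nat_lit 1) = 0 := by decide +kernel
theorem x4yY_0 : rngB x4yYf (nat_lit 8) (nat_lit 0) (nat_lit 1) = 0 := by decide +kernel
theorem x1F_0 : rng x1Ff (nat_lit 0) (nat_lit 2) = 0 := by decide +kernel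
theorem zE : ce7 (tz (nat_lit 1657)) = zc 0 := by decide +kernel

end Cfsg.Agent.H4.J4
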