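import Cfsg.Agent.H4.J5D0

set_option autoImplicit false
set_option maxRecDepth 100000

namespace Cfsg.Agent.H4.J4

open Subgroup Cfsg.Agent.H5 Cfsg.Agent.H5.Mdl 

noncomputable abbrev M : Subgroup GA := mA.gn Mg 2
noncomputable def MGEf : ℕ → ℕ := chkE Mg qe [nat_lit 25087035419142331001784401, nat_lit 132169118575520308573923649]
noncomputable abbrev mK1 : Subgroup GA := mA.gn mK1g 2
noncomputable abbrev mK2 : Subgroup GA := mA.gn mK2g 2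
noncomputable abbrev mK3 : Subgroup GA := mA.gn mK3g 2
noncomputable abbrev mK4 : Subgroup GA := mA.gn mK4g 3
noncomputable abbrev mK5 : Subgroup GA := mA.gn mK5g 7
noncomputable abbrev mK6 : Subgroup GA := mA.gn mK6g 12
noncomputable abbrev mK7 : Subgroup GA := mA.gn mK7g 7
noncomputable abbrev mK8 : Subgroup GA := mA.gn mK8g 6
noncomputable def me8 : ℕ → ℕ := cel1 (mul2 (nat_lit 112)) mT8 (nat_lit 6) (fun _ => (one2 (nat_lit 112)))
noncomputable def me7 : ℕ → ℕ := cel1 (mul2 (nat_lit 112)) mT7 (nat_lit 1) me8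
noncomputable def me6 : ℕ → ℕ := cel1 (mul2 (nat_lit 112)) mT6 (nat_lit 6) me7
noncomputable def me5 : ℕ → ℕ := cel1 (mul2 (nat_lit 112)) mT5 (nat_lit 2) me6
noncomputable def me4 : ℕ → ℕ := cel1 (mul2 (nat_lit 112)) mT4 (nat_lit 3) me5
noncomputable def me3 : ℕ → ℕ := cel1 (mul2 (nat_lit 112)) mT3 (nat_lit 2) me4
noncomputable def me2 : ℕ → ℕ := cel1 (mul2 (nat_lit 112)) mT2 (nat_lit 4) me3
noncomputable def me1 : ℕ → ℕ := cel1 (mul2 (nat_lit 112)) mT1 (nat_lit 4) me2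
noncomputable def me0 : ℕ → ℕ := cel1 (mul2 (nat_lit 112)) mT0 (nat_lit 7) me1
noncomputable def m0Sf : ℕ → ℕ := chkS2 (mul2 (nat_lit 112)) Mg (nat_lit 2) mT0 me1 m0c (nat_lit 7) (nat_lit 77)
noncomputable def m0Gf : ℕ → ℕ := chkG (mul2 (nat_lit 112)) Mg mT0 mK1g [[nat_lit 36, nat_lit 55, nat_lit 0, nat_lit 1],
  [nat_lit 63, nat_lit 26, nat_lit 1, nat_lit 0, nat_lit 1]]
noncomputable def m1Sf : ℕ → ℕ := chkS2 (mul2 (nat_lit 112)) mK1g (nat_lit 2) mT1 me2 m1c (nat_lit 4) (nat_lit 16)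
noncomputable def m1Gf : ℕ → ℕ := chkG (mul2 (nat_lit 112)) mK1g mT1 mK2g [[nat_lit 5, nat_lit 0, nat_lit 1, nat_lit 1, nat_lit 1],
  [nat_lit 11, nat_lit 9, nat_lit 1]]
noncomputable def m2Sf : ℕ → ℕ := chkS2 (mul2 (nat_lit 112)) mK2g (nat_lit 2) mT2 me3 m2c (nat_lit 4) (nat_lit 15)
noncomputable def m2Gf : ℕ → ℕ := chkG (mul2 (nat_lit 112)) mK2g mT2 mK3g [[nat_lit 12, nat_lit 11, nat_lit 0],
  [nat_lit 0, nat_lit 5, nat_lit 1, nat_lit 0]]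
noncomputable def m3Sf : ℕ → ℕ := chkS2 (mul2 (nat_lit 112)) mK3g (nat_lit 2) mT3 me4 m3c (nat_lit 2) (nat_lit 3)
noncomputable def m3Gf : ℕ → ℕ := chkG (mul2 (nat_lit 112)) mK3g mT3 mK4g [[nat_lit 0, nat_lit 1, nat_lit 1, nat_lit 1],
  [nat_lit 0, nat_lit 0, nat_lit 0],
  [nat_lit 1, nat_lit 2, nat_lit 1, nat_lit 1]]
noncomputable def m4Sf : ℕ → ℕ := chkS2 (mul2 (nat_lit 112)) mK4g (nat_lit 3) mT4 me5 m4c (nat_lit 3) (nat_lit 8)
noncomputable def m4Gf : ℕ → ℕ := chkG (mul2 (nat_lit 112)) mK4g mT4 mK5g [[nat_lit 4, nat_lit 7, nat_lit 2, nat_lit 0],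
  [nat_lit 3, nat_lit 5, nat_lit 2, nat_lit 1],
  [nat_lit 5, nat_lit 2, nat_lit 0, nat_lit 2],
  [nat_lit 6, nat_lit 3, nat_lit 2, nat_lit 1, nat_lit 2],
  [nat_lit 5, nat_lit 7, nat_lit 1, nat_lit 1, nat_lit 1],
  [nat_lit 2, nat_lit 0, nat_lit 0, nat_lit 2],
  [nat_lit 6, nat_lit 5, nat_lit 2]]
noncomputable def m5Sf : ℕ → ℕ := chkS2 (mul2 (nat_lit 112)) mK5g (nat_lit 7) mT5 me6 m5c (nat_lit 2) (nat_lit 3)
noncomputable def m5Gf : ℕ → ℕ := chkG (mul2 (nat_lit 112)) mK5g mT5 mK6g [[nat_lit 0, nat_lit 2, nat_lit 4, nat_lit 1],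
  [nat_lit 0, nat_lit 1, nat_lit 3, nat_lit 6, nat_lit 4],
  [nat_lit 0, nat_lit 2, nat_lit 4, nat_lit 0],
  [nat_lit 2, nat_lit 2, nat_lit 2, nat_lit 5],
  [nat_lit 1, nat_lit 1, nat_lit 5],
  [nat_lit 2, nat_lit 2, nat_lit 3, nat_lit 0, nat_lit 0],
  [nat_lit 1, nat_lit 1, nat_lit 1],
  [nat_lit 2, nat_lit 2, nat_lit 0, nat_lit 3, nat_lit 1],
  [nat_lit 0, nat_lit 2, nat_lit 0, nat_lit 6, nat_lit 0],
  [nat_lit 2, nat_lit 1, nat_lit 2, nat_lit 4],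
  [nat_lit 2, nat_lit 1, nat_lit 6, nat_lit 1, nat_lit 3],
  [nat_lit 0, nat_lit 0, nat_lit 2]]
noncomputable def m6Sf : ℕ → ℕ := chkS2 (mul2 (nat_lit 112)) mK6g (nat_lit 12) mT6 me7 m6c (nat_lit 6) (nat_lit 64)
noncomputable def m6Gf : ℕ → ℕ := chkG (mul2 (nat_lit 112)) mK6g mT6 mK7g [[nat_lit 18, nat_lit 50, nat_lit 0, nat_lit 7, nat_lit 9],
  [nat_lit 58, nat_lit 62, nat_lit 0, nat_lit 7],
  [nat_lit 25, nat_lit 15, nat_lit 5, nat_lit 3],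
  [nat_lit 53, nat_lit 32, nat_lit 8, nat_lit 4],
  [nat_lit 23, nat_lit 15, nat_lit 11, nat_lit 7, nat_lit 1],
  [nat_lit 9, nat_lit 48, nat_lit 9, nat_lit 2, nat_lit 7],
  [nat_lit 55, nat_lit 60, nat_lit 3, nat_lit 0]]
noncomputable def m7Sf : ℕ → ℕ := chkS2 (mul2 (nat_lit 112)) mK7g (nat_lit 7) mT7 me8 m7c (nat_lit 1) (nat_lit 2)
noncomputable def m7Gf : ℕ → ℕ := chkG (mul2 (nat_lit 112)) mK7g mT7 mK8g [[nat_lit 0, nat_lit 1, nat_lit 4, nat_lit 6, nat_lit 5],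
  [nat_lit 1, nat_lit 1, nat_lit 4, nat_lit 3, nat_lit 2],
  [nat_lit 1, nat_lit 0, nat_lit 4, nat_lit 6, nat_lit 3],
  [nat_lit 1, nat_lit 1, nat_lit 1, nat_lit 3],
  [nat_lit 0, nat_lit 0, nat_lit 5],
  [nat_lit 1, nat_lit 0, nat_lit 4]]
noncomputable def m8Sf : ℕ → ℕ := chkS2 (mul2 (nat_lit 112)) mK8g (nat_lit 6) mT8 (fun _ => (one2 (nat_lit 112))) m8c (nat_lit 6) (nat_lit 64)
noncomputable def sHEf : ℕ → ℕ := chkE sc ce0 [nat_lit 80872029218]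
noncomputable abbrev C1 : Subgroup GA := mA.gn C1g 3
noncomputable def C1Xf : ℕ → ℕ := fun s => Nat.xor (mK1g s) (C1g s)
noncomputable def C1ce0 : ℕ → ℕ := cel1 (mul2 (nat_lit 112)) C1cT0 (nat_lit 1) me1
noncomputable def C1c0Sf : ℕ → ℕ := chkS2 (mul2 (nat_lit 112)) C1g (nat_lit 3) C1cT0 me1 C1c0c (nat_lit 1) (nat_lit 2)
noncomputable abbrev C0 : Subgroup GA := mA.gn C0g 3
noncomputable def C0Xf : ℕ → ℕ := fun s => Nat.xor (Mg s) (C0g s)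
noncomputable def C0ce0 : ℕ → ℕ := cel1 (mul2 (nat_lit 112)) C0cT0 (nat_lit 1) me0
noncomputable def C0c0Sf : ℕ → ℕ := chkS2 (mul2 (nat_lit 112)) C0g (nat_lit 3) C0cT0 me0 C0c0c (nat_lit 1) (nat_lit 2)
noncomputable def KHEf : ℕ → ℕ := chkE mK1g ce0 [nat_lit 365583487107, nat_lit 1234242254155]
noncomputable def C1Ef : ℕ → ℕ := fun s => Nat.xor (C1g s) (lP s)
noncomputable def lWf : ℕ → ℕ := chkPl (mul2 (nat_lit 112)) lP [[nat_lit 1, nat_lit 0, nat_lit 0, nat_lit 2, nat_lit 0, nat_lit 1],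
  [nat_lit 1, nat_lit 2, nat_lit 0],
  [nat_lit 2, nat_lit 2, nat_lit 0, nat_lit 0, nat_lit 0, nat_lit 1],
  [nat_lit 3, nat_lit 4, nat_lit 3, nat_lit 3, nat_lit 3, nat_lit 5, nat_lit 4, nat_lit 3],
  [nat_lit 3, nat_lit 5, nat_lit 5, nat_lit 5, nat_lit 3, nat_lit 3, nat_lit 5, nat_lit 3],
  [nat_lit 3, nat_lit 3, nat_lit 3, nat_lit 4, nat_lit 3, nat_lit 4, nat_lit 3, nat_lit 4, nat_lit 3, nat_lit 3],
  [nat_lit 3, nat_lit 5, nat_lit 4, nat_lit 3, nat_lit 3, nat_lit 4, nat_lit 5, nat_lit 4],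
  [nat_lit 9, nat_lit 6, nat_lit 6, nat_lit 7, nat_lit 9, nat_lit 6, nat_lit 9, nat_lit 9, nat_lit 6, nat_lit 9, nat_lit 6, nat_lit 9, nat_lit 9, nat_lit 9, nat_lit 9, nat_lit 6, nat_lit 9, nat_lit 9, nat_lit 9],
  [nat_lit 6, nat_lit 6, nat_lit 6, nat_lit 9, nat_lit 9, nat_lit 6, nat_lit 9, nat_lit 9, nat_lit 9, nat_lit 6, nat_lit 6, nat_lit 6, nat_lit 9, nat_lit 6, nat_lit 6, nat_lit 6, nat_lit 9, nat_lit 9, nat_lit 6, nat_lit 6, nat_lit 9, nat_lit 8, nat_lit 9, nat_lit 6, nat_lit 6, nat_lit 9, nat_lit 9],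
  [nat_lit 9, nat_lit 9, nat_lit 9, nat_lit 9, nat_lit 9, nat_lit 9],
  [nat_lit 7, nat_lit 7, nat_lit 9, nat_lit 9, nat_lit 6, nat_lit 6, nat_lit 8, nat_lit 6, nat_lit 9, nat_lit 9, nat_lit 6, nat_lit 6, nat_lit 6, nat_lit 9, nat_lit 9, nat_lit 9, nat_lit 8, nat_lit 9, nat_lit 9, nat_lit 9],
  [nat_lit 6, nat_lit 9, nat_lit 6, nat_lit 6, nat_lit 6, nat_lit 6, nat_lit 6, nat_lit 9, nat_lit 8],
  [nat_lit 6, nat_lit 6, nat_lit 6, nat_lit 9, nat_lit 6, nat_lit 9, nat_lit 6, nat_lit 6],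
  [nat_lit 6, nat_lit 6, nat_lit 9, nat_lit 9, nat_lit 9, nat_lit 6, nat_lit 9, nat_lit 7, nat_lit 9, nat_lit 9, nat_lit 6],
  [nat_lit 9, nat_lit 6, nat_lit 9, nat_lit 6, nat_lit 6, nat_lit 8, nat_lit 6, nat_lit 6, nat_lit 6, nat_lit 9, nat_lit 6, nat_lit 9, nat_lit 7, nat_lit 6, nat_lit 8],
  [nat_lit 14],
  [nat_lit 10, nat_lit 10, nat_lit 11, nat_lit 10],
  [nat_lit 13, nat_lit 10],
  [nat_lit 11, nat_lit 10, nat_lit 12, nat_lit 10, nat_lit 10],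
  [nat_lit 10, nat_lit 17, nat_lit 10],
  [nat_lit 10, nat_lit 10, nat_lit 16],
  [nat_lit 15, nat_lit 10, nat_lit 10, nat_lit 10],
  [nat_lit 19, nat_lit 21, nat_lit 23],
  [nat_lit 21, nat_lit 22],
  [nat_lit 21, nat_lit 21, nat_lit 20],
  [nat_lit 22, nat_lit 21, nat_lit 18, nat_lit 21, nat_lit 21],
  [nat_lit 24, nat_lit 21],
  [nat_lit 21, nat_lit 24, nat_lit 21, nat_lit 21, nat_lit 19],
  [nat_lit 30, nat_lit 28],
  [nat_lit 26, nat_lit 28],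
  [nat_lit 27, nat_lit 30, nat_lit 27, nat_lit 25],
  [nat_lit 29, nat_lit 27, nat_lit 25, nat_lit 27],
  [nat_lit 27, nat_lit 27, nat_lit 28],
  [nat_lit 34, nat_lit 32],
  [nat_lit 34, nat_lit 32, nat_lit 33, nat_lit 32],
  [nat_lit 32, nat_lit 34, nat_lit 32, nat_lit 32, nat_lit 31],
  [nat_lit 32, nat_lit 32, nat_lit 33, nat_lit 35],
  [nat_lit 38, nat_lit 36, nat_lit 36],
  [nat_lit 36, nat_lit 37, nat_lit 36, nat_lit 36, nat_lit 39],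
  [nat_lit 36, nat_lit 39, nat_lit 36],
  [nat_lit 40, nat_lit 41, nat_lit 40, nat_lit 42],
  [nat_lit 40, nat_lit 41, nat_lit 40],
  [nat_lit 44, nat_lit 43, nat_lit 44],
  [nat_lit 44, nat_lit 43, nat_lit 44]] (nat_lit 3)
noncomputable def l0yYf : ℕ → ℕ := chkY can0 (brow (nat_lit 112)) l0y (nat_lit 30)
noncomputable def l0ROf : ℕ → ℕ := chkO (img2 (nat_lit 112) (shf lP (nat_lit 0))) (brow (nat_lit 112)) l0y l0Ra (nat_lit 30) [nat_lit 12]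
noncomputable def l0Xf : ℕ → ℕ := chkFx (img2 (nat_lit 112) lP) (brow (nat_lit 112)) l0y (nat_lit 12) [nat_lit 0, nat_lit 0, nat_lit 0, nat_lit 0, nat_lit 0, nat_lit 0, nat_lit 0, nat_lit 0, nat_lit 0, nat_lit 0, nat_lit 0, nat_lit 0, nat_lit 0, nat_lit 0, nat_lit 0, nat_lit 0, nat_lit 0, nat_lit 0, nat_lit 0, nat_lit 0, nat_lit 0, nat_lit 0, nat_lit 0, nat_lit 0, nat_lit 0, nat_lit 0, nat_lit 0, nat_lit 0, nat_lit 0, nat_lit 0, nat_lit 0, nat_lit 0, nat_lit 0, nat_lit 0, nat_lit 0, nat_lit 0, nat_lit 0, nat_lit 0, nat_lit 0, nat_lit 0, nat_lit 0, nat_lit 0, nat_lit 0, nat_lit 0] (nat_lit 3)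
noncomputable abbrev lK1 : Subgroup GA := C1 ⊓ MulAction.stabilizer GA (pvA (pt (brow (nat_lit 112)) l0y (nat_lit 12)))
noncomputable def l1yYf : ℕ → ℕ := chkY can0 (brow (nat_lit 112)) l1y (nat_lit 384)
noncomputable def l1ROf : ℕ → ℕ := chkO (img2 (nat_lit 112) (shf lP (nat_lit 3))) (brow (nat_lit 112)) l1y l1Ra (nat_lit 384) [nat_lit 250]
noncomputable def l1Xf : ℕ → ℕ := chkFx (img2 (nat_lit 112) lP) (brow (nat_lit 112)) l1y (nat_lit 250) [nat_lit 0, nat_lit 0, nat_lit 0, nat_lit 0, nat_lit 0, nat_lit 0, nat_lit 0, nat_lit 0, nat_lit 0, nat_lit 0, nat_lit 0, nat_lit 0, nat_lit 0, nat_lit 0, nat_lit 0, nat_lit 0, nat_lit 0, nat_lit 0, nat_lit 0, nat_lit 0, nat_lit 0, nat_lit 0, nat_lit 0, nat_lit 0, nat_lit 0, nat_lit 0, nat_lit 0, nat_lit 0, nat_lit 0, nat_lit 0, nat_lit 0, nat_lit 0, nat_lit 0, nat_lit 0, nat_lit 0, nat_lit 0, nat_lit 0, nat_lit 0, nat_lit 0, nat_lit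 0, nat_lit 0] (nat_lit 6)
noncomputable abbrev lK2 : Subgroup GA := lK1 ⊓ MulAction.stabilizer GA (pvA (pt (brow (nat_lit 112)) l1y (nat_lit 250)))
noncomputable def l2yYf : ℕ → ℕ := chkY can0 (brow (nat_lit 112)) l2y (nat_lit 96)
noncomputable def l2ROf : ℕ → ℕ := chkO (img2 (nat_lit 112) (shf lP (nat_lit 6))) (brow (nat_lit 112)) l2y l2Ra (nat_lit 96) [nat_lit 45]
noncomputable def l2Xf : ℕ → ℕ := chkFx (img2 (nat_lit 112) lP) (brow (nat_lit 112)) l2y (nat_lit 45) [nat_lit 0, nat_lit 0, nat_lit 0, nat_lit 0, nat_lit 0, nat_lit 0, nat_lit 0, nat_lit 0, nat_lit 0, nat_lit 0, nat_lit 0, nat_lit 0, nat_lit 0, nat_lit 0, nat_lit 0, nat_lit 0, nat_lit 0, nat_lit 0, nat_lit 0, nat_lit 0, nat_lit 0, nat_lit 0, nat_lit 0, nat_lit 0, nat_lit 0, nat_lit 0, nat_lit 0, nat_lit 0, nat_lit 0, nat_lit 0, nat_lit 0, nat_lit 0, nat_lit 0, nat_lit 0, nat_lit 0, nat_lit 0, nat_lit 0] (nat_lit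 10)
noncomputable abbrev lK3 : Subgroup GA := lK2 ⊓ MulAction.stabilizer GA (pvA (pt (brow (nat_lit 112)) l2y (nat_lit 45)))
noncomputable def l3yYf : ℕ → ℕ := chkY can0 (brow (nat_lit 112)) l3y (nat_lit 2)
noncomputable def l3ROf : ℕ → ℕ := chkO (img2 (nat_lit 112) (shf lP (nat_lit 10))) (brow (nat_lit 112)) l3y l3Ra (nat_lit 2) [nat_lit 1]
noncomputable def l3Xf : ℕ → ℕ := chkFx (img2 (nat_lit 112) lP) (brow (nat_lit 112)) l3y (nat_lit 1) [nat_lit 0, nat_lit 0, nat_lit 0, nat_lit 0, nat_lit 0, nat_lit 0, nat_lit 0, nat_lit 0, nat_lit 0, nat_lit 0, nat_lit 0, nat_lit 0, nat_lit 0, nat_lit 0, nat_lit 0, nat_lit 0, nat_lit 0, nat_lit 0, nat_lit 0, nat_lit 0, nat_lit 0, nat_lit 0, nat_lit 0, nat_lit 0, nat_lit 0, nat_lit 0, nat_lit 0, nat_lit 0, nat_lit 0] (nat_lit 18)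
noncomputable abbrev lK4 : Subgroup GA := lK3 ⊓ MulAction.stabilizer GA (pvA (pt (brow (nat_lit 112)) l3y (nat_lit 1)))
noncomputable def l4yYf : ℕ → ℕ := chkY can0 (brow (nat_lit 112)) l4y (nat_lit 2)
noncomputable def l4ROf : ℕ → ℕ := chkO (img2 (nat_lit 112) (shf lP (nat_lit 18))) (brow (nat_lit 112)) l4y l4Ra (nat_lit 2) [nat_lit 0]
noncomputable def l4Xf : ℕ → ℕ := chkFx (img2 (nat_lit 112) lP) (brow (nat_lit 112)) l4y (nat_lit 0) [nat_lit 0, nat_lit 0, nat_lit 0, nat_lit 0, nat_lit 0, nat_lit 0, nat_lit 0, nat_lit 0, nat_lit 0, nat_lit 0, nat_lit 0, nat_lit 0, nat_lit 0, nat_lit 0, nat_lit 0, nat_lit 0, nat_lit 0, nat_lit 0, nat_lit 0, nat_lit 0, nat_lit 0, nat_lit 0] (nat_lit 25)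
noncomputable abbrev lK5 : Subgroup GA := lK4 ⊓ MulAction.stabilizer GA (pvA (pt (brow (nat_lit 112)) l4y (nat_lit 0)))
noncomputable def l5yYf : ℕ → ℕ := chkY can0 (brow (nat_lit 112)) l5y (nat_lit 2)
noncomputable def l5ROf : ℕ → ℕ := chkO (img2 (nat_lit 112) (shf lP (nat_lit 25))) (brow (nat_lit 112)) l5y l5Ra (nat_lit 2) [nat_lit 1]
noncomputable def l5Xf : ℕ → ℕ := chkFx (img2 (nat_lit 112) lP) (brow (nat_lit 112)) l5y (nat_lit 1) [nat_lit 0, nat_lit 0, nat_lit 0, nat_lit 0, nat_lit 0, nat_lit 0, nat_lit 0, nat_lit 0, nat_lit 0, nat_lit 0, nat_lit 0, nat_lit 0, nat_lit 0, nat_lit 0, nat_lit 0, nat_lit 0] (nat_lit 31)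
noncomputable abbrev lK6 : Subgroup GA := lK5 ⊓ MulAction.stabilizer GA (pvA (pt (brow (nat_lit 112)) l5y (nat_lit 1)))
noncomputable def l6yYf : ℕ → ℕ := chkY can0 (brow (nat_lit 112)) l6y (nat_lit 2)
noncomputable def l6ROf : ℕ → ℕ := chkO (img2 (nat_lit 112) (shf lP (nat_lit 31))) (brow (nat_lit 112)) l6y l6Ra (nat_lit 2) [nat_lit 0]
noncomputable def l6Xf : ℕ → ℕ := chkFx (img2 (nat_lit 112) lP) (brow (nat_lit 112)) l6y (nat_lit 0) [nat_lit 0, nat_lit 0, nat_lit 0, nat_lit 0, nat_lit 0, nat_lit 0, nat_lit 0, nat_lit 0, nat_lit 0, nat_lit 0, nat_lit 0] (nat_lit 36)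
noncomputable abbrev lK7 : Subgroup GA := lK6 ⊓ MulAction.stabilizer GA (pvA (pt (brow (nat_lit 112)) l6y (nat_lit 0)))
noncomputable def l7yYf : ℕ → ℕ := chkY can0 (brow (nat_lit 112)) l7y (nat_lit 2)
noncomputable def l7ROf : ℕ → ℕ := chkO (img2 (nat_lit 112) (shf lP (nat_lit 36))) (brow (nat_lit 112)) l7y l7Ra (nat_lit 2) [nat_lit 1]
noncomputable def l7Xf : ℕ → ℕ := chkFx (img2 (nat_lit 112) lP) (brow (nat_lit 112)) l7y (nat_lit 1) [nat_lit 0, nat_lit 0, nat_lit 0, nat_lit 0, nat_lit 0, nat_lit 0, nat_lit 0] (nat_lit 40)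
noncomputable abbrev lK8 : Subgroup GA := lK7 ⊓ MulAction.stabilizer GA (pvA (pt (brow (nat_lit 112)) l7y (nat_lit 1)))
noncomputable def l8yYf : ℕ → ℕ := chkY can0 (brow (nat_lit 112)) l8y (nat_lit 2)
noncomputable def l8ROf : ℕ → ℕ := chkO (img2 (nat_lit 112) (shf lP (nat_lit 40))) (brow (nat_lit 112)) l8y l8Ra (nat_lit 2) [nat_lit 1]
noncomputable def l8Xf : ℕ → ℕ := chkFx (img2 (nat_lit 112) lP) (brow (nat_lit 112)) l8y (nat_lit 1) [nat_lit 0, nat_lit 0, nat_lit 0, nat_lit 0] (nat_lit 43)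
noncomputable abbrev lK9 : Subgroup GA := lK8 ⊓ MulAction.stabilizer GA (pvA (pt (brow (nat_lit 112)) l8y (nat_lit 1)))
noncomputable def l9yYf : ℕ → ℕ := chkY can0 (brow (nat_lit 112)) l9y (nat_lit 2)
noncomputable def l9ROf : ℕ → ℕ := chkO (img2 (nat_lit 112) (shf lP (nat_lit 43))) (brow (nat_lit 112)) l9y l9Ra (nat_lit 2) [nat_lit 0]
noncomputable def l9Xf : ℕ → ℕ := chkFx (img2 (nat_lit 112) lP) (brow (nat_lit 112)) l9y (nat_lit 0) [nat_lit 0, nat_lit 0] (nat_lit 45)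
noncomputable abbrev lK10 : Subgroup GA := lK9 ⊓ MulAction.stabilizer GA (pvA (pt (brow (nat_lit 112)) l9y (nat_lit 0)))
noncomputable def l10yYf : ℕ → ℕ := chkY can0 (brow (nat_lit 112)) l10y (nat_lit 2)
noncomputable def l10ROf : ℕ → ℕ := chkO (img2 (nat_lit 112) (shf lP (nat_lit 45))) (brow (nat_lit 112)) l10y l10Ra (nat_lit 2) [nat_lit 0]
noncomputable def l10Xf : ℕ → ℕ := chkFx (img2 (nat_lit 112) lP) (brow (nat_lit 112)) l10y (nat_lit 0) [] (nat_lit 47)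
noncomputable abbrev lK11 : Subgroup GA := lK10 ⊓ MulAction.stabilizer GA (pvA (pt (brow (nat_lit 112)) l10y (nat_lit 0)))
noncomputable def x0yYf : ℕ → ℕ := chkY can0 (brow (nat_lit 112)) x0y (nat_lit 77)
noncomputable def x0ROf : ℕ → ℕ := chkO (img2 (nat_lit 112) Mg) (brow (nat_lit 112)) x0y x0Ra (nat_lit 77) [nat_lit 31]
noncomputable def x0Ff : ℕ → ℕ := chkF (img2 (nat_lit 112) mK1g) (brow (nat_lit 112)) x0y (nat_lit 31) [nat_lit 0, nat_lit 0]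
noncomputable def x1yYf : ℕ → ℕ := chkY can0 (brow (nat_lit 112)) x1y (nat_lit 16)
noncomputable def x1ROf : ℕ → ℕ := chkO (img2 (nat_lit 112) mK1g) (brow (nat_lit 112)) x1y x1Ra (nat_lit 16) [nat_lit 15]
noncomputable def x1Ff : ℕ → ℕ := chkF (img2 (nat_lit 112) mK2g) (brow (nat_lit 112)) x1y (nat_lit 15) [nat_lit 0, nat_lit 0]
noncomputable def x2yYf : ℕ → ℕ := chkY can0 (brow (nat_lit 112)) x2y (nat_lit 15)
noncomputable def x2ROf : ℕ → ℕ := chkO (img2 (nat_lit 112) mK2g) (brow (nat_lit 112)) x2y x2Ra (nat_lit 15) [nat_lit 5]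
noncomputable def x2Ff : ℕ → ℕ := chkF (img2 (nat_lit 112) mK3g) (brow (nat_lit 112)) x2y (nat_lit 5) [nat_lit 0, nat_lit 0]
noncomputable def x3yYf : ℕ → ℕ := chkY can0 (brow (nat_lit 112)) x3y (nat_lit 3)
noncomputable def x3ROf : ℕ → ℕ := chkO (img2 (nat_lit 112) mK3g) (brow (nat_lit 112)) x3y x3Ra (nat_lit 3) [nat_lit 1]
noncomputable def x3Ff : ℕ → ℕ := chkF (img2 (nat_lit 112) mK4g) (brow (nat_lit 112)) x3y (nat_lit 1) [nat_lit 0, nat_lit 0, nat_lit 0]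
noncomputable def x4yYf : ℕ → ℕ := chkY can0 (brow (nat_lit 112)) x4y (nat_lit 8)
noncomputable def x4ROf : ℕ → ℕ := chkO (img2 (nat_lit 112) mK4g) (brow (nat_lit 112)) x4y x4Ra (nat_lit 8) [nat_lit 0]
noncomputable def x4Ff : ℕ → ℕ := chkF (img2 (nat_lit 112) mK5g) (brow (nat_lit 112)) x4y (nat_lit 0) [nat_lit 0, nat_lit 0, nat_lit 0, nat_lit 0, nat_lit 0, nat_lit 0, nat_lit 0]
noncomputable def mxROf : ℕ → ℕ := chkO (img2 (nat_lit 112) mK1g) (brow (nat_lit 112)) x0y mxRa (nat_lit 77) [nat_lit 31, nat_lit 19, nat_lit 68]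
noncomputable def mxEf : ℕ → ℕ := chkE mxt me0 [nat_lit 28639244038, nat_lit 15604278665]
noncomputable abbrev mxg1 : ℕ → ℕ := cons1 (mxt 1) mK1g
noncomputable def mxR1Of : ℕ → ℕ := chkO (img2 (nat_lit 112) mxg1) (brow (nat_lit 112)) x0y mxR1a (nat_lit 77) [nat_lit 31]
noncomputable abbrev mxg0 : ℕ → ℕ := cons1 (mxt 0) mK1g
noncomputable def mxR0Of : ℕ → ℕ := chkO (img2 (nat_lit 112) mxg0) (brow (nat_lit 112)) x0y mxR0a (nat_lit 77) [nat_lit 31]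
noncomputable def C1Ff : ℕ → ℕ := chkF (img2 (nat_lit 112) C1g) (brow (nat_lit 112)) x0y (nat_lit 31) []
noncomputable def M11f : ℕ → ℕ := fun s => Nat.xor (pw (mul2 (nat_lit 112)) (one2 (nat_lit 112)) (Mg s) 11) (one2 (nat_lit 112))
noncomputable def nQa : List ℕ := [nat_lit 8175, nat_lit 1236, nat_lit 3219, nat_lit 3442, nat_lit 491, nat_lit 3702, nat_lit 2666, nat_lit 824, nat_lit 2157, nat_lit 7314, nat_lit 7487, nat_lit 5738, nat_lit 267, nat_lit 6693, nat_lit 7843, nat_lit 5816, nat_lit 1399, nat_lit 6943, nat_lit 6443, nat_lit 5585, nat_lit 170, nat_lit 7263, nat_lit 7412, nat_lit 6765, nat_lit 758, nat_lit 1591, nat_lit 7677, nat_lit 4608, nat_lit 7680, nat_lit 4982, nat_lit 754, nat_lit 6029, nat_lit 6548, nat_lit 7424, nat_lit 976, nat_lit 2624]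
noncomputable def nQJf : ℕ → ℕ := chkNm (mul2 (nat_lit 112)) C0g mK6g me6 (nat_lit 12) nQa
noncomputable def nNa : List ℕ := [nat_lit 12876, nat_lit 32700, nat_lit 22952, nat_lit 16156, nat_lit 15686, nat_lit 5676, nat_lit 9098, nat_lit 31372, nat_lit 1068, nat_lit 27060, nat_lit 23952, nat_lit 27586, nat_lit 14492, nat_lit 15038, nat_lit 30708, nat_lit 3032, nat_lit 10496, nat_lit 14024, nat_lit 22129, nat_lit 6144, nat_lit 31229]
noncomputable def nNJf : ℕ → ℕ := chkNm (mul2 (nat_lit 112)) C0g mK5g me5 (nat_lit 7) nNa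
noncomputable def zQEf : ℕ → ℕ := chkE zc me6 [nat_lit 704]
noncomputable def C0Jf : ℕ → ℕ := fun s => chkJ (mul2 (nat_lit 112)) (C0g s) (zc 0) (zc 0)
noncomputable def wQEf : ℕ → ℕ := chkE wq me6 [nat_lit 4439, nat_lit 2694, nat_lit 5809, nat_lit 1739, nat_lit 7792, nat_lit 2977, nat_lit 7886, nat_lit 2725, nat_lit 1422, nat_lit 5989, nat_lit 7707, nat_lit 2310]
noncomputable def ESf : ℕ → ℕ := chkES (mul2 (nat_lit 112)) (one2 (nat_lit 112)) mK6g wq kA (zc 0) (nat_lit 12)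
noncomputable def nEa : List ℕ := [nat_lit 1785, nat_lit 5, nat_lit 1570, nat_lit 1744, nat_lit 665, nat_lit 1063, nat_lit 628, nat_lit 1712, nat_lit 200, nat_lit 438, nat_lit 1611, nat_lit 1553, nat_lit 640, nat_lit 447, nat_lit 722, nat_lit 859, nat_lit 680, nat_lit 83, nat_lit 1348, nat_lit 227, nat_lit 302, nat_lit 1254]
noncomputable def nEJf : ℕ → ℕ := chkNm (mul2 (nat_lit 112)) Hg cK7g ce7 (nat_lit 11) nEa
noncomputable def COf : ℕ → ℕ := chkCO (mul2 (nat_lit 112)) Hg ce7 tz tza (nat_lit 1771) (nat_lit 2048) (nat_lit 1657)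
noncomputable def Yr : ℕ := (nat_lit 0x628162f0bdeec7c9efc7d3ce835d17ad752bf840fec326b2f9253b50936e0a3756ae8dade4c978cafdc8e6421dec1300b4a72dbc522145c50796b06d702f98de3f05f1034d6672baa7b63581a1d4f670dbe8f56be670632eac9b9d9ef8494dc6e955935c74f5e935a494313c672d5158752c17db45ae390ac9752aebb80d752c17db45ae390ac9752aebb80d)
noncomputable def Br : ℕ := (nat_lit 0x42ce4190a2793e49e514bacdae9bb8c7cec8c849d5afb93d409ee5889a42695f64e254f25cb93f48a48a604be6070ed2bf140090c51bef992a1442ba8bd6db285d6de7d58817d01dcde2e1e630ce01441d86c304911e461cf1b05b2b37b224e50c0b6b17c9449b80b0cd6b9bdeb64718fa098f586a30ebe65c29fa534b13fa098f586a30ebe65c29fa534b13b1b12ff81b517fcc603fa727a6314c2c8cd2fc2b8cca86e468a4d7905e3ff77f215e52dfc954c14ff33aa3a25455c624a1d92f8f0ecc829b3ec6d63e0f0acf1b2539b3681e86c35b7514e8703c1dc3e27ceb6f27bc4e65d782e7e5c95f4c6a44c6c941d3c6fd659d16cfb997a5c7b768fd9da32ae77af30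6e6dbcf8371a1fd9da32ae77af306e6dbcf8371a146c6ad20e3edfdbd5073ac487fa9395d5f8ef43ac06120acc0506a2f2b054751b7f248cc2961057c001f549eb5ffa025751059be69641599a9fe030c2e69a3c703a9939acb6ed665f1a239be9e1b7376ff82dee8c061b8984c4f9782921438fba891bffa4a365b98aa5ee2cb54e3bd177f9bf2ae17d73ddc70df6c1815867f9bf2ae17d73ddc70df6c1815861f1c2f7d5446f049b76a3b6c9eb1d415720320c93a694077a4a0fe29747622b797b8b2e7cff810dbaab5bf7f7fc9e33778c738e58f17ca2d04b8b557f3d0288566331164da2ccfb1e829875fe2a5912e8ea8bab484441d96a677a571f191c6d2a01b4f4d40e8d2f86f51068c591ec083cb095d7e748fca20f71d9fcc6098cb095d7e748fca20f71d9fcc60988373ab656e968035b0ff25feafbdc53230f480c51c20120786696accb731ac88eab5443480f293a7326af170371904e6d821220a3030f71bc775a0796238aed72a23e94a237281343be88c6b32c288db4adde603469534f401317b6b067236306d1600d4af65ef62e77ea48a95a7a86746419b91ee539c15a2f8a397c57146419b91ee539c15a2f8a397c5711796199ca7cddff12460cadeedbb424c5bb9ee33d42f03e5c12d73363cdf31d3bc1d853cb7e9663f686c690573f6f5e38ee2906c6dccf6e11955233f0b65d6ad3a1b6b14b2134c8f611a429bdd731d9e60e72c9ec89719f7f0e431d13720931134cd9d4d5bd2b91a3a0f10a598e2aa4055da422549fe0bde27850bf39e8d55da422549fe0bde27850bf39e8d)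
noncomputable abbrev kV : ℕ → ℕ := fun x => Nat.land x (msk (nat_lit 112))
noncomputable def PPf : ℕ → ℕ := chkPair (img2 (nat_lit 112) cK7g) (brow (nat_lit 112)) Yr (nat_lit 5)
noncomputable def FIf : ℕ → ℕ := fun x => (Nat.add (chkFi (img2 (nat_lit 112) ce7) (brow (nat_lit 112)) kV Br (nat_lit 0) (nat_lit 5) [nat_lit 0, nat_lit 158, nat_lit 214, nat_lit 898, nat_lit 1463, nat_lit 1773, nat_lit 1842, nat_lit 1916] x) (Nat.add (chkFi (img2 (nat_lit 112) ce7) (brow (nat_lit 112)) kV Br (nat_lit 10) (nat_lit 5) [nat_lit 0, nat_lit 1916] x) (Nat.add (chkFi (img2 (nat_lit 112) ce7) (brow (nat_lit 112)) kV Br (nat_lit 20) (nat_lit 5) [nat_lit 0] x) (Nat.add (chkFi (img2 (nat_lit 112) ce7) (brow (nat_lit 112)) kV Br (nat_lit 30) (nat_lit 5) [nat_lit 0] x) (Nat.add (chkFi (img2 (nat_lit 112) ce7) (brow (nat_lit 112)) kV Br (nat_lit 40) (nat_lit 5) [nat_lit 0] x) (chkFi (img2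 (nat_lit 112) ce7) (brow (nat_lit 112)) kV Br (nat_lit 50) (nat_lit 5) [nat_lit 0] x))))))
noncomputable def BY1f : ℕ → ℕ := chkBY (img2 (nat_lit 112) qD) (brow (nat_lit 112)) Br Yr (nat_lit 1) (nat_lit 0)
noncomputable def BY2f : ℕ → ℕ := chkBY (img2 (nat_lit 112) qD) (brow (nat_lit 112)) Br Yr (nat_lit 2) (nat_lit 10)
noncomputable def BY3f : ℕ → ℕ := chkBY (img2 (nat_lit 112) qD) (brow (nat_lit 112)) Br Yr (nat_lit 3) (nat_lit 20)
noncomputable def BY4f : ℕ → ℕ := chkBY (img2 (nat_lit 112) qD) (brow (nat_lit 112)) Br Yr (nat_lit 4) (nat_lit 30)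
noncomputable def BY5f : ℕ → ℕ := chkBY (img2 (nat_lit 112) qD) (brow (nat_lit 112)) Br Yr (nat_lit 5) (nat_lit 40)
noncomputable def BY6f : ℕ → ℕ := chkBY (img2 (nat_lit 112) qD) (brow (nat_lit 112)) Br Yr (nat_lit 6) (nat_lit 50)
noncomputable def CW1f : ℕ → ℕ := chkCW (mul2 (nat_lit 112)) (one2 (nat_lit 112)) qL1P ce7 [[nat_lit 0, nat_lit 0, nat_lit 1],
  [nat_lit 0, nat_lit 1, nat_lit 0],
  [nat_lit 0, nat_lit 1],
  [nat_lit 0],
  [nat_lit 0, nat_lit 1, nat_lit 1, nat_lit 0, nat_lit 1],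
  [nat_lit 0, nat_lit 0, nat_lit 1, nat_lit 1],
  []] [nat_lit 158, nat_lit 214, nat_lit 898, nat_lit 1463, nat_lit 1773, nat_lit 1842, nat_lit 1916] (zc 0)
noncomputable def CW2f : ℕ → ℕ := chkCW (mul2 (nat_lit 112)) (one2 (nat_lit 112)) qL2P ce7 [[]] [nat_lit 1916] (zc 0)
noncomputable abbrev D12 : ℕ → ℕ := fun s => qD (Nat.succ s)
noncomputable def DCEf : ℕ → ℕ := chkE D12 C0ce0 [nat_lit 29708069764, nat_lit 47849826567]

end Cfsg.Agent.H4.J4
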