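import Cfsg.Agent.H4.J4S

set_option autoImplicit false
set_option maxRecDepth 100000

namespace Cfsg.Agent.H4.J4

open Subgroup Cfsg.Agent.H5 Cfsg.Agent.H5.Mdl 


end Cfsg.Agent.H4.J4
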