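import Cfsg.Agent.H4.J5C0
import Cfsg.Agent.H4.J5C1
import Cfsg.Agent.H4.J5C2

set_option autoImplicit false
set_option maxRecDepth 100000

namespace Cfsg.Agent.H4.J4

open Subgroup Cfsg.Agent.H5 Cfsg.Agent.H5.Mdl 

attribute [local irreducible] look Tr.get

theorem MGE : ∀ i < 2, (chkE Mg qe [nat_lit 25087035419142331001784401, nat_lit 132169118575520308573923649]) i = 0 :=
  (rng_step (all0 _) MGE_0)
theorem MG : ∀ s < 2, mA.In qG (Mg s) :=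
  in_of_chkE qel MGE
theorem M_top : ∀ s < 2, mA.In ⊤ (Mg s) :=
  fun s hs => (MG s hs).top
theorem M_in : ∀ s < 2, mA.In M (Mg s) :=
  in_gn M_top
theorem M_eg : mA.El M Mg :=
  el_gn M_top
theorem m0S : ∀ i < 77, (chkS2 (mul2 (nat_lit 112)) Mg (nat_lit 2) mT0 me1 m0c (nat_lit 7) (nat_lit 77)) i = 0 :=
  (rng_step (all0 _) m0S_0)
theorem m0elT : mA.El M mT0 :=
  el_of_pad (inT_of_chkS2 (m := mA) m0T0 (by decide) M_in m0S)
theorem m0G : ∀ i < 2, (chkG (mul2 (nat_lit 112)) Mg mT0 mK1g [[nat_lit 36, nat_lit 55, nat_lit 0, nat_lit 1],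
  [nat_lit 63, nat_lit 26, nat_lit 1, nat_lit 0, nat_lit 1]]) i = 0 :=
  (rng_step (all0 _) m0G_0)
theorem m0inG : ∀ s < 2, mA.In M (mK1g s) :=
  in_of_chkG M_eg m0elT m0G
theorem mK1_top : ∀ s < 2, mA.In ⊤ (mK1g s) :=
  fun s hs => (m0inG s hs).top
theorem mK1_in : ∀ s < 2, mA.In mK1 (mK1g s) :=
  in_gn mK1_top
theorem mK1_eg : mA.El mK1 mK1g :=
  el_gn mK1_top
theorem m0le : mK1 ≤ M :=
  gn_le m0inG
theorem m1S : ∀ i < 16, (chkS2 (mul2 (nat_lit 112)) mK1g (nat_lit 2) mT1 me2 m1c (nat_lit 4) (nat_lit 16)) i = 0 :=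
  (rng_step (all0 _) m1S_0)
theorem m1elT : mA.El mK1 mT1 :=
  el_of_pad (inT_of_chkS2 (m := mA) m1T0 (by decide) mK1_in m1S)
theorem m1G : ∀ i < 2, (chkG (mul2 (nat_lit 112)) mK1g mT1 mK2g [[nat_lit 5, nat_lit 0, nat_lit 1, nat_lit 1, nat_lit 1],
  [nat_lit 11, nat_lit 9, nat_lit 1]]) i = 0 :=
  (rng_step (all0 _) m1G_0)
theorem m1inG : ∀ s < 2, mA.In mK1 (mK2g s) :=
  in_of_chkG mK1_eg m1elT m1G
theorem mK2_top : ∀ s < 2, mA.In ⊤ (mK2g s) :=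
  fun s hs => (m1inG s hs).top
theorem mK2_in : ∀ s < 2, mA.In mK2 (mK2g s) :=
  in_gn mK2_top
theorem mK2_eg : mA.El mK2 mK2g :=
  el_gn mK2_top
theorem m1le : mK2 ≤ mK1 :=
  gn_le m1inG
theorem m2S : ∀ i < 15, (chkS2 (mul2 (nat_lit 112)) mK2g (nat_lit 2) mT2 me3 m2c (nat_lit 4) (nat_lit 15)) i = 0 :=
  (rng_step (all0 _) m2S_0)
theorem m2elT : mA.El mK2 mT2 :=
  el_of_pad (inT_of_chkS2 (m := mA) m2T0 (by decide) mK2_in m2S)
theorem m2G : ∀ i < 2, (chkG (mul2 (nat_lit 112)) mK2g mT2 mK3g [[nat_lit 12, nat_lit 11, nat_lit 0],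
  [nat_lit 0, nat_lit 5, nat_lit 1, nat_lit 0]]) i = 0 :=
  (rng_step (all0 _) m2G_0)
theorem m2inG : ∀ s < 2, mA.In mK2 (mK3g s) :=
  in_of_chkG mK2_eg m2elT m2G
theorem mK3_top : ∀ s < 2, mA.In ⊤ (mK3g s) :=
  fun s hs => (m2inG s hs).top
theorem mK3_in : ∀ s < 2, mA.In mK3 (mK3g s) :=
  in_gn mK3_top
theorem mK3_eg : mA.El mK3 mK3g :=
  el_gn mK3_top
theorem m2le : mK3 ≤ mK2 :=
  gn_le m2inG
theorem m3S : ∀ i < 3, (chkS2 (mul2 (nat_lit 112)) mK3g (nat_lit 2) mT3 me4 m3c (nat_lit 2) (nat_lit 3)) i = 0 :=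
  (rng_step (all0 _) m3S_0)
theorem m3elT : mA.El mK3 mT3 :=
  el_of_pad (inT_of_chkS2 (m := mA) m3T0 (by decide) mK3_in m3S)
theorem m3G : ∀ i < 3, (chkG (mul2 (nat_lit 112)) mK3g mT3 mK4g [[nat_lit 0, nat_lit 1, nat_lit 1, nat_lit 1],
  [nat_lit 0, nat_lit 0, nat_lit 0],
  [nat_lit 1, nat_lit 2, nat_lit 1, nat_lit 1]]) i = 0 :=
  (rng_step (all0 _) m3G_0)
theorem m3inG : ∀ s < 3, mA.In mK3 (mK4g s) :=
  in_of_chkG mK3_eg m3elT m3G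
theorem mK4_top : ∀ s < 3, mA.In ⊤ (mK4g s) :=
  fun s hs => (m3inG s hs).top
theorem mK4_in : ∀ s < 3, mA.In mK4 (mK4g s) :=
  in_gn mK4_top
theorem mK4_eg : mA.El mK4 mK4g :=
  el_gn mK4_top
theorem m3le : mK4 ≤ mK3 :=
  gn_le m3inG
theorem m4S : ∀ i < 8, (chkS2 (mul2 (nat_lit 112)) mK4g (nat_lit 3) mT4 me5 m4c (nat_lit 3) (nat_lit 8)) i = 0 :=
  (rng_step (all0 _) m4S_0)
theorem m4elT : mA.El mK4 mT4 :=
  el_of_pad (inT_of_chkS2 (m := mA) m4T0 (by decide) mK4_in m4S)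
theorem m4G : ∀ i < 7, (chkG (mul2 (nat_lit 112)) mK4g mT4 mK5g [[nat_lit 4, nat_lit 7, nat_lit 2, nat_lit 0],
  [nat_lit 3, nat_lit 5, nat_lit 2, nat_lit 1],
  [nat_lit 5, nat_lit 2, nat_lit 0, nat_lit 2],
  [nat_lit 6, nat_lit 3, nat_lit 2, nat_lit 1, nat_lit 2],
  [nat_lit 5, nat_lit 7, nat_lit 1, nat_lit 1, nat_lit 1],
  [nat_lit 2, nat_lit 0, nat_lit 0, nat_lit 2],
  [nat_lit 6, nat_lit 5, nat_lit 2]]) i = 0 :=
  (rng_step (all0 _) m4G_0)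
theorem m4inG : ∀ s < 7, mA.In mK4 (mK5g s) :=
  in_of_chkG mK4_eg m4elT m4G
theorem mK5_top : ∀ s < 7, mA.In ⊤ (mK5g s) :=
  fun s hs => (m4inG s hs).top
theorem mK5_in : ∀ s < 7, mA.In mK5 (mK5g s) :=
  in_gn mK5_top
theorem mK5_eg : mA.El mK5 mK5g :=
  el_gn mK5_top
theorem m4le : mK5 ≤ mK4 :=
  gn_le m4inG
theorem m5S : ∀ i < 3, (chkS2 (mul2 (nat_lit 112)) mK5g (nat_lit 7) mT5 me6 m5c (nat_lit 2) (nat_lit 3)) i = 0 :=
  (rng_step (all0 _) m5S_0)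
theorem m5elT : mA.El mK5 mT5 :=
  el_of_pad (inT_of_chkS2 (m := mA) m5T0 (by decide) mK5_in m5S)
theorem m5G : ∀ i < 12, (chkG (mul2 (nat_lit 112)) mK5g mT5 mK6g [[nat_lit 0, nat_lit 2, nat_lit 4, nat_lit 1],
  [nat_lit 0, nat_lit 1, nat_lit 3, nat_lit 6, nat_lit 4],
  [nat_lit 0, nat_lit 2, nat_lit 4, nat_lit 0],
  [nat_lit 2, nat_lit 2, nat_lit 2, nat_lit 5],
  [nat_lit 1, nat_lit 1, nat_lit 5],
  [nat_lit 2, nat_lit 2, nat_lit 3, nat_lit 0, nat_lit 0],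
  [nat_lit 1, nat_lit 1, nat_lit 1],
  [nat_lit 2, nat_lit 2, nat_lit 0, nat_lit 3, nat_lit 1],
  [nat_lit 0, nat_lit 2, nat_lit 0, nat_lit 6, nat_lit 0],
  [nat_lit 2, nat_lit 1, nat_lit 2, nat_lit 4],
  [nat_lit 2, nat_lit 1, nat_lit 6, nat_lit 1, nat_lit 3],
  [nat_lit 0, nat_lit 0, nat_lit 2]]) i = 0 :=
  (rng_step (all0 _) m5G_0)
theorem m5inG : ∀ s < 12, mA.In mK5 (mK6g s) :=
  in_of_chkG mK5_eg m5elT m5G
theorem mK6_top : ∀ s < 12, mA.In ⊤ (mK6g s) :=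
  fun s hs => (m5inG s hs).top
theorem mK6_in : ∀ s < 12, mA.In mK6 (mK6g s) :=
  in_gn mK6_top
theorem mK6_eg : mA.El mK6 mK6g :=
  el_gn mK6_top
theorem m5le : mK6 ≤ mK5 :=
  gn_le m5inG
theorem m6S : ∀ i < 64, (chkS2 (mul2 (nat_lit 112)) mK6g (nat_lit 12) mT6 me7 m6c (nat_lit 6) (nat_lit 64)) i = 0 :=
  (rng_step (rng_step (all0 _) m6S_0) m6S_1)
theorem m6elT : mA.El mK6 mT6 :=
  el_of_pad (inT_of_chkS2 (m := mA) m6T0 (by decide) mK6_in m6S)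
theorem m6G : ∀ i < 7, (chkG (mul2 (nat_lit 112)) mK6g mT6 mK7g [[nat_lit 18, nat_lit 50, nat_lit 0, nat_lit 7, nat_lit 9],
  [nat_lit 58, nat_lit 62, nat_lit 0, nat_lit 7],
  [nat_lit 25, nat_lit 15, nat_lit 5, nat_lit 3],
  [nat_lit 53, nat_lit 32, nat_lit 8, nat_lit 4],
  [nat_lit 23, nat_lit 15, nat_lit 11, nat_lit 7, nat_lit 1],
  [nat_lit 9, nat_lit 48, nat_lit 9, nat_lit 2, nat_lit 7],
  [nat_lit 55, nat_lit 60, nat_lit 3, nat_lit 0]]) i = 0 :=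
  (rng_step (all0 _) m6G_0)
theorem m6inG : ∀ s < 7, mA.In mK6 (mK7g s) :=
  in_of_chkG mK6_eg m6elT m6G
theorem mK7_top : ∀ s < 7, mA.In ⊤ (mK7g s) :=
  fun s hs => (m6inG s hs).top
theorem mK7_in : ∀ s < 7, mA.In mK7 (mK7g s) :=
  in_gn mK7_top
theorem mK7_eg : mA.El mK7 mK7g :=
  el_gn mK7_top
theorem m6le : mK7 ≤ mK6 :=
  gn_le m6inG
theorem m7S : ∀ i < 2, (chkS2 (mul2 (nat_lit 112)) mK7g (nat_lit 7) mT7 me8 m7c (nat_lit 1) (nat_lit 2)) i = 0 :=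
  (rng_step (all0 _) m7S_0)
theorem m7elT : mA.El mK7 mT7 :=
  el_of_pad (inT_of_chkS2 (m := mA) m7T0 (by decide) mK7_in m7S)
theorem m7G : ∀ i < 6, (chkG (mul2 (nat_lit 112)) mK7g mT7 mK8g [[nat_lit 0, nat_lit 1, nat_lit 4, nat_lit 6, nat_lit 5],
  [nat_lit 1, nat_lit 1, nat_lit 4, nat_lit 3, nat_lit 2],
  [nat_lit 1, nat_lit 0, nat_lit 4, nat_lit 6, nat_lit 3],
  [nat_lit 1, nat_lit 1, nat_lit 1, nat_lit 3],
  [nat_lit 0, nat_lit 0, nat_lit 5],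
  [nat_lit 1, nat_lit 0, nat_lit 4]]) i = 0 :=
  (rng_step (all0 _) m7G_0)
theorem m7inG : ∀ s < 6, mA.In mK7 (mK8g s) :=
  in_of_chkG mK7_eg m7elT m7G
theorem mK8_top : ∀ s < 6, mA.In ⊤ (mK8g s) :=
  fun s hs => (m7inG s hs).top
theorem mK8_in : ∀ s < 6, mA.In mK8 (mK8g s) :=
  in_gn mK8_top
theorem mK8_eg : mA.El mK8 mK8g :=
  el_gn mK8_top
theorem m7le : mK8 ≤ mK7 :=
  gn_le m7inG
theorem m8S : ∀ i < 64, (chkS2 (mul2 (nat_lit 112)) mK8g (nat_lit 6) mT8 (fun _ => (one2 (nat_lit 112))) m8c (nat_lit 6) (nat_lit 64)) i = 0 :=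
  (rng_step (all0 _) m8S_0)
theorem m8elT : mA.El mK8 mT8 :=
  el_of_pad (inT_of_chkS2 (m := mA) m8T0 (by decide) mK8_in m8S)
theorem m8le : (⊥ : Subgroup GA) ≤ mK8 :=
  bot_le
theorem m8ub : Nat.card mK8 ≤ 64 :=
  (ub_of_chkS2 (m := mA) (el_one (m := mA) ⊥) (by decide) m8T0 m8S card_bot_le).trans (by norm_num)
theorem m8el : mA.El mK8 me8 :=
  el_cel1 m8elT ((el_one (m := mA) ⊥).mono m8le) _
theorem m7ub : Nat.card mK7 ≤ 128 :=
  (ub_of_chkS2 (m := mA) m8el (by decide) m7T0 m7S m8ub).trans (by norm_num)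
theorem m7el : mA.El mK7 me7 :=
  el_cel1 m7elT (m8el.mono m7le) _
theorem m6ub : Nat.card mK6 ≤ 8192 :=
  (ub_of_chkS2 (m := mA) m7el (by decide) m6T0 m6S m7ub).trans (by norm_num)
theorem m6el : mA.El mK6 me6 :=
  el_cel1 m6elT (m7el.mono m6le) _
theorem m5ub : Nat.card mK5 ≤ 24576 :=
  (ub_of_chkS2 (m := mA) m6el (by decide) m5T0 m5S m6ub).trans (by norm_num)
theorem m5el : mA.El mK5 me5 :=
  el_cel1 m5elT (m6el.mono m5le) _
theorem m4ub : Nat.card mK4 ≤ 196608 :=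
  (ub_of_chkS2 (m := mA) m5el (by decide) m4T0 m4S m5ub).trans (by norm_num)
theorem m4el : mA.El mK4 me4 :=
  el_cel1 m4elT (m5el.mono m4le) _
theorem m3ub : Nat.card mK3 ≤ 589824 :=
  (ub_of_chkS2 (m := mA) m4el (by decide) m3T0 m3S m4ub).trans (by norm_num)
theorem m3el : mA.El mK3 me3 :=
  el_cel1 m3elT (m4el.mono m3le) _
theorem m2ub : Nat.card mK2 ≤ 8847360 :=
  (ub_of_chkS2 (m := mA) m3el (by decide) m2T0 m2S m3ub).trans (by norm_num)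
theorem m2el : mA.El mK2 me2 :=
  el_cel1 m2elT (m3el.mono m2le) _
theorem m1ub : Nat.card mK1 ≤ 141557760 :=
  (ub_of_chkS2 (m := mA) m2el (by decide) m1T0 m1S m2ub).trans (by norm_num)
theorem m1el : mA.El mK1 me1 :=
  el_cel1 m1elT (m2el.mono m1le) _
theorem m0ub : Nat.card M ≤ 10899947520 :=
  (ub_of_chkS2 (m := mA) m1el (by decide) m0T0 m0S m1ub).trans (by norm_num)
theorem m0el : mA.El M me0 :=
  el_cel1 m0elT (m1el.mono m0le) _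
theorem sHE : ∀ i < 1, (chkE sc ce0 [nat_lit 80872029218]) i = 0 :=
  (rng_step (all0 _) sHE_0)
theorem sH : ∀ s < 1, mA.In H (sc s) :=
  in_of_chkE c0el sHE
theorem C1X : ∀ i < 2, (fun s => Nat.xor (mK1g s) (C1g s)) i = 0 :=
  (rng_step (all0 _) C1X_0)
theorem C1_top : ∀ s < 3, mA.In ⊤ (C1g s) :=
  all_succ (fun s hs => (mK1_top s hs).of_eq (C1X s hs)) ((sH 0 (by decide)).top.of_eq C1Xs)
theorem C1_in : ∀ s < 3, mA.In C1 (C1g s) :=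
  in_gn C1_top
theorem C1_eg : mA.El C1 C1g :=
  el_gn C1_top
theorem C1c0S : ∀ i < 2, (chkS2 (mul2 (nat_lit 112)) C1g (nat_lit 3) C1cT0 me1 C1c0c (nat_lit 1) (nat_lit 2)) i = 0 :=
  (rng_step (all0 _) C1c0S_0)
theorem C1c0elT : mA.El C1 C1cT0 :=
  el_of_pad (inT_of_chkS2 (m := mA) C1c0T0 (by decide) C1_in C1c0S)
theorem C1c0le : mK1 ≤ C1 :=
  gn_le fun s hs => xor_eq_zero' (C1X s hs) ▸ C1_in s (by omega)
theorem C1c0ub : Nat.card C1 ≤ 283115520 :=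
  (ub_of_chkS2 (m := mA) m1el (by decide) C1c0T0 C1c0S m1ub).trans (by norm_num)
theorem C1c0el : mA.El C1 C1ce0 :=
  el_cel1 C1c0elT (m1el.mono C1c0le) _
theorem C0X : ∀ i < 2, (fun s => Nat.xor (Mg s) (C0g s)) i = 0 :=
  (rng_step (all0 _) C0X_0)
theorem C0_top : ∀ s < 3, mA.In ⊤ (C0g s) :=
  all_succ (fun s hs => (M_top s hs).of_eq (C0X s hs)) ((sH 0 (by decide)).top.of_eq C0Xs)
theorem C0_in : ∀ s < 3, mA.In C0 (C0g s) :=
  in_gn C0_top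
theorem C0_eg : mA.El C0 C0g :=
  el_gn C0_top
theorem C0c0S : ∀ i < 2, (chkS2 (mul2 (nat_lit 112)) C0g (nat_lit 3) C0cT0 me0 C0c0c (nat_lit 1) (nat_lit 2)) i = 0 :=
  (rng_step (all0 _) C0c0S_0)
theorem C0c0elT : mA.El C0 C0cT0 :=
  el_of_pad (inT_of_chkS2 (m := mA) C0c0T0 (by decide) C0_in C0c0S)
theorem C0c0le : M ≤ C0 :=
  gn_le fun s hs => xor_eq_zero' (C0X s hs) ▸ C0_in s (by omega)
theorem C0c0ub : Nat.card C0 ≤ 21799895040 :=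
  (ub_of_chkS2 (m := mA) m0el (by decide) C0c0T0 C0c0S m0ub).trans (by norm_num)
theorem C0c0el : mA.El C0 C0ce0 :=
  el_cel1 C0c0elT (m0el.mono C0c0le) _
theorem KHE : ∀ i < 2, (chkE mK1g ce0 [nat_lit 365583487107, nat_lit 1234242254155]) i = 0 :=
  (rng_step (all0 _) KHE_0)
theorem KH : ∀ s < 2, mA.In H (mK1g s) :=
  in_of_chkE c0el KHE
theorem C1H : C1 ≤ H :=
  gn_le (all_succ (fun s hs => (KH s hs).of_eq (C1X s hs)) ((sH 0 (by decide)).of_eq C1Xs))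
theorem sC0 : mA.In C0 (sc 0) :=
  xor_eq_zero' C0Xs ▸ C0_eg 2
theorem C1C0 : C1 ≤ C0 :=
  gn_le (all_succ (fun s hs => ((mK1_in s hs).mono (m0le.trans C0c0le)).of_eq (C1X s hs)) (sC0.of_eq C1Xs))
theorem C0G : C0 ≤ qG :=
  gn_le (all_succ (fun s hs => (MG s hs).of_eq (C0X s hs)) (((sH 0 (by decide)).mono HG).of_eq C0Xs))
theorem C1E : ∀ i < 3, (fun s => Nat.xor (C1g s) (lP s)) i = 0 :=
  (rng_step (all0 _) C1E_0)
theorem lin0 : ∀ u < 3, mA.In C1 (lP u) :=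
  fun s hs => (C1_in s hs).of_eq (C1E s hs)
theorem lW : ∀ i < 44, (chkPl (mul2 (nat_lit 112)) lP [[nat_lit 1, nat_lit 0, nat_lit 0, nat_lit 2, nat_lit 0, nat_lit 1],
  [nat_lit 1, nat_lit 2, nat_lit 0],
  [nat_lit 2, nat_lit 2, nat_lit 0, nat_lit 0, nat_lit 0, nat_lit 1],
  [nat_lit 3, nat_lit 4, nat_lit 3, nat_lit 3, nat_lit 3, nat_lit 5, nat_lit 4, nat_lit 3],
  [nat_lit 3, nat_lit 5, nat_lit 5, nat_lit 5, nat_lit 3, nat_lit 3, nat_lit 5, nat_lit 3],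
  [nat_lit 3, nat_lit 3, nat_lit 3, nat_lit 4, nat_lit 3, nat_lit 4, nat_lit 3, nat_lit 4, nat_lit 3, nat_lit 3],
  [nat_lit 3, nat_lit 5, nat_lit 4, nat_lit 3, nat_lit 3, nat_lit 4, nat_lit 5, nat_lit 4],
  [nat_lit 9, nat_lit 6, nat_lit 6, nat_lit 7, nat_lit 9, nat_lit 6, nat_lit 9, nat_lit 9, nat_lit 6, nat_lit 9, nat_lit 6, nat_lit 9, nat_lit 9, nat_lit 9, nat_lit 9, nat_lit 6, nat_lit 9, nat_lit 9, nat_lit 9],
  [nat_lit 6, nat_lit 6, nat_lit 6, nat_lit 9, nat_lit 9, nat_lit 6, nat_lit 9, nat_lit 9, nat_lit 9, nat_lit 6, nat_lit 6, nat_lit 6, nat_lit 9, nat_lit 6, nat_lit 6, nat_lit 6, nat_lit 9, nat_lit 9, nat_lit 6, nat_lit 6, nat_lit 9, nat_lit 8, nat_lit 9, nat_lit 6, nat_lit 6, nat_lit 9, nat_lit 9],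
  [nat_lit 9, nat_lit 9, nat_lit 9, nat_lit 9, nat_lit 9, nat_lit 9],
  [nat_lit 7, nat_lit 7, nat_lit 9, nat_lit 9, nat_lit 6, nat_lit 6, nat_lit 8, nat_lit 6, nat_lit 9, nat_lit 9, nat_lit 6, nat_lit 6, nat_lit 6, nat_lit 9, nat_lit 9, nat_lit 9, nat_lit 8, nat_lit 9, nat_lit 9, nat_lit 9],
  [nat_lit 6, nat_lit 9, nat_lit 6, nat_lit 6, nat_lit 6, nat_lit 6, nat_lit 6, nat_lit 9, nat_lit 8],
  [nat_lit 6, nat_lit 6, nat_lit 6, nat_lit 9, nat_lit 6, nat_lit 9, nat_lit 6, nat_lit 6],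
  [nat_lit 6, nat_lit 6, nat_lit 9, nat_lit 9, nat_lit 9, nat_lit 6, nat_lit 9, nat_lit 7, nat_lit 9, nat_lit 9, nat_lit 6],
  [nat_lit 9, nat_lit 6, nat_lit 9, nat_lit 6, nat_lit 6, nat_lit 8, nat_lit 6, nat_lit 6, nat_lit 6, nat_lit 9, nat_lit 6, nat_lit 9, nat_lit 7, nat_lit 6, nat_lit 8],
  [nat_lit 14],
  [nat_lit 10, nat_lit 10, nat_lit 11, nat_lit 10],
  [nat_lit 13, nat_lit 10],
  [nat_lit 11, nat_lit 10, nat_lit 12, nat_lit 10, nat_lit 10],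
  [nat_lit 10, nat_lit 17, nat_lit 10],
  [nat_lit 10, nat_lit 10, nat_lit 16],
  [nat_lit 15, nat_lit 10, nat_lit 10, nat_lit 10],
  [nat_lit 19, nat_lit 21, nat_lit 23],
  [nat_lit 21, nat_lit 22],
  [nat_lit 21, nat_lit 21, nat_lit 20],
  [nat_lit 22, nat_lit 21, nat_lit 18, nat_lit 21, nat_lit 21],
  [nat_lit 24, nat_lit 21],
  [nat_lit 21, nat_lit 24, nat_lit 21, nat_lit 21, nat_lit 19],
  [nat_lit 30, nat_lit 28],
  [nat_lit 26, nat_lit 28],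
  [nat_lit 27, nat_lit 30, nat_lit 27, nat_lit 25],
  [nat_lit 29, nat_lit 27, nat_lit 25, nat_lit 27],
  [nat_lit 27, nat_lit 27, nat_lit 28],
  [nat_lit 34, nat_lit 32],
  [nat_lit 34, nat_lit 32, nat_lit 33, nat_lit 32],
  [nat_lit 32, nat_lit 34, nat_lit 32, nat_lit 32, nat_lit 31],
  [nat_lit 32, nat_lit 32, nat_lit 33, nat_lit 35],
  [nat_lit 38, nat_lit 36, nat_lit 36],
  [nat_lit 36, nat_lit 37, nat_lit 36, nat_lit 36, nat_lit 39],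
  [nat_lit 36, nat_lit 39, nat_lit 36],
  [nat_lit 40, nat_lit 41, nat_lit 40, nat_lit 42],
  [nat_lit 40, nat_lit 41, nat_lit 40],
  [nat_lit 44, nat_lit 43, nat_lit 44],
  [nat_lit 44, nat_lit 43, nat_lit 44]] (nat_lit 3)) i = 0 :=
  (rng_step (all0 _) lW_0)
theorem lel : mA.El C1 lP :=
  el_of_pad (in_pool lin0 lW)
theorem ls0 : Suf mA C1 lP 0 :=
  suf0 lel
theorem l0yY : ∀ i < 30, (chkY can0 (brow (nat_lit 112)) l0y (nat_lit 30)) i = 0 :=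
  allB (rngB_step (allB0 _ _) l0yY_0) (by decide)
theorem l0yD : Dist (fun i => pvA (pt (brow (nat_lit 112)) l0y i)) 30 :=
  dist_of_chk (canT2 φA) l0yY
theorem l0RO : ∀ i < 30, (chkO (img2 (nat_lit 112) (shf lP (nat_lit 0))) (brow (nat_lit 112)) l0y l0Ra (nat_lit 30) [nat_lit 12]) i = 0 :=
  allB (rngB_step (allB0 _ _) l0RO_0) (by decide)
theorem l0R : Reach C1 (fun i => pvA (pt (brow (nat_lit 112)) l0y i)) 30 [nat_lit 12] :=
  reach_of_chk ((acts2 (m := mA) φA hA (shf lP (nat_lit 0))).ex ls0.el) l0RO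
theorem l0X : ∀ i < 44, (chkFx (img2 (nat_lit 112) lP) (brow (nat_lit 112)) l0y (nat_lit 12) [nat_lit 0, nat_lit 0, nat_lit 0, nat_lit 0, nat_lit 0, nat_lit 0, nat_lit 0, nat_lit 0, nat_lit 0, nat_lit 0, nat_lit 0, nat_lit 0, nat_lit 0, nat_lit 0, nat_lit 0, nat_lit 0, nat_lit 0, nat_lit 0, nat_lit 0, nat_lit 0, nat_lit 0, nat_lit 0, nat_lit 0, nat_lit 0, nat_lit 0, nat_lit 0, nat_lit 0, nat_lit 0, nat_lit 0, nat_lit 0, nat_lit 0, nat_lit 0, nat_lit 0, nat_lit 0, nat_lit 0, nat_lit 0, nat_lit 0, nat_lit 0, nat_lit 0, nat_lit 0, nat_lit 0, nat_lit 0, nat_lit 0, nat_lit 0] (nat_lit 3)) i = 0 :=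
  (rng_step (all0 _) l0X_0)
theorem ls1 : Suf mA lK1 lP 3 :=
  ls0.step (by decide) (by decide) (acts2 (m := mA) φA hA lP) l0X
theorem l1yY : ∀ i < 384, (chkY can0 (brow (nat_lit 112)) l1y (nat_lit 384)) i = 0 :=
  allB (rngB_step (allB0 _ _) l1yY_0) (by decide)
theorem l1yD : Dist (fun i => pvA (pt (brow (nat_lit 112)) l1y i)) 384 :=
  dist_of_chk (canT2 φA) l1yY
theorem l1RO : ∀ i < 384, (chkO (img2 (nat_lit 112) (shf lP (nat_lit 3))) (brow (nat_lit 112)) l1y l1Ra (nat_lit 384) [nat_lit 250]) i = 0 :=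
  allB (rngB_step (allB0 _ _) l1RO_0) (by decide)
theorem l1R : Reach lK1 (fun i => pvA (pt (brow (nat_lit 112)) l1y i)) 384 [nat_lit 250] :=
  reach_of_chk ((acts2 (m := mA) φA hA (shf lP (nat_lit 3))).ex ls1.el) l1RO
theorem l1X : ∀ i < 41, (chkFx (img2 (nat_lit 112) lP) (brow (nat_lit 112)) l1y (nat_lit 250) [nat_lit 0, nat_lit 0, nat_lit 0, nat_lit 0, nat_lit 0, nat_lit 0, nat_lit 0, nat_lit 0, nat_lit 0, nat_lit 0, nat_lit 0, nat_lit 0, nat_lit 0, nat_lit 0, nat_lit 0, nat_lit 0, nat_lit 0, nat_lit 0, nat_lit 0, nat_lit 0, nat_lit 0, nat_lit 0, nat_lit 0, nat_lit 0, nat_lit 0, nat_lit 0, nat_lit 0, nat_lit 0, nat_lit 0, nat_lit 0, nat_lit 0, nat_lit 0, nat_lit 0, nat_lit 0, nat_lit 0, nat_lit 0, nat_lit 0, nat_lit 0, nat_lit 0, nat_lit 0, nat_lit 0] (nat_lit 6)) i = 0 :=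
  (rng_step (all0 _) l1X_0)
theorem ls2 : Suf mA lK2 lP 6 :=
  ls1.step (by decide) (by decide) (acts2 (m := mA) φA hA lP) l1X
theorem l2yY : ∀ i < 96, (chkY can0 (brow (nat_lit 112)) l2y (nat_lit 96)) i = 0 :=
  allB (rngB_step (allB0 _ _) l2yY_0) (by decide)
theorem l2yD : Dist (fun i => pvA (pt (brow (nat_lit 112)) l2y i)) 96 :=
  dist_of_chk (canT2 φA) l2yY
theorem l2RO : ∀ i < 96, (chkO (img2 (nat_lit 112) (shf lP (nat_lit 6))) (brow (nat_lit 112)) l2y l2Ra (nat_lit 96) [nat_lit 45]) i = 0 :=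
  allB (rngB_step (allB0 _ _) l2RO_0) (by decide)
theorem l2R : Reach lK2 (fun i => pvA (pt (brow (nat_lit 112)) l2y i)) 96 [nat_lit 45] :=
  reach_of_chk ((acts2 (m := mA) φA hA (shf lP (nat_lit 6))).ex ls2.el) l2RO
theorem l2X : ∀ i < 37, (chkFx (img2 (nat_lit 112) lP) (brow (nat_lit 112)) l2y (nat_lit 45) [nat_lit 0, nat_lit 0, nat_lit 0, nat_lit 0, nat_lit 0, nat_lit 0, nat_lit 0, nat_lit 0, nat_lit 0, nat_lit 0, nat_lit 0, nat_lit 0, nat_lit 0, nat_lit 0, nat_lit 0, nat_lit 0, nat_lit 0, nat_lit 0, nat_lit 0, nat_lit 0, nat_lit 0, nat_lit 0, nat_lit 0, nat_lit 0, nat_lit 0, nat_lit 0, nat_lit 0, nat_lit 0, nat_lit 0, nat_lit 0, nat_lit 0, nat_lit 0, nat_lit 0, nat_lit 0, nat_lit 0, nat_lit 0, nat_lit 0] (nat_lit 10)) i = 0 :=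
  (rng_step (all0 _) l2X_0)
theorem ls3 : Suf mA lK3 lP 10 :=
  ls2.step (by decide) (by decide) (acts2 (m := mA) φA hA lP) l2X
theorem l3yY : ∀ i < 2, (chkY can0 (brow (nat_lit 112)) l3y (nat_lit 2)) i = 0 :=
  allB (rngB_step (allB0 _ _) l3yY_0) (by decide)
theorem l3yD : Dist (fun i => pvA (pt (brow (nat_lit 112)) l3y i)) 2 :=
  dist_of_chk (canT2 φA) l3yY
theorem l3RO : ∀ i < 2, (chkO (img2 (nat_lit 112) (shf lP (nat_lit 10))) (brow (nat_lit 112)) l3y l3Ra (nat_lit 2) [nat_lit 1]) i = 0 :=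
  allB (rngB_step (allB0 _ _) l3RO_0) (by decide)
theorem l3R : Reach lK3 (fun i => pvA (pt (brow (nat_lit 112)) l3y i)) 2 [nat_lit 1] :=
  reach_of_chk ((acts2 (m := mA) φA hA (shf lP (nat_lit 10))).ex ls3.el) l3RO
theorem l3X : ∀ i < 29, (chkFx (img2 (nat_lit 112) lP) (brow (nat_lit 112)) l3y (nat_lit 1) [nat_lit 0, nat_lit 0, nat_lit 0, nat_lit 0, nat_lit 0, nat_lit 0, nat_lit 0, nat_lit 0, nat_lit 0, nat_lit 0, nat_lit 0, nat_lit 0, nat_lit 0, nat_lit 0, nat_lit 0, nat_lit 0, nat_lit 0, nat_lit 0, nat_lit 0, nat_lit 0, nat_lit 0, nat_lit 0, nat_lit 0, nat_lit 0, nat_lit 0, nat_lit 0, nat_lit 0, nat_lit 0, nat_lit 0] (nat_lit 18)) i = 0 :=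
  (rng_step (all0 _) l3X_0)
theorem ls4 : Suf mA lK4 lP 18 :=
  ls3.step (by decide) (by decide) (acts2 (m := mA) φA hA lP) l3X
theorem l4yY : ∀ i < 2, (chkY can0 (brow (nat_lit 112)) l4y (nat_lit 2)) i = 0 :=
  allB (rngB_step (allB0 _ _) l4yY_0) (by decide)
theorem l4yD : Dist (fun i => pvA (pt (brow (nat_lit 112)) l4y i)) 2 :=
  dist_of_chk (canT2 φA) l4yY
theorem l4RO : ∀ i < 2, (chkO (img2 (nat_lit 112) (shf lP (nat_lit 18))) (brow (nat_lit 112)) l4y l4Ra (nat_lit 2) [nat_lit 0]) i = 0 :=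
  allB (rngB_step (allB0 _ _) l4RO_0) (by decide)
theorem l4R : Reach lK4 (fun i => pvA (pt (brow (nat_lit 112)) l4y i)) 2 [nat_lit 0] :=
  reach_of_chk ((acts2 (m := mA) φA hA (shf lP (nat_lit 18))).ex ls4.el) l4RO
theorem l4X : ∀ i < 22, (chkFx (img2 (nat_lit 112) lP) (brow (nat_lit 112)) l4y (nat_lit 0) [nat_lit 0, nat_lit 0, nat_lit 0, nat_lit 0, nat_lit 0, nat_lit 0, nat_lit 0, nat_lit 0, nat_lit 0, nat_lit 0, nat_lit 0, nat_lit 0, nat_lit 0, nat_lit 0, nat_lit 0, nat_lit 0, nat_lit 0, nat_lit 0, nat_lit 0, nat_lit 0, nat_lit 0, nat_lit 0] (nat_lit 25)) i = 0 :=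
  (rng_step (all0 _) l4X_0)
theorem ls5 : Suf mA lK5 lP 25 :=
  ls4.step (by decide) (by decide) (acts2 (m := mA) φA hA lP) l4X
theorem l5yY : ∀ i < 2, (chkY can0 (brow (nat_lit 112)) l5y (nat_lit 2)) i = 0 :=
  allB (rngB_step (allB0 _ _) l5yY_0) (by decide)
theorem l5yD : Dist (fun i => pvA (pt (brow (nat_lit 112)) l5y i)) 2 :=
  dist_of_chk (canT2 φA) l5yY
theorem l5RO : ∀ i < 2, (chkO (img2 (nat_lit 112) (shf lP (nat_lit 25))) (brow (nat_lit 112)) l5y l5Ra (nat_lit 2) [nat_lit 1]) i = 0 :=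
  allB (rngB_step (allB0 _ _) l5RO_0) (by decide)
theorem l5R : Reach lK5 (fun i => pvA (pt (brow (nat_lit 112)) l5y i)) 2 [nat_lit 1] :=
  reach_of_chk ((acts2 (m := mA) φA hA (shf lP (nat_lit 25))).ex ls5.el) l5RO
theorem l5X : ∀ i < 16, (chkFx (img2 (nat_lit 112) lP) (brow (nat_lit 112)) l5y (nat_lit 1) [nat_lit 0, nat_lit 0, nat_lit 0, nat_lit 0, nat_lit 0, nat_lit 0, nat_lit 0, nat_lit 0, nat_lit 0, nat_lit 0, nat_lit 0, nat_lit 0, nat_lit 0, nat_lit 0, nat_lit 0, nat_lit 0] (nat_lit 31)) i = 0 :=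
  (rng_step (all0 _) l5X_0)
theorem ls6 : Suf mA lK6 lP 31 :=
  ls5.step (by decide) (by decide) (acts2 (m := mA) φA hA lP) l5X
theorem l6yY : ∀ i < 2, (chkY can0 (brow (nat_lit 112)) l6y (nat_lit 2)) i = 0 :=
  allB (rngB_step (allB0 _ _) l6yY_0) (by decide)
theorem l6yD : Dist (fun i => pvA (pt (brow (nat_lit 112)) l6y i)) 2 :=
  dist_of_chk (canT2 φA) l6yY
theorem l6RO : ∀ i < 2, (chkO (img2 (nat_lit 112) (shf lP (nat_lit 31))) (brow (nat_lit 112)) l6y l6Ra (nat_lit 2) [nat_lit 0]) i = 0 :=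
  allB (rngB_step (allB0 _ _) l6RO_0) (by decide)
theorem l6R : Reach lK6 (fun i => pvA (pt (brow (nat_lit 112)) l6y i)) 2 [nat_lit 0] :=
  reach_of_chk ((acts2 (m := mA) φA hA (shf lP (nat_lit 31))).ex ls6.el) l6RO
theorem l6X : ∀ i < 11, (chkFx (img2 (nat_lit 112) lP) (brow (nat_lit 112)) l6y (nat_lit 0) [nat_lit 0, nat_lit 0, nat_lit 0, nat_lit 0, nat_lit 0, nat_lit 0, nat_lit 0, nat_lit 0, nat_lit 0, nat_lit 0, nat_lit 0] (nat_lit 36)) i = 0 :=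
  (rng_step (all0 _) l6X_0)
theorem ls7 : Suf mA lK7 lP 36 :=
  ls6.step (by decide) (by decide) (acts2 (m := mA) φA hA lP) l6X
theorem l7yY : ∀ i < 2, (chkY can0 (brow (nat_lit 112)) l7y (nat_lit 2)) i = 0 :=
  allB (rngB_step (allB0 _ _) l7yY_0) (by decide)
theorem l7yD : Dist (fun i => pvA (pt (brow (nat_lit 112)) l7y i)) 2 :=
  dist_of_chk (canT2 φA) l7yY
theorem l7RO : ∀ i < 2, (chkO (img2 (nat_lit 112) (shf lP (nat_lit 36))) (brow (nat_lit 112)) l7y l7Ra (nat_lit 2) [nat_lit 1]) i = 0 :=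
  allB (rngB_step (allB0 _ _) l7RO_0) (by decide)
theorem l7R : Reach lK7 (fun i => pvA (pt (brow (nat_lit 112)) l7y i)) 2 [nat_lit 1] :=
  reach_of_chk ((acts2 (m := mA) φA hA (shf lP (nat_lit 36))).ex ls7.el) l7RO
theorem l7X : ∀ i < 7, (chkFx (img2 (nat_lit 112) lP) (brow (nat_lit 112)) l7y (nat_lit 1) [nat_lit 0, nat_lit 0, nat_lit 0, nat_lit 0, nat_lit 0, nat_lit 0, nat_lit 0] (nat_lit 40)) i = 0 :=
  (rng_step (all0 _) l7X_0)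
theorem ls8 : Suf mA lK8 lP 40 :=
  ls7.step (by decide) (by decide) (acts2 (m := mA) φA hA lP) l7X
theorem l8yY : ∀ i < 2, (chkY can0 (brow (nat_lit 112)) l8y (nat_lit 2)) i = 0 :=
  allB (rngB_step (allB0 _ _) l8yY_0) (by decide)
theorem l8yD : Dist (fun i => pvA (pt (brow (nat_lit 112)) l8y i)) 2 :=
  dist_of_chk (canT2 φA) l8yY
theorem l8RO : ∀ i < 2, (chkO (img2 (nat_lit 112) (shf lP (nat_lit 40))) (brow (nat_lit 112)) l8y l8Ra (nat_lit 2) [nat_lit 1]) i = 0 :=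
  allB (rngB_step (allB0 _ _) l8RO_0) (by decide)
theorem l8R : Reach lK8 (fun i => pvA (pt (brow (nat_lit 112)) l8y i)) 2 [nat_lit 1] :=
  reach_of_chk ((acts2 (m := mA) φA hA (shf lP (nat_lit 40))).ex ls8.el) l8RO
theorem l8X : ∀ i < 4, (chkFx (img2 (nat_lit 112) lP) (brow (nat_lit 112)) l8y (nat_lit 1) [nat_lit 0, nat_lit 0, nat_lit 0, nat_lit 0] (nat_lit 43)) i = 0 :=
  (rng_step (all0 _) l8X_0)
theorem ls9 : Suf mA lK9 lP 43 :=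
  ls8.step (by decide) (by decide) (acts2 (m := mA) φA hA lP) l8X
theorem l9yY : ∀ i < 2, (chkY can0 (brow (nat_lit 112)) l9y (nat_lit 2)) i = 0 :=
  allB (rngB_step (allB0 _ _) l9yY_0) (by decide)
theorem l9yD : Dist (fun i => pvA (pt (brow (nat_lit 112)) l9y i)) 2 :=
  dist_of_chk (canT2 φA) l9yY
theorem l9RO : ∀ i < 2, (chkO (img2 (nat_lit 112) (shf lP (nat_lit 43))) (brow (nat_lit 112)) l9y l9Ra (nat_lit 2) [nat_lit 0]) i = 0 :=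
  allB (rngB_step (allB0 _ _) l9RO_0) (by decide)
theorem l9R : Reach lK9 (fun i => pvA (pt (brow (nat_lit 112)) l9y i)) 2 [nat_lit 0] :=
  reach_of_chk ((acts2 (m := mA) φA hA (shf lP (nat_lit 43))).ex ls9.el) l9RO
theorem l9X : ∀ i < 2, (chkFx (img2 (nat_lit 112) lP) (brow (nat_lit 112)) l9y (nat_lit 0) [nat_lit 0, nat_lit 0] (nat_lit 45)) i = 0 :=
  (rng_step (all0 _) l9X_0)
theorem ls10 : Suf mA lK10 lP 45 :=
  ls9.step (by decide) (by decide) (acts2 (m := mA) φA hA lP) l9X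
theorem l10yY : ∀ i < 2, (chkY can0 (brow (nat_lit 112)) l10y (nat_lit 2)) i = 0 :=
  allB (rngB_step (allB0 _ _) l10yY_0) (by decide)
theorem l10yD : Dist (fun i => pvA (pt (brow (nat_lit 112)) l10y i)) 2 :=
  dist_of_chk (canT2 φA) l10yY
theorem l10RO : ∀ i < 2, (chkO (img2 (nat_lit 112) (shf lP (nat_lit 45))) (brow (nat_lit 112)) l10y l10Ra (nat_lit 2) [nat_lit 0]) i = 0 :=
  allB (rngB_step (allB0 _ _) l10RO_0) (by decide)
theorem l10R : Reach lK10 (fun i => pvA (pt (brow (nat_lit 112)) l10y i)) 2 [nat_lit 0] :=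
  reach_of_chk ((acts2 (m := mA) φA hA (shf lP (nat_lit 45))).ex ls10.el) l10RO
theorem l10X : ∀ i < 0, (chkFx (img2 (nat_lit 112) lP) (brow (nat_lit 112)) l10y (nat_lit 0) [] (nat_lit 47)) i = 0 :=
  (all0 _)
theorem ls11 : Suf mA lK11 lP 47 :=
  ls10.step (by decide) (by decide) (acts2 (m := mA) φA hA lP) l10X
theorem llb11 : 1 ≤ Nat.card lK11 :=
  one_le_card _
theorem llb10 : 2 ≤ Nat.card lK10 :=
  le_of_eq_of_le (by norm_num) (card_ge l10yD l10R llb11)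
theorem llb9 : 4 ≤ Nat.card lK9 :=
  le_of_eq_of_le (by norm_num) (card_ge l9yD l9R llb10)
theorem llb8 : 8 ≤ Nat.card lK8 :=
  le_of_eq_of_le (by norm_num) (card_ge l8yD l8R llb9)
theorem llb7 : 16 ≤ Nat.card lK7 :=
  le_of_eq_of_le (by norm_num) (card_ge l7yD l7R llb8)
theorem llb6 : 32 ≤ Nat.card lK6 :=
  le_of_eq_of_le (by norm_num) (card_ge l6yD l6R llb7)
theorem llb5 : 64 ≤ Nat.card lK5 :=
  le_of_eq_of_le (by norm_num) (card_ge l5yD l5R llb6)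
theorem llb4 : 128 ≤ Nat.card lK4 :=
  le_of_eq_of_le (by norm_num) (card_ge l4yD l4R llb5)
theorem llb3 : 256 ≤ Nat.card lK3 :=
  le_of_eq_of_le (by norm_num) (card_ge l3yD l3R llb4)
theorem llb2 : 24576 ≤ Nat.card lK2 :=
  le_of_eq_of_le (by norm_num) (card_ge l2yD l2R llb3)
theorem llb1 : 9437184 ≤ Nat.card lK1 :=
  le_of_eq_of_le (by norm_num) (card_ge l1yD l1R llb2)
theorem llb0 : 283115520 ≤ Nat.card C1 :=
  le_of_eq_of_le (by norm_num) (card_ge l0yD l0R llb1)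
theorem C1l0lb : 283115520 ≤ Nat.card C1 :=
  llb0
theorem C1l1lb : 141557760 ≤ Nat.card mK1 :=
  lb_step C1l0lb (rel_of_chkS2 (m := mA) m1el (by decide) C1c0T0 C1c0S) (by decide) (by norm_num)
theorem x0yY : ∀ i < 77, (chkY can0 (brow (nat_lit 112)) x0y (nat_lit 77)) i = 0 :=
  allB (rngB_step (allB0 _ _) x0yY_0) (by decide)
theorem x0yD : Dist (fun i => pvA (pt (brow (nat_lit 112)) x0y i)) 77 :=
  dist_of_chk (canT2 φA) x0yY
theorem x0RO : ∀ i < 77, (chkO (img2 (nat_lit 112) Mg) (brow (nat_lit 112)) x0y x0Ra (nat_lit 77) [nat_lit 31]) i = 0 :=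
  allB (rngB_step (allB0 _ _) x0RO_0) (by decide)
theorem x0R : Reach M (fun i => pvA (pt (brow (nat_lit 112)) x0y i)) 77 [nat_lit 31] :=
  reach_of_chk ((acts2 (m := mA) φA hA Mg).ex M_eg) x0RO
theorem x0F : ∀ i < 2, (chkF (img2 (nat_lit 112) mK1g) (brow (nat_lit 112)) x0y (nat_lit 31) [nat_lit 0, nat_lit 0]) i = 0 :=
  (rng_step (all0 _) x0F_0)
theorem x0st : mK1 ≤ MulAction.stabilizer GA (pvA (pt (brow (nat_lit 112)) x0y (nat_lit 31))) :=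
  gn_le_stab (acts2 (m := mA) φA hA mK1g) x0F
theorem x1yY : ∀ i < 16, (chkY can0 (brow (nat_lit 112)) x1y (nat_lit 16)) i = 0 :=
  allB (rngB_step (allB0 _ _) x1yY_0) (by decide)
theorem x1yD : Dist (fun i => pvA (pt (brow (nat_lit 112)) x1y i)) 16 :=
  dist_of_chk (canT2 φA) x1yY
theorem x1RO : ∀ i < 16, (chkO (img2 (nat_lit 112) mK1g) (brow (nat_lit 112)) x1y x1Ra (nat_lit 16) [nat_lit 15]) i = 0 :=
  allB (rngB_step (allB0 _ _) x1RO_0) (by decide)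
theorem x1R : Reach mK1 (fun i => pvA (pt (brow (nat_lit 112)) x1y i)) 16 [nat_lit 15] :=
  reach_of_chk ((acts2 (m := mA) φA hA mK1g).ex mK1_eg) x1RO
theorem x1F : ∀ i < 2, (chkF (img2 (nat_lit 112) mK2g) (brow (nat_lit 112)) x1y (nat_lit 15) [nat_lit 0, nat_lit 0]) i = 0 :=
  (rng_step (all0 _) x1F_0)
theorem x1st : mK2 ≤ MulAction.stabilizer GA (pvA (pt (brow (nat_lit 112)) x1y (nat_lit 15))) :=
  gn_le_stab (acts2 (m := mA) φA hA mK2g) x1F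
theorem x2yY : ∀ i < 15, (chkY can0 (brow (nat_lit 112)) x2y (nat_lit 15)) i = 0 :=
  allB (rngB_step (allB0 _ _) x2yY_0) (by decide)
theorem x2yD : Dist (fun i => pvA (pt (brow (nat_lit 112)) x2y i)) 15 :=
  dist_of_chk (canT2 φA) x2yY
theorem x2RO : ∀ i < 15, (chkO (img2 (nat_lit 112) mK2g) (brow (nat_lit 112)) x2y x2Ra (nat_lit 15) [nat_lit 5]) i = 0 :=
  allB (rngB_step (allB0 _ _) x2RO_0) (by decide)
theorem x2R : Reach mK2 (fun i => pvA (pt (brow (nat_lit 112)) x2y i)) 15 [nat_lit 5] :=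
  reach_of_chk ((acts2 (m := mA) φA hA mK2g).ex mK2_eg) x2RO
theorem x2F : ∀ i < 2, (chkF (img2 (nat_lit 112) mK3g) (brow (nat_lit 112)) x2y (nat_lit 5) [nat_lit 0, nat_lit 0]) i = 0 :=
  (rng_step (all0 _) x2F_0)
theorem x2st : mK3 ≤ MulAction.stabilizer GA (pvA (pt (brow (nat_lit 112)) x2y (nat_lit 5))) :=
  gn_le_stab (acts2 (m := mA) φA hA mK3g) x2F
theorem x3yY : ∀ i < 3, (chkY can0 (brow (nat_lit 112)) x3y (nat_lit 3)) i = 0 :=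
  allB (rngB_step (allB0 _ _) x3yY_0) (by decide)
theorem x3yD : Dist (fun i => pvA (pt (brow (nat_lit 112)) x3y i)) 3 :=
  dist_of_chk (canT2 φA) x3yY
theorem x3RO : ∀ i < 3, (chkO (img2 (nat_lit 112) mK3g) (brow (nat_lit 112)) x3y x3Ra (nat_lit 3) [nat_lit 1]) i = 0 :=
  allB (rngB_step (allB0 _ _) x3RO_0) (by decide)
theorem x3R : Reach mK3 (fun i => pvA (pt (brow (nat_lit 112)) x3y i)) 3 [nat_lit 1] :=
  reach_of_chk ((acts2 (m := mA) φA hA mK3g).ex mK3_eg) x3RO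
theorem x3F : ∀ i < 3, (chkF (img2 (nat_lit 112) mK4g) (brow (nat_lit 112)) x3y (nat_lit 1) [nat_lit 0, nat_lit 0, nat_lit 0]) i = 0 :=
  (rng_step (all0 _) x3F_0)
theorem x3st : mK4 ≤ MulAction.stabilizer GA (pvA (pt (brow (nat_lit 112)) x3y (nat_lit 1))) :=
  gn_le_stab (acts2 (m := mA) φA hA mK4g) x3F
theorem x4yY : ∀ i < 8, (chkY can0 (brow (nat_lit 112)) x4y (nat_lit 8)) i = 0 :=
  allB (rngB_step (allB0 _ _) x4yY_0) (by decide)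
theorem x4yD : Dist (fun i => pvA (pt (brow (nat_lit 112)) x4y i)) 8 :=
  dist_of_chk (canT2 φA) x4yY
theorem x4RO : ∀ i < 8, (chkO (img2 (nat_lit 112) mK4g) (brow (nat_lit 112)) x4y x4Ra (nat_lit 8) [nat_lit 0]) i = 0 :=
  allB (rngB_step (allB0 _ _) x4RO_0) (by decide)
theorem x4R : Reach mK4 (fun i => pvA (pt (brow (nat_lit 112)) x4y i)) 8 [nat_lit 0] :=
  reach_of_chk ((acts2 (m := mA) φA hA mK4g).ex mK4_eg) x4RO
theorem x4F : ∀ i < 7, (chkF (img2 (nat_lit 112) mK5g) (brow (nat_lit 112)) x4y (nat_lit 0) [nat_lit 0, nat_lit 0, nat_lit 0, nat_lit 0, nat_lit 0, nat_lit 0, nat_lit 0]) i = 0 :=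
  (rng_step (all0 _) x4F_0)
theorem x4st : mK5 ≤ MulAction.stabilizer GA (pvA (pt (brow (nat_lit 112)) x4y (nat_lit 0))) :=
  gn_le_stab (acts2 (m := mA) φA hA mK5g) x4F
theorem m1lb : 141557760 ≤ Nat.card mK1 :=
  C1l1lb
theorem m2lb : 8847360 ≤ Nat.card mK2 :=
  lb_step m1lb (rel_of_chkS2 (m := mA) m2el (by decide) m1T0 m1S) (by decide) (by norm_num)
theorem m3lb : 589824 ≤ Nat.card mK3 :=
  lb_step m2lb (rel_of_chkS2 (m := mA) m3el (by decide) m2T0 m2S) (by decide) (by norm_num)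
theorem m4lb : 196608 ≤ Nat.card mK4 :=
  lb_step m3lb (rel_of_chkS2 (m := mA) m4el (by decide) m3T0 m3S) (by decide) (by norm_num)
theorem m5lb : 24576 ≤ Nat.card mK5 :=
  lb_step m4lb (rel_of_chkS2 (m := mA) m5el (by decide) m4T0 m4S) (by decide) (by norm_num)
theorem m6lb : 8192 ≤ Nat.card mK6 :=
  lb_step m5lb (rel_of_chkS2 (m := mA) m6el (by decide) m5T0 m5S) (by decide) (by norm_num)
theorem x0 : MulAction.orbit M (pvA (pt (brow (nat_lit 112)) x0y (nat_lit 31))) = (fun i => pvA (pt (brow (nat_lit 112)) x0y i)) '' {i | i < 77} ∧ M ⊓ MulAction.stabilizer GA (pvA (pt (brow (nat_lit 112)) x0y (nat_lit 31))) = mK1 ∧ Nat.card M = 77 * 141557760 ∧ Nat.card mK1 = 141557760 :=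
  exact (Y := (fun i => pvA (pt (brow (nat_lit 112)) x0y i))) (r := (nat_lit 31)) x0yD x0R m0le x0st m1lb (m0ub.trans (by norm_num))
theorem x1 : MulAction.orbit mK1 (pvA (pt (brow (nat_lit 112)) x1y (nat_lit 15))) = (fun i => pvA (pt (brow (nat_lit 112)) x1y i)) '' {i | i < 16} ∧ mK1 ⊓ MulAction.stabilizer GA (pvA (pt (brow (nat_lit 112)) x1y (nat_lit 15))) = mK2 ∧ Nat.card mK1 = 16 * 8847360 ∧ Nat.card mK2 = 8847360 :=
  exact (Y := (fun i => pvA (pt (brow (nat_lit 112)) x1y i))) (r := (nat_lit 15)) x1yD x1R m1le x1st m2lb (m1ub.trans (by norm_num))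
theorem x2 : MulAction.orbit mK2 (pvA (pt (brow (nat_lit 112)) x2y (nat_lit 5))) = (fun i => pvA (pt (brow (nat_lit 112)) x2y i)) '' {i | i < 15} ∧ mK2 ⊓ MulAction.stabilizer GA (pvA (pt (brow (nat_lit 112)) x2y (nat_lit 5))) = mK3 ∧ Nat.card mK2 = 15 * 589824 ∧ Nat.card mK3 = 589824 :=
  exact (Y := (fun i => pvA (pt (brow (nat_lit 112)) x2y i))) (r := (nat_lit 5)) x2yD x2R m2le x2st m3lb (m2ub.trans (by norm_num))
theorem x3 : MulAction.orbit mK3 (pvA (pt (brow (nat_lit 112)) x3y (nat_lit 1))) = (fun i => pvA (pt (brow (nat_lit 112)) x3y i)) '' {i | i < 3} ∧ mK3 ⊓ MulAction.stabilizer GA (pvA (pt (brow (nat_lit 112)) x3y (nat_lit 1))) = mK4 ∧ Nat.card mK3 = 3 * 196608 ∧ Nat.card mK4 = 196608 :=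
  exact (Y := (fun i => pvA (pt (brow (nat_lit 112)) x3y i))) (r := (nat_lit 1)) x3yD x3R m3le x3st m4lb (m3ub.trans (by norm_num))
theorem x4 : MulAction.orbit mK4 (pvA (pt (brow (nat_lit 112)) x4y (nat_lit 0))) = (fun i => pvA (pt (brow (nat_lit 112)) x4y i)) '' {i | i < 8} ∧ mK4 ⊓ MulAction.stabilizer GA (pvA (pt (brow (nat_lit 112)) x4y (nat_lit 0))) = mK5 ∧ Nat.card mK4 = 8 * 24576 ∧ Nat.card mK5 = 24576 :=
  exact (Y := (fun i => pvA (pt (brow (nat_lit 112)) x4y i))) (r := (nat_lit 0)) x4yD x4R m4le x4st m5lb (m4ub.trans (by norm_num))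
theorem core : ∀ N : Subgroup GA, Nm M N → N ≤ mK1 → N ≤ mK5 :=
  fun N hN h =>
  have hf := fix_of_reach hN x0R (h.trans x0st)
  ((le_stab_of_fix (j := 23) hf ((le_stab_of_fix (j := 39) hf ((le_stab_of_fix (j := 21) hf ((le_stab_of_fix (j := 72) hf h (by decide) (congrArg pvA corex1)).trans x1.2.1.le) (by decide) (congrArg pvA corex2)).trans x2.2.1.le) (by decide) (congrArg pvA corex3)).trans x3.2.1.le) (by decide) (congrArg pvA corex4)).trans x4.2.1.le)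
theorem mxRO : ∀ i < 77, (chkO (img2 (nat_lit 112) mK1g) (brow (nat_lit 112)) x0y mxRa (nat_lit 77) [nat_lit 31, nat_lit 19, nat_lit 68]) i = 0 :=
  allB (rngB_step (allB0 _ _) mxRO_0) (by decide)
theorem mxR : Reach mK1 (fun i => pvA (pt (brow (nat_lit 112)) x0y i)) 77 [nat_lit 31, nat_lit 19, nat_lit 68] :=
  reach_of_chk ((acts2 (m := mA) φA hA mK1g).ex mK1_eg) mxRO
theorem mxE : ∀ i < 2, (chkE mxt me0 [nat_lit 28639244038, nat_lit 15604278665]) i = 0 :=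
  (rng_step (all0 _) mxE_0)
theorem mxR1O : ∀ i < 77, (chkO (img2 (nat_lit 112) mxg1) (brow (nat_lit 112)) x0y mxR1a (nat_lit 77) [nat_lit 31]) i = 0 :=
  allB (rngB_step (allB0 _ _) mxR1O_0) (by decide)
theorem mxR0O : ∀ i < 77, (chkO (img2 (nat_lit 112) mxg0) (brow (nat_lit 112)) x0y mxR0a (nat_lit 77) [nat_lit 31]) i = 0 :=
  allB (rngB_step (allB0 _ _) mxR0O_0) (by decide)
theorem mx : ∀ X0 : Subgroup GA, mK1 ≤ X0 → X0 ≤ M → X0 = mK1 ∨ X0 = M :=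
  max_of_reach (Y := (fun i => pvA (pt (brow (nat_lit 112)) x0y i))) x0.1.le x0.2.1.le mxR
    (mem_forall_cons (Or.inl rfl) (mem_forall_cons (root_rel (acts2 (m := mA) φA hA mxg0) (in_of_chkE m0el mxE 0 (by decide)) mK1_eg mxM0 mxR0O) (mem_forall_cons (root_rel (acts2 (m := mA) φA hA mxg1) (in_of_chkE m0el mxE 1 (by decide)) mK1_eg mxM1 mxR1O) mem_forall_nil)))
theorem C1F : ∀ i < 3, (chkF (img2 (nat_lit 112) C1g) (brow (nat_lit 112)) x0y (nat_lit 31) []) i = 0 :=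
  (rng_step (all0 _) C1F_0)
theorem C0lb : 21799895040 ≤ Nat.card C0 :=
  le_of_eq_of_le (by norm_num) (lower x0yD (x0R.mono C0c0le) C1C0 (gn_le_stab (acts2 (m := mA) φA hA C1g) C1F) llb0)
theorem M11 : ∀ i < 2, (fun s => Nat.xor (pw (mul2 (nat_lit 112)) (one2 (nat_lit 112)) (Mg s) 11) (one2 (nat_lit 112))) i = 0 :=
  (rng_step (all0 _) M11_0)
theorem nQJ : ∀ i < 36, (chkNm (mul2 (nat_lit 112)) C0g mK6g me6 (nat_lit 12) nQa) i = 0 :=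
  (rng_step (all0 _) nQJ_0)
theorem nQ : Nm C0 mK6 :=
  nm_of_chkNm (ng := 3) m6el nQJ
theorem nNJ : ∀ i < 21, (chkNm (mul2 (nat_lit 112)) C0g mK5g me5 (nat_lit 7) nNa) i = 0 :=
  (rng_step (all0 _) nNJ_0)
theorem nN : Nm C0 mK5 :=
  nm_of_chkNm (ng := 3) m5el nNJ
theorem zQE : ∀ i < 1, (chkE zc me6 [nat_lit 704]) i = 0 :=
  (rng_step (all0 _) zQE_0)
theorem zQ : ∀ s < 1, mA.In mK6 (zc s) :=
  in_of_chkE m6el zQE
theorem C0J : ∀ i < 3, (fun s => chkJ (mul2 (nat_lit 112)) (C0g s) (zc 0) (zc 0)) i = 0 :=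
  (rng_step (all0 _) C0J_0)
theorem wQE : ∀ i < 12, (chkE wq me6 [nat_lit 4439, nat_lit 2694, nat_lit 5809, nat_lit 1739, nat_lit 7792, nat_lit 2977, nat_lit 7886, nat_lit 2725, nat_lit 1422, nat_lit 5989, nat_lit 7707, nat_lit 2310]) i = 0 :=
  (rng_step (all0 _) wQE_0)
theorem wQ : ∀ s < 12, mA.In mK6 (wq s) :=
  in_of_chkE m6el wQE
theorem ES : ∀ i < 144, (chkES (mul2 (nat_lit 112)) (one2 (nat_lit 112)) mK6g wq kA (zc 0) (nat_lit 12)) i = 0 :=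
  (rng_step (all0 _) ES_0)
theorem c0lb : 501397585920 ≤ Nat.card H :=
  cardH.ge
theorem c1lb : 20891566080 ≤ Nat.card cK1 :=
  lb_step c0lb (rel_of_chkS2 (m := mA) c1el (by decide) c0T0 c0S) (by decide) (by norm_num)
theorem c2lb : 908328960 ≤ Nat.card cK2 :=
  lb_step c1lb (rel_of_chkS2 (m := mA) c2el (by decide) c1T0 c1S) (by decide) (by norm_num)
theorem c3lb : 41287680 ≤ Nat.card cK3 :=
  lb_step c2lb (rel_of_chkS2 (m := mA) c3el (by decide) c2T0 c2S) (by decide) (by norm_num)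
theorem c4lb : 1966080 ≤ Nat.card cK4 :=
  lb_step c3lb (rel_of_chkS2 (m := mA) c4el (by decide) c3T0 c3S) (by decide) (by norm_num)
theorem c5lb : 98304 ≤ Nat.card cK5 :=
  lb_step c4lb (rel_of_chkS2 (m := mA) c5el (by decide) c4T0 c4S) (by decide) (by norm_num)
theorem c6lb : 6144 ≤ Nat.card cK6 :=
  lb_step c5lb (rel_of_chkS2 (m := mA) c6el (by decide) c5T0 c5S) (by decide) (by norm_num)
theorem c7lb : 2048 ≤ Nat.card cK7 :=
  lb_step c6lb (rel_of_chkS2 (m := mA) c7el (by decide) c6T0 c6S) (by decide) (by norm_num)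
theorem c8cov : Cov mA cK8 ce8 64 :=
  cov_cel1 (W := 0) (el_one (m := mA) ⊥) (by decide) (by decide) c8T0 rfl c8S cov_bot
theorem c8e0 : ce8 0 = (one2 (nat_lit 112)) :=
  cel1_zero.trans c8T0
theorem c7cov : Cov mA cK7 ce7 2048 :=
  cov_cel1 (W := 6) c8el (by decide) (by decide) c7T0 c8e0 c7S c8cov
theorem c7e0 : ce7 0 = (one2 (nat_lit 112)) :=
  cel1_zero.trans c7T0
theorem nEJ : ∀ i < 22, (chkNm (mul2 (nat_lit 112)) Hg cK7g ce7 (nat_lit 11) nEa) i = 0 :=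
  (rng_step (all0 _) nEJ_0)
theorem nE : Nm H cK7 :=
  nm_of_chkNm (ng := 2) c7el nEJ
theorem CO : ∀ i < 1771, (chkCO (mul2 (nat_lit 112)) Hg ce7 tz tza (nat_lit 1771) (nat_lit 2048) (nat_lit 1657)) i = 0 :=
  (rng_step (rng_step (rng_step (rng_step (rng_step (rng_step (rng_step (all0 _) CO_0) CO_1) CO_2) CO_3) CO_4) CO_5) CO_6)
theorem PP : ∀ i < 55, (chkPair (img2 (nat_lit 112) cK7g) (brow (nat_lit 112)) Yr (nat_lit 5)) i = 0 :=
  (rng_step (all0 _) PP_0)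
theorem pp : PairP cK7 pvA (brow (nat_lit 112)) Yr 5 :=
  pairP_of_chk (ng := 11) (acts2 (m := mA) φA hA cK7g) (by decide) PP
theorem FI : ∀ i < 2048, (fun x => (Nat.add (chkFi (img2 (nat_lit 112) ce7) (brow (nat_lit 112)) kV Br (nat_lit 0) (nat_lit 5) [nat_lit 0, nat_lit 158, nat_lit 214, nat_lit 898, nat_lit 1463, nat_lit 1773, nat_lit 1842, nat_lit 1916] x) (Nat.add (chkFi (img2 (nat_lit 112) ce7) (brow (nat_lit 112)) kV Br (nat_lit 10) (nat_lit 5) [nat_lit 0, nat_lit 1916] x) (Nat.add (chkFi (img2 (nat_lit 112) ce7) (brow (nat_lit 112)) kV Br (nat_lit 20) (nat_lit 5) [nat_lit 0] x) (Nat.add (chkFi (img2 (nat_lit 112) ce7) (brow (nat_lit 112)) kV Br (nat_lit 30) (nat_lit 5) [nat_lit 0] x) (Nat.add (chkFi (img2 (nat_lit 112) ce7) (brow (nat_lit 112)) kV Br (nat_lit 40) (nat_lit 5) [nat_lit 0] x) (chkFi (img2 (nat_lit 112) ce7) (brow (nat_lit 112)) kV Br (nat_lit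 50) (nat_lit 5) [nat_lit 0] x))))))) i = 0 :=
  (rng_step (rng_step (rng_step (rng_step (all0 _) FI_0) FI_1) FI_2) FI_3)
theorem BY1 : ∀ i < 10, (chkBY (img2 (nat_lit 112) qD) (brow (nat_lit 112)) Br Yr (nat_lit 1) (nat_lit 0)) i = 0 :=
  (rng_step (all0 _) BY1_0)
theorem F1 : ∀ u ∈ Lc cK7 (mA.elt (qD 1)), ∃ x ∈ [nat_lit 0, nat_lit 158, nat_lit 214, nat_lit 898, nat_lit 1463, nat_lit 1773, nat_lit 1842, nat_lit 1916], mA.φ u = mA.ev (ce7 x) :=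
  lc_of_chkFi (vkey2 φA) c7cov pp (acts2 (m := mA) φA hA ce7) (acts2 (m := mA) φA hA qD) (qelD 1) (by decide) BY1 fun x hx => (add_eq_zero' (FI x hx)).1
theorem BY2 : ∀ i < 10, (chkBY (img2 (nat_lit 112) qD) (brow (nat_lit 112)) Br Yr (nat_lit 2) (nat_lit 10)) i = 0 :=
  (rng_step (all0 _) BY2_0)
theorem F2 : ∀ u ∈ Lc cK7 (mA.elt (qD 2)), ∃ x ∈ [nat_lit 0, nat_lit 1916], mA.φ u = mA.ev (ce7 x) :=
  lc_of_chkFi (vkey2 φA) c7cov pp (acts2 (m := mA) φA hA ce7) (acts2 (m := mA) φA hA qD) (qelD 2) (by decide) BY2 fun x hx => (add_eq_zero' (add_eq_zero' (FI x hx)).2).1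
theorem BY3 : ∀ i < 10, (chkBY (img2 (nat_lit 112) qD) (brow (nat_lit 112)) Br Yr (nat_lit 3) (nat_lit 20)) i = 0 :=
  (rng_step (all0 _) BY3_0)
theorem F3 : ∀ u ∈ Lc cK7 (mA.elt (qD 3)), ∃ x ∈ [nat_lit 0], mA.φ u = mA.ev (ce7 x) :=
  lc_of_chkFi (vkey2 φA) c7cov pp (acts2 (m := mA) φA hA ce7) (acts2 (m := mA) φA hA qD) (qelD 3) (by decide) BY3 fun x hx => (add_eq_zero' (add_eq_zero' (add_eq_zero' (FI x hx)).2).2).1
theorem BY4 : ∀ i < 10, (chkBY (img2 (nat_lit 112) qD) (brow (nat_lit 112)) Br Yr (nat_lit 4) (nat_lit 30)) i = 0 :=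
  (rng_step (all0 _) BY4_0)
theorem F4 : ∀ u ∈ Lc cK7 (mA.elt (qD 4)), ∃ x ∈ [nat_lit 0], mA.φ u = mA.ev (ce7 x) :=
  lc_of_chkFi (vkey2 φA) c7cov pp (acts2 (m := mA) φA hA ce7) (acts2 (m := mA) φA hA qD) (qelD 4) (by decide) BY4 fun x hx => (add_eq_zero' (add_eq_zero' (add_eq_zero' (add_eq_zero' (FI x hx)).2).2).2).1
theorem BY5 : ∀ i < 10, (chkBY (img2 (nat_lit 112) qD) (brow (nat_lit 112)) Br Yr (nat_lit 5) (nat_lit 40)) i = 0 :=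
  (rng_step (all0 _) BY5_0)
theorem F5 : ∀ u ∈ Lc cK7 (mA.elt (qD 5)), ∃ x ∈ [nat_lit 0], mA.φ u = mA.ev (ce7 x) :=
  lc_of_chkFi (vkey2 φA) c7cov pp (acts2 (m := mA) φA hA ce7) (acts2 (m := mA) φA hA qD) (qelD 5) (by decide) BY5 fun x hx => (add_eq_zero' (add_eq_zero' (add_eq_zero' (add_eq_zero' (add_eq_zero' (FI x hx)).2).2).2).2).1
theorem BY6 : ∀ i < 10, (chkBY (img2 (nat_lit 112) qD) (brow (nat_lit 112)) Br Yr (nat_lit 6) (nat_lit 50)) i = 0 :=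
  (rng_step (all0 _) BY6_0)
theorem F6 : ∀ u ∈ Lc cK7 (mA.elt (qD 6)), ∃ x ∈ [nat_lit 0], mA.φ u = mA.ev (ce7 x) :=
  lc_of_chkFi (vkey2 φA) c7cov pp (acts2 (m := mA) φA hA ce7) (acts2 (m := mA) φA hA qD) (qelD 6) (by decide) BY6 fun x hx => (add_eq_zero' (add_eq_zero' (add_eq_zero' (add_eq_zero' (add_eq_zero' (FI x hx)).2).2).2).2).2
theorem CW1 : ∀ i < 7, (chkCW (mul2 (nat_lit 112)) (one2 (nat_lit 112)) qL1P ce7 [[nat_lit 0, nat_lit 0, nat_lit 1],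
  [nat_lit 0, nat_lit 1, nat_lit 0],
  [nat_lit 0, nat_lit 1],
  [nat_lit 0],
  [nat_lit 0, nat_lit 1, nat_lit 1, nat_lit 0, nat_lit 1],
  [nat_lit 0, nat_lit 0, nat_lit 1, nat_lit 1],
  []] [nat_lit 158, nat_lit 214, nat_lit 898, nat_lit 1463, nat_lit 1773, nat_lit 1842, nat_lit 1916] (zc 0)) i = 0 :=
  (rng_step (all0 _) CW1_0)
theorem CW2 : ∀ i < 1, (chkCW (mul2 (nat_lit 112)) (one2 (nat_lit 112)) qL2P ce7 [[]] [nat_lit 1916] (zc 0)) i = 0 :=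
  (rng_step (all0 _) CW2_0)
theorem DCE : ∀ i < 2, (chkE D12 C0ce0 [nat_lit 29708069764, nat_lit 47849826567]) i = 0 :=
  (rng_step (all0 _) DCE_0)
theorem DC : ∀ s < 2, mA.In C0 (D12 s) :=
  in_of_chkE C0c0el DCE

noncomputable abbrev zz : GA := mA.elt (zc 0)

theorem zT : mA.In ⊤ (zc 0) := (zQ 0 (by decide)).top

theorem C0c : C0 ≤ centralizer {zz} := gn_le_cent zT.elt C0J

theorem cH1 : H ⊓ centralizer {zz} = C1 :=
  cent_eq_of_chkCO H_eg c7cov c7el c7lb CO (zT.elt.trans (congrArg mA.ev zE.symm)) C1H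
    (C1C0.trans C0c) llb0 (cardH.le.trans (by norm_num))

theorem cG : qG ⊓ centralizer {zz} = C0 :=
  le_antisymm (cent_le_of_dc (E := cK7) (zE ▸ c7el _ : mA.In cK7 (zc 0)).elt_mem (ne_one_of_chkQ keyA zT zq) nE
    (d := fun i => mA.elt (qD i)) (dcos_map_id qcov) qd0 C0c (cH1.le.trans C1C0)
    (all_succ (all_succ (all_succ (all_succ (all_succ (all_succ (all_succ all_nil
      (fun h => absurd rfl h))
      (fun _ => fi_list (l := [nat_lit 158, nat_lit 214, nat_lit 898, nat_lit 1463, nat_lit 1773, nat_lit 1842, nat_lit 1916]) c7e0 zT (DC 0 (by decide)).elt_mem qL1el CW1 F1))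
      (fun _ => fi_list (l := [nat_lit 1916]) c7e0 zT (DC 1 (by decide)).elt_mem qL2el CW2 F2))
      (fun _ => fi_one c7e0 F3)) (fun _ => fi_one c7e0 F4)) (fun _ => fi_one c7e0 F5))
      (fun _ => fi_one c7e0 F6))) (le_inf C0G C0c)

theorem NM : mK5 ≤ M := (m4le.trans (m3le.trans (m2le.trans (m1le.trans m0le))))

theorem cardQ : Nat.card mK6 = 2 ^ 13 := le_antisymm m6ub m6lb

theorem cardN : Nat.card mK5 = 3 * 2 ^ 13 := le_antisymm m5ub m5lb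

theorem cardM : Nat.card M = 10899947520 := x0.2.2.1.trans (by norm_num)

theorem esQ : H2.ES 2 (⟨zz, (zQ 0 (by decide)).elt_mem⟩ : mK6) :=
  es_of_chkES keyA mK6_top wQ (zQ 0 (by decide)) (ne_one_of_chkQ keyA zT zq) (pow_of_chkQ zT zq)
    (m5le.trans (NM.trans (C0c0le.trans C0c))) ES m6ub

theorem dichM : ∀ K : Subgroup M, K.Normal → K ≤ mK5.subgroupOf M ∨ K = ⊤ :=
  dich_rel m0le 11 (by rw [x0.2.2.2]; norm_num) mx core fun _ _ h => gn_le fun s hs =>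
    ⟨_, h _ (M_in s hs).elt_mem (elt_pow_eq_one (M_top s hs) (xor_eq_zero' (M11 s hs))), (M_top s hs).elt⟩

theorem main : ∃ (G : Type) (_ : Group G) (_ : Finite G), (IsSimpleGroup G ∧ Nat.card G = 86775571046077562880) ∧
      ∃ z : G, orderOf z = 2 ∧ ∃ (Q N M : Subgroup (centralizer ({z} : Set G))), Q.Normal ∧ N.Normal ∧
        Q ≤ N ∧ N ≤ M ∧ Nat.card Q = 2 ^ 13 ∧ Cfsg.IsExtraspecial 2 Q ∧ Nat.card N = 3 * 2 ^ 13 ∧
        M.index = 2 ∧ ∃ (_ : (N.subgroupOf M).Normal),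
          IsSimpleGroup (M ⧸ N.subgroupOf M) ∧ Nat.card (M ⧸ N.subgroupOf M) = 443520 :=
  j4_cent _ ⟨simpleG, cardG⟩ cG m5le NM C0c0le nQ nN esQ cardQ cardN (by rw [cardM, cardN]; norm_num)
    (by rw [cardM]; exact le_antisymm C0c0ub C0lb) dichM

end Cfsg.Agent.H4.J4
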