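import Cfsg.Agent.H4.Fis4
import Cfsg.Agent.H2.Extra

/-! Polycyclic checks, centralisers of involutions through a normal subgroup of the point
stabiliser, extraspecial groups from generators. -/

set_option autoImplicit false

namespace Cfsg.Agent.H4

open Subgroup Cfsg.Agent.H5 Cfsg.Agent.H5.Mdl
open scoped commutatorElement

section pure

variable {G : Type*} [Group G]

theorem Nm.le_normalizer {H N : Subgroup G} (h : Nm H N) : H ≤ normalizer (N : Set G) :=
  fun g hg => mem_normalizer_iff.2 fun n => ⟨h g hg n, fun hn => by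
    have := h g⁻¹ (H.inv_mem hg) _ hn
    rwa [show g⁻¹ * (g * n * g⁻¹) * g⁻¹⁻¹ = n by group] at this⟩

theorem pgroup_zpowers {p e : ℕ} {g : G} (h : g ^ p ^ e = 1) : IsPGroup p (zpowers g) := by
  rintro ⟨_, k, rfl⟩
  refine ⟨e, Subtype.ext ?_⟩
  change (g ^ k) ^ p ^ e = 1
  rw [← zpow_natCast, ← zpow_mul, mul_comm, zpow_mul, zpow_natCast, h, one_zpow]

theorem pow_dvd_of_pgroup [Finite G] {p k : ℕ} (hp : p.Prime) {P K : Subgroup G} (hP : IsPGroup p P)
    (hK : P ≤ K) {B : ℕ} (h : B ≤ Nat.card P) (hB : p ^ k < B) : p ^ (k + 1) ∣ Nat.card K := by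
  have := Fact.mk hp
  obtain ⟨n, hn⟩ := hP.exists_card_eq
  refine dvd_trans ?_ (card_dvd_of_le hK)
  rw [hn] at h ⊢
  exact pow_dvd_pow _ ((Nat.pow_lt_pow_iff_right hp.one_lt).1 (lt_of_lt_of_le hB h))

theorem lb_step {H K : Subgroup G} {n B A : ℕ} (h1 : A ≤ Nat.card H)
    (h2 : Nat.card H ≤ n * Nat.card K) (hn : 0 < n) (e : A = n * B) : B ≤ Nat.card K :=
  Nat.le_of_mul_le_mul_left (e ▸ h1.trans h2) hn

/-- the centraliser of `z` from a double coset decomposition -/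
theorem cent_le_of_dc {G' H E C : Subgroup G} {z : G} (hz : z ∈ E) (h1 : z ≠ 1) (hE : Nm H E)
    {d : ℕ → G} {r : ℕ} (hcov : ∀ g ∈ G', ∃ i < r, DCos H (d i) g) (h0 : d 0 = 1)
    (hC : C ≤ centralizer {z}) (hH : H ⊓ centralizer {z} ≤ C)
    (hF : ∀ i < r, i ≠ 0 → ∀ u ∈ Lc E (d i), u = 1 ∨ d i ∈ C ∧ ∃ k ∈ Lc H (d i), k * z * k⁻¹ = u) :
    G' ⊓ centralizer {z} ≤ C := by
  rintro g ⟨hg, hc⟩
  obtain ⟨i, hi, a, ha, b, hb, rfl⟩ := hcov g hg
  by_cases h2 : i = 0
  · rw [h2, h0, mul_one] at hc ⊢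
    exact hH ⟨H.mul_mem ha hb, hc⟩
  have e1 : a * d i * b * z = z * (a * d i * b) := mem_centralizer_singleton_iff.1 hc
  have e2 : d i * (b * z * b⁻¹) * (d i)⁻¹ = a⁻¹ * z * a⁻¹⁻¹ := by
    calc _ = a⁻¹ * (a * d i * b * z) * b⁻¹ * (d i)⁻¹ := by group
      _ = _ := by rw [e1]; group
  rcases hF i hi h2 (b * z * b⁻¹) (mem_Lc.2 ⟨hE b hb z hz, e2 ▸ hE _ (H.inv_mem ha) z hz⟩) with
    h | ⟨hd, k, hk, e⟩
  · exact absurd (by simpa using h) h1
  · have h3 : k⁻¹ * b ∈ C := hH ⟨H.mul_mem (H.inv_mem hk.1) hb, mem_centralizer_singleton_iff.2 (by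
      calc _ = k⁻¹ * (b * z * b⁻¹) * b := by group
        _ = _ := by rw [← e]; group)⟩
    have h4 : a * (d i * k * (d i)⁻¹) ∈ C := hH ⟨H.mul_mem ha hk.2, by
      have := (centralizer {z}).mul_mem ((centralizer {z}).mul_mem hc (inv_mem (hC h3)))
        (inv_mem (hC hd))
      rwa [show a * d i * b * (k⁻¹ * b)⁻¹ * (d i)⁻¹ = a * (d i * k * (d i)⁻¹) by group] at this⟩
    have := C.mul_mem (C.mul_mem h4 hd) h3
    rwa [show a * (d i * k * (d i)⁻¹) * d i * (k⁻¹ * b) = a * d i * b by group] at this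

theorem two_mul_card_le [Finite G] {K : Subgroup G} {w x : G} (hw : w ∈ K) (h : w * x ≠ x * w) :
    2 * Nat.card (K ⊓ centralizer {x} : Subgroup G) ≤ Nat.card K := by
  obtain ⟨c, hc⟩ := card_dvd_of_le (inf_le_left : K ⊓ centralizer {x} ≤ K)
  have h0 : c ≠ 0 := by rintro rfl; exact absurd hc Nat.card_pos.ne'
  have h1 : c ≠ 1 := by
    rintro rfl
    have := eq_of_le_of_card_ge (inf_le_left : K ⊓ centralizer {x} ≤ K) (by omega)
    exact h (mem_centralizer_singleton_iff.1 (this.ge hw).2)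
  rw [hc, mul_comm]
  exact Nat.mul_le_mul_left _ (by omega)

/-- successive centralisers -/
def cch (Q : Subgroup G) (x : ℕ → G) (k : ℕ) : Subgroup G :=
  Nat.rec (motive := fun _ => Subgroup G) Q (fun k K => K ⊓ centralizer {x k}) k

theorem mem_cch {Q : Subgroup G} {x : ℕ → G} {g : G} (hg : g ∈ Q) {k : ℕ}
    (h : ∀ i < k, g * x i = x i * g) : g ∈ cch Q x k := by
  induction k with
  | zero => exact hg
  | succ k ih =>
    exact ⟨ih fun i hi => h i (by omega), mem_centralizer_singleton_iff.2 (h k (by omega))⟩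

theorem card_cch [Finite G] {Q : Subgroup G} {x w : ℕ → G} {n : ℕ} (hw : ∀ k < n, w k ∈ Q)
    (h1 : ∀ k < n, ∀ i < k, w k * x i = x i * w k) (h2 : ∀ k < n, w k * x k ≠ x k * w k) :
    2 ^ n * Nat.card (cch Q x n) ≤ Nat.card Q := by
  induction n with
  | zero => rw [pow_zero, one_mul]; exact le_rfl
  | succ n ih =>
    refine le_trans ?_ (ih (fun k hk => hw k (by omega)) (fun k hk => h1 k (by omega))
      fun k hk => h2 k (by omega))
    rw [pow_succ, mul_assoc]
    exact Nat.mul_le_mul_left _ (two_mul_card_le (mem_cch (hw n (by omega)) (h1 n (by omega)))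
      (h2 n (by omega)))

theorem es_of_gens [Finite G] {S : Set G} {z : G} (hz : z ∈ closure S) (h1 : z ≠ 1) (h2 : z ^ 2 = 1)
    (hc : closure S ≤ centralizer {z})
    (hm : ∀ s ∈ S, ∀ t ∈ S, s * t = t * s ∨ s * t = z * (t * s))
    (hs : ∀ s ∈ S, s * s = 1 ∨ s * s = z) {K : Subgroup G}
    (hK : ∀ g ∈ closure S, (∀ x ∈ closure S, g * x = x * g) → g ∈ K) (hK2 : Nat.card K ≤ 2) :
    H2.ES 2 (⟨z, hz⟩ : closure S) := by
  set z' : closure S := ⟨z, hz⟩
  have hzc : zpowers z' ≤ center (closure S) := zpowers_le.2 (mem_center_iff.2 fun g =>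
    Subtype.ext (mem_centralizer_singleton_iff.1 (hc g.2)))
  have hn : (zpowers z').Normal := ⟨fun a ha g => by
    rw [mem_center_iff.1 (hzc ha) g, mul_inv_cancel_right]; exact ha⟩
  let π := QuotientGroup.mk' (zpowers z')
  have hπ : π z' = 1 := (QuotientGroup.eq_one_iff _).2 (mem_zpowers _)
  have c1 : ∀ x (hx : x ∈ closure S) y (hy : y ∈ closure S), Commute (π ⟨x, hx⟩) (π ⟨y, hy⟩) := by
    intro x hx y hy
    induction hx, hy using closure_induction₂ with
    | mem x y hx hy =>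
      rcases hm x hx y hy with h | h
      · change π _ * π _ = π _ * π _
        rw [← map_mul, ← map_mul]; exact congrArg π (Subtype.ext h)
      · change π _ * π _ = π _ * π _
        rw [← map_mul, ← map_mul, ← one_mul (π (⟨y, _⟩ * _)), ← hπ, ← map_mul]
        exact congrArg π (Subtype.ext h)
    | one_left x hx => exact (map_one π).symm ▸ Commute.one_left _
    | one_right x hx => exact (map_one π).symm ▸ Commute.one_right _
    | mul_left x y w hx hy hw a b => exact (map_mul π ⟨x, hx⟩ ⟨y, hy⟩).symm ▸ a.mul_left b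
    | mul_right y w x hy hw hx a b => exact (map_mul π ⟨y, hy⟩ ⟨w, hw⟩).symm ▸ a.mul_right b
    | inv_left x y hx hy a => exact (map_inv π ⟨x, hx⟩).symm ▸ a.inv_left
    | inv_right x y hx hy a => exact (map_inv π ⟨y, hy⟩).symm ▸ a.inv_right
  have c2 : ∀ x (hx : x ∈ closure S), π ⟨x, hx⟩ ^ 2 = 1 := by
    intro x hx
    induction hx using closure_induction with
    | mem x hx =>
      rw [sq, ← map_mul]
      rcases hs x hx with h | h
      · rw [← map_one π]; exact congrArg π (Subtype.ext h)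
      · rw [← hπ]; exact congrArg π (Subtype.ext h)
    | one => exact (map_one π).symm ▸ one_pow 2
    | mul x y hx hy a b =>
      refine (map_mul π ⟨x, hx⟩ ⟨y, hy⟩).symm ▸ ?_
      rw [(c1 x hx y hy).mul_pow, a, b, one_mul]
    | inv x hx a => refine (map_inv π ⟨x, hx⟩).symm ▸ ?_; rw [inv_pow, a, inv_one]
  have o : orderOf z' = 2 := orderOf_eq_prime (Subtype.ext h2) fun h => h1 (congrArg Subtype.val h)
  refine ⟨o, (eq_of_le_of_card_ge hzc ?_).symm, fun x y => ?_, fun x => ?_⟩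
  · rw [Nat.card_zpowers, o]
    refine le_trans (Nat.card_le_card_of_injective (fun g : center (closure S) =>
      (⟨g.1.1, hK _ g.1.2 fun x hx => congrArg Subtype.val (mem_center_iff.1 g.2 ⟨x, hx⟩).symm⟩ : K))
      fun a b h => Subtype.ext (Subtype.ext (congrArg (fun x : K => x.1) h))) hK2
  · rw [← QuotientGroup.eq_one_iff]
    change π ⁅x, y⁆ = 1
    rw [map_commutatorElement]
    exact commutatorElement_eq_one_iff_commute.2 (c1 x.1 x.2 y.1 y.2)
  · rw [← QuotientGroup.eq_one_iff]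
    change π (x ^ 2) = 1
    rw [map_pow]; exact c2 x.1 x.2

theorem es_congr {A B : Type*} [Group A] [Group B] (e : A ≃* B) {p : ℕ} {z : A} (h : H2.ES p z) :
    H2.ES p (e z) := by
  have hz : ∀ x : A, x ∈ zpowers z → e x ∈ zpowers (e z) := by
    rintro _ ⟨k, rfl⟩; exact ⟨k, (map_zpow e z k).symm⟩
  refine ⟨(e.orderOf_eq z).trans h.ord, le_antisymm (fun g hg => ?_) (zpowers_le.2 ?_),
    fun x y => ?_, fun x => ?_⟩
  · rw [← e.apply_symm_apply g]
    refine hz _ (h.cen ▸ mem_center_iff.2 fun a => e.injective ?_)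
    rw [map_mul, map_mul, e.apply_symm_apply]; exact mem_center_iff.1 hg _
  · refine mem_center_iff.2 fun g => ?_
    rw [← e.apply_symm_apply g, ← map_mul, ← map_mul, mem_center_iff.1 h.mem_center]
  · have := hz _ (h.comm (e.symm x) (e.symm y))
    rwa [map_commutatorElement, e.apply_symm_apply, e.apply_symm_apply] at this
  · have := hz _ (h.pow (e.symm x))
    rwa [map_pow, e.apply_symm_apply] at this

theorem simple_quot_of_dich {Z : Subgroup G} [Z.Normal] (h1 : Z ≠ ⊤)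
    (h : ∀ N : Subgroup G, N.Normal → N ≤ Z ∨ N = ⊤) : IsSimpleGroup (G ⧸ Z) := by
  have : Nontrivial (G ⧸ Z) := by
    obtain ⟨x, hx⟩ : ∃ x, x ∉ Z := by
      by_contra hc; push Not at hc; exact h1 (eq_top_iff.2 fun x _ => hc x)
    exact ⟨⟨x, 1, fun e => hx ((QuotientGroup.eq_one_iff x).1 e)⟩⟩
  refine ⟨fun N hN => (h _ (hN.comap (QuotientGroup.mk' Z))).imp (fun h => ?_) fun h => ?_⟩
  · rw [eq_bot_iff]; intro x hx
    obtain ⟨y, rfl⟩ := QuotientGroup.mk'_surjective Z x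
    exact (QuotientGroup.eq_one_iff y).2 (h hx)
  · rw [eq_top_iff]; intro x _
    obtain ⟨y, rfl⟩ := QuotientGroup.mk'_surjective Z x
    exact (h.ge (mem_top y) :)

/-- a subgroup inside the range of an embedding is isomorphic to its preimage -/
noncomputable def comapEquiv {C : Type*} [Group C] (ι : C →* G) (hι : Function.Injective ι)
    {M : Subgroup G} (hM : M ≤ ι.range) : M.comap ι ≃* M :=
  MulEquiv.ofBijective (ι.subgroupComap M) ⟨fun _ _ h => Subtype.ext (hι (congrArg Subtype.val h)),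
    fun x => let ⟨y, hy⟩ := hM x.2; ⟨⟨y, by rw [mem_comap, hy]; exact x.2⟩, Subtype.ext hy⟩⟩

/-- the embedding of a centraliser in a subgroup -/
def centι (G' : Subgroup G) (z : G') : centralizer ({z} : Set G') →* G :=
  G'.subtype.comp (Subgroup.subtype _)

theorem centι_inj (G' : Subgroup G) (z : G') : Function.Injective (centι G' z) :=
  G'.subtype_injective.comp (subtype_injective _)

theorem centι_range (G' : Subgroup G) (z : G') : (centι G' z).range = G' ⊓ centralizer {(z : G)} := by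
  ext x
  constructor
  · rintro ⟨⟨⟨y, hy⟩, h⟩, rfl⟩
    exact ⟨hy, mem_centralizer_singleton_iff.2
      (congrArg Subtype.val (mem_centralizer_singleton_iff.1 h))⟩
  · rintro ⟨hx, h⟩
    exact ⟨⟨⟨x, hx⟩, mem_centralizer_singleton_iff.2
      (Subtype.ext (mem_centralizer_singleton_iff.1 h))⟩, rfl⟩

theorem normal_comap_of_nm {C : Type*} [Group C] (ι : C →* G) {N : Subgroup G}
    (h : Nm ι.range N) : (N.comap ι).Normal := ⟨fun x hx g => by
  rw [mem_comap, map_mul, map_mul, map_inv]; exact h _ ⟨g, rfl⟩ _ hx⟩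

theorem card_range_eq {C : Type*} [Group C] (ι : C →* G) (hι : Function.Injective ι) :
    Nat.card C = Nat.card ι.range := Nat.card_congr (MonoidHom.ofInjective hι).toEquiv

end pure

section mdl

variable {G M : Type*} [Group G] [Monoid M] {m : Mdl G M}

theorem rel_of_chkS2 [Finite G] {gl T e ct : ℕ → ℕ} {ng jb n : ℕ} {K : Subgroup G}
    (he : m.El K e) (hn : 0 < n) (h0 : T 0 = m.one)
    (h : ∀ i < n, chkS2 m.mul gl ng T e ct jb n i = 0) :
    Nat.card (m.gn gl ng) ≤ n * Nat.card K := (card_le_of_cover (cover_of_chkS2 he hn h0 h)).2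

/-- conjugation relations of a polycyclic sequence -/
noncomputable def chkPC (mul : ℕ → ℕ → ℕ) (one : ℕ) (P : ℕ → ℕ) (ws : List (List ℕ)) (k q x : ℕ) : ℕ :=
  force (Nat.div x k) fun j => force (Nat.mod x k) fun i =>
    ifz (Nat.xor i j) (Nat.xor (pw mul one (P j) q) one)
      (below j (fun i => Nat.add (chkJ mul (P j) (P i) (wd mul one P (getW ws x)))
        (sumL' (getW ws x) fun a => lt0 a j)) i)

theorem in_wd {H : Subgroup G} {gl : ℕ → ℕ} {w : List ℕ} (h : ∀ a ∈ w, m.In H (gl a)) :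
    m.In H (wd m.mul m.one gl w) := by
  induction w with
  | nil => exact in_one H
  | cons a l ih =>
    exact (h a List.mem_cons_self).mul (ih fun b hb => h b (List.mem_cons_of_mem _ hb))

theorem pgroup_of_chkPC [Finite G] {P : ℕ → ℕ} {ws : List (List ℕ)} {k p e : ℕ}
    (hP : ∀ j < k, m.In ⊤ (P j)) (h : ∀ x < k * k, chkPC m.mul m.one P ws k (p ^ e) x = 0) :
    IsPGroup p (m.gn P k) := by
  have key : ∀ j ≤ k, IsPGroup p (m.gn P j) := by
    intro j
    induction j with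
    | zero => exact fun _ => IsPGroup.of_bot.to_le (gn_le fun s hs => absurd hs (by omega))
    | succ j ih =>
      intro hj
      have hx : ∀ i ≤ j, chkPC m.mul m.one P ws k (p ^ e) (k * j + i) = 0 ∧
          Nat.div (k * j + i) k = j ∧ Nat.mod (k * j + i) k = i := fun i hi =>
        ⟨h _ (by nlinarith), by
          change (k * j + i) / k = j
          rw [Nat.mul_add_div (by omega), Nat.div_eq_of_lt (by omega), add_zero], by
          change (k * j + i) % k = i
          rw [Nat.mul_add_mod, Nat.mod_eq_of_lt (by omega)]⟩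
      have h1 : Nm (m.gn (fun _ => P j) 1) (m.gn P j) := nm_gn fun _ _ i hi => by
        obtain ⟨a, b, c⟩ := hx i hi.le
        simp only [chkPC, force_eq, ifz_eq, b, c, below_eq] at a
        rw [if_neg fun h => absurd (xor_eq_zero' h) (by omega), if_pos hi] at a
        obtain ⟨a1, a2⟩ := add_eq_zero' a
        exact ⟨_, in_wd fun y hy => in_gn (fun s hs => hP s (by omega)) y
          (lt_of_lt0 (sumL'_zero a2 y hy)), a1⟩
      have h2 : IsPGroup p (m.gn (fun _ => P j) 1) := by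
        obtain ⟨a, b, c⟩ := hx j le_rfl
        simp only [chkPC, force_eq, ifz_eq, b, c] at a
        rw [if_pos (show Nat.xor j j = 0 from Nat.xor_self j)] at a
        exact (pgroup_zpowers (pow_eq_one_of_powC (hP j (by omega)).elt (xor_eq_zero' a))).to_le
          (gn_le fun _ _ => ⟨_, mem_zpowers _, (hP j (by omega)).elt⟩)
      refine (IsPGroup.to_sup_of_normal_left' (ih (by omega)) h2 h1.le_normalizer).to_le
        (gn_le fun s hs => ?_)
      rcases Nat.lt_succ_iff_lt_or_eq.1 hs with h3 | h3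
      · exact (in_gn (fun s hs => hP s (by omega)) s h3).mono le_sup_left
      · rw [h3]
        exact (in_gn (gl := fun _ => P j) (fun _ _ => hP j (by omega)) 0 one_pos).mono le_sup_right
  exact key k le_rfl

/-- every element of `K` is one of the first `n` elements of `e` -/
def Cov (m : Mdl G M) (K : Subgroup G) (e : ℕ → ℕ) (n : ℕ) : Prop :=
  ∀ g ∈ K, ∃ x < n, m.φ g = m.ev (e x)

theorem cov_bot : Cov m ⊥ (fun _ => m.one) (2 ^ 0) := fun g hg =>
  ⟨0, one_pos, by rw [mem_bot.1 hg, map_one, m.ev_one]⟩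

theorem cel1_zero {mul : ℕ → ℕ → ℕ} {T e : ℕ → ℕ} {b : ℕ} : cel1 mul T b e 0 = T 0 := by
  simp only [cel1, force_eq, ifz_eq]
  rw [if_pos (show Nat.shiftRight 0 b = 0 from Nat.zero_shiftRight b)]
  exact congrArg T (Nat.zero_and _)

theorem cov_cel1 [Finite G] {gl T e ct : ℕ → ℕ} {ng b n W : ℕ} {K : Subgroup G}
    (he : m.El K e) (hn : 0 < n) (hb : n ≤ 2 ^ b) (h0 : T 0 = m.one) (e0 : e 0 = m.one)
    (h : ∀ i < n, chkS2 m.mul gl ng T e ct b n i = 0) (hK : Cov m K e (2 ^ W)) :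
    Cov m (m.gn gl ng) (cel1 m.mul T b e) (2 ^ (b + W)) := by
  intro g hg
  obtain ⟨i, hi, k, hk, e1⟩ := cover_of_chkS2 he hn h0 h g hg
  obtain ⟨x, hx, e2⟩ := hK k hk
  have hi' : i < 2 ^ b := lt_of_lt_of_le hi hb
  refine ⟨2 ^ b * x + i, by rw [pow_add]; nlinarith, ?_⟩
  have a1 : Nat.land (2 ^ b * x + i) (msk b) = i := by
    change _ &&& (2 ^ b - 1) = i
    rw [Nat.and_two_pow_sub_one_eq_mod, Nat.mul_add_mod, Nat.mod_eq_of_lt hi']
  have a2 : Nat.shiftRight (2 ^ b * x + i) b = x := by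
    change _ >>> b = x
    rw [Nat.shiftRight_eq_div_pow, Nat.mul_add_div (Nat.two_pow_pos b), Nat.div_eq_of_lt hi',
      add_zero]
  simp only [cel1, force_eq, ifz_eq, a1, a2]
  rw [e1, e2]
  split_ifs with h1 h2
  · rw [h1, e0, m.ev_one, mul_one]
  · rw [h2, h0, m.ev_one, one_mul]
  · rw [m.ev_mul]

theorem Cov.inj [Finite G] {K : Subgroup G} {e : ℕ → ℕ} {n : ℕ} (h : Cov m K e n)
    (he : m.El K e) (hn : n ≤ Nat.card K) :
    ∀ x < n, ∀ y < n, m.elt (e x) = m.elt (e y) → x = y := by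
  let f : Fin n → K := fun x => ⟨m.elt (e x), (he x).elt_mem⟩
  have hs : Function.Surjective f := fun g =>
    let ⟨x, hx, e1⟩ := h g g.2; ⟨⟨x, hx⟩, Subtype.ext (m.inj ((he x).elt.trans e1.symm))⟩
  have hb := (Nat.bijective_iff_surjective_and_card f).2 ⟨hs, le_antisymm (by simpa using hn)
    (Nat.card_le_card_of_surjective f hs)⟩
  exact fun x hx y hy e1 => congrArg Fin.val (hb.1 (a₁ := ⟨x, hx⟩) (a₂ := ⟨y, hy⟩) (Subtype.ext e1))

/-- the orbit check for conjugation on elements `e (tab i)` -/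
noncomputable def chkCO (mul : ℕ → ℕ → ℕ) (gl e tab : ℕ → ℕ) (A : Tr) (n N r i : ℕ) : ℕ :=
  force (aux A i) fun a => force (tab i) fun x =>
    Nat.add (Nat.add (lt0 x N) (below (Nat.pred n) (fun i => lt0 x (tab (Nat.succ i))) i))
    (ifz (Nat.shiftRight a (nat_lit 34)) (Nat.xor i r)
      (force (Nat.land (Nat.shiftRight a (nat_lit 24)) (nat_lit 63)) fun s =>
        force (Nat.land a (nat_lit 16777215)) fun j => force (tab j) fun y =>
        Nat.add (Nat.add (chkJ mul (gl s) (e x) (e y)) (lt0 j n))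
          (lt0 (Nat.shiftRight (aux A j) (nat_lit 34)) (Nat.shiftRight a (nat_lit 34)))))

theorem cent_eq_of_chkCO [Finite G] {H K C : Subgroup G} {gl e tab : ℕ → ℕ} {A : Tr} {n N r B : ℕ}
    (hg : m.El H gl) (h : Cov m K e N) (he : m.El K e) (hN : N ≤ Nat.card K)
    (hc : ∀ i < n, chkCO m.mul gl e tab A n N r i = 0) {z : G} (hz : m.φ z = m.ev (e (tab r)))
    (h1 : C ≤ H) (h2 : C ≤ centralizer {z}) (hB : B ≤ Nat.card C) (hH : Nat.card H ≤ n * B) :
    H ⊓ centralizer {z} = C := by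
  have ez : z = m.elt (e (tab r)) := m.inj (hz.trans (he _).elt.symm)
  let Y : ℕ → Cj G := fun i => ⟨m.elt (e (tab i))⟩
  have hlt : ∀ i < n, tab i < N := fun i hi =>
    lt_of_lt0 (add_eq_zero' (add_eq_zero' (hc i hi)).1).1
  have hY : Dist Y n := fun i hi j hj e1 => inj_of_succ_lt (fun i hi => by
    have := (add_eq_zero' (add_eq_zero' (hc i (by omega))).1).2
    rw [below_eq, if_pos (by change i < n - 1; omega)] at this
    exact lt_of_lt0 this) i hi j hj (h.inj he hN _ (hlt i hi) _ (hlt j hj) (congrArg Cj.v e1))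
  have hR : Reach H Y n [r] := by
    refine descent (fun i => i < n) _ (fun i => Nat.shiftRight (aux A i) 34) fun i hi => ?_
    have h3 := (add_eq_zero' (hc i hi)).2
    simp only [force_eq, ifz_eq] at h3
    split_ifs at h3 with h4
    · exact Or.inl ⟨r, List.mem_singleton_self r, 1, H.one_mem, by rw [one_smul, xor_eq_zero' h3]⟩
    · obtain ⟨h5, h6⟩ := add_eq_zero' h3
      obtain ⟨h7, h8⟩ := add_eq_zero' h5
      refine Or.inr ⟨_, lt_of_lt0 h8, lt_of_lt0 h6, ?_⟩
      rintro ⟨r', hr, g, hg', e1⟩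
      obtain ⟨g', hg'', e'⟩ := hg (Nat.land (Nat.shiftRight (aux A i) 24) 63)
      refine ⟨r', hr, g * g', H.mul_mem hg' hg'', ?_⟩
      rw [← e1, mul_smul]
      exact congrArg _ (Cj.ext (conj_of_chkJ h7 e' (he _).elt (he _).elt))
  have := (exact (K := C) hY hR h1 (by rw [stab_Cj, ← ez]; exact h2) hB hH).2.1
  rwa [stab_Cj, ← ez] at this

/-- commutators and squares of generators -/
noncomputable def chkES (mul : ℕ → ℕ → ℕ) (one : ℕ) (gl w : ℕ → ℕ) (key : ℕ → ℕ) (z n x : ℕ) : ℕ :=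
  force (Nat.div x n) fun j => force (Nat.mod x n) fun i =>
    ifz (Nat.xor i j)
      (Nat.add (force (mul (gl i) (gl i)) fun a => Nat.mul (Nat.xor a one) (Nat.xor a z))
        (chkN key (mul (w i) (gl i)) (mul (gl i) (w i))))
      (below j (fun i => Nat.add (chkJ mul (w j) (gl i) (gl i))
        (force (mul (gl i) (gl j)) fun a => force (mul (gl j) (gl i)) fun b =>
          ifz (Nat.xor a b) 0 (Nat.xor a (mul z b)))) i)

theorem es_of_chkES [Finite G] {key : ℕ → ℕ} (hk : Key m key) {gl w : ℕ → ℕ} {z n : ℕ}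
    (hg : ∀ s < n, m.In ⊤ (gl s)) (hw : ∀ s < n, m.In (m.gn gl n) (w s)) (hz : m.In (m.gn gl n) z)
    (h1 : m.elt z ≠ 1) (h2 : m.elt z ^ 2 = 1) (hc : m.gn gl n ≤ centralizer {m.elt z})
    (h : ∀ x < n * n, chkES m.mul m.one gl w key z n x = 0)
    (hQ : Nat.card (m.gn gl n) ≤ 2 ^ n * 2) : H2.ES 2 (⟨m.elt z, hz.elt_mem⟩ : m.gn gl n) := by
  have hx : ∀ j < n, ∀ i ≤ j, chkES m.mul m.one gl w key z n (n * j + i) = 0 ∧
      Nat.div (n * j + i) n = j ∧ Nat.mod (n * j + i) n = i := fun j hj i hi =>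
    ⟨h _ (by nlinarith), by
      change (n * j + i) / n = j
      rw [Nat.mul_add_div (by omega), Nat.div_eq_of_lt (by omega), add_zero], by
      change (n * j + i) % n = i
      rw [Nat.mul_add_mod, Nat.mod_eq_of_lt (by omega)]⟩
  have hd : ∀ i < n, (m.mul (gl i) (gl i) = m.one ∨ m.mul (gl i) (gl i) = z) ∧
      chkN key (m.mul (w i) (gl i)) (m.mul (gl i) (w i)) = 0 := fun i hi => by
    obtain ⟨a, b, c⟩ := hx i hi i le_rfl
    simp only [chkES, force_eq, ifz_eq, b, c] at a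
    rw [if_pos (show Nat.xor i i = 0 from Nat.xor_self i)] at a
    exact ⟨(Nat.mul_eq_zero.1 (add_eq_zero' a).1).imp xor_eq_zero' xor_eq_zero', (add_eq_zero' a).2⟩
  have ho : ∀ j < n, ∀ i < j, chkJ m.mul (w j) (gl i) (gl i) = 0 ∧
      (m.mul (gl i) (gl j) = m.mul (gl j) (gl i) ∨
        m.mul (gl i) (gl j) = m.mul z (m.mul (gl j) (gl i))) := fun j hj i hi => by
    obtain ⟨a, b, c⟩ := hx j hj i hi.le
    simp only [chkES, force_eq, ifz_eq, b, c, below_eq] at a
    rw [if_neg fun h => absurd (xor_eq_zero' h) (by omega), if_pos hi] at a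
    refine ⟨(add_eq_zero' a).1, ?_⟩
    have := (add_eq_zero' a).2
    split_ifs at this with h3
    exacts [Or.inl (xor_eq_zero' h3), Or.inr (xor_eq_zero' this)]
  have hzz : m.elt z * m.elt z = 1 := by rw [← sq, h2]
  have hm : ∀ j < n, ∀ i < j, ∀ s t : G, m.φ s = m.ev (gl i) → m.φ t = m.ev (gl j) →
      s * t = t * s ∨ s * t = m.elt z * (t * s) := fun j hj i hi s t es et =>
    (ho j hj i hi).2.imp (fun e => m.inj (by rw [rep_mul es et, rep_mul et es, e]))
      fun e => m.inj (by rw [rep_mul es et, rep_mul hz.elt (rep_mul et es), e])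
  refine es_of_gens hz.elt_mem h1 h2 hc ?_ ?_ (K := cch (m.gn gl n) (fun i => m.elt (gl i)) n)
    (fun g hg' hg2 => mem_cch hg' fun i hi => hg2 _ (in_gn hg i hi).elt_mem) ?_
  · rintro s ⟨i, hi, es⟩ t ⟨j, hj, et⟩
    rcases lt_trichotomy i j with h3 | h3 | h3
    · exact hm j hj i h3 s t es et
    · left; rw [m.inj (es.trans (h3 ▸ et.symm))]
    · refine (hm i hi j h3 t s et es).imp Eq.symm fun e => ?_
      rw [e, ← mul_assoc, hzz, one_mul]
  · rintro s ⟨i, hi, es⟩
    exact (hd i hi).1.imp (fun e => m.inj (by rw [rep_mul es es, e, m.ev_one, map_one]))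
      fun e => m.inj (by rw [rep_mul es es, e, hz.elt])
  · exact Nat.le_of_mul_le_mul_left ((card_cch (w := fun i => m.elt (w i))
      (fun k hk => (hw k hk).elt_mem)
      (fun k hk i hi => comm_of_chkJ (ho k hk i hi).1 (hw k hk).elt (hg i (by omega)).elt)
      fun k hk' => not_comm_of_chkN' hk (hw k hk').elt (hg k hk').elt (hd k hk').2).trans hQ)
      (Nat.two_pow_pos n)

variable {X : Type*} [MulAction G X]

/-- `kv` separates codes of different points -/
def VKey (pv : ℕ → X) (kv : ℕ → ℕ) : Prop := ∀ a b, pv a = pv b → kv a = kv b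

/-- generator `s` preserves the pair of rows `2 t`, `2 t + 1` -/
noncomputable def chkPair (img : ℕ → ℕ → ℕ → ℕ → ℕ) (row : ℕ → ℕ → ℕ) (Y T x : ℕ) : ℕ :=
  force (Nat.div x T) fun s => force (Nat.mul 2 (Nat.mod x T)) fun a => force (Nat.succ a) fun b =>
    Nat.add (Nat.mul (Nat.xor (img Y s 0 a) (row Y a)) (Nat.xor (img Y s 0 a) (row Y b)))
      (Nat.mul (Nat.xor (img Y s 0 b) (row Y a)) (Nat.xor (img Y s 0 b) (row Y b)))

def PairP (E : Subgroup G) (pv : ℕ → X) (row : ℕ → ℕ → ℕ) (Y T : ℕ) : Prop :=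
  ∀ g ∈ E, ∀ t < T, g • pv (row Y (2 * t)) = pv (row Y (2 * t)) ∨
    g • pv (row Y (2 * t)) = pv (row Y (2 * t + 1))

theorem pairP_of_chk [Finite G] {pv : ℕ → X} {img : ℕ → ℕ → ℕ → ℕ → ℕ} {row : ℕ → ℕ → ℕ}
    {gl : ℕ → ℕ} {ng Y T : ℕ} (acts : m.Acts pv img row gl) (hT : T ≤ 32)
    (h : ∀ x < ng * T, chkPair img row Y T x = 0) : PairP (m.gn gl ng) pv row Y T := by
  refine closure_ind_fin (fun g _ => isOfFinOrder_of_finite g) (fun t _ => Or.inl (one_smul _ _)) ?_
  rintro s' ⟨s, hs, e1⟩ g hg t ht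
  have h1 := h (T * s + t) (by nlinarith)
  have b : Nat.div (T * s + t) T = s := by
    change (T * s + t) / T = s
    rw [Nat.mul_add_div (by omega), Nat.div_eq_of_lt ht, add_zero]
  have c : Nat.mod (T * s + t) T = t := by
    change (T * s + t) % T = t
    rw [Nat.mul_add_mod, Nat.mod_eq_of_lt ht]
  simp only [chkPair, force_eq, b, c] at h1
  obtain ⟨h2, h3⟩ := add_eq_zero' h1
  rw [mul_smul]
  rcases hg t ht with e | e <;> rw [e]
  · rw [← acts s s' e1 Y 0 _ (by omega)]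
    exact (Nat.mul_eq_zero.1 h2).imp (fun h => congrArg pv (xor_eq_zero' h))
      fun h => congrArg pv (xor_eq_zero' h)
  · rw [← acts s s' e1 Y 0 _ (by omega)]
    exact (Nat.mul_eq_zero.1 h3).imp (fun h => congrArg pv (xor_eq_zero' h))
      fun h => congrArg pv (xor_eq_zero' h)

/-- generator `i` maps rows `o + j` of `B` to rows `j` of `Y` -/
noncomputable def chkBY (img : ℕ → ℕ → ℕ → ℕ → ℕ) (row : ℕ → ℕ → ℕ) (B Y i o j : ℕ) : ℕ :=
  force (Nat.add o j) fun a => Nat.xor (img B i 0 a) (row Y j)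

/-- element `x` is listed or moves one of the pairs -/
noncomputable def chkFi (img : ℕ → ℕ → ℕ → ℕ → ℕ) (row : ℕ → ℕ → ℕ) (kv : ℕ → ℕ) (B o T : ℕ)
    (l : List ℕ) (x : ℕ) : ℕ :=
  force x fun x => ifz (nmem l x) 0 (lt0 0 (sumTo (fun t =>
    force (Nat.add o (Nat.mul 2 t)) fun a => force (kv (img B x 0 a)) fun y =>
      Nat.mul (Nat.xor y (kv (row B a))) (Nat.xor y (kv (row B (Nat.succ a))))) T))

theorem lc_of_chkFi {pv : ℕ → X} {img imgD : ℕ → ℕ → ℕ → ℕ → ℕ} {row : ℕ → ℕ → ℕ} {kv e D : ℕ → ℕ}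
    {E : Subgroup G} {B Y o T N i : ℕ} {l : List ℕ} (hk : VKey pv kv) (hc : Cov m E e N)
    (hp : PairP E pv row Y T) (acts : m.Acts pv img row e) (actsD : m.Acts pv imgD row D)
    (hD : m.In ⊤ (D i)) (ho : o + 2 * T ≤ 64) (hB : ∀ j < 2 * T, chkBY imgD row B Y i o j = 0)
    (h : ∀ x < N, chkFi img row kv B o T l x = 0) :
    ∀ u ∈ Lc E (m.elt (D i)), ∃ x ∈ l, m.φ u = m.ev (e x) := by
  intro u hu
  obtain ⟨x, hx, ex⟩ := hc u hu.1
  refine ⟨x, ?_, ex⟩
  have h1 := h x hx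
  simp only [chkFi, force_eq, ifz_eq] at h1
  split_ifs at h1 with h2
  · exact mem_of_nmem h2
  refine absurd (lt_of_lt0 h1) (not_lt.2 (le_of_eq ?_))
  rw [sumTo_eq]
  refine Finset.sum_eq_zero fun t ht => ?_
  have ht' := Finset.mem_range.1 ht
  have k : ∀ j < 2 * T, m.elt (D i) • pv (row B (o + j)) = pv (row Y j) := fun j hj => by
    rw [← actsD i _ hD.elt B 0 _ (by omega)]; exact congrArg pv (xor_eq_zero' (hB j hj))
  have h3 := hp _ (mem_Lc.1 hu).2 t ht'
  rw [← k _ (by omega), ← k _ (by omega), mul_smul, inv_smul_smul, mul_smul, smul_left_cancel_iff,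
    smul_left_cancel_iff, ← acts x u ex B 0 _ (by omega)] at h3
  exact Nat.mul_eq_zero.2 (h3.imp (fun h => Nat.xor_eq_zero_iff.2 (hk _ _ h))
    fun h => Nat.xor_eq_zero_iff.2 (hk _ _ h))

theorem fi_one {E H C : Subgroup G} {d z : G} {e : ℕ → ℕ} (e0 : e 0 = m.one)
    (h : ∀ u ∈ Lc E d, ∃ x ∈ [0], m.φ u = m.ev (e x)) :
    ∀ u ∈ Lc E d, u = 1 ∨ d ∈ C ∧ ∃ k ∈ Lc H d, k * z * k⁻¹ = u := fun u hu => by
  obtain ⟨x, hx, ex⟩ := h u hu
  rw [List.mem_singleton.1 hx, e0, m.ev_one, ← map_one m.φ] at ex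
  exact Or.inl (m.inj ex)

/-- the word `ws s` conjugates `z` to `e (l s)` -/
noncomputable def chkCW (mul : ℕ → ℕ → ℕ) (one : ℕ) (gl e : ℕ → ℕ) (ws : List (List ℕ)) (l : List ℕ)
    (z s : ℕ) : ℕ := force (getN l s) fun x => force (wd mul one gl (getW ws s)) fun a => chkJ mul a z (e x)

theorem exists_getN {l : List ℕ} {x : ℕ} (h : x ∈ l) : ∃ s < l.length, getN l s = x := by
  induction l with
  | nil => exact absurd h List.not_mem_nil
  | cons a l ih =>
    rcases List.mem_cons.1 h with h | h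
    · exact ⟨0, Nat.succ_pos _, h.symm⟩
    · obtain ⟨s, hs, e⟩ := ih h
      exact ⟨s + 1, Nat.succ_lt_succ hs, e⟩

theorem fi_list {E H C : Subgroup G} {d : G} {z : ℕ} {gl e : ℕ → ℕ} {l : List ℕ}
    {ws : List (List ℕ)} (e0 : e 0 = m.one) (hz : m.In ⊤ z) (hd : d ∈ C)
    (hg : m.El (Lf (MonoidHom.id G) H d) gl)
    (hw : ∀ s < l.length, chkCW m.mul m.one gl e ws l z s = 0)
    (h : ∀ u ∈ Lc E d, ∃ x ∈ 0 :: l, m.φ u = m.ev (e x)) :
    ∀ u ∈ Lc E d, u = 1 ∨ d ∈ C ∧ ∃ k ∈ Lc H d, k * m.elt z * k⁻¹ = u := fun u hu => by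
  obtain ⟨x, hx, ex⟩ := h u hu
  rcases List.mem_cons.1 hx with h1 | h1
  · rw [h1, e0, m.ev_one, ← map_one m.φ] at ex
    exact Or.inl (m.inj ex)
  · obtain ⟨s, hs, rfl⟩ := exists_getN h1
    obtain ⟨k, hk, ek⟩ := hg.wd (getW ws s)
    exact Or.inr ⟨hd, k, mem_Lc.2 ⟨hk.1, map_id_le H hk.2.2⟩, conj_of_chkJ (hw s hs) ek hz.elt ex⟩

end mdl

theorem vkey2 {F : Type*} [CommRing F] [Nontrivial F] {n : ℕ} {G : Type*} [Group G]
    (φ : G →* Matrix (Fin n) (Fin n) F) :
    VKey (fun x => (⟨vec2 F n x⟩ : Vc φ)) fun x => Nat.land x (msk n) := by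
  intro a b h
  apply Nat.eq_of_testBit_eq
  intro t
  change (a &&& msk n).testBit t = (b &&& msk n).testBit t
  rw [Nat.testBit_and, Nat.testBit_and, testBit_msk]
  by_cases ht : t < n
  · rw [bit_inj (congrFun (congrArg Vc.v h) ⟨t, ht⟩)]
  · simp [ht]

theorem vkey3 {F : Type*} [CommRing F] [CharP F 3] {n : ℕ} {G : Type*} [Group G]
    (φ : G →* Matrix (Fin n) (Fin n) F) : VKey (fun x => (⟨vec3 F n x⟩ : Vc φ)) (pl1 n) := by
  intro a b h
  have hl : ∀ x, pl1 n x < 2 ^ n := fun x =>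
    lt_of_le_of_lt Nat.and_le_right (Nat.sub_lt (Nat.two_pow_pos _) one_pos)
  refine eq_of_testBit_lt (hl a) (hl b) fun t ht => ?_
  have h1 : ent3 F n a t = ent3 F n b t := congrFun (congrArg Vc.v h) ⟨t, ht⟩
  rw [ent3, ent3, ← d3_san, ← d3_san (b.testBit t)] at h1
  rw [testBit_pl1 _ ht, testBit_pl1 _ ht]
  exact (d3_inj (by cases a.testBit t <;> cases a.testBit (n + t) <;> rfl)
    (by cases b.testBit t <;> cases b.testBit (n + t) <;> rfl) h1).1

theorem j4_cent {G : Type} [Group G] [Finite G] {G' C M N Q : Subgroup G} {z : G} (hz : z ∈ Q)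
    (hG : IsSimpleGroup G' ∧ Nat.card G' = 86775571046077562880) (hC : G' ⊓ centralizer {z} = C)
    (h1 : Q ≤ N) (h2 : N ≤ M) (h3 : M ≤ C) (hQ : Nm C Q) (hN : Nm C N) (es : H2.ES 2 (⟨z, hz⟩ : Q))
    (cQ : Nat.card Q = 2 ^ 13) (cN : Nat.card N = 3 * 2 ^ 13)
    (cM : Nat.card M = 443520 * Nat.card N) (cC : Nat.card C = 2 * Nat.card M)
    (hd : ∀ K : Subgroup M, K.Normal → K ≤ N.subgroupOf M ∨ K = ⊤) :
    ∃ (G : Type) (_ : Group G) (_ : Finite G), (IsSimpleGroup G ∧ Nat.card G = 86775571046077562880) ∧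
      ∃ z : G, orderOf z = 2 ∧ ∃ (Q N M : Subgroup (centralizer ({z} : Set G))), Q.Normal ∧ N.Normal ∧
        Q ≤ N ∧ N ≤ M ∧ Nat.card Q = 2 ^ 13 ∧ Cfsg.IsExtraspecial 2 Q ∧ Nat.card N = 3 * 2 ^ 13 ∧
        M.index = 2 ∧ ∃ (_ : (N.subgroupOf M).Normal),
          IsSimpleGroup (M ⧸ N.subgroupOf M) ∧ Nat.card (M ⧸ N.subgroupOf M) = 443520 := by
  have := Fact.mk Nat.prime_two
  have hzG : z ∈ G' := (hC.ge (h3 (h2 (h1 hz)))).1
  let ι := centι G' ⟨z, hzG⟩
  have hι := centι_inj G' ⟨z, hzG⟩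
  have hr : ι.range = C := (centι_range G' ⟨z, hzG⟩).trans hC
  let eQ := comapEquiv ι hι ((h1.trans (h2.trans h3)).trans hr.ge)
  let eN := comapEquiv ι hι ((h2.trans h3).trans hr.ge)
  let eM := comapEquiv ι hι (h3.trans hr.ge)
  have nN : (N.comap ι).Normal := normal_comap_of_nm ι (hr ▸ hN)
  have nN' : ((N.comap ι).subgroupOf (M.comap ι)).Normal := nN.subgroupOf _
  have cN' : Nat.card (N.comap ι) = Nat.card N := Nat.card_congr eN.toEquiv
  have cM' : Nat.card (M.comap ι) = Nat.card M := Nat.card_congr eM.toEquiv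
  have ix : ((N.comap ι).subgroupOf (M.comap ι)).index = 443520 :=
    index_subgroupOf (comap_mono h2) (by rw [cN', cM', cM])
  have es' := es_congr eQ.symm es
  refine ⟨G', inferInstance, inferInstance, hG, ⟨z, hzG⟩, ?_, Q.comap ι, N.comap ι, M.comap ι,
    normal_comap_of_nm ι (hr ▸ hQ), nN, comap_mono h1, comap_mono h2,
    (Nat.card_congr eQ.toEquiv).trans cQ, ?_, cN'.trans cN, ?_, nN', ?_, ix⟩
  · rw [← es.ord, ← orderOf_coe, ← orderOf_coe (⟨z, hz⟩ : Q)]
  · by_contra hc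
    have := es'.forall_mem_iff.1 fun x => by_contra fun hx => hc (es'.isExtraspecial hx)
    rw [Nat.card_congr eQ.toEquiv, cQ] at this
    exact absurd this (by norm_num)
  · have := (M.comap ι).card_mul_index
    rw [cM', card_range_eq ι hι, hr, cC, mul_comm] at this
    exact Nat.eq_of_mul_eq_mul_right Nat.card_pos this
  · refine simple_quot_of_dich (fun h => by rw [h, index_top] at ix; exact absurd ix (by norm_num))
      fun K hK => (hd (K.map eM.toMonoidHom) (hK.map _ eM.surjective)).imp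
        (fun h x hx => h ⟨x, hx, rfl⟩) fun h => eq_top_iff.2 fun x _ => ?_
    obtain ⟨y, hy, e⟩ := h.ge (mem_top (eM x))
    rwa [← eM.injective e]

end Cfsg.Agent.H4
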