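import Cfsg.Agent.H4.Jan
import Cfsg.Prelude.Def_Exceptional

/-! Glue for the Thompson group. -/

set_option autoImplicit false

namespace Cfsg.Agent.H4

open Subgroup Cfsg.Agent.H5 Cfsg.Agent.H5.Mdl

section pure

variable {G1 G : Type*} [Group G1] [Group G]

theorem card_map_of_le [Finite G1] (f : G1 →* G) {H K : Subgroup G1} (hK : K ≤ H)
    (h : Nat.card H ≤ Nat.card (H.map f)) : Nat.card (K.map f) = Nat.card K := by
  have hb := (Nat.bijective_iff_surjective_and_card (f.subgroupMap H)).2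
    ⟨f.subgroupMap_surjective H, le_antisymm h (card_map_le f H)⟩
  refine (Nat.card_congr (Equiv.ofBijective (f.subgroupMap K) ⟨fun a b e => ?_,
    f.subgroupMap_surjective K⟩)).symm
  have := hb.1 (a₁ := ⟨a, hK a.2⟩) (a₂ := ⟨b, hK b.2⟩) (Subtype.ext (congrArg Subtype.val e :))
  exact Subtype.ext (congrArg Subtype.val this :)

theorem card_dvd_Lf {f : G1 →* G} {H : Subgroup G1} {G' N : Subgroup G} (hN : Nm G' N)
    (h : N ≤ H.map f) {d : G} (hd : d ∈ G') : Nat.card N ∣ Nat.card (Lf f H d) := by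
  refine dvd_trans (card_dvd_of_le (K := (Lf f H d).map f) fun x hx => ?_) (card_map_dvd _ _)
  obtain ⟨y, hy, rfl⟩ := h hx
  exact ⟨y, ⟨hy, hN.le_Lc h hd hx⟩, rfl⟩

theorem core_of_coprime [Finite G] {f : G1 →* G} {H : Subgroup G1} {G' : Subgroup G} {d d' : G}
    (hd : d ∈ G') (hd' : d' ∈ G') (h : Nat.Coprime (Nat.card (Lf f H d)) (Nat.card (Lf f H d'))) :
    ∀ N : Subgroup G, Nm G' N → N ≤ H.map f → N ≤ ⊥ := fun _ hN h1 =>
  le_bot_of_card (Nat.eq_one_of_dvd_coprimes h (card_dvd_Lf hN h1 hd) (card_dvd_Lf hN h1 hd')).le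

theorem le_of_card_inf [Finite G] {K S : Subgroup G} {B : ℕ} (h1 : Nat.card K ≤ B)
    (h2 : B ≤ Nat.card (K ⊓ S : Subgroup G)) : K ≤ S :=
  (eq_of_le_of_card_ge (inf_le_left : K ⊓ S ≤ K) (h1.trans h2)).ge.trans inf_le_right

theorem core_id {G' H K : Subgroup G} {d : G} (hd : d ∈ G') (hK : Lf (MonoidHom.id G) H d ≤ K)
    (h : ∀ N : Subgroup G, Nm G' N → N ≤ K → N ≤ ⊥) :
    ∀ N : Subgroup G, Nm G' N → N ≤ H.map (MonoidHom.id G) → N ≤ ⊥ := fun N hN h1 =>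
  h N hN fun _ hx => hK ⟨map_id_le H (h1 hx), hN.le_Lc h1 hd hx⟩

/-- transport of a core computation along `f` -/
theorem core_map {f : G1 →* G} {H K1 K2 Q : Subgroup G1} {C : Subgroup G} {t : G} (ht : t ∈ C)
    (h1 : K1 ≤ H) (hC : K1.map f ≤ C) (hL : K1 ⊓ Lf f H t ≤ K2)
    (h : ∀ N : Subgroup G1, Nm K1 N → N ≤ K2 → N ≤ Q) :
    ∀ N : Subgroup G, Nm C N → N ≤ K1.map f → N ≤ Q.map f := by
  intro N hN h2 x hx
  obtain ⟨y, hy, rfl⟩ := h2 hx
  refine ⟨y, h (K1 ⊓ N.comap f) (fun g hg u hu => ⟨K1.mul_mem (K1.mul_mem hg hu.1) (K1.inv_mem hg), ?_⟩)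
    (fun u hu => hL ⟨hu.1, h1 hu.1, mem_Lc.2 ⟨⟨u, h1 hu.1, rfl⟩,
      map_mono h1 (h2 (hN t ht _ hu.2))⟩⟩) ⟨hy, hx⟩, rfl⟩
  change f (g * u * g⁻¹) ∈ N
  rw [map_mul, map_mul, map_inv]
  exact hN _ (hC ⟨g, hg, rfl⟩) _ hu.2

theorem quot_alt [Finite G] {X Q : Subgroup G} [Q.Normal] {n : ℕ} (hX : X.index = n) (h1 : 1 < n)
    (hQ : Q ≤ X) (h : ∀ N : Subgroup G, N.Normal → N ≤ X → N ≤ Q) (hc : Q.index * 2 = n.factorial) :
    Nonempty (G ⧸ Q ≃* alternatingGroup (Fin n)) := by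
  classical
  have : Nontrivial (Fin n) := Fin.nontrivial_iff_two_le.2 h1
  let e0 : G ⧸ X ≃ Fin n := Finite.equivFinOfCardEq hX
  let ψ : G →* Equiv.Perm (Fin n) :=
    (e0.permCongrHom.toMonoidHom).comp (MulAction.toPermHom G (G ⧸ X))
  have hk : ψ.ker = Q := by
    have : ψ.ker = X.normalCore := by
      rw [normalCore_eq_ker]
      ext g
      exact e0.permCongrHom.map_eq_one_iff
    rw [this]
    exact le_antisymm (h _ inferInstance X.normalCore_le) (normal_le_normalCore.2 hQ)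
  have hr : ψ.range = alternatingGroup (Fin n) := by
    apply Equiv.Perm.eq_alternatingGroup_of_index_eq_two
    have h2 := ψ.range.card_mul_index
    rw [← index_ker, hk, Nat.card_perm, Nat.card_eq_fintype_card, Fintype.card_fin, ← hc] at h2
    exact Nat.eq_of_mul_eq_mul_left (Nat.pos_of_ne_zero index_ne_zero_of_finite) h2
  exact ⟨(QuotientGroup.quotientMulEquivOfEq hk.symm).trans
    ((QuotientGroup.quotientKerEquivRange ψ).trans (MulEquiv.subgroupCongr hr))⟩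

end pure

theorem th_cent {G : Type} [Group G] [Finite G] {G' C X Q : Subgroup G} {z : G} (hz : z ∈ Q)
    (hG : IsSimpleGroup G' ∧ Nat.card G' = 90745943887872000) (hC : G' ⊓ centralizer {z} = C)
    (h1 : Q ≤ X) (h3 : X ≤ C) (hQ : Nm C Q) (es : H2.ES 2 (⟨z, hz⟩ : Q))
    (cQ : Nat.card Q = 2 ^ 9) (cX : Nat.card X = 20160 * Nat.card Q) (cC : Nat.card C = 9 * Nat.card X)
    (hd : ∀ N : Subgroup G, Nm C N → N ≤ X → N ≤ Q) :
    ∃ (G : Type) (_ : Group G) (_ : Finite G), (IsSimpleGroup G ∧ Nat.card G = 90745943887872000) ∧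
      ∃ z : G, orderOf z = 2 ∧ ∃ (Q : Subgroup (centralizer ({z} : Set G))) (_ : Q.Normal),
        Nat.card Q = 2 ^ 9 ∧ Cfsg.IsExtraspecial 2 Q ∧
        Nonempty (centralizer ({z} : Set G) ⧸ Q ≃* alternatingGroup (Fin 9)) := by
  have := Fact.mk Nat.prime_two
  have hzG : z ∈ G' := (hC.ge (h3 (h1 hz))).1
  let ι := centι G' ⟨z, hzG⟩
  have hι := centι_inj G' ⟨z, hzG⟩
  have hr : ι.range = C := (centι_range G' ⟨z, hzG⟩).trans hC
  let eQ := comapEquiv ι hι ((h1.trans h3).trans hr.ge)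
  let eX := comapEquiv ι hι (h3.trans hr.ge)
  have nQ : (Q.comap ι).Normal := normal_comap_of_nm ι (hr ▸ hQ)
  have cQ' : Nat.card (Q.comap ι) = Nat.card Q := Nat.card_congr eQ.toEquiv
  have cX' : Nat.card (X.comap ι) = Nat.card X := Nat.card_congr eX.toEquiv
  have es' := es_congr eQ.symm es
  refine ⟨G', inferInstance, inferInstance, hG, ⟨z, hzG⟩, ?_, Q.comap ι, nQ, cQ'.trans cQ, ?_,
    quot_alt (X := X.comap ι) ?_ (by norm_num) (comap_mono h1) (fun N hN h x hx => ?_) ?_⟩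
  · rw [← es.ord, ← orderOf_coe, ← orderOf_coe (⟨z, hz⟩ : Q)]
  · by_contra hc
    have := es'.forall_mem_iff.1 fun x => by_contra fun hx => hc (es'.isExtraspecial hx)
    rw [cQ', cQ] at this
    exact absurd this (by norm_num)
  · have := (X.comap ι).card_mul_index
    rw [cX', card_range_eq ι hι, hr, cC, mul_comm] at this
    exact Nat.eq_of_mul_eq_mul_right Nat.card_pos this
  · refine hd (N.map ι) ?_ (map_le_iff_le_comap.2 h) ⟨x, hx, rfl⟩
    rw [← hr]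
    rintro _ ⟨g, rfl⟩ _ ⟨y, hy, rfl⟩
    exact ⟨_, hN.conj_mem y hy g, by rw [map_mul, map_mul, map_inv]⟩
  · have := (Q.comap ι).card_mul_index
    rw [cQ', card_range_eq ι hι, hr, cC, cX, ← mul_assoc, mul_comm] at this
    rw [Nat.eq_of_mul_eq_mul_right Nat.card_pos this]
    decide

theorem th_sub {G : Type*} [Group G] [Finite G] {G' K L : Subgroup G} (h1 : L ≤ K) (h2 : K ≤ G')
    (cG : Nat.card G' = 90745943887872000) (hs : IsSimpleGroup L) (cL : Nat.card L = 211341312)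
    (cK : Nat.card K ≤ 3 * 211341312) (h3 : 3 ^ (4 + 1) ∣ Nat.card K) :
    ∃ K : Subgroup G', K.index = 143127000 ∧ ∃ L : Subgroup G', L ≤ K ∧ Cfsg.Is3D4 L := by
  have a1 : 2609152 ∣ Nat.card K := dvd_trans (by norm_num) (cL ▸ card_dvd_of_le h1)
  have a2 := Nat.Coprime.mul_dvd_of_dvd_of_dvd (by norm_num) a1 h3
  have a3 := eq_of_dvd_of_le Nat.card_pos a2 (cK.trans (by norm_num))
  have e := (subgroupOfEquivOfLe (h1.trans h2)).symm
  obtain ⟨b1, b2⟩ := simple_card_of_equiv e ⟨hs, cL⟩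
  exact ⟨K.subgroupOf G', index_subgroupOf h2 (by rw [cG, a3]; norm_num), L.subgroupOf G',
    fun _ hx => h1 hx, b1, 2, Nat.prime_two.isPrimePow, by rw [b2]; norm_num⟩

section mdl

variable {G1 M1 G M : Type*} [Group G1] [Monoid M1] [Group G] [Monoid M]
  {m1 : Mdl G1 M1} {m : Mdl G M} {f : G1 →* G} {pr : ℕ → ℕ}

theorem Cov.map (hp : Pr m1 m f pr) {K : Subgroup G1} {e : ℕ → ℕ} {n : ℕ} (h : Cov m1 K e n) :
    Cov m (K.map f) (fun x => pr (e x)) n := by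
  rintro _ ⟨g, hg, rfl⟩
  obtain ⟨x, hx, e1⟩ := h g hg
  exact ⟨x, hx, hp g _ e1⟩

theorem card_of_cent [Finite G] {H C : Subgroup G} {z : G} (h : H ⊓ centralizer {z} = C) :
    Nat.card C ∣ Nat.card H := card_dvd_of_le (h.ge.trans inf_le_left)

theorem fi_self {E H C : Subgroup G} {d : G} {z x : ℕ} {e : ℕ → ℕ} (e0 : e 0 = m.one)
    (hz : m.In ⊤ z) (hd : d ∈ C) (hx : e x = z)
    (h : ∀ u ∈ Lc E d, ∃ y ∈ [0, x], m.φ u = m.ev (e y)) :
    ∀ u ∈ Lc E d, u = 1 ∨ d ∈ C ∧ ∃ k ∈ Lc H d, k * m.elt z * k⁻¹ = u := fun u hu => by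
  obtain ⟨y, hy, ey⟩ := h u hu
  rcases List.mem_cons.1 hy with h1 | h1
  · rw [h1, e0, m.ev_one, ← map_one m.φ] at ey
    exact Or.inl (m.inj ey)
  · rw [List.mem_singleton.1 h1, hx] at ey
    exact Or.inr ⟨hd, 1, one_mem _, by
      rw [one_mul, inv_one, mul_one]; exact m.inj (hz.elt.trans ey.symm)⟩

end mdl

section vec

variable {F : Type*} [CommRing F] {n : ℕ} {G : Type*} [Group G]

/-- column `j` of a ternary matrix -/
def col3 (n A j : ℕ) : ℕ :=
  Nat.lor (brow n A j) (Nat.shiftLeft (brow n (Nat.shiftRight A (Nat.mul n n)) j) n)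

theorem vec3_col3 (A j : ℕ) (i : Fin n) : vec3 F n (col3 n A j) i = ent3 F (n * n) A (n * j + i) := by
  have h1 : (col3 n A j).testBit i = A.testBit (n * j + i) := by
    change (brow n A j ||| (brow n (A >>> (n * n)) j <<< n)).testBit i = _
    simp [Nat.testBit_shiftLeft, testBit_brow]
  have h2 : (col3 n A j).testBit (n + i) = A.testBit (n * n + (n * j + i)) := by
    change (brow n A j ||| (brow n (A >>> (n * n)) j <<< n)).testBit _ = _
    simp [Nat.testBit_shiftLeft, testBit_brow]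
  rw [vec3, ent3, ent3, h1, h2]

noncomputable def chkV3 (ch : ℕ → ℕ) (n A j : ℕ) : ℕ := Nat.xor (pt (row3 n) ch j) (col3 n A j)

theorem core_vec3 [CharP F 3] (ψ : G →* Matrix (Fin n) (Fin n) F) (inj : Function.Injective ψ)
    {ch : ℕ → ℕ} {A B r : ℕ} (hAB : mul3 n A B = one2 n) (hA : ∀ j < n, chkV3 ch n A j = 0)
    {G' : Subgroup G}
    (hR : Reach G' (fun i => (⟨vec3 F n (pt (row3 n) ch i)⟩ : Vc ψ)) n [r]) :
    ∀ N : Subgroup G, Nm G' N →
      N ≤ MulAction.stabilizer G (⟨vec3 F n (pt (row3 n) ch r)⟩ : Vc ψ) → N ≤ ⊥ := by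
  intro N hN h g hg
  refine inj ((eq_one_of_fix_cols (A := ev3 F n A) (B := ev3 F n B)
    (by rw [← ev3_mul, hAB, ev3_one]) fun j => ?_).trans (map_one ψ).symm)
  have h1 := congrArg Vc.v (fix_of_reach hN hR h g hg j j.2)
  have h2 : vec3 F n (pt (row3 n) ch j) = fun i => ev3 F n A i j := by
    rw [xor_eq_zero' (hA j j.2)]
    funext i
    exact vec3_col3 A j i
  rwa [Vc.smul_v, h2] at h1

end vec

end Cfsg.Agent.H4
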