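/-
The group `PSL(2, 11)`: order, the two classes of subgroups isomorphic to `A5`.
-/
import Cfsg.Agent.H4.Cover

set_option autoImplicit false
set_option maxRecDepth 100000

open MulAction
open scoped Pointwise

namespace Cfsg.Agent.H4

namespace L211

variable {F : Type*} [Field F] [Fintype F]

/-- The operations of `PSL(2, 11)`. -/
def N : CG Unit (ℕ × ℕ) := (primeOps 11).kpcg 11 4 2 [1, 10]

/-- The validity test for `SL(2, 11)`. -/
def ok (c : ℕ × ℕ) : Bool := band ((primeOps 11).okGL 11 4 2 c) ((primeOps 11).det2 4 c.1)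

/-- `PSL(2, 11)` as a computational group. -/
def M (K : FC F 11 4 (primeOps 11)) : CG (Matrix.ProjectiveSpecialLinearGroup (Fin 2) F) (ℕ × ℕ) :=
  K.pslcg 2 [1, 10]

variable (hF : Fintype.card F = 11) (K : FC F 11 4 (primeOps 11))

include hF

theorem cen : K.Cen (FC.slHom 2 F) [1, 10] := K.cen_sl hF 2 (by decide +kernel)

theorem keyed : (M K).Keyed := K.kpcg_keyed (cen hF K)

theorem complete : (M K).Complete := K.kpcg_complete (cen hF K)

omit hF [Fintype F] in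
theorem vt : (M K).VT ok := K.kpcg_vt K.sl2_vt

include K in
theorem card : Nat.card (Matrix.ProjectiveSpecialLinearGroup (Fin 2) F) = 660 := by
  have h1 := card_SL_of 2 F (N := 1320) hF (by decide)
  have h2 := card_SL_eq_PSL_mul 2 F
  rw [FC.Cen.card_center K (FC.slHom_injective 2 F) (cen hF K) (by decide +kernel)] at h2
  simp only [List.length_cons, List.length_nil] at h2
  omega

/-- A chain for the whole group. -/
def LG : List (CG.Level (ℕ × ℕ)) :=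
  [(16, [(0x2933, 0x3282)],
     [(0, 0), (0, 0), (1, 1), (0, 1), (1, 2), (1, 2), (0, 2), (1, 3), (0, 3), (1, 4), (0, 4), (1, 5), (1, 5), (0, 5), (1, 6), (0, 5), (0, 5), (0, 5), (1, 6), (0, 6), (1, 7), (0, 6), (1, 7), (0, 7), (1, 8), (1, 8), (0, 8), (0, 8), (1, 9), (0, 9), (0, 9), (1, 10), (0, 10), (1, 11), (0, 11), (1, 12), (0, 12), (1, 13), (0, 11), (0, 11), (1, 12), (1, 12), (1, 12), (0, 12), (0, 12), (1, 13), (1, 11), (0, 11), (1, 12), (0, 12), (1, 12), (0, 11), (0, 10), (1, 11), (0, 11), (0, 11), (0, 10), (0, 6), (0, 6)]),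
   (1, [(0x1201, 0x1901)],
     [(0, 0), (0, 0), (0, 0), (0, 0), (0, 0), (0, 0), (0, 0), (0, 0), (0, 0), (0, 0)])]

theorem top : (M K).gen (CG.gensOf LG) = ⊤ :=
  CG.gen_eq_top_of_check (keyed hF K) (vt K) (N := N) rfl (card hF K).le (by decide +kernel)

/-- The check for a subgroup isomorphic to `A5`. -/
def a5Check (L : List (CG.Level (ℕ × ℕ))) (D E : List (CG.Level ((ℕ × ℕ) × ℕ))) (g : ℕ × ℕ)
    (hs : List (ℕ × ℕ)) : Bool :=
  band (band (N.ordCheck ok L 60) (band (ok g) (allL hs fun c => band (ok c) (N.sift (N.transOf L) c))))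
    (band (N.coverCheck (CG.gensOf LG) L (hs.map fun c => N.mul c g))
      (band (CG.homCheck N (acg 5 3 (by norm_num)) (fun c => band (ok c) (N.sift (N.transOf L) c))
        (isEven 5 3) D 60) (band (CG.pairCheck N (acg 5 3 (by norm_num))
          (fun c => band (ok c) (N.sift (N.transOf L) c)) D (CG.gensOf E))
        ((acg 5 3 (by norm_num)).topCheck (isEven 5 3) (CG.sndL E) 60))))

theorem a5_spec {L : List (CG.Level (ℕ × ℕ))} {D E : List (CG.Level ((ℕ × ℕ) × ℕ))} {g : ℕ × ℕ}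
    {hs : List (ℕ × ℕ)} (h : a5Check L D E g hs = true) :
    (M K).Valid (CG.gensOf L) ∧ Nat.card ((M K).gen (CG.gensOf L)) = 60 ∧
    Nonempty ((M K).gen (CG.gensOf L) ≃* alternatingGroup (Fin 5)) ∧
    ∃ g₀, (M K).Rep g₀ g ∧ ∀ x, x ∈ (M K).gen (CG.gensOf L) ∨ ∃ c ∈ hs,
      ∃ k ∈ (M K).gen (CG.gensOf L), (M K).Rep k c ∧ (k * g₀)⁻¹ * x ∈ (M K).gen (CG.gensOf L) := by
  rw [a5Check, band_eq, band_eq, band_eq, band_eq (N.coverCheck _ _ _), Bool.and_eq_true,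
    Bool.and_eq_true, Bool.and_eq_true, Bool.and_eq_true] at h
  obtain ⟨⟨h1, h2, h3⟩, h4, h5⟩ := h
  obtain ⟨hv, -, -, hc⟩ := CG.ordCheck_spec (keyed hF K) K.kpcg_uniq (vt K) (N := N) rfl h1
  obtain ⟨g₀, hg⟩ := vt K g h2
  have h6 : ∀ c ∈ hs, ∃ k ∈ (M K).gen (CG.gensOf L), (M K).Rep k c := fun c hc => by
    obtain ⟨k, hk⟩ := (vt K).gen hv c (allL_iff.mp h3 c hc)
    exact ⟨k, k.2, hk⟩
  refine ⟨hv, hc, CG.nonempty_equiv_top (CG.Uniq.sub K.kpcg_uniq _) (acg_uniq _ _ _)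
    ((keyed hF K).sub _) (acg_keyed _ _ _) ((vt K).gen hv) (acg_vt _ _ _) (N := N)
    (N' := acg 5 3 (by norm_num)) rfl rfl D E hc.le (card_alt_fin 5 (by norm_num)) h5,
    g₀, hg, fun x => ?_⟩
  refine (CG.cover_of_check (M := M K) (N := N) rfl hv (fun c hc => ?_) h4 x
    (by rw [top hF K]; trivial)).imp_right ?_
  · obtain ⟨e, he, rfl⟩ := List.mem_map.mp hc
    obtain ⟨k, -, hk⟩ := h6 e he
    exact ⟨_, (M K).rep_mul hk hg⟩
  · rintro ⟨_, hc', u, h7, h8⟩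
    obtain ⟨c, hc, rfl⟩ := List.mem_map.mp hc'
    obtain ⟨k, h9, hk⟩ := h6 c hc
    exact ⟨c, hc, k, h9, hk, by rwa [← K.kpcg_uniq _ _ _ h7 ((M K).rep_mul hk hg)]⟩

/-- A chain for a subgroup isomorphic to `A5`. -/
def LH : List (CG.Level (ℕ × ℕ)) :=
  [(16, [(0x256a, 0xa652), (0x82a4, 0x4918)],
     [(0, 0), (1, 1), (0, 1), (1, 2), (0, 2), (1, 3), (1, 3), (0, 3), (1, 4), (0, 4), (1, 5), (0, 5), (0, 5), (1, 6), (0, 6), (1, 7), (0, 7), (1, 7), (0, 7), (1, 8), (0, 8), (1, 9), (0, 9), (1, 10), (0, 10), (1, 10), (0, 10), (1, 11), (0, 11), (1, 12), (0, 12), (1, 13), (0, 13), (0, 13), (1, 13), (0, 13), (1, 14), (1, 14), (0, 14), (1, 15), (0, 15), (1, 16), (1, 16), (0, 16), (1, 15), (1, 15), (0, 15), (0, 15), (0, 14), (0, 14), (1, 15), (0, 15), (0, 15), (0, 10), (0, 9), (0, 9), (1, 8), (1, 8), (1, 4)])]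

/-- Elements of this subgroup. -/
def hH : List (ℕ × ℕ) := [(0x9162, 0x2a59), (0xa00a, 0xa00a), (0xaa98, 0x812a), (0xa1a, 0xa1a0), (0x7883, 0x3337), (0x1936, 0x6281), (0x593a, 0xa285), (0x1a10, 0x1a1), (0x3480, 0x733), (0x8884, 0x4338)]

omit hF in
theorem checkH : a5Check LH
    [(16, [((0x1643, 0x3571), 0x463), ((0x4144, 0x4a74), 0x1503)],
     [(0, 0), (1, 1), (0, 1), (1, 2), (0, 2), (1, 3), (0, 3), (1, 4), (0, 4), (1, 5), (0, 5), (1, 6), (0, 6), (1, 7), (1, 7), (0, 7), (1, 8), (0, 8), (0, 8), (1, 9), (0, 9), (1, 10), (1, 10), (0, 10), (1, 11), (0, 11), (0, 11), (1, 12), (0, 12), (0, 12), (1, 13), (0, 13), (1, 14), (0, 14), (1, 15), (0, 15), (1, 15), (0, 15), (1, 16), (0, 16), (1, 17), (1, 17), (1, 16), (0, 16), (0, 16), (1, 17), (0, 17), (1, 18), (1, 18), (1, 17), (1, 17), (1, 17), (1, 16), (0, 16), (0, 16), (0, 15), (0, 15), (0, 15), (0, 8)])]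
    [(0, [((0x7147, 0x7a77), 0x20e1)],
     [(0, 0), (0, 0), (0, 0), (1, 1)]),
   (1, [((0xa652, 0x256a), 0x32a0)],
     [(0, 0), (0, 0), (1, 0)]),
   (2, [((0x6954, 0x4266), 0x3508)],
     [(0, 0), (0, 0)])]
    (0x1011, 0x10a1) hH = true := by decide +kernel

/-- A chain for a subgroup isomorphic to `A5`. -/
def LK : List (CG.Level (ℕ × ℕ)) :=
  [(16, [(0x5723, 0x3495), (0x4116, 0x6aa4)],
     [(0, 0), (1, 1), (0, 1), (1, 2), (0, 2), (1, 3), (0, 3), (1, 4), (0, 4), (1, 5), (0, 5), (1, 6), (0, 6), (0, 6), (1, 7), (0, 7), (1, 8), (0, 8), (1, 9), (0, 8), (1, 9), (0, 9), (1, 10), (0, 10), (1, 11), (0, 10), (1, 11), (0, 11), (1, 12), (0, 11), (1, 12), (0, 10), (1, 11), (0, 11), (1, 12), (0, 11), (1, 12), (0, 11), (1, 12), (0, 11), (1, 12), (0, 10), (1, 11), (0, 11), (1, 12), (0, 11), (1, 12), (0, 10), (1, 11), (0, 8), (1, 9), (0, 9), (1, 10), (0, 6), (1, 7), (0, 7), (1, 8), (0, 7), (1, 8)])]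

/-- Elements of this subgroup. -/
def hK : List (ℕ × ℕ) := [(0x9162, 0x2a59), (0xa00a, 0xa00a), (0x6151, 0x1a66), (0x4a28, 0x8194), (0x7908, 0x8207), (0x8194, 0x4a28), (0x8726, 0x6498), (0x838a, 0xa838), (0x9729, 0x9499), (0xa578, 0x864a)]

omit hF in
theorem checkK : a5Check LK
    [(16, [((0x2688, 0x8532), 0x4458), ((0x7687, 0x7537), 0x2e2)],
     [(0, 0), (1, 1), (0, 1), (1, 2), (0, 2), (1, 3), (1, 3), (0, 3), (1, 4), (0, 4), (1, 5), (0, 5), (1, 6), (0, 6), (1, 7), (0, 7), (1, 8), (0, 8), (1, 9), (1, 9), (0, 9), (1, 10), (1, 10), (1, 10), (0, 10), (1, 11), (0, 11), (1, 12), (1, 12), (1, 12), (1, 12), (1, 12), (0, 12), (1, 13), (0, 13), (0, 13), (0, 13), (1, 12), (1, 12), (1, 12), (0, 11), (1, 12), (0, 12), (0, 12), (0, 11), (1, 12), (1, 12), (1, 12), (1, 12), (0, 12), (0, 12), (0, 12), (0, 12), (0, 12), (1, 12), (0, 11), (1, 10), (1, 7), (1, 2)])]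
    [(0, [((0x9729, 0x9499), 0x2843)],
     [(0, 0), (0, 0), (1, 1), (2, 2)]),
   (1, [((0x8532, 0x2688), 0x42d0)],
     [(0, 0), (0, 0), (1, 1)]),
   (2, [((0x9241, 0x1979), 0x3508)],
     [(0, 0), (0, 0)])]
    (0x1011, 0x10a1) hK = true := by decide +kernel

end L211

end Cfsg.Agent.H4
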