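/-
Extensions of the Mathieu group of degree 23 by the code and cocode modules: common data.
-/
import Cfsg.Prelude.Def_Spor_Mathieu
import Cfsg.Agent.H4.Coh

set_option autoImplicit false
set_option maxRecDepth 100000

namespace Cfsg.Agent.H4

namespace Coh

/-- Codes of the letters. -/
def cS : List ℕ := [0xbdaaa6c64e7c26c350442ace81a420, 0xbdaa85ca202b08e999341a9ed38830, 0xbdab3a4a2e1c1404352b290e67882c, 0xbd90114a30238ec48d75694cf54e80, 0xbd8646ca300ba6c320aa12d34a9de0, 0xbd933a4a303b88c41aab7a86d28440, 0xbd8285ca301b8cc990542b4ea7a6a0, 0xbda865464c141e068e6409527aa16e, 0xbc51515a4e300ec0966923da355170, 0xbd9013ba005b072288d553c899b691, 0xbda024c6542206babc0131da5531d3]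

/-- The rewriting rules. -/
def cR : List (List ℕ × List ℕ) :=
  [([0, 0], []), ([1, 1], []), ([2, 2], []), ([3, 3], []), ([4, 4], []), ([5, 5], []), ([6, 6], []), ([1, 0], [0, 1, 2]), ([2, 0], [0, 2]), ([3, 0], [0, 3, 4, 6]), ([4, 0], [0, 4]), ([5, 0], [0, 5, 6]), ([6, 0], [0, 6]), ([2, 1], [1, 2]), ([3, 1], [1, 3, 6]), ([4, 1], [1, 4, 5, 6]), ([5, 1], [1, 5]), ([6, 1], [1, 6]), ([3, 2], [2, 3, 5]), ([4, 2], [2, 4, 6]), ([5, 2], [2, 5]), ([6, 2], [2, 6]), ([4, 3], [3, 4]), ([5, 3], [3, 5]), ([6, 3], [3, 6]), ([5, 4], [4, 5]), ([6, 4], [4, 6]), ([6, 5], [5, 6]), ([7, 4, 6], [3, 5, 7]), ([7, 3, 4, 5, 6], [3, 4, 7]), ([7, 1, 2, 6], [2, 6, 7]), ([7, 2], [1, 2, 5, 6, 7]), ([7, 5, 6], [6, 7]), ([7, 6], [5, 6, 7]), ([8, 1, 5], [2, 6, 8]), ([8, 1, 2, 6], [1, 5, 6, 8]), ([8, 3, 5, 6], [3, 5, 6, 8]), ([8, 4], [4, 8]), ([8, 5], [5, 6, 8]), ([8, 6], [5, 8]), ([9, 0, 6], [2, 5, 6, 9]), ([9, 0, 2], [0, 4, 6, 9]), ([9, 3, 4], [3, 5,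 6, 9]), ([9, 5], [4, 5, 9]), ([9, 4, 5], [4, 6, 9]), ([9, 6], [6, 9]), ([10, 0], [0, 2, 4, 5, 6, 10]), ([10, 1, 5], [1, 5, 6, 10]), ([10, 1, 6], [2, 10]), ([10, 6], [2, 5, 10]), ([10, 2], [6, 10])]

/-- A basis of the code words vanishing at the extra point. -/
def vB : List ℕ := [0x24f801, 0x49f002, 0x371804, 0x6e3008, 0x789810, 0x55c820, 0xf6840, 0x1ed080, 0x3da100, 0x7b4200, 0x527c00]

/-- Data for the code module. -/
def parC : Par := ⟨561, 24, 5, 11, 0x18e98efb47b47b766366367b8ea5c9f8eb001001001001001001001001001001, [1, 2, 4, 8, 16, 32, 64, 128, 256, 512, 1024], cS, cR⟩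

/-- Data for the cocode module. -/
def parD : Par := ⟨561, 24, 5, 11, 0x1001001001001001001001001001001, vB, cS, cR⟩


theorem M23_eq : Spor.M23 = cfg [23] [] := by rw [cfg_cons, cfg_nil]; rfl

theorem card_M23 : Nat.card Spor.M23 = 2 ^ 7 * 79695 := by rw [M23_eq, card_cfg1]; norm_num

theorem rep_ev {α : Type*} {P : Par} {E0 : Enc α P.n P.w} {y : ℕ → Equiv.Perm α}
    (hy : ∀ i, E0.Rep (y i) (P.lc i)) (u : List ℕ) : E0.Rep (ev y u) (P.pcode u) := by
  induction u with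
  | nil => exact Enc.rep_one
  | cons a u ih => rw [ev_cons]; exact (hy a).mul ih

theorem Data.exists_lifts {α : Type*} {P : Par} {E0 : Enc α P.n P.w} {E : Type*} [Group E]
    (X : Data E0 E) (h : ∀ c ∈ P.S, ∃ g ∈ X.π.range, E0.Rep g c) :
    ∃ x, X.Lifts x ∧ ∀ i, P.S.length ≤ i → x i = 1 := by
  have h1 : ∀ i, ∃ x, E0.Rep (X.π x) (P.lc i) ∧ (P.S.length ≤ i → x = 1) := fun i => by
    by_cases hi : i < P.S.length
    · obtain ⟨_, ⟨x, rfl⟩, hx⟩ := h _ (List.getElem_mem hi)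
      exact ⟨x, by rwa [Par.lc, getL_of_lt _ _ hi], fun h => absurd hi (not_lt.mpr h)⟩
    · exact ⟨1, by rw [Par.lc, getL_of_le _ _ (not_lt.mp hi), map_one]; exact Enc.rep_one,
        fun _ => rfl⟩
  choose x hx1 hx2 using h1
  exact ⟨x, hx1, hx2⟩

theorem cS_mem : ∀ c ∈ cS, ∃ g ∈ Spor.M23, gE.Rep g c := fun c hc =>
  M23_eq ▸ sound_cfg [23] [] c (allL_iff.mp (by decide +kernel : allL cS (memCfg [23] []) = true) c hc)

/-- A chain for the Sylow subgroup. -/
def sylL : List (CG.Level ℕ) :=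
  [(1, [parC.pcode [0, 1, 3, 4, 6]],
     [(0, 0), (0, 0), (1, 1), (2, 2), (1, 2), (2, 3), (2, 3), (0, 3), (1, 4), (0, 4), (1, 4), (0, 4), (0, 4), (0, 3), (2, 4)]),
   (4, [parC.pcode [1, 2], parC.pcode [0, 2]],
     [(0, 0), (1, 1), (1, 1), (0, 1), (0, 1), (1, 1), (1, 1)])]

theorem card_syl {y : ℕ → Equiv.Perm GolayPt} (hy : ∀ i, gE.Rep (y i) (parC.lc i)) :
    2 ^ 7 ≤ Nat.card (Subgroup.closure {g | ∃ k, k < 7 ∧ g = y k}) := by
  have h1 := CG.le_card_of_check (gE.cg_keyed (by norm_num)) (p := isPerm 24 5)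
    (fun _ h => gE.exists_rep h) (L := sylL) (n := 2 ^ 7) rfl (by decide +kernel)
  refine h1.trans (Subgroup.card_le_of_le (CG.gen_le_of_in gE.cg_uniq ?_))
  have h2 : ∀ u : List ℕ, (∀ a ∈ u, a < 7) → ∃ g ∈ Subgroup.closure {g | ∃ k, k < 7 ∧ g = y k},
      gE.Rep g (parC.pcode u) := fun u hu =>
    ⟨_, ev_mem fun a ha => Subgroup.subset_closure ⟨a, hu a ha, rfl⟩, rep_ev (P := parC) hy u⟩
  intro c hc
  simp only [sylL, CG.gensOf, List.cons_append, List.nil_append, List.mem_cons, List.not_mem_nil,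
    or_false] at hc
  rcases hc with rfl | rfl | rfl <;> exact h2 _ (by decide)

theorem co_add {α : Type*} {P : Par} (E0 : Enc α P.n P.w) (c : ℕ) (u v : α → ZMod 2) :
    co E0 c (u + v) = co E0 c u + co E0 c v := dot_add _ _ _ _

theorem co_bas {α : Type*} {P : Par} (E0 : Enc α P.n P.w) (c : ℕ) (τ : ℕ → ZMod 2) :
    co E0 c (bas E0 τ) = dot P.d (lcomb P.d P.n c P.Bt) τ := by
  rw [dot_lcomb]
  exact dot_congr fun t ht _ => by rw [bas, E0.ix_pt t ht]

/-- The coordinate functions are dual to the spanning words. -/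
def Par.dualOK (P : Par) : Bool :=
  band (Nat.beq P.Cm.length P.d)
    (allLt P.d fun l => Nat.beq (lcomb P.d P.n (getL 0 P.Cm l) P.Bt) (Nat.pow 2 l))

theorem co_bas_add {α : Type*} {P : Par} (E0 : Enc α P.n P.w) (h : P.dualOK = true)
    (u : α → ZMod 2) : ∀ c ∈ P.Cm, co E0 c (bas E0 (fun l => co E0 (getL 0 P.Cm l) u) + u) = 0 := by
  simp only [Par.dualOK, band_eq, Bool.and_eq_true, Nat.beq_eq, allLt_iff] at h
  intro c hc
  obtain ⟨l, hl, rfl⟩ := List.getElem_of_mem hc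
  have h1 := h.2 l (h.1 ▸ hl)
  rw [getL_of_lt _ _ hl] at h1
  rw [co_add, co_bas, h1]
  erw [dot_two_pow (h.1 ▸ hl)]
  rw [getL_of_lt _ _ hl, add_self2]

theorem dot_word (c m : ℕ) : dot 24 c (fun i => word m (gE.pt i)) = (pc 24 (c &&& m) : ℕ) := by
  rw [dot, pc_eq_sum, Nat.cast_sum]
  refine Finset.sum_congr rfl fun i hi => ?_
  rw [word, gE.ix_pt i (Finset.mem_range.mp hi), bit_eq, Nat.testBit_and]
  cases c.testBit i <;> cases m.testBit i <;> simp

theorem dot_word_eq_zero {c m : ℕ} (hm : m < 2 ^ 24) :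
    dot 24 c (fun i => word m (gE.pt i)) = 0 ↔ Nat.beq (Nat.mod (pc24 (Nat.land c m)) 2) 0 = true := by
  rw [dot_word, ZMod.natCast_eq_zero_iff, Nat.beq_eq, Nat.dvd_iff_mod_eq_zero]
  show _ ↔ pc24 (c &&& m) % 2 = 0
  rw [pc24_eq (lt_of_le_of_lt Nat.and_le_right hm)]

theorem word_none : word (2 ^ 23) = Pi.single none 1 := by decide +kernel

theorem dual_check1 : allLt 4096 (fun x => allL vB fun c =>
    Nat.beq (Nat.mod (pc24 (Nat.land c (cw x))) 2) 0) = true := by decide +kernel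

theorem dual_check2 : allLt 4096 (fun y => bimp (allL vB fun c =>
    Nat.beq (Nat.mod (pc24 (Nat.land c (Nat.shiftLeft y 12))) 2) 0)
      (bor (Nat.beq y 0) (Nat.beq y 2048))) = true := by decide +kernel

theorem dot_code {w : GolayPt → ZMod 2} (hw : w ∈ golayCode) :
    ∀ c ∈ vB, dot 24 c (fun i => w (gE.pt i)) = 0 := fun c hc => by
  obtain ⟨m, hm, rfl⟩ := exists_word w
  obtain ⟨x, hx, rfl⟩ := inC_iff.mp ((word_mem_iff hm).mp hw)
  exact (dot_word_eq_zero hm).mpr (allL_iff.mp (allLt_iff.mp dual_check1 x hx) c hc)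

theorem dot_none : ∀ c ∈ vB,
    dot 24 c (fun i => (Pi.single none 1 : GolayPt → ZMod 2) (gE.pt i)) = 0 := by decide +kernel

/-- The words orthogonal to the shortened code. -/
theorem dual_iff (w : GolayPt → ZMod 2) : (w ∈ golayCode ∨ w + Pi.single none 1 ∈ golayCode) ↔
    ∀ c ∈ vB, dot 24 c (fun i => w (gE.pt i)) = 0 := by
  constructor
  · rintro (h | h)
    · exact dot_code h
    · intro c hc
      have h1 := dot_code h c hc
      have h2 := dot_none c hc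
      have h3 := dot_add 24 c (fun i => w (gE.pt i))
        (fun i => (Pi.single none 1 : GolayPt → ZMod 2) (gE.pt i))
      rw [h2, add_zero] at h3
      exact h3.symm.trans h1
  · intro h
    obtain ⟨m, hm, rfl⟩ := exists_word w
    have h1 : m % 4096 < 4096 := Nat.mod_lt _ (by norm_num)
    have h2 := word_mem_of_inC (inC_cw h1)
    have h3 : m ^^^ cw (m % 4096) = syn m <<< 12 := by
      have h4 : (m ^^^ cw (m % 4096)) % 2 ^ 12 = 0 := by
        rw [Nat.xor_mod_two_pow, show 2 ^ 12 = 4096 from rfl, cw_mod h1, Nat.xor_self]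
      rw [syn_eq, Nat.shiftLeft_eq, Nat.shiftRight_eq_div_pow]
      omega
    have h4 := (bimp_iff _ _).mp (allLt_iff.mp dual_check2 _ (syn_lt hm)) (allL_iff.mpr fun c hc => by
      refine (dot_word_eq_zero (m := syn m <<< 12) (h3 ▸ Nat.xor_lt_two_pow hm (cw_lt h1))).mp ?_
      rw [← h3, word_xor]
      simp only [Pi.add_apply]
      rw [dot_add, h c hc, dot_code h2 c hc, add_zero])
    have h5 : word m = word (cw (m % 4096)) + word (syn m <<< 12) := by
      rw [← h3, word_xor, add_comm (word m), ← add_assoc, add_self_fun, zero_add]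
    rw [bor_eq, Bool.or_eq_true, Nat.beq_eq, Nat.beq_eq] at h4
    rcases h4 with h4 | h4
    · left
      rw [h5, h4, Nat.zero_shiftLeft, word_zero, add_zero]; exact h2
    · right
      rw [h5, h4, show 2048 <<< 12 = 2 ^ 23 from rfl, word_none, add_assoc, add_self_fun, add_zero]
      exact h2

theorem bas_mem_code (τ : ℕ → ZMod 2) :
    bas (P := parC) gE τ ∈ golayCode ∧ bas (P := parC) gE τ none = 0 := by
  have h1 : bas (P := parC) gE τ = ∑ k ∈ Finset.range 11, τ k • word (getL 0 vB k) := by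
    funext a
    rw [Finset.sum_apply]
    show ∑ k ∈ Finset.range 11, (if (img 11 parC.Bt (gE.ix a)).testBit k then τ k else 0) = _
    refine Finset.sum_congr rfl fun k hk => ?_
    have h2 : ∀ a : GolayPt, ∀ k < 11,
        (img 11 parC.Bt (gE.ix a)).testBit k = (getL 0 vB k).testBit (gE.ix a) := by decide +kernel
    rw [h2 a k (Finset.mem_range.mp hk), Pi.smul_apply, word]
    split_ifs <;> simp
  have h2 : ∀ k < 11, inC (getL 0 vB k) = true ∧ word (getL 0 vB k) none = 0 := by decide +kernel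
  rw [h1]
  refine ⟨Submodule.sum_mem _ fun k hk => Submodule.smul_mem _ _
    (word_mem_of_inC (h2 k (Finset.mem_range.mp hk)).1), ?_⟩
  rw [Finset.sum_apply]
  exact Finset.sum_eq_zero fun k hk => by
    rw [Pi.smul_apply, (h2 k (Finset.mem_range.mp hk)).2, smul_zero]

theorem eq_zero_of_info {w : GolayPt → ZMod 2} (hw : w ∈ golayCode) (h0 : w none = 0)
    (h : ∀ k, k < 11 → w (gE.pt k) = 0) : w = 0 := by
  obtain ⟨m, hm, rfl⟩ := exists_word w
  obtain ⟨x, hx, rfl⟩ := inC_iff.mp ((word_mem_iff hm).mp hw)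
  have h1 : ∀ k, k < 24 → word (cw x) (gE.pt k) = 0 → (cw x).testBit k = false := fun k hk h => by
    rw [word, gE.ix_pt k hk] at h
    revert h; cases (cw x).testBit k <;> simp
  have h2 : x % 2 ^ 11 = 0 := by
    rw [← cw_mod hx, show 4096 = 2 ^ 12 from rfl, Nat.mod_mod_of_dvd _ (by norm_num)]
    apply Nat.eq_of_testBit_eq
    intro k
    rw [Nat.testBit_mod_two_pow, Nat.zero_testBit]
    by_cases hk : k < 11
    · rw [h1 k (by omega) (h k hk), Bool.and_false]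
    · simp [hk]
  have h3 := h1 23 (by norm_num) h0
  obtain rfl | rfl : x = 0 ∨ x = 2048 := by omega
  · exact word_zero
  · revert h3; decide +kernel

/-- The cocode data of an extension. -/
def cocodeData {E : Type*} [Group E] (π : E →* Equiv.Perm GolayPt) (ι : (GolayPt → ZMod 2) → E)
    (h1 : ∀ u v, ι (u + v) = ι u * ι v) (h2 : ∀ g u, ι (u ∘ ⇑(π g)⁻¹) = g * ι u * g⁻¹)
    (h3 : ∀ e, π e = 1 ↔ ∃ u, ι u = e)
    (h4 : ∀ u, ι u = 1 ↔ (u ∈ golayCode ∨ u + Pi.single none 1 ∈ golayCode))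
    (S : List ℕ) (R : List (List ℕ × List ℕ)) (M : ℕ) :
    Data (P := ⟨M, 24, 5, 11, parD.Bt, vB, S, R⟩) gE E where
  π := π
  U := ⊤
  ι := ι
  ι_add u _ v _ := h1 u v
  act_mem _ _ _ := trivial
  ι_act g u _ := h2 g u
  bas_mem _ := trivial
  surj e he := by
    obtain ⟨u, rfl⟩ := (h3 e).mp he
    have h5 := (h4 _).mpr ((dual_iff _).mpr
      (co_bas_add (P := ⟨M, 24, 5, 11, parD.Bt, vB, S, R⟩) gE
        (show parD.dualOK = true by decide +kernel) u))
    have h6 : ι u * ι u = 1 := by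
      rw [← h1, add_self_fun, h4]; exact Or.inl golayCode.zero_mem
    exact ⟨_, mul_right_cancel ((h1 _ _).symm.trans (h5.trans h6.symm))⟩
  π_ι u _ := (h3 _).mpr ⟨u, rfl⟩
  coord u _ := (h4 u).trans (dual_iff u)

end Coh

end Cfsg.Agent.H4
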