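import Cfsg.Agent.H4.TC2

/-! Powers of words as relators. -/

set_option autoImplicit false

namespace Cfsg.Agent.H4.TC

open Cfsg.Agent.H5 Cfsg.Agent.H8.TC

variable {Γ : Type*} [Group Γ] {lt : ℕ → Γ}

theorem pk_lt (l : List ℕ) (h : ∀ c ∈ l, c < 16) : pk l < 16 ^ l.length := by
  induction l with
  | nil => exact Nat.one_pos
  | cons c l ih =>
    have h1 := h c List.mem_cons_self
    have h2 := ih fun d hd => h d (List.mem_cons_of_mem _ hd)
    change c + 16 * pk l < 16 ^ (l.length + 1)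
    rw [pow_succ]; omega

theorem val_rp_pk (h0 : lt 0 = 1) {l : List ℕ} (hl : ∀ c ∈ l, c < 16) {m : ℕ}
    (h : (l.map lt).prod ^ m = 1) : val lt (rp (pk l) l.length m) = 1 := by
  rw [val_rp h0 (pk_lt l hl), val_pk h0 l hl, h]

theorem prod_rev (hq : ∀ c, lt c * lt c = 1) (l : List ℕ) :
    (l.reverse.map lt).prod = (l.map lt).prod⁻¹ := by
  induction l with
  | nil => simp
  | cons c l ih =>
    rw [List.reverse_cons, List.map_append, List.prod_append, ih, List.map_cons, List.map_cons,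
      List.prod_cons, List.prod_cons, mul_inv_rev, ← eq_inv_of_mul_eq_one_left (hq c)]
    simp

theorem val_rp_rev (h0 : lt 0 = 1) (hq : ∀ c, lt c * lt c = 1) {l : List ℕ}
    (hl : ∀ c ∈ l, c < 16) {m : ℕ} (h : (l.map lt).prod ^ m = 1) :
    val lt (rp (pk l.reverse) l.reverse.length m) = 1 :=
  val_rp_pk h0 (fun c hc => hl c (List.mem_reverse.1 hc)) (by rw [prod_rev hq, inv_pow, h, inv_one])

end Cfsg.Agent.H4.TC
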