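import Cfsg.Agent.H4.Jan2
import Cfsg.Agent.H4.TC3
import Cfsg.Prelude.Def_Transfer

/-! Normal elementary abelian subgroups of a 2-group given as an extension of an elementary
abelian group by a group of order 128. -/

set_option autoImplicit false

namespace Cfsg.Agent.H4

open Subgroup Cfsg.Agent.H5 Cfsg.Agent.H5.Mdl

section pure

variable {G : Type*} [Group G]

def Ab (B : Subgroup G) : Prop := ∀ a ∈ B, ∀ b ∈ B, a * b = b * a

theorem card_sup_two [Finite G] {H : Subgroup G} {g : G} (hN : ∀ h ∈ H, g * h * g⁻¹ ∈ H)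
    (h2 : g * g ∈ H) : Nat.card (H ⊔ zpowers g : Subgroup G) ≤ 2 * Nat.card H := by
  let S : Subgroup G :=
    { carrier := {x | x ∈ H ∨ x * g⁻¹ ∈ H}
      one_mem' := Or.inl H.one_mem
      mul_mem' := by
        rintro a b (ha | ha) (hb | hb)
        · exact Or.inl (H.mul_mem ha hb)
        · exact Or.inr (by rw [mul_assoc]; exact H.mul_mem ha hb)
        · exact Or.inr (by convert H.mul_mem ha (hN b hb) using 1; group)
        · exact Or.inl (by convert H.mul_mem (H.mul_mem ha (hN _ hb)) h2 using 1; group)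
      inv_mem' := by
        rintro a (ha | ha)
        · exact Or.inl (H.inv_mem ha)
        · exact Or.inr (by
            convert H.mul_mem (H.inv_mem h2) (hN _ (H.inv_mem ha)) using 1; group) }
  have h : H ⊔ zpowers g ≤ S :=
    sup_zpowers_le (fun x hx => Or.inl hx) (Or.inr (by rw [mul_inv_cancel]; exact H.one_mem))
  refine (H8.TC.card_le_of_cover (φ := fun i => g ^ i) fun x hx => ?_).2
  rcases h hx with h1 | h1
  · exact ⟨0, by norm_num, by simpa using h1⟩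
  · exact ⟨1, by norm_num, by simpa using h1⟩

theorem comm_mem_of_index [Finite G] {H N : Subgroup G} (hN : Nm H N) (hle : N ≤ H)
    (h1 : Nat.card H = 128) (h2 : 16 < Nat.card N) {a b : G} (ha : a ∈ H) (hb : b ∈ H) :
    a * b * a⁻¹ * b⁻¹ ∈ N := by
  have hn : (N.subgroupOf H).Normal := ⟨fun x hx g => hN g g.2 x hx⟩
  have h3 := (N.subgroupOf H).card_mul_index
  rw [Nat.card_congr (subgroupOfEquivOfLe hle).toEquiv, h1] at h3
  have h4 : (N.subgroupOf H).index ∣ 2 ∨ (N.subgroupOf H).index = 2 ^ 2 := by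
    have : (N.subgroupOf H).index < 8 := by nlinarith
    generalize (N.subgroupOf H).index = k at *
    interval_cases k <;> omega
  have h5 : IsMulCommutative (H ⧸ N.subgroupOf H) := by
    rcases h4 with h4 | h4
    · exact (isCyclic_of_card_dvd_prime (p := 2) h4).isMulCommutative
    · exact IsPGroup.isMulCommutative_of_card_eq_prime_sq h4
  have h6 := h5.is_comm.comm (QuotientGroup.mk (⟨a, ha⟩ : H)⁻¹) (QuotientGroup.mk (⟨b, hb⟩ : H)⁻¹)
  rw [← QuotientGroup.mk_mul, ← QuotientGroup.mk_mul, QuotientGroup.eq] at h6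
  have h7 := N.inv_mem (mem_subgroupOf.1 h6)
  simpa [mul_assoc] using h7

theorem card_le_sixteen [Finite G] {H N : Subgroup G} (hN : Nm H N) (hle : N ≤ H)
    (h1 : Nat.card H = 128) (hA : Ab N) {a b c d : G} (ha : a ∈ H) (hb : b ∈ H) (hc : c ∈ H)
    (hd : d ∈ H) (h : a * b * a⁻¹ * b⁻¹ * (c * d * c⁻¹ * d⁻¹) ≠
      c * d * c⁻¹ * d⁻¹ * (a * b * a⁻¹ * b⁻¹)) : Nat.card N ≤ 16 := by
  by_contra h2
  exact h (hA _ (comm_mem_of_index hN hle h1 (not_le.1 h2) ha hb) _
    (comm_mem_of_index hN hle h1 (not_le.1 h2) hc hd))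

theorem card_map_mul_ker [Finite G] {X : Type*} [Group X] (s : G →* X) (B : Subgroup G) :
    Nat.card (B ⊓ s.ker : Subgroup G) * Nat.card (B.map s) = Nat.card B := by
  rw [← relIndex_ker, card_inf_mul_relIndex]

theorem nm_map {X : Type*} [Group X] (s : G →* X) {T B : Subgroup G} (h : Nm T B) :
    Nm (T.map s) (B.map s) := by
  rintro _ ⟨g, hg, rfl⟩ _ ⟨b, hb, rfl⟩
  exact ⟨_, h g hg b hb, by simp⟩

theorem Ab.map {X : Type*} [Group X] (s : G →* X) {B : Subgroup G} (h : Ab B) : Ab (B.map s) := by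
  rintro _ ⟨a, ha, rfl⟩ _ ⟨b, hb, rfl⟩
  rw [← map_mul, h a ha b hb, map_mul]

theorem ab_bound [Finite G] {X : Type*} [Group X] (s : G →* X) {T A : Subgroup G}
    (hker : T ⊓ s.ker ≤ A) (hA : Ab A) {z y w : G} (hz : z ∈ T) (hy : y ∈ T)
    (h1 : Nat.card (A ⊓ centralizer {z} : Subgroup G) ≤ 128)
    (hw : w ∈ A ⊓ centralizer {z}) (hwy : w * y ≠ y * w)
    (n1 : ∀ N, Nm (T.map s) N → N ≤ T.map s → N ≠ ⊥ → s z ∈ N)
    (n2 : ∀ N, Nm (T.map s) N → N ≤ T.map s → 2 < Nat.card N → s y ∈ N)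
    (n3 : ∀ N, Nm (T.map s) N → N ≤ T.map s → Ab N → Nat.card N ≤ 16)
    (B : Subgroup G) (hB : B ≤ T) (hN : Nm T B) (hc : Ab B) (hn : ¬ B ≤ A) :
    Nat.card B ≤ 1024 := by
  have key : ∀ u ∈ T, s u ∈ B.map s → B ⊓ s.ker ≤ centralizer {u} := by
    rintro u hu ⟨b, hb, e⟩ g hg
    have h2 : b⁻¹ * u ∈ A := hker ⟨T.mul_mem (T.inv_mem (hB hb)) hu,
      s.mem_ker.2 (by rw [map_mul, map_inv, e, inv_mul_cancel])⟩
    have h3 := hA g (hker ⟨hB hg.1, hg.2⟩) _ h2
    rw [mem_centralizer_singleton_iff]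
    calc g * u = g * b * (b⁻¹ * u) := by group
      _ = b * (g * (b⁻¹ * u)) := by rw [hc g hg.1 b hb, mul_assoc]
      _ = _ := by rw [h3]; group
  have a0 : B ⊓ s.ker ≤ A := (inf_le_inf hB le_rfl).trans hker
  have a1 := nm_map s hN
  have a2 : B.map s ≤ T.map s := map_mono hB
  have a3 : B ⊓ s.ker ≤ A ⊓ centralizer {z} := le_inf a0 (key z hz (n1 _ a1 a2 fun h =>
    hn ((le_inf le_rfl ((map_eq_bot_iff B).1 h)).trans a0)))
  rw [← card_map_mul_ker s B]
  by_cases h2 : 2 < Nat.card (B.map s)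
  · have a4 := card_le_of_le (le_inf a3 (key y hy (n2 _ a1 a2 h2)))
    have a5 := two_mul_card_le hw hwy
    have a6 := n3 _ a1 a2 (hc.map s)
    calc _ ≤ 64 * 16 := Nat.mul_le_mul (by omega) a6
      _ = _ := rfl
  · calc _ ≤ 128 * 2 := Nat.mul_le_mul ((card_le_of_le a3).trans h1) (by omega)
      _ ≤ _ := by norm_num

theorem ker_le_of_card [Finite G] {X : Type*} [Group X] (s : G →* X) {T A : Subgroup G}
    (h1 : A ≤ T ⊓ s.ker) {a b : ℕ} (hb : 0 < b) (h2 : Nat.card T ≤ a * b) (h3 : a ≤ Nat.card A)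
    (h4 : b ≤ Nat.card (T.map s)) : T ⊓ s.ker = A ∧ Nat.card T = a * b ∧ Nat.card A = a := by
  have h5 := card_map_mul_ker s T
  have h6 := card_le_of_le h1
  have h7 : Nat.card (T ⊓ s.ker : Subgroup G) ≤ a :=
    Nat.le_of_mul_le_mul_right (((Nat.mul_le_mul_left _ h4).trans h5.le).trans h2) hb
  exact ⟨(eq_of_le_of_card_ge h1 (h7.trans h3)).symm,
    le_antisymm h2 ((Nat.mul_le_mul (h3.trans h6) h4).trans h5.le), le_antisymm (h6.trans h7) h3⟩

theorem fst_ker_bot {X : Type*} [Group X] {T A : Subgroup (G × X)}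
    (hker : T ⊓ (MonoidHom.snd G X).ker = A) (hA : Ab A) {z w : G × X} (hz : z ∈ T) (hw : w ∈ A)
    (hwz : w * z ≠ z * w)
    (n1 : ∀ N, Nm (T.map (MonoidHom.snd G X)) N → N ≤ T.map (MonoidHom.snd G X) → N ≠ ⊥ →
      MonoidHom.snd G X z ∈ N) : T ⊓ (MonoidHom.fst G X).ker ≤ ⊥ := by
  have hN : Nm T (T ⊓ (MonoidHom.fst G X).ker) := fun g hg x hx =>
    ⟨T.mul_mem (T.mul_mem hg hx.1) (T.inv_mem hg), (MonoidHom.normal_ker _).conj_mem x hx.2 g⟩
  by_cases h : (T ⊓ (MonoidHom.fst G X).ker).map (MonoidHom.snd G X) = ⊥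
  · exact fun x hx => Prod.ext hx.2 ((Subgroup.map_eq_bot_iff _).1 h hx)
  · obtain ⟨k, hk, e⟩ := n1 _ (nm_map _ hN) (map_mono inf_le_left) h
    have h1 : k⁻¹ * z ∈ A := hker.le ⟨T.mul_mem (T.inv_mem hk.1) hz,
      (MonoidHom.snd G X).mem_ker.2 (by rw [map_mul, map_inv, e, inv_mul_cancel])⟩
    have h2 : w.2 = 1 := (hker.ge hw).2
    have h3 : k.1 = 1 := hk.2
    have h4 : w * k = k * w := Prod.ext (by simp [h3]) (by simp [h2])
    refine absurd ?_ hwz
    calc w * z = w * k * (k⁻¹ * z) := by group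
      _ = k * (w * (k⁻¹ * z)) := by rw [h4, mul_assoc]
      _ = _ := by rw [hA w hw _ h1]; group

/-- a homomorphism that is injective on `T` -/
noncomputable def mapEquiv {X : Type*} [Group X] (f : G →* X) {T : Subgroup G}
    (h : T ⊓ f.ker ≤ ⊥) : T ≃* T.map f :=
  MulEquiv.ofBijective (f.subgroupMap T) ⟨(injective_iff_map_eq_one _).2 fun a ha =>
    Subtype.ext (h ⟨a.2, congrArg Subtype.val ha⟩), f.subgroupMap_surjective T⟩

theorem sylow_equiv {Γ : Type*} [Group Γ] (π : Γ →* G) {N : ℕ} (hb : TC.Bd (⊤ : Subgroup Γ) N)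
    (hN : N ≤ Nat.card π.range) {T0 : Subgroup G} (h0 : T0 ≤ π.range) {k : ℕ}
    (hc : Nat.card T0 = 2 ^ k) (hk : ¬ 2 ^ (k + 1) ∣ N) (T : Sylow 2 Γ) : Nonempty (T ≃* T0) := by
  have h1 := hb.1
  have : Finite Γ := Finite.of_equiv _ topEquiv.toEquiv
  have h2 : Nat.card Γ ≤ N := (Nat.card_congr topEquiv.toEquiv).ge.trans hb.2
  have h3 := Nat.card_le_card_of_surjective _ π.rangeRestrict_surjective
  have h4 := ((Nat.bijective_iff_surjective_and_card π.rangeRestrict).2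
    ⟨π.rangeRestrict_surjective, le_antisymm (h2.trans hN) h3⟩).1
  have h5 : Function.Injective π := fun a b h => h4 (Subtype.ext h)
  have e := comapEquiv π h5 h0
  have h6 : Nat.card (T0.comap π) = 2 ^ k := (Nat.card_congr e.toEquiv).trans hc
  refine ⟨(T.equiv ((IsPGroup.of_card h6).toSylow fun h => hk ?_)).trans e⟩
  rw [← le_antisymm h2 (hN.trans h3), ← (T0.comap π).card_mul_index, h6, pow_succ]
  exact Nat.mul_dvd_mul_left _ h

/-- the property of a Sylow 2-subgroup of `Fi₂₃` -/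
theorem ea_transfer {G' : Type*} [Group G'] [Finite G'] {T : Subgroup G} {T' A' : Subgroup G'}
    (e : T ≃* T') (hA : A' ≤ T') (nA : Nm T' A') (cA : Ab A') (pA : ∀ a ∈ A', a ^ 2 = 1)
    (kA : Nat.card A' = 2048)
    (hB : ∀ B ≤ T', Nm T' B → Ab B → ¬ B ≤ A' → Nat.card B ≤ 1024) :
    (∀ A : Subgroup G, A ≤ T → (A.subgroupOf T).Normal → IsElementaryAbelian 2 A →
      Nat.card A ≤ 2 ^ 11) ∧
    ∃! A : Subgroup G, A ≤ T ∧ (A.subgroupOf T).Normal ∧ IsElementaryAbelian 2 A ∧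
      Nat.card A = 2 ^ 11 := by
  let ψ : T →* G' := T'.subtype.comp e.toMonoidHom
  have hψ : Function.Injective ψ := T'.subtype_injective.comp e.injective
  have hr : ψ.range = T' := by
    ext x
    exact ⟨fun ⟨y, hy⟩ => hy ▸ (e y).2, fun hx => ⟨e.symm ⟨x, hx⟩, by simp [ψ]⟩⟩
  let A0 : Subgroup G := (A'.comap ψ).map T.subtype
  have k0 : Nat.card A0 = 2048 := by
    rw [card_map_of_injective T.subtype_injective,
      Nat.card_congr (comapEquiv ψ hψ (hA.trans hr.ge)).toEquiv, kA]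
  have hfin : Finite A0 := Nat.finite_of_card_ne_zero (by rw [k0]; norm_num)
  have key : ∀ A : Subgroup G, A ≤ T → (A.subgroupOf T).Normal → IsElementaryAbelian 2 A →
      A ≤ A0 ∨ Nat.card A ≤ 1024 := by
    intro A h1 h2 h3
    by_cases h4 : (A.subgroupOf T).map ψ ≤ A'
    · exact Or.inl fun x hx => ⟨⟨x, h1 hx⟩, h4 ⟨⟨x, h1 hx⟩, hx, rfl⟩, rfl⟩
    · refine Or.inr ?_
      have h5 := hB _ ((map_le_range ψ _).trans hr.le) ?_ ?_ h4
      · rwa [card_map_of_injective hψ, Nat.card_congr (subgroupOfEquivOfLe h1).toEquiv] at h5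
      · rintro g hg _ ⟨x, hx, rfl⟩
        obtain ⟨u, rfl⟩ := hr.ge hg
        exact ⟨_, h2.conj_mem x hx u, by simp⟩
      · refine Ab.map ψ fun a ha b hb => Subtype.ext ?_
        exact (congrArg Subtype.val (h3.1.is_comm.comm (⟨a, ha⟩ : A) ⟨b, hb⟩) :)
  refine ⟨fun A h1 h2 h3 => ?_, A0, ⟨map_subtype_le _, ?_, ⟨⟨⟨?_⟩⟩, ?_⟩, k0⟩, fun A ⟨h1, h2, h3, h4⟩ => ?_⟩
  · rcases key A h1 h2 h3 with h | h
    · exact (card_le_of_le h).trans k0.le
    · exact h.trans (by norm_num)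
  · have : A0.subgroupOf T = A'.comap ψ := comap_map_eq_self_of_injective T.subtype_injective _
    rw [this]
    exact normal_comap_of_nm ψ (hr ▸ nA)
  · rintro ⟨_, a, ha, rfl⟩ ⟨_, b, hb, rfl⟩
    have : a * b = b * a := hψ (by rw [map_mul, map_mul]; exact cA _ ha _ hb)
    exact Subtype.ext (congrArg Subtype.val this :)
  · rintro _ ⟨a, ha, rfl⟩
    have : a ^ 2 = 1 := hψ (by rw [map_pow, map_one]; exact pA _ ha)
    exact congrArg Subtype.val this
  · rcases key A h1 h2 h3 with h | h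
    · exact eq_of_le_of_card_ge h (by rw [k0, h4]; norm_num)
    · rw [h4] at h; norm_num at h

end pure

section mdl

variable {G M : Type*} [Group G] [Monoid M] {m : Mdl G M}

/-- a polycyclic presentation of a 2-group -/
noncomputable def chkP2 (mul : ℕ → ℕ → ℕ) (one : ℕ) (P : ℕ → ℕ) (ws : List (List ℕ)) (k x : ℕ) : ℕ :=
  force (Nat.div x k) fun j => force (Nat.mod x k) fun i => below (Nat.succ j) (fun i =>
    Nat.add (sumL' (getW ws x) fun a => lt0 a j) (force (wd mul one P (getW ws x)) fun y =>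
      ifz (Nat.xor i j) (Nat.xor (mul (P j) (P j)) y) (chkJ mul (P j) (P i) y))) i

theorem chkP2_spec {P : ℕ → ℕ} {ws : List (List ℕ)} {k : ℕ} (hP : ∀ j < k, m.In ⊤ (P j))
    (h : ∀ x < k * k, chkP2 m.mul m.one P ws k x = 0) {j : ℕ} (hj : j < k) {i : ℕ} (hi : i ≤ j) :
    ∃ y, m.In (m.gn P j) y ∧
      (if i = j then Nat.xor (m.mul (P j) (P j)) y else chkJ m.mul (P j) (P i) y) = 0 := by
  have a := h (k * j + i) (by nlinarith)
  have b : Nat.div (k * j + i) k = j := by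
    change (k * j + i) / k = j
    rw [Nat.mul_add_div (by omega), Nat.div_eq_of_lt (by omega), add_zero]
  have c : Nat.mod (k * j + i) k = i := by
    change (k * j + i) % k = i
    rw [Nat.mul_add_mod, Nat.mod_eq_of_lt (by omega)]
  simp only [chkP2, force_eq, ifz_eq, b, c, below_eq] at a
  rw [if_pos (Nat.lt_succ_of_le hi)] at a
  obtain ⟨a1, a2⟩ := add_eq_zero' a
  refine ⟨_, in_wd fun y hy => in_gn (fun s hs => hP s (by omega)) y
    (lt_of_lt0 (sumL'_zero a1 y hy)), ?_⟩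
  split_ifs with h1
  · rwa [if_pos (h1 ▸ Nat.xor_self i)] at a2
  · rwa [if_neg fun h2 => h1 (xor_eq_zero' h2)] at a2

theorem card_le_of_chkP2 [Finite G] {P : ℕ → ℕ} {ws : List (List ℕ)} {k : ℕ}
    (hP : ∀ j < k, m.In ⊤ (P j)) (h : ∀ x < k * k, chkP2 m.mul m.one P ws k x = 0) :
    ∀ j ≤ k, Nat.card (m.gn P j) ≤ 2 ^ j := by
  intro j
  induction j with
  | zero =>
    exact fun _ => (card_le_of_le (gn_le (H := ⊥) fun s hs => absurd hs (by omega))).trans
      card_bot.le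
  | succ j ih =>
    intro hj
    have e := (hP j hj).elt
    have h1 : Nm (m.gn (fun _ => P j) 1) (m.gn P j) := nm_gn fun _ _ i hi => by
      obtain ⟨y, a, b⟩ := chkP2_spec hP h hj hi.le
      exact ⟨y, a, by rwa [if_neg hi.ne] at b⟩
    obtain ⟨y, a, b⟩ := chkP2_spec hP h hj le_rfl
    rw [if_pos rfl] at b
    have h2 := card_sup_two (h1 _ (subset_closure ⟨0, one_pos, e⟩))
      (a.mem (by rw [rep_mul e e, xor_eq_zero' b]))
    have h3 : m.gn P (j + 1) ≤ m.gn P j ⊔ zpowers (m.elt (P j)) := gn_le fun s hs => by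
      rcases Nat.lt_succ_iff_lt_or_eq.1 hs with h3 | h3
      · exact (in_gn (fun s hs => hP s (by omega)) s h3).mono le_sup_left
      · rw [h3]; exact ⟨_, mem_sup_right (mem_zpowers _), e⟩
    have := ih (by omega)
    have := card_le_of_le h3
    rw [pow_succ]; omega

/-- the generators are commuting involutions -/
noncomputable def chkA (mul : ℕ → ℕ → ℕ) (one : ℕ) (P : ℕ → ℕ) (k x : ℕ) : ℕ :=
  force (Nat.div x k) fun j => force (Nat.mod x k) fun i => below (Nat.succ j) (fun i =>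
    ifz (Nat.xor i j) (Nat.xor (mul (P j) (P j)) one) (chkJ mul (P j) (P i) (P i))) i

theorem ea_of_chkA {P : ℕ → ℕ} {k : ℕ} (h : ∀ x < k * k, chkA m.mul m.one P k x = 0) :
    Ab (m.gn P k) ∧ ∀ a ∈ m.gn P k, a ^ 2 = 1 := by
  have key : ∀ j < k, ∀ i ≤ j, ∀ a b, m.φ a = m.ev (P j) → m.φ b = m.ev (P i) →
      a * b = b * a ∧ (i = j → a * a = 1) := by
    intro j hj i hi a b ea eb
    have a0 := h (k * j + i) (by nlinarith)
    have b0 : Nat.div (k * j + i) k = j := by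
      change (k * j + i) / k = j
      rw [Nat.mul_add_div (by omega), Nat.div_eq_of_lt (by omega), add_zero]
    have c0 : Nat.mod (k * j + i) k = i := by
      change (k * j + i) % k = i
      rw [Nat.mul_add_mod, Nat.mod_eq_of_lt (by omega)]
    simp only [chkA, force_eq, ifz_eq, b0, c0, below_eq] at a0
    rw [if_pos (Nat.lt_succ_of_le hi)] at a0
    split_ifs at a0 with h1
    · rw [xor_eq_zero' h1, ← ea] at eb
      exact ⟨by rw [m.inj eb], fun _ =>
        m.inj (by rw [rep_mul ea ea, xor_eq_zero' a0, m.ev_one, map_one])⟩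
    · exact ⟨comm_of_chkJ a0 ea eb, fun h2 => absurd (h2 ▸ Nat.xor_self i) h1⟩
  have hA : Ab (m.gn P k) := by
    have := isMulCommutative_closure (k := {g | ∃ s < k, m.φ g = m.ev (P s)})
      (by
        rintro a ⟨j, hj, ea⟩ b ⟨i, hi, eb⟩
        rcases le_total i j with h1 | h1
        · exact (key j hj i h1 a b ea eb).1
        · exact (key i hi j h1 b a eb ea).1.symm)
    exact fun a ha b hb =>
      (congrArg Subtype.val (this.is_comm.comm (⟨a, ha⟩ : m.gn P k) ⟨b, hb⟩) :)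
  refine ⟨hA, fun a ha => ?_⟩
  induction ha using closure_induction with
  | mem x hx => obtain ⟨j, hj, e⟩ := hx; rw [sq]; exact (key j hj j le_rfl x x e e).2 rfl
  | one => exact one_pow 2
  | mul x y hx hy h1 h2 => rw [Commute.mul_pow (hA x hx y hy), h1, h2, one_mul]
  | inv x _ h1 => rw [inv_pow, h1, inv_one]

/-- commutators lead to the first two terms of the upper central series -/
noncomputable def chkZ (mul : ℕ → ℕ → ℕ) (gl e tab : ℕ → ℕ) (ng x : ℕ) : ℕ :=
  ifz (Nat.shiftRight x 1) 0 (force (tab x) fun a => force (Nat.land a 31) fun s =>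
    force (Nat.shiftRight a 5) fun y =>
      Nat.add (chkJ mul (gl s) (e x) (mul (e x) (e y)))
        (Nat.add (Nat.add (lt0 y x) (lt0 s ng)) (Nat.sub (ifz (Nat.shiftRight x 2) 1 2) y)))

theorem mem_of_chkZ {gl e tab : ℕ → ℕ} {ng n : ℕ} (hg : ∀ s < ng, m.In ⊤ (gl s))
    (h : ∀ x < n, chkZ m.mul gl e tab ng x = 0) (h3 : m.mul (e 1) (e 2) = e 3) {N : Subgroup G}
    (hN : Nm (m.gn gl ng) N) (x : ℕ) :
    x < n → m.In N (e x) → (1 ≤ x → m.In N (e 1)) ∧ (2 ≤ x → m.In N (e 2)) := by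
  induction x using Nat.strong_induction_on with
  | _ x ih =>
    intro hx hi
    by_cases h2 : x < 2
    · exact ⟨fun h1 => (show x = 1 by omega) ▸ hi, fun h1 => absurd h1 (by omega)⟩
    have a := h x hx
    have b : Nat.shiftRight x 1 = x / 2 := Nat.shiftRight_eq_div_pow x 1
    have c : Nat.shiftRight x 2 = x / 4 := Nat.shiftRight_eq_div_pow x 2
    simp only [chkZ, force_eq, ifz_eq, b, c] at a
    rw [if_neg (by omega)] at a
    obtain ⟨a1, a⟩ := add_eq_zero' a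
    obtain ⟨a, a4⟩ := add_eq_zero' a
    obtain ⟨a2, a3⟩ := add_eq_zero' a
    obtain ⟨g, hg1, eg⟩ := in_gn hg _ (lt_of_lt0 a3)
    obtain ⟨u, hu, eu⟩ := hi
    have h4 : m.In N (e (Nat.shiftRight (tab x) 5)) :=
      In.cancel_left ⟨u, hu, eu⟩ ⟨_, hN g hg1 u hu, rep_conj a1 eg eu⟩ (in_one N)
        (by rw [m.ev_mul, m.ev_one, mul_one])
    have h5 := ih _ (lt_of_lt0 a2) ((lt_of_lt0 a2).trans hx) h4
    have a5 : (if x / 4 = 0 then 1 else 2) - Nat.shiftRight (tab x) 5 = 0 := a4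
    have h6 := h5.1 (by split_ifs at a5 <;> omega)
    refine ⟨fun _ => h6, fun _ => ?_⟩
    by_cases h7 : x = 2
    · exact h7 ▸ ⟨u, hu, eu⟩
    by_cases h8 : x = 3
    · exact h6.of_mul_eq (h8 ▸ ⟨u, hu, eu⟩) h3
    · exact h5.2 (by rw [if_neg (by omega)] at a5; omega)

theorem n12_of_chkZ [Finite G] {gl e tab : ℕ → ℕ} {ng n : ℕ} (hg : ∀ s < ng, m.In ⊤ (gl s))
    (h : ∀ x < n, chkZ m.mul gl e tab ng x = 0) (h3 : m.mul (e 1) (e 2) = e 3) (h0 : e 0 = m.one)
    (hc : Cov m (m.gn gl ng) e n) {z y : G} (hz : m.φ z = m.ev (e 1)) (hy : m.φ y = m.ev (e 2)) :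
    (∀ N, Nm (m.gn gl ng) N → N ≤ m.gn gl ng → N ≠ ⊥ → z ∈ N) ∧
    (∀ N, Nm (m.gn gl ng) N → N ≤ m.gn gl ng → 2 < Nat.card N → y ∈ N) := by
  have k0 : ∀ u, m.φ u = m.ev (e 0) → u = 1 := fun u hu =>
    m.inj (by rw [hu, h0, m.ev_one, map_one])
  constructor
  · intro N hN hle hne
    obtain ⟨⟨u, hu⟩, h1⟩ := (ne_bot_iff_exists_ne_one).1 hne
    obtain ⟨x, hx, eu⟩ := hc u (hle hu)
    refine ((mem_of_chkZ hg h h3 hN x hx ⟨u, hu, eu⟩).1 ?_).mem hz
    by_contra h2
    exact h1 (Subtype.ext (k0 u ((show x = 0 by omega) ▸ eu)))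
  · intro N hN hle hne
    by_contra h1
    have : (N : Set G) ⊆ {1, z} := fun u hu => by
      obtain ⟨x, hx, eu⟩ := hc u (hle hu)
      have h2 : x < 2 := by
        by_contra h2
        exact h1 (((mem_of_chkZ hg h h3 hN x hx ⟨u, hu, eu⟩).2 (by omega)).mem hy)
      interval_cases x
      · exact Or.inl (k0 u eu)
      · exact Or.inr (m.inj (eu.trans hz.symm))
    have h2 := (Set.ncard_le_ncard this).trans ((Set.ncard_insert_le _ _).trans_eq (by rw [Set.ncard_singleton]))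
    exact absurd hne (not_lt.2 h2)

theorem rep_comm {a b c : ℕ} {g u : G} (eg : m.φ g = m.ev a) (eu : m.φ u = m.ev b)
    (h : Nat.xor (m.mul a b) (m.mul c (m.mul b a)) = 0) : m.φ (g * u * g⁻¹ * u⁻¹) = m.ev c := by
  have h1 := rep_mul eg eu
  rw [xor_eq_zero' h, m.ev_mul, ← rep_mul eu eg] at h1
  rw [show g * u * g⁻¹ * u⁻¹ = g * u * (u * g)⁻¹ by group, map_mul, h1, mul_assoc, ← map_mul,
    mul_inv_cancel, map_one, mul_one]

/-- many conjugates -/
noncomputable def chkD (mul : ℕ → ℕ → ℕ) (one : ℕ) (key gl Y : ℕ → ℕ) (ws : List (List ℕ))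
    (z n i : ℕ) : ℕ :=
  Nat.add (force (wd mul one gl (getW ws i)) fun a => chkJ mul a z (Y i))
    (below (Nat.pred n) (fun i => lt0 (key (Y i)) (key (Y (Nat.succ i)))) i)

theorem card_cent_of_chkD [Finite G] {key gl Y : ℕ → ℕ} (hk : Key m key) {A : Subgroup G}
    (hg : m.El A gl) {ws : List (List ℕ)} {z n : ℕ} {g : G} (eg : m.φ g = m.ev z)
    (h : ∀ i < n, chkD m.mul m.one key gl Y ws z n i = 0) :
    n * Nat.card (A ⊓ centralizer {g} : Subgroup G) ≤ Nat.card A := by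
  have h1 : ∀ i < n, ∃ a ∈ A, m.φ (a * g * a⁻¹) = m.ev (Y i) := fun i hi =>
    let ⟨a, ha, ea⟩ := hg.wd (getW ws i); ⟨a, ha, rep_conj (add_eq_zero' (h i hi)).1 ea eg⟩
  have h2 : ∀ j < n, ∀ i < j, key (Y i) < key (Y j) := by
    intro j
    induction j with
    | zero => exact fun _ i hi => absurd hi (by omega)
    | succ j ih =>
      intro hj i hi
      have a := (add_eq_zero' (h j (by omega))).2
      rw [below_eq, if_pos (show j < n.pred from Nat.lt_pred_iff.2 hj)] at a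
      rcases Nat.lt_succ_iff_lt_or_eq.1 hi with h3 | h3
      · exact (ih (by omega) i h3).trans (lt_of_lt0 a)
      · rw [h3]; exact lt_of_lt0 a
  choose! a ha ea using h1
  have h3 : Dist (fun i => a i * g * (a i)⁻¹) n := fun i hi j hj e => by
    have := hk _ _ ((ea i hi).symm.trans ((congrArg m.φ e).trans (ea j hj)))
    rcases lt_trichotomy i j with h4 | h4 | h4
    · exact absurd this (h2 j hj i h4).ne
    · exact h4
    · exact absurd this (h2 i hi j h4).ne'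
  have := card_ge_of_orbit (fun a x : G => a * x * a⁻¹) (fun _ _ _ => by group) A
    (A ⊓ centralizer {g}) inf_le_left g
    (fun u hu => mul_inv_eq_iff_eq_mul.2 (mem_centralizer_singleton_iff.1 hu.2))
    ((fun i => a i * g * (a i)⁻¹) '' {i | i < n}) (by rintro _ ⟨i, hi, rfl⟩; exact ⟨_, ha i hi, rfl⟩)
  rwa [ncard_image_range _ n h3] at this

end mdl

end Cfsg.Agent.H4
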