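import Cfsg.Agent.H4.T1F

set_option autoImplicit false
set_option maxRecDepth 100000
set_option Elab.async false

namespace Cfsg.Agent.H4.Th

open Subgroup Cfsg.Agent.H5 Cfsg.Agent.H5.Mdl 

theorem GP_0 : rng GPf (nat_lit 0) (nat_lit 1) = 0 := by decide +kernel
theorem c3S_0 : rng c3Sf (nat_lit 0) (nat_lit 4) = 0 := by decide +kernel
theorem c0S_2 : rng c0Sf (nat_lit 5) (nat_lit 3) = 0 := by decide +kernel
theorem c0S_8 : rng c0Sf (nat_lit 21) (nat_lit 3) = 0 := by decide +kernel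
theorem c0S_0 : rng c0Sf (nat_lit 0) (nat_lit 2) = 0 := by decide +kernel
theorem P3C_6 : rng P3Cf (nat_lit 74) (nat_lit 6) = 0 := by decide +kernel
theorem c0S_1 : rng c0Sf (nat_lit 2) (nat_lit 3) = 0 := by decide +kernel
theorem c7S_4 : rng c7Sf (nat_lit 6) (nat_lit 2) = 0 := by decide +kernel
theorem qR3O_0 : rngB qR3Of (nat_lit 248) (nat_lit 0) (nat_lit 4) = 0 := by decide +kernel
theorem c8S_0 : rng c8Sf (nat_lit 0) (nat_lit 5) = 0 := by decide +kernel
theorem c8S_2 : rng c8Sf (nat_lit 10) (nat_lit 5) = 0 := by decide +kernel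
theorem c8S_5 : rng c8Sf (nat_lit 25) (nat_lit 5) = 0 := by decide +kernel
theorem qX_1 : rng qXf (nat_lit 1) (nat_lit 1) = 0 := by decide +kernel
theorem qL1W_2 : rng qL1Wf (nat_lit 9) (nat_lit 7) = 0 := by decide +kernel
theorem c1S_0 : rng c1Sf (nat_lit 0) (nat_lit 2) = 0 := by decide +kernel
theorem P3C_7 : rng P3Cf (nat_lit 80) (nat_lit 5) = 0 := by decide +kernel
theorem xW_0 : rng xWf (nat_lit 0) (nat_lit 3) = 0 := by decide +kernel
theorem P3C_5 : rng P3Cf (nat_lit 66) (nat_lit 8) = 0 := by decide +kernel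
theorem qR5I_29 : rng qR5If (nat_lit 29) (nat_lit 1) = 0 := by decide +kernel
theorem qR6I_67 : rng qR6If (nat_lit 67) (nat_lit 1) = 0 := by decide +kernel
theorem Q13 : chkQW (mul3 (nat_lit 248)) (one2 (nat_lit 248)) kA Gg [nat_lit 0, nat_lit 2, nat_lit 2, nat_lit 2, nat_lit 0, nat_lit 1, nat_lit 2, nat_lit 0] 13 = 0 := by decide +kernel
theorem c0S_6 : rng c0Sf (nat_lit 17) (nat_lit 2) = 0 := by decide +kernel
theorem qL4C_0 : rng qL4Cf (nat_lit 0) (nat_lit 2) = 0 := by decide +kernel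
theorem qR3I_33 : rng qR3If (nat_lit 33) (nat_lit 1) = 0 := by decide +kernel
theorem qR3I_50 : rng qR3If (nat_lit 50) (nat_lit 1) = 0 := by decide +kernel
theorem qR5I_25 : rng qR5If (nat_lit 25) (nat_lit 1) = 0 := by decide +kernel
theorem qR5I_48 : rng qR5If (nat_lit 48) (nat_lit 1) = 0 := by decide +kernel
theorem qR6I_12 : rng qR6If (nat_lit 12) (nat_lit 1) = 0 := by decide +kernel
theorem qR6I_36 : rng qR6If (nat_lit 36) (nat_lit 1) = 0 := by decide +kernel
theorem qR6I_50 : rng qR6If (nat_lit 50) (nat_lit 1) = 0 := by decide +kernel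
theorem qR6I_60 : rng qR6If (nat_lit 60) (nat_lit 1) = 0 := by decide +kernel
theorem qR6I_69 : rng qR6If (nat_lit 69) (nat_lit 1) = 0 := by decide +kernel
theorem qR6I_85 : rng qR6If (nat_lit 85) (nat_lit 1) = 0 := by decide +kernel
theorem qL7C_0 : rng qL7Cf (nat_lit 0) (nat_lit 2) = 0 := by decide +kernel
theorem qR3I_19 : rng qR3If (nat_lit 19) (nat_lit 1) = 0 := by decide +kernel
theorem qR3I_34 : rng qR3If (nat_lit 34) (nat_lit 1) = 0 := by decide +kernel
theorem qR3I_46 : rng qR3If (nat_lit 46) (nat_lit 1) = 0 := by decide +kernel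
theorem qR4I_1 : rng qR4If (nat_lit 1) (nat_lit 1) = 0 := by decide +kernel
theorem qR4I_24 : rng qR4If (nat_lit 24) (nat_lit 1) = 0 := by decide +kernel
theorem qR5I_3 : rng qR5If (nat_lit 3) (nat_lit 1) = 0 := by decide +kernel
theorem qR5I_28 : rng qR5If (nat_lit 28) (nat_lit 1) = 0 := by decide +kernel
theorem qR5I_37 : rng qR5If (nat_lit 37) (nat_lit 1) = 0 := by decide +kernel
theorem qR5I_45 : rng qR5If (nat_lit 45) (nat_lit 1) = 0 := by decide +kernel
theorem qR6I_14 : rng qR6If (nat_lit 14) (nat_lit 1) = 0 := by decide +kernel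
theorem qR6I_38 : rng qR6If (nat_lit 38) (nat_lit 1) = 0 := by decide +kernel
theorem qR6I_49 : rng qR6If (nat_lit 49) (nat_lit 1) = 0 := by decide +kernel
theorem qR6I_73 : rng qR6If (nat_lit 73) (nat_lit 1) = 0 := by decide +kernel
theorem qR7I_5 : rng qR7If (nat_lit 5) (nat_lit 1) = 0 := by decide +kernel
theorem c0S_10 : rng c0Sf (nat_lit 27) (nat_lit 2) = 0 := by decide +kernel
theorem qR3I_2 : rng qR3If (nat_lit 2) (nat_lit 1) = 0 := by decide +kernel
theorem qR3I_35 : rng qR3If (nat_lit 35) (nat_lit 1) = 0 := by decide +kernel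
theorem qR3I_45 : rng qR3If (nat_lit 45) (nat_lit 1) = 0 := by decide +kernel
theorem qR4I_12 : rng qR4If (nat_lit 12) (nat_lit 1) = 0 := by decide +kernel
theorem qR4I_19 : rng qR4If (nat_lit 19) (nat_lit 1) = 0 := by decide +kernel
theorem qR4I_25 : rng qR4If (nat_lit 25) (nat_lit 1) = 0 := by decide +kernel
theorem qR4I_30 : rng qR4If (nat_lit 30) (nat_lit 1) = 0 := by decide +kernel
theorem qR5I_0 : rng qR5If (nat_lit 0) (nat_lit 1) = 0 := by decide +kernel
theorem qR5I_8 : rng qR5If (nat_lit 8) (nat_lit 1) = 0 := by decide +kernel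
theorem qR5I_12 : rng qR5If (nat_lit 12) (nat_lit 1) = 0 := by decide +kernel
theorem qR5I_26 : rng qR5If (nat_lit 26) (nat_lit 1) = 0 := by decide +kernel
theorem qR5I_39 : rng qR5If (nat_lit 39) (nat_lit 1) = 0 := by decide +kernel
theorem qR5I_44 : rng qR5If (nat_lit 44) (nat_lit 1) = 0 := by decide +kernel
theorem qR6I_3 : rng qR6If (nat_lit 3) (nat_lit 1) = 0 := by decide +kernel
theorem qR6I_23 : rng qR6If (nat_lit 23) (nat_lit 1) = 0 := by decide +kernel
theorem qR6I_35 : rng qR6If (nat_lit 35) (nat_lit 1) = 0 := by decide +kernel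
theorem qR6I_45 : rng qR6If (nat_lit 45) (nat_lit 1) = 0 := by decide +kernel
theorem qR6I_52 : rng qR6If (nat_lit 52) (nat_lit 1) = 0 := by decide +kernel
theorem qR6I_58 : rng qR6If (nat_lit 58) (nat_lit 1) = 0 := by decide +kernel
theorem qR6I_70 : rng qR6If (nat_lit 70) (nat_lit 1) = 0 := by decide +kernel
theorem qR6I_79 : rng qR6If (nat_lit 79) (nat_lit 1) = 0 := by decide +kernel
theorem qR8I_0 : rng qR8If (nat_lit 0) (nat_lit 1) = 0 := by decide +kernel
theorem qR9I_4 : rng qR9If (nat_lit 4) (nat_lit 1) = 0 := by decide +kernel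
theorem c5G_0 : rng c5Gf (nat_lit 0) (nat_lit 5) = 0 := by decide +kernel
theorem qR3I_9 : rng qR3If (nat_lit 9) (nat_lit 1) = 0 := by decide +kernel
theorem qR3I_14 : rng qR3If (nat_lit 14) (nat_lit 1) = 0 := by decide +kernel
theorem qR3I_23 : rng qR3If (nat_lit 23) (nat_lit 1) = 0 := by decide +kernel
theorem qR3I_40 : rng qR3If (nat_lit 40) (nat_lit 1) = 0 := by decide +kernel
theorem qR4I_5 : rng qR4If (nat_lit 5) (nat_lit 1) = 0 := by decide +kernel
theorem qR4I_18 : rng qR4If (nat_lit 18) (nat_lit 1) = 0 := by decide +kernel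
theorem qR5I_6 : rng qR5If (nat_lit 6) (nat_lit 1) = 0 := by decide +kernel
theorem qR5I_14 : rng qR5If (nat_lit 14) (nat_lit 1) = 0 := by decide +kernel
theorem qR5I_30 : rng qR5If (nat_lit 30) (nat_lit 1) = 0 := by decide +kernel
theorem qR6I_5 : rng qR6If (nat_lit 5) (nat_lit 1) = 0 := by decide +kernel
theorem qR6I_20 : rng qR6If (nat_lit 20) (nat_lit 1) = 0 := by decide +kernel
theorem qR6I_26 : rng qR6If (nat_lit 26) (nat_lit 1) = 0 := by decide +kernel
theorem qR6I_32 : rng qR6If (nat_lit 32) (nat_lit 1) = 0 := by decide +kernel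
theorem qR6I_56 : rng qR6If (nat_lit 56) (nat_lit 1) = 0 := by decide +kernel
theorem qR6I_74 : rng qR6If (nat_lit 74) (nat_lit 1) = 0 := by decide +kernel
theorem qR7I_3 : rng qR7If (nat_lit 3) (nat_lit 1) = 0 := by decide +kernel
theorem qR9I_1 : rng qR9If (nat_lit 1) (nat_lit 1) = 0 := by decide +kernel
theorem qR9I_9 : rng qR9If (nat_lit 9) (nat_lit 1) = 0 := by decide +kernel
theorem P5IE_2 : rng P5IEf (nat_lit 2) (nat_lit 1) = 0 := by decide +kernel
theorem qR1I_2 : rng qR1If (nat_lit 2) (nat_lit 1) = 0 := by decide +kernel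
theorem qR3I_5 : rng qR3If (nat_lit 5) (nat_lit 1) = 0 := by decide +kernel
theorem qR3I_22 : rng qR3If (nat_lit 22) (nat_lit 1) = 0 := by decide +kernel
theorem qR3I_28 : rng qR3If (nat_lit 28) (nat_lit 1) = 0 := by decide +kernel
theorem qR4I_23 : rng qR4If (nat_lit 23) (nat_lit 1) = 0 := by decide +kernel
theorem qR5I_16 : rng qR5If (nat_lit 16) (nat_lit 1) = 0 := by decide +kernel
theorem qR5I_24 : rng qR5If (nat_lit 24) (nat_lit 1) = 0 := by decide +kernel
theorem qR6I_10 : rng qR6If (nat_lit 10) (nat_lit 1) = 0 := by decide +kernel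
theorem qR6I_40 : rng qR6If (nat_lit 40) (nat_lit 1) = 0 := by decide +kernel
theorem qR9I_3 : rng qR9If (nat_lit 3) (nat_lit 1) = 0 := by decide +kernel
theorem P3IE_4 : rng P3IEf (nat_lit 4) (nat_lit 1) = 0 := by decide +kernel
theorem P5IE_1 : rng P5IEf (nat_lit 1) (nat_lit 1) = 0 := by decide +kernel
theorem qL1W_3 : rng qL1Wf (nat_lit 16) (nat_lit 5) = 0 := by decide +kernel
theorem c7S_6 : rng c7Sf (nat_lit 10) (nat_lit 1) = 0 := by decide +kernel
theorem c7S_10 : rng c7Sf (nat_lit 14) (nat_lit 1) = 0 := by decide +kernel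
theorem qR2I_0 : rng qR2If (nat_lit 0) (nat_lit 1) = 0 := by decide +kernel
theorem qR3I_42 : rng qR3If (nat_lit 42) (nat_lit 1) = 0 := by decide +kernel
theorem qR4I_6 : rng qR4If (nat_lit 6) (nat_lit 1) = 0 := by decide +kernel
theorem qR5I_32 : rng qR5If (nat_lit 32) (nat_lit 1) = 0 := by decide +kernel
theorem qR7I_2 : rng qR7If (nat_lit 2) (nat_lit 1) = 0 := by decide +kernel
theorem qR4O_0 : rngB qR4Of (nat_lit 248) (nat_lit 0) (nat_lit 4) = 0 := by decide +kernel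
theorem P3IE_2 : rng P3IEf (nat_lit 2) (nat_lit 1) = 0 := by decide +kernel
theorem qL4E_0 : rng qL4Ef (nat_lit 0) (nat_lit 2) = 0 := by decide +kernel
theorem qR6O_2 : rngB qR6Of (nat_lit 248) (nat_lit 3) (nat_lit 1) = 0 := by decide +kernel
theorem qR3I_18 : rng qR3If (nat_lit 18) (nat_lit 1) = 0 := by decide +kernel
theorem qR6I_64 : rng qR6If (nat_lit 64) (nat_lit 1) = 0 := by decide +kernel
theorem c4S_1 : rng c4Sf (nat_lit 3) (nat_lit 2) = 0 := by decide +kernel
theorem c7S_2 : rng c7Sf (nat_lit 4) (nat_lit 1) = 0 := by decide +kernel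
theorem Z1RO_0 : rngB Z1ROf (nat_lit 243) (nat_lit 0) (nat_lit 4) = 0 := by decide +kernel
theorem qL9E_0 : rng qL9Ef (nat_lit 0) (nat_lit 2) = 0 := by decide +kernel
theorem P7IE_0 : rng P7IEf (nat_lit 0) (nat_lit 1) = 0 := by decide +kernel
theorem qL3C_0 : rng qL3Cf (nat_lit 0) (nat_lit 1) = 0 := by decide +kernel
theorem qL1E_0 : rng qL1Ef (nat_lit 0) (nat_lit 2) = 0 := by decide +kernel
theorem c2G_0 : rng c2Gf (nat_lit 0) (nat_lit 2) = 0 := by decide +kernel
theorem qL3E_0 : rng qL3Ef (nat_lit 0) (nat_lit 1) = 0 := by decide +kernel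
theorem qL14X_0 : rng qL14Xf (nat_lit 0) (nat_lit 11) = 0 := by decide +kernel
theorem qL6E_0 : rng qL6Ef (nat_lit 0) (nat_lit 1) = 0 := by decide +kernel
theorem qR9O_0 : rngB qR9Of (nat_lit 248) (nat_lit 0) (nat_lit 4) = 0 := by decide +kernel
theorem HgI_0 : rng HgIf (nat_lit 0) (nat_lit 2) = 0 := by decide +kernel
theorem qR7O_0 : rngB qR7Of (nat_lit 248) (nat_lit 0) (nat_lit 4) = 0 := by decide +kernel
theorem c1T0 : cT1 0 = (join (nat_lit 1600) (one2 (nat_lit 40)) (one2 (nat_lit 248))) := by decide +kernel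
theorem c4T0 : cT4 0 = (join (nat_lit 1600) (one2 (nat_lit 40)) (one2 (nat_lit 248))) := by decide +kernel
theorem c7T0 : cT7 0 = (join (nat_lit 1600) (one2 (nat_lit 40)) (one2 (nat_lit 248))) := by decide +kernel
theorem qhx : pt (brow (nat_lit 40)) qL10y (nat_lit 0) = pt (brow (nat_lit 40)) Y (nat_lit 174) := by decide +kernel
theorem qR10O_0 : rngB qR10Of (nat_lit 248) (nat_lit 0) (nat_lit 4) = 0 := by decide +kernel
theorem qL11RO_0 : rngB qL11ROf (nat_lit 240) (nat_lit 0) (nat_lit 4) = 0 := by decide +kernel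
theorem qL16RO_0 : rngB qL16ROf (nat_lit 2) (nat_lit 0) (nat_lit 1) = 0 := by decide +kernel
theorem x2RO_0 : rngB x2ROf (nat_lit 48) (nat_lit 0) (nat_lit 1) = 0 := by decide +kernel
theorem qL80RO_0 : rngB qL80ROf (nat_lit 155) (nat_lit 0) (nat_lit 3) = 0 := by decide +kernel
theorem qL17X_0 : rng qL17Xf (nat_lit 0) (nat_lit 2) = 0 := by decide +kernel
theorem qtt : (mul3 (nat_lit 248)) (qD 1) (qD 1) = (one2 (nat_lit 248)) := by decide +kernel
theorem qL17RO_0 : rngB qL17ROf (nat_lit 2) (nat_lit 0) (nat_lit 1) = 0 := by decide +kernel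
theorem qL11yY_0 : rngB qL11yYf (nat_lit 240) (nat_lit 0) (nat_lit 4) = 0 := by decide +kernel
theorem Z1Y_0 : rngB Z1Yf (nat_lit 243) (nat_lit 0) (nat_lit 4) = 0 := by decide +kernel
theorem qL70RO_0 : rngB qL70ROf (nat_lit 126) (nat_lit 0) (nat_lit 2) = 0 := by decide +kernel
theorem qL12X_0 : rng qL12Xf (nat_lit 0) (nat_lit 19) = 0 := by decide +kernel
theorem qL20yY_0 : rngB qL20yYf (nat_lit 128) (nat_lit 0) (nat_lit 2) = 0 := by decide +kernel
theorem qL13X_0 : rng qL13Xf (nat_lit 0) (nat_lit 16) = 0 := by decide +kernel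
theorem qL90RO_0 : rngB qL90ROf (nat_lit 48) (nat_lit 0) (nat_lit 1) = 0 := by decide +kernel
theorem qL30RO_0 : rngB qL30ROf (nat_lit 5) (nat_lit 0) (nat_lit 1) = 0 := by decide +kernel
theorem qL10yY_0 : rngB qL10yYf (nat_lit 1) (nat_lit 0) (nat_lit 1) = 0 := by decide +kernel
theorem qL12yY_0 : rngB qL12yYf (nat_lit 56) (nat_lit 0) (nat_lit 1) = 0 := by decide +kernel
theorem qL15yY_0 : rngB qL15yYf (nat_lit 2) (nat_lit 0) (nat_lit 1) = 0 := by decide +kernel
theorem qL18yY_0 : rngB qL18yYf (nat_lit 2) (nat_lit 0) (nat_lit 1) = 0 := by decide +kernel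
theorem qL30yY_0 : rngB qL30yYf (nat_lit 5) (nat_lit 0) (nat_lit 1) = 0 := by decide +kernel
theorem qL60yY_0 : rngB qL60yYf (nat_lit 3) (nat_lit 0) (nat_lit 1) = 0 := by decide +kernel
theorem x3yY_0 : rngB x3yYf (nat_lit 2) (nat_lit 0) (nat_lit 1) = 0 := by decide +kernel
theorem qL20X_0 : rng qL20Xf (nat_lit 0) (nat_lit 5) = 0 := by decide +kernel

end Cfsg.Agent.H4.Th
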