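import Cfsg.Agent.H4.T1F

set_option autoImplicit false
set_option maxRecDepth 100000
set_option Elab.async false

namespace Cfsg.Agent.H4.Th

open Subgroup Cfsg.Agent.H5 Cfsg.Agent.H5.Mdl 

theorem GP_2 : rng GPf (nat_lit 2) (nat_lit 1) = 0 := by decide +kernel
theorem Q19 : chkQW (mul3 (nat_lit 248)) (one2 (nat_lit 248)) kA Gg [nat_lit 2, nat_lit 1, nat_lit 2, nat_lit 2, nat_lit 0, nat_lit 2, nat_lit 2, nat_lit 1, nat_lit 2, nat_lit 0] 19 = 0 := by decide +kernel
theorem c0S_3 : rng c0Sf (nat_lit 8) (nat_lit 3) = 0 := by decide +kernel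
theorem c0S_9 : rng c0Sf (nat_lit 24) (nat_lit 3) = 0 := by decide +kernel
theorem P3C_0 : rng P3Cf (nat_lit 0) (nat_lit 22) = 0 := by decide +kernel
theorem P3C_3 : rng P3Cf (nat_lit 51) (nat_lit 10) = 0 := by decide +kernel
theorem c6G_0 : rng c6Gf (nat_lit 0) (nat_lit 8) = 0 := by decide +kernel
theorem c7S_1 : rng c7Sf (nat_lit 2) (nat_lit 2) = 0 := by decide +kernel
theorem qX_0 : rng qXf (nat_lit 0) (nat_lit 1) = 0 := by decide +kernel
theorem P3C_2 : rng P3Cf (nat_lit 40) (nat_lit 11) = 0 := by decide +kernel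
theorem c8S_3 : rng c8Sf (nat_lit 15) (nat_lit 5) = 0 := by decide +kernel
theorem c2S_1 : rng c2Sf (nat_lit 3) (nat_lit 4) = 0 := by decide +kernel
theorem P5C_0 : rng P5Cf (nat_lit 0) (nat_lit 9) = 0 := by decide +kernel
theorem P3C_8 : rng P3Cf (nat_lit 85) (nat_lit 3) = 0 := by decide +kernel
theorem c4S_0 : rng c4Sf (nat_lit 0) (nat_lit 3) = 0 := by decide +kernel
theorem qR6O_0 : rngB qR6Of (nat_lit 248) (nat_lit 0) (nat_lit 2) = 0 := by decide +kernel
theorem qL1W_1 : rng qL1Wf (nat_lit 3) (nat_lit 6) = 0 := by decide +kernel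
theorem qDI_0 : rng qDIf (nat_lit 0) (nat_lit 11) = 0 := by decide +kernel
theorem qR3I_31 : rng qR3If (nat_lit 31) (nat_lit 1) = 0 := by decide +kernel
theorem qR6I_51 : rng qR6If (nat_lit 51) (nat_lit 1) = 0 := by decide +kernel
theorem qR6I_84 : rng qR6If (nat_lit 84) (nat_lit 1) = 0 := by decide +kernel
theorem c0S_11 : rng c0Sf (nat_lit 29) (nat_lit 2) = 0 := by decide +kernel
theorem qR3I_6 : rng qR3If (nat_lit 6) (nat_lit 1) = 0 := by decide +kernel
theorem qR3I_37 : rng qR3If (nat_lit 37) (nat_lit 1) = 0 := by decide +kernel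
theorem qR3I_51 : rng qR3If (nat_lit 51) (nat_lit 1) = 0 := by decide +kernel
theorem qR5I_36 : rng qR5If (nat_lit 36) (nat_lit 1) = 0 := by decide +kernel
theorem qR5I_51 : rng qR5If (nat_lit 51) (nat_lit 1) = 0 := by decide +kernel
theorem qR6I_21 : rng qR6If (nat_lit 21) (nat_lit 1) = 0 := by decide +kernel
theorem qR6I_42 : rng qR6If (nat_lit 42) (nat_lit 1) = 0 := by decide +kernel
theorem qR6I_57 : rng qR6If (nat_lit 57) (nat_lit 1) = 0 := by decide +kernel
theorem qR6I_62 : rng qR6If (nat_lit 62) (nat_lit 1) = 0 := by decide +kernel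
theorem qR6I_76 : rng qR6If (nat_lit 76) (nat_lit 1) = 0 := by decide +kernel
theorem P3C_11 : rng P3Cf (nat_lit 97) (nat_lit 2) = 0 := by decide +kernel
theorem c0S_7 : rng c0Sf (nat_lit 19) (nat_lit 2) = 0 := by decide +kernel
theorem qR3I_15 : rng qR3If (nat_lit 15) (nat_lit 1) = 0 := by decide +kernel
theorem qR3I_32 : rng qR3If (nat_lit 32) (nat_lit 1) = 0 := by decide +kernel
theorem qR3I_44 : rng qR3If (nat_lit 44) (nat_lit 1) = 0 := by decide +kernel
theorem qR3I_48 : rng qR3If (nat_lit 48) (nat_lit 1) = 0 := by decide +kernel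
theorem qR4I_22 : rng qR4If (nat_lit 22) (nat_lit 1) = 0 := by decide +kernel
theorem qR4I_34 : rng qR4If (nat_lit 34) (nat_lit 1) = 0 := by decide +kernel
theorem qR5I_22 : rng qR5If (nat_lit 22) (nat_lit 1) = 0 := by decide +kernel
theorem qR5I_35 : rng qR5If (nat_lit 35) (nat_lit 1) = 0 := by decide +kernel
theorem qR5I_41 : rng qR5If (nat_lit 41) (nat_lit 1) = 0 := by decide +kernel
theorem qR6I_13 : rng qR6If (nat_lit 13) (nat_lit 1) = 0 := by decide +kernel
theorem qR6I_31 : rng qR6If (nat_lit 31) (nat_lit 1) = 0 := by decide +kernel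
theorem qR6I_44 : rng qR6If (nat_lit 44) (nat_lit 1) = 0 := by decide +kernel
theorem qR6I_65 : rng qR6If (nat_lit 65) (nat_lit 1) = 0 := by decide +kernel
theorem qR7I_0 : rng qR7If (nat_lit 0) (nat_lit 1) = 0 := by decide +kernel
theorem qR6O_1 : rngB qR6Of (nat_lit 248) (nat_lit 2) (nat_lit 1) = 0 := by decide +kernel
theorem qR3I_4 : rng qR3If (nat_lit 4) (nat_lit 1) = 0 := by decide +kernel
theorem qR3I_38 : rng qR3If (nat_lit 38) (nat_lit 1) = 0 := by decide +kernel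
theorem qR4I_10 : rng qR4If (nat_lit 10) (nat_lit 1) = 0 := by decide +kernel
theorem qR4I_13 : rng qR4If (nat_lit 13) (nat_lit 1) = 0 := by decide +kernel
theorem qR4I_20 : rng qR4If (nat_lit 20) (nat_lit 1) = 0 := by decide +kernel
theorem qR4I_26 : rng qR4If (nat_lit 26) (nat_lit 1) = 0 := by decide +kernel
theorem qR4I_32 : rng qR4If (nat_lit 32) (nat_lit 1) = 0 := by decide +kernel
theorem qR5I_1 : rng qR5If (nat_lit 1) (nat_lit 1) = 0 := by decide +kernel
theorem qR5I_9 : rng qR5If (nat_lit 9) (nat_lit 1) = 0 := by decide +kernel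
theorem qR5I_17 : rng qR5If (nat_lit 17) (nat_lit 1) = 0 := by decide +kernel
theorem qR5I_33 : rng qR5If (nat_lit 33) (nat_lit 1) = 0 := by decide +kernel
theorem qR5I_42 : rng qR5If (nat_lit 42) (nat_lit 1) = 0 := by decide +kernel
theorem qR5I_50 : rng qR5If (nat_lit 50) (nat_lit 1) = 0 := by decide +kernel
theorem qR6I_4 : rng qR6If (nat_lit 4) (nat_lit 1) = 0 := by decide +kernel
theorem qR6I_24 : rng qR6If (nat_lit 24) (nat_lit 1) = 0 := by decide +kernel
theorem qR6I_41 : rng qR6If (nat_lit 41) (nat_lit 1) = 0 := by decide +kernel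
theorem qR6I_46 : rng qR6If (nat_lit 46) (nat_lit 1) = 0 := by decide +kernel
theorem qR6I_53 : rng qR6If (nat_lit 53) (nat_lit 1) = 0 := by decide +kernel
theorem qR6I_61 : rng qR6If (nat_lit 61) (nat_lit 1) = 0 := by decide +kernel
theorem qR6I_72 : rng qR6If (nat_lit 72) (nat_lit 1) = 0 := by decide +kernel
theorem qR6I_82 : rng qR6If (nat_lit 82) (nat_lit 1) = 0 := by decide +kernel
theorem qR8I_2 : rng qR8If (nat_lit 2) (nat_lit 1) = 0 := by decide +kernel
theorem qR9I_5 : rng qR9If (nat_lit 5) (nat_lit 1) = 0 := by decide +kernel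
theorem qR2I_1 : rng qR2If (nat_lit 1) (nat_lit 1) = 0 := by decide +kernel
theorem qR3I_8 : rng qR3If (nat_lit 8) (nat_lit 1) = 0 := by decide +kernel
theorem qR3I_13 : rng qR3If (nat_lit 13) (nat_lit 1) = 0 := by decide +kernel
theorem qR3I_17 : rng qR3If (nat_lit 17) (nat_lit 1) = 0 := by decide +kernel
theorem qR3I_36 : rng qR3If (nat_lit 36) (nat_lit 1) = 0 := by decide +kernel
theorem qR4I_4 : rng qR4If (nat_lit 4) (nat_lit 1) = 0 := by decide +kernel
theorem qR4I_17 : rng qR4If (nat_lit 17) (nat_lit 1) = 0 := by decide +kernel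
theorem qR4I_35 : rng qR4If (nat_lit 35) (nat_lit 1) = 0 := by decide +kernel
theorem qR5I_10 : rng qR5If (nat_lit 10) (nat_lit 1) = 0 := by decide +kernel
theorem qR5I_27 : rng qR5If (nat_lit 27) (nat_lit 1) = 0 := by decide +kernel
theorem qR6I_0 : rng qR6If (nat_lit 0) (nat_lit 1) = 0 := by decide +kernel
theorem qR6I_19 : rng qR6If (nat_lit 19) (nat_lit 1) = 0 := by decide +kernel
theorem qR6I_25 : rng qR6If (nat_lit 25) (nat_lit 1) = 0 := by decide +kernel
theorem qR6I_30 : rng qR6If (nat_lit 30) (nat_lit 1) = 0 := by decide +kernel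
theorem qR6I_37 : rng qR6If (nat_lit 37) (nat_lit 1) = 0 := by decide +kernel
theorem qR6I_71 : rng qR6If (nat_lit 71) (nat_lit 1) = 0 := by decide +kernel
theorem qR7I_1 : rng qR7If (nat_lit 1) (nat_lit 1) = 0 := by decide +kernel
theorem qR9I_0 : rng qR9If (nat_lit 0) (nat_lit 1) = 0 := by decide +kernel
theorem qR9I_8 : rng qR9If (nat_lit 8) (nat_lit 1) = 0 := by decide +kernel
theorem P3IE_7 : rng P3IEf (nat_lit 7) (nat_lit 1) = 0 := by decide +kernel
theorem qL9C_0 : rng qL9Cf (nat_lit 0) (nat_lit 2) = 0 := by decide +kernel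
theorem qR3I_3 : rng qR3If (nat_lit 3) (nat_lit 1) = 0 := by decide +kernel
theorem qR3I_12 : rng qR3If (nat_lit 12) (nat_lit 1) = 0 := by decide +kernel
theorem qR3I_26 : rng qR3If (nat_lit 26) (nat_lit 1) = 0 := by decide +kernel
theorem qR4I_9 : rng qR4If (nat_lit 9) (nat_lit 1) = 0 := by decide +kernel
theorem qR5I_4 : rng qR5If (nat_lit 4) (nat_lit 1) = 0 := by decide +kernel
theorem qR5I_23 : rng qR5If (nat_lit 23) (nat_lit 1) = 0 := by decide +kernel
theorem qR6I_1 : rng qR6If (nat_lit 1) (nat_lit 1) = 0 := by decide +kernel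
theorem qR6I_18 : rng qR6If (nat_lit 18) (nat_lit 1) = 0 := by decide +kernel
theorem qR8I_3 : rng qR8If (nat_lit 3) (nat_lit 1) = 0 := by decide +kernel
theorem qR10I_2 : rng qR10If (nat_lit 2) (nat_lit 1) = 0 := by decide +kernel
theorem P7IE_1 : rng P7IEf (nat_lit 1) (nat_lit 1) = 0 := by decide +kernel
theorem qL10E_0 : rng qL10Ef (nat_lit 0) (nat_lit 2) = 0 := by decide +kernel
theorem c7S_7 : rng c7Sf (nat_lit 11) (nat_lit 1) = 0 := by decide +kernel
theorem c7S_11 : rng c7Sf (nat_lit 15) (nat_lit 1) = 0 := by decide +kernel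
theorem qR3I_24 : rng qR3If (nat_lit 24) (nat_lit 1) = 0 := by decide +kernel
theorem qR3I_49 : rng qR3If (nat_lit 49) (nat_lit 1) = 0 := by decide +kernel
theorem qR4I_7 : rng qR4If (nat_lit 7) (nat_lit 1) = 0 := by decide +kernel
theorem qR6I_6 : rng qR6If (nat_lit 6) (nat_lit 1) = 0 := by decide +kernel
theorem qR10I_0 : rng qR10If (nat_lit 0) (nat_lit 1) = 0 := by decide +kernel
theorem P3IE_0 : rng P3IEf (nat_lit 0) (nat_lit 1) = 0 := by decide +kernel
theorem P3IE_3 : rng P3IEf (nat_lit 3) (nat_lit 1) = 0 := by decide +kernel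
theorem qL7E_0 : rng qL7Ef (nat_lit 0) (nat_lit 2) = 0 := by decide +kernel
theorem qR1I_1 : rng qR1If (nat_lit 1) (nat_lit 1) = 0 := by decide +kernel
theorem qR5I_5 : rng qR5If (nat_lit 5) (nat_lit 1) = 0 := by decide +kernel
theorem P3IE_5 : rng P3IEf (nat_lit 5) (nat_lit 1) = 0 := by decide +kernel
theorem P5IE_0 : rng P5IEf (nat_lit 0) (nat_lit 1) = 0 := by decide +kernel
theorem qR2I_3 : rng qR2If (nat_lit 3) (nat_lit 1) = 0 := by decide +kernel
theorem c4G_0 : rng c4Gf (nat_lit 0) (nat_lit 4) = 0 := by decide +kernel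
theorem qL1C_0 : rng qL1Cf (nat_lit 0) (nat_lit 2) = 0 := by decide +kernel
theorem c3S_1 : rng c3Sf (nat_lit 4) (nat_lit 2) = 0 := by decide +kernel
theorem c8S_6 : rng c8Sf (nat_lit 30) (nat_lit 2) = 0 := by decide +kernel
theorem c3G_0 : rng c3Gf (nat_lit 0) (nat_lit 3) = 0 := by decide +kernel
theorem P3C_12 : rng P3Cf (nat_lit 99) (nat_lit 1) = 0 := by decide +kernel
theorem qL5C_0 : rng qL5Cf (nat_lit 0) (nat_lit 1) = 0 := by decide +kernel
theorem x0RO_0 : rngB x0ROf (nat_lit 240) (nat_lit 0) (nat_lit 4) = 0 := by decide +kernel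
theorem c0G_0 : rng c0Gf (nat_lit 0) (nat_lit 2) = 0 := by decide +kernel
theorem x0X_0 : rng x0Xf (nat_lit 0) (nat_lit 8) = 0 := by decide +kernel
theorem x1X_0 : rng x1Xf (nat_lit 0) (nat_lit 6) = 0 := by decide +kernel
theorem qL16X_0 : rng qL16Xf (nat_lit 0) (nat_lit 4) = 0 := by decide +kernel
theorem x2X_0 : rng x2Xf (nat_lit 0) (nat_lit 4) = 0 := by decide +kernel
theorem c2T0 : cT2 0 = (join (nat_lit 1600) (one2 (nat_lit 40)) (one2 (nat_lit 248))) := by decide +kernel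
theorem c5T0 : cT5 0 = (join (nat_lit 1600) (one2 (nat_lit 40)) (one2 (nat_lit 248))) := by decide +kernel
theorem c8T0 : cT8 0 = (join (nat_lit 1600) (one2 (nat_lit 40)) (one2 (nat_lit 248))) := by decide +kernel
theorem qR2O_0 : rngB qR2Of (nat_lit 248) (nat_lit 0) (nat_lit 4) = 0 := by decide +kernel
theorem qR1O_0 : rngB qR1Of (nat_lit 248) (nat_lit 0) (nat_lit 4) = 0 := by decide +kernel
theorem qL14RO_0 : rngB qL14ROf (nat_lit 2) (nat_lit 0) (nat_lit 1) = 0 := by decide +kernel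
theorem qL18RO_0 : rngB qL18ROf (nat_lit 2) (nat_lit 0) (nat_lit 1) = 0 := by decide +kernel
theorem x3RO_0 : rngB x3ROf (nat_lit 2) (nat_lit 0) (nat_lit 1) = 0 := by decide +kernel
theorem qL100RO_0 : rngB qL100ROf (nat_lit 155) (nat_lit 0) (nat_lit 3) = 0 := by decide +kernel
theorem x3X_0 : rng x3Xf (nat_lit 0) (nat_lit 2) = 0 := by decide +kernel
theorem x4RO_0 : rngB x4ROf (nat_lit 2) (nat_lit 0) (nat_lit 1) = 0 := by decide +kernel
theorem x1yY_0 : rngB x1yYf (nat_lit 224) (nat_lit 0) (nat_lit 4) = 0 := by decide +kernel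
theorem qL20RO_0 : rngB qL20ROf (nat_lit 128) (nat_lit 0) (nat_lit 2) = 0 := by decide +kernel
theorem qL100yY_0 : rngB qL100yYf (nat_lit 155) (nat_lit 0) (nat_lit 3) = 0 := by decide +kernel
theorem qL11X_0 : rng qL11Xf (nat_lit 0) (nat_lit 21) = 0 := by decide +kernel
theorem XE_0 : rng XEf (nat_lit 0) (nat_lit 2) = 0 := by decide +kernel
theorem P5ZY_0 : rngB P5ZYf (nat_lit 125) (nat_lit 0) (nat_lit 2) = 0 := by decide +kernel
theorem qL21RO_0 : rngB qL21ROf (nat_lit 21) (nat_lit 0) (nat_lit 1) = 0 := by decide +kernel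
theorem qL10RO_0 : rngB qL10ROf (nat_lit 1) (nat_lit 0) (nat_lit 1) = 0 := by decide +kernel
theorem qL50RO_0 : rngB qL50ROf (nat_lit 5) (nat_lit 0) (nat_lit 1) = 0 := by decide +kernel
theorem qL13yY_0 : rngB qL13yYf (nat_lit 3) (nat_lit 0) (nat_lit 1) = 0 := by decide +kernel
theorem qL16yY_0 : rngB qL16yYf (nat_lit 2) (nat_lit 0) (nat_lit 1) = 0 := by decide +kernel
theorem qL21yY_0 : rngB qL21yYf (nat_lit 21) (nat_lit 0) (nat_lit 1) = 0 := by decide +kernel
theorem qL40yY_0 : rngB qL40yYf (nat_lit 9) (nat_lit 0) (nat_lit 1) = 0 := by decide +kernel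
theorem qL90yY_0 : rngB qL90yYf (nat_lit 48) (nat_lit 0) (nat_lit 1) = 0 := by decide +kernel
theorem x4yY_0 : rngB x4yYf (nat_lit 2) (nat_lit 0) (nat_lit 1) = 0 := by decide +kernel
theorem HgJ_0 : rng HgJf (nat_lit 0) (nat_lit 2) = 0 := by decide +kernel

end Cfsg.Agent.H4.Th
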