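import Cfsg.Agent.H4.T1F

set_option autoImplicit false
set_option maxRecDepth 100000
set_option Elab.async false

namespace Cfsg.Agent.H4.Th

open Subgroup Cfsg.Agent.H5 Cfsg.Agent.H5.Mdl 

theorem GP_1 : rng GPf (nat_lit 1) (nat_lit 1) = 0 := by decide +kernel
theorem Q31 : chkQW (mul3 (nat_lit 248)) (one2 (nat_lit 248)) kA Gg [nat_lit 2, nat_lit 0, nat_lit 2, nat_lit 2, nat_lit 1, nat_lit 2, nat_lit 0, nat_lit 0, nat_lit 0, nat_lit 1, nat_lit 1, nat_lit 0] 31 = 0 := by decide +kernel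
theorem c0S_5 : rng c0Sf (nat_lit 14) (nat_lit 3) = 0 := by decide +kernel
theorem qL1W_0 : rng qL1Wf (nat_lit 0) (nat_lit 3) = 0 := by decide +kernel
theorem P3C_1 : rng P3Cf (nat_lit 22) (nat_lit 18) = 0 := by decide +kernel
theorem P3C_4 : rng P3Cf (nat_lit 61) (nat_lit 5) = 0 := by decide +kernel
theorem c6S_0 : rng c6Sf (nat_lit 0) (nat_lit 2) = 0 := by decide +kernel
theorem c7S_5 : rng c7Sf (nat_lit 8) (nat_lit 2) = 0 := by decide +kernel
theorem qR5O_0 : rngB qR5Of (nat_lit 248) (nat_lit 0) (nat_lit 4) = 0 := by decide +kernel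
theorem c8S_1 : rng c8Sf (nat_lit 5) (nat_lit 5) = 0 := by decide +kernel
theorem c8S_4 : rng c8Sf (nat_lit 20) (nat_lit 5) = 0 := by decide +kernel
theorem c7S_0 : rng c7Sf (nat_lit 0) (nat_lit 2) = 0 := by decide +kernel
theorem xW_1 : rng xWf (nat_lit 3) (nat_lit 5) = 0 := by decide +kernel
theorem c0S_4 : rng c0Sf (nat_lit 11) (nat_lit 3) = 0 := by decide +kernel
theorem c5S_0 : rng c5Sf (nat_lit 0) (nat_lit 2) = 0 := by decide +kernel
theorem P3C_9 : rng P3Cf (nat_lit 88) (nat_lit 6) = 0 := by decide +kernel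
theorem qL2W_0 : rng qL2Wf (nat_lit 0) (nat_lit 3) = 0 := by decide +kernel
theorem c1S_1 : rng c1Sf (nat_lit 2) (nat_lit 3) = 0 := by decide +kernel
theorem qR5I_46 : rng qR5If (nat_lit 46) (nat_lit 1) = 0 := by decide +kernel
theorem qR6I_75 : rng qR6If (nat_lit 75) (nat_lit 1) = 0 := by decide +kernel
theorem c2S_0 : rng c2Sf (nat_lit 0) (nat_lit 3) = 0 := by decide +kernel
theorem c5S_1 : rng c5Sf (nat_lit 2) (nat_lit 2) = 0 := by decide +kernel
theorem qR3I_21 : rng qR3If (nat_lit 21) (nat_lit 1) = 0 := by decide +kernel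
theorem qR3I_41 : rng qR3If (nat_lit 41) (nat_lit 1) = 0 := by decide +kernel
theorem qR4I_16 : rng qR4If (nat_lit 16) (nat_lit 1) = 0 := by decide +kernel
theorem qR5I_38 : rng qR5If (nat_lit 38) (nat_lit 1) = 0 := by decide +kernel
theorem qR6I_8 : rng qR6If (nat_lit 8) (nat_lit 1) = 0 := by decide +kernel
theorem qR6I_27 : rng qR6If (nat_lit 27) (nat_lit 1) = 0 := by decide +kernel
theorem qR6I_48 : rng qR6If (nat_lit 48) (nat_lit 1) = 0 := by decide +kernel
theorem qR6I_59 : rng qR6If (nat_lit 59) (nat_lit 1) = 0 := by decide +kernel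
theorem qR6I_66 : rng qR6If (nat_lit 66) (nat_lit 1) = 0 := by decide +kernel
theorem qR6I_81 : rng qR6If (nat_lit 81) (nat_lit 1) = 0 := by decide +kernel
theorem c1S_2 : rng c1Sf (nat_lit 5) (nat_lit 3) = 0 := by decide +kernel
theorem qR1I_0 : rng qR1If (nat_lit 0) (nat_lit 1) = 0 := by decide +kernel
theorem qR3I_29 : rng qR3If (nat_lit 29) (nat_lit 1) = 0 := by decide +kernel
theorem qR3I_39 : rng qR3If (nat_lit 39) (nat_lit 1) = 0 := by decide +kernel
theorem qR3I_47 : rng qR3If (nat_lit 47) (nat_lit 1) = 0 := by decide +kernel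
theorem qR4I_8 : rng qR4If (nat_lit 8) (nat_lit 1) = 0 := by decide +kernel
theorem qR4I_27 : rng qR4If (nat_lit 27) (nat_lit 1) = 0 := by decide +kernel
theorem qR5I_15 : rng qR5If (nat_lit 15) (nat_lit 1) = 0 := by decide +kernel
theorem qR5I_31 : rng qR5If (nat_lit 31) (nat_lit 1) = 0 := by decide +kernel
theorem qR5I_40 : rng qR5If (nat_lit 40) (nat_lit 1) = 0 := by decide +kernel
theorem qR6I_9 : rng qR6If (nat_lit 9) (nat_lit 1) = 0 := by decide +kernel
theorem qR6I_16 : rng qR6If (nat_lit 16) (nat_lit 1) = 0 := by decide +kernel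
theorem qR6I_39 : rng qR6If (nat_lit 39) (nat_lit 1) = 0 := by decide +kernel
theorem qR6I_55 : rng qR6If (nat_lit 55) (nat_lit 1) = 0 := by decide +kernel
theorem qR6I_78 : rng qR6If (nat_lit 78) (nat_lit 1) = 0 := by decide +kernel
theorem qR10I_3 : rng qR10If (nat_lit 3) (nat_lit 1) = 0 := by decide +kernel
theorem qR3I_0 : rng qR3If (nat_lit 0) (nat_lit 1) = 0 := by decide +kernel
theorem qR3I_20 : rng qR3If (nat_lit 20) (nat_lit 1) = 0 := by decide +kernel
theorem qR3I_43 : rng qR3If (nat_lit 43) (nat_lit 1) = 0 := by decide +kernel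
theorem qR4I_11 : rng qR4If (nat_lit 11) (nat_lit 1) = 0 := by decide +kernel
theorem qR4I_15 : rng qR4If (nat_lit 15) (nat_lit 1) = 0 := by decide +kernel
theorem qR4I_21 : rng qR4If (nat_lit 21) (nat_lit 1) = 0 := by decide +kernel
theorem qR4I_29 : rng qR4If (nat_lit 29) (nat_lit 1) = 0 := by decide +kernel
theorem qR4I_33 : rng qR4If (nat_lit 33) (nat_lit 1) = 0 := by decide +kernel
theorem qR5I_2 : rng qR5If (nat_lit 2) (nat_lit 1) = 0 := by decide +kernel
theorem qR5I_11 : rng qR5If (nat_lit 11) (nat_lit 1) = 0 := by decide +kernel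
theorem qR5I_21 : rng qR5If (nat_lit 21) (nat_lit 1) = 0 := by decide +kernel
theorem qR5I_34 : rng qR5If (nat_lit 34) (nat_lit 1) = 0 := by decide +kernel
theorem qR5I_43 : rng qR5If (nat_lit 43) (nat_lit 1) = 0 := by decide +kernel
theorem qR6I_2 : rng qR6If (nat_lit 2) (nat_lit 1) = 0 := by decide +kernel
theorem qR6I_11 : rng qR6If (nat_lit 11) (nat_lit 1) = 0 := by decide +kernel
theorem qR6I_33 : rng qR6If (nat_lit 33) (nat_lit 1) = 0 := by decide +kernel
theorem qR6I_43 : rng qR6If (nat_lit 43) (nat_lit 1) = 0 := by decide +kernel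
theorem qR6I_47 : rng qR6If (nat_lit 47) (nat_lit 1) = 0 := by decide +kernel
theorem qR6I_54 : rng qR6If (nat_lit 54) (nat_lit 1) = 0 := by decide +kernel
theorem qR6I_63 : rng qR6If (nat_lit 63) (nat_lit 1) = 0 := by decide +kernel
theorem qR6I_77 : rng qR6If (nat_lit 77) (nat_lit 1) = 0 := by decide +kernel
theorem qR7I_4 : rng qR7If (nat_lit 4) (nat_lit 1) = 0 := by decide +kernel
theorem qR9I_2 : rng qR9If (nat_lit 2) (nat_lit 1) = 0 := by decide +kernel
theorem P3C_10 : rng P3Cf (nat_lit 94) (nat_lit 3) = 0 := by decide +kernel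
theorem qR3I_7 : rng qR3If (nat_lit 7) (nat_lit 1) = 0 := by decide +kernel
theorem qR3I_11 : rng qR3If (nat_lit 11) (nat_lit 1) = 0 := by decide +kernel
theorem qR3I_16 : rng qR3If (nat_lit 16) (nat_lit 1) = 0 := by decide +kernel
theorem qR3I_27 : rng qR3If (nat_lit 27) (nat_lit 1) = 0 := by decide +kernel
theorem qR4I_0 : rng qR4If (nat_lit 0) (nat_lit 1) = 0 := by decide +kernel
theorem qR4I_14 : rng qR4If (nat_lit 14) (nat_lit 1) = 0 := by decide +kernel
theorem qR4I_28 : rng qR4If (nat_lit 28) (nat_lit 1) = 0 := by decide +kernel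
theorem qR5I_7 : rng qR5If (nat_lit 7) (nat_lit 1) = 0 := by decide +kernel
theorem qR5I_19 : rng qR5If (nat_lit 19) (nat_lit 1) = 0 := by decide +kernel
theorem qR5I_49 : rng qR5If (nat_lit 49) (nat_lit 1) = 0 := by decide +kernel
theorem qR6I_7 : rng qR6If (nat_lit 7) (nat_lit 1) = 0 := by decide +kernel
theorem qR6I_22 : rng qR6If (nat_lit 22) (nat_lit 1) = 0 := by decide +kernel
theorem qR6I_29 : rng qR6If (nat_lit 29) (nat_lit 1) = 0 := by decide +kernel
theorem qR6I_34 : rng qR6If (nat_lit 34) (nat_lit 1) = 0 := by decide +kernel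
theorem qR6I_68 : rng qR6If (nat_lit 68) (nat_lit 1) = 0 := by decide +kernel
theorem qR6I_80 : rng qR6If (nat_lit 80) (nat_lit 1) = 0 := by decide +kernel
theorem qR8I_1 : rng qR8If (nat_lit 1) (nat_lit 1) = 0 := by decide +kernel
theorem qR9I_7 : rng qR9If (nat_lit 7) (nat_lit 1) = 0 := by decide +kernel
theorem P7C_0 : rng P7Cf (nat_lit 0) (nat_lit 4) = 0 := by decide +kernel
theorem qL8C_0 : rng qL8Cf (nat_lit 0) (nat_lit 2) = 0 := by decide +kernel
theorem qR2I_2 : rng qR2If (nat_lit 2) (nat_lit 1) = 0 := by decide +kernel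
theorem qR3I_10 : rng qR3If (nat_lit 10) (nat_lit 1) = 0 := by decide +kernel
theorem qR3I_25 : rng qR3If (nat_lit 25) (nat_lit 1) = 0 := by decide +kernel
theorem qR4I_3 : rng qR4If (nat_lit 3) (nat_lit 1) = 0 := by decide +kernel
theorem qR4I_31 : rng qR4If (nat_lit 31) (nat_lit 1) = 0 := by decide +kernel
theorem qR5I_20 : rng qR5If (nat_lit 20) (nat_lit 1) = 0 := by decide +kernel
theorem qR5I_47 : rng qR5If (nat_lit 47) (nat_lit 1) = 0 := by decide +kernel
theorem qR6I_15 : rng qR6If (nat_lit 15) (nat_lit 1) = 0 := by decide +kernel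
theorem qR6I_83 : rng qR6If (nat_lit 83) (nat_lit 1) = 0 := by decide +kernel
theorem qR9I_6 : rng qR9If (nat_lit 6) (nat_lit 1) = 0 := by decide +kernel
theorem P3IE_8 : rng P3IEf (nat_lit 8) (nat_lit 1) = 0 := by decide +kernel
theorem c7G_0 : rng c7Gf (nat_lit 0) (nat_lit 5) = 0 := by decide +kernel
theorem c7S_3 : rng c7Sf (nat_lit 5) (nat_lit 1) = 0 := by decide +kernel
theorem c7S_9 : rng c7Sf (nat_lit 13) (nat_lit 1) = 0 := by decide +kernel
theorem qL10C_0 : rng qL10Cf (nat_lit 0) (nat_lit 2) = 0 := by decide +kernel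
theorem qR3I_30 : rng qR3If (nat_lit 30) (nat_lit 1) = 0 := by decide +kernel
theorem qR4I_2 : rng qR4If (nat_lit 2) (nat_lit 1) = 0 := by decide +kernel
theorem qR5I_18 : rng qR5If (nat_lit 18) (nat_lit 1) = 0 := by decide +kernel
theorem qR6I_17 : rng qR6If (nat_lit 17) (nat_lit 1) = 0 := by decide +kernel
theorem qR10I_1 : rng qR10If (nat_lit 1) (nat_lit 1) = 0 := by decide +kernel
theorem P3IE_1 : rng P3IEf (nat_lit 1) (nat_lit 1) = 0 := by decide +kernel
theorem P3IE_6 : rng P3IEf (nat_lit 6) (nat_lit 1) = 0 := by decide +kernel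
theorem c7S_8 : rng c7Sf (nat_lit 12) (nat_lit 1) = 0 := by decide +kernel
theorem qR3I_1 : rng qR3If (nat_lit 1) (nat_lit 1) = 0 := by decide +kernel
theorem qR5I_13 : rng qR5If (nat_lit 13) (nat_lit 1) = 0 := by decide +kernel
theorem P3IE_9 : rng P3IEf (nat_lit 9) (nat_lit 1) = 0 := by decide +kernel
theorem qL8E_0 : rng qL8Ef (nat_lit 0) (nat_lit 2) = 0 := by decide +kernel
theorem qR6I_28 : rng qR6If (nat_lit 28) (nat_lit 1) = 0 := by decide +kernel
theorem qL2W_1 : rng qL2Wf (nat_lit 3) (nat_lit 2) = 0 := by decide +kernel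
theorem qL2C_0 : rng qL2Cf (nat_lit 0) (nat_lit 2) = 0 := by decide +kernel
theorem c6S_1 : rng c6Sf (nat_lit 2) (nat_lit 1) = 0 := by decide +kernel
theorem Z2RO_0 : rngB Z2ROf (nat_lit 243) (nat_lit 0) (nat_lit 4) = 0 := by decide +kernel
theorem qL6C_0 : rng qL6Cf (nat_lit 0) (nat_lit 1) = 0 := by decide +kernel
theorem qL2E_0 : rng qL2Ef (nat_lit 0) (nat_lit 2) = 0 := by decide +kernel
theorem c1G_0 : rng c1Gf (nat_lit 0) (nat_lit 2) = 0 := by decide +kernel
theorem x1RO_0 : rngB x1ROf (nat_lit 224) (nat_lit 0) (nat_lit 4) = 0 := by decide +kernel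
theorem qL5E_0 : rng qL5Ef (nat_lit 0) (nat_lit 1) = 0 := by decide +kernel
theorem qL15X_0 : rng qL15Xf (nat_lit 0) (nat_lit 7) = 0 := by decide +kernel
theorem P5RO_0 : rngB P5ROf (nat_lit 125) (nat_lit 0) (nat_lit 2) = 0 := by decide +kernel
theorem Z1F_0 : rng Z1Ff (nat_lit 0) (nat_lit 5) = 0 := by decide +kernel
theorem c0T0 : cT0 0 = (join (nat_lit 1600) (one2 (nat_lit 40)) (one2 (nat_lit 248))) := by decide +kernel
theorem c3T0 : cT3 0 = (join (nat_lit 1600) (one2 (nat_lit 40)) (one2 (nat_lit 248))) := by decide +kernel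
theorem c6T0 : cT6 0 = (join (nat_lit 1600) (one2 (nat_lit 40)) (one2 (nat_lit 248))) := by decide +kernel
theorem qD0 : qD 0 = (one2 (nat_lit 248)) := by decide +kernel
theorem qR8O_0 : rngB qR8Of (nat_lit 248) (nat_lit 0) (nat_lit 4) = 0 := by decide +kernel
theorem qRHO_0 : rngB qRHOf (nat_lit 248) (nat_lit 0) (nat_lit 4) = 0 := by decide +kernel
theorem qL15RO_0 : rngB qL15ROf (nat_lit 2) (nat_lit 0) (nat_lit 1) = 0 := by decide +kernel
theorem qL22RO_0 : rngB qL22ROf (nat_lit 2) (nat_lit 0) (nat_lit 1) = 0 := by decide +kernel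
theorem P7RO_0 : rngB P7ROf (nat_lit 49) (nat_lit 0) (nat_lit 1) = 0 := by decide +kernel
theorem qBk_0 : rng qBkf (nat_lit 0) (nat_lit 64) = 0 := by decide +kernel
theorem P3kE_0 : rng P3kEf (nat_lit 0) (nat_lit 5) = 0 := by decide +kernel
theorem YY_0 : rngB YYf (nat_lit 248) (nat_lit 0) (nat_lit 4) = 0 := by decide +kernel
theorem x0yY_0 : rngB x0yYf (nat_lit 240) (nat_lit 0) (nat_lit 4) = 0 := by decide +kernel
theorem Z2Y_0 : rngB Z2Yf (nat_lit 243) (nat_lit 0) (nat_lit 4) = 0 := by decide +kernel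
theorem qL80yY_0 : rngB qL80yYf (nat_lit 155) (nat_lit 0) (nat_lit 3) = 0 := by decide +kernel
theorem qL10X_0 : rng qL10Xf (nat_lit 0) (nat_lit 23) = 0 := by decide +kernel
theorem qL70yY_0 : rngB qL70yYf (nat_lit 126) (nat_lit 0) (nat_lit 2) = 0 := by decide +kernel
theorem qL12RO_0 : rngB qL12ROf (nat_lit 56) (nat_lit 0) (nat_lit 1) = 0 := by decide +kernel
theorem qL40RO_0 : rngB qL40ROf (nat_lit 9) (nat_lit 0) (nat_lit 1) = 0 := by decide +kernel
theorem qL13RO_0 : rngB qL13ROf (nat_lit 3) (nat_lit 0) (nat_lit 1) = 0 := by decide +kernel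
theorem qL60RO_0 : rngB qL60ROf (nat_lit 3) (nat_lit 0) (nat_lit 1) = 0 := by decide +kernel
theorem qL14yY_0 : rngB qL14yYf (nat_lit 2) (nat_lit 0) (nat_lit 1) = 0 := by decide +kernel
theorem qL17yY_0 : rngB qL17yYf (nat_lit 2) (nat_lit 0) (nat_lit 1) = 0 := by decide +kernel
theorem qL22yY_0 : rngB qL22yYf (nat_lit 2) (nat_lit 0) (nat_lit 1) = 0 := by decide +kernel
theorem qL50yY_0 : rngB qL50yYf (nat_lit 5) (nat_lit 0) (nat_lit 1) = 0 := by decide +kernel
theorem x2yY_0 : rngB x2yYf (nat_lit 48) (nat_lit 0) (nat_lit 1) = 0 := by decide +kernel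
theorem P7ZY_0 : rngB P7ZYf (nat_lit 49) (nat_lit 0) (nat_lit 1) = 0 := by decide +kernel
theorem qL21X_0 : rng qL21Xf (nat_lit 0) (nat_lit 2) = 0 := by decide +kernel

end Cfsg.Agent.H4.Th
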