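import Cfsg.Agent.H4.T1D0
import Cfsg.Agent.H4.T1D1
import Cfsg.Agent.H4.T1D2

set_option autoImplicit false
set_option maxRecDepth 100000

namespace Cfsg.Agent.H4.Th

open Subgroup Cfsg.Agent.H5 Cfsg.Agent.H5.Mdl 

noncomputable abbrev pvB : ℕ → Vc ψB := fun x => (⟨vec2 (ZMod 2) 40 x⟩ : Vc ψB)
noncomputable abbrev pvP : ℕ → Vc ψA := fun x => (⟨vec3 (ZMod 3) 248 x⟩ : Vc ψA)
noncomputable abbrev pvA : ℕ → Vc φA := fun x => (⟨vec3 (ZMod 3) 248 x⟩ : Vc φA)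
noncomputable abbrev H : Subgroup (GA × GB) := mP.gn Hg 2
noncomputable def HgIf : ℕ → ℕ := chkI (mul3 (nat_lit 248)) (one2 (nat_lit 248)) (fun s => hi (nat_lit 1600) (Hg s)) Hgi
noncomputable def HgJf : ℕ → ℕ := chkI (mul2 (nat_lit 40)) (one2 (nat_lit 40)) (fun s => lo (nat_lit 1600) (Hg s)) Hgj
noncomputable abbrev cK1 : Subgroup (GA × GB) := mP.gn cK1g 2
noncomputable abbrev cK2 : Subgroup (GA × GB) := mP.gn cK2g 2
noncomputable abbrev cK3 : Subgroup (GA × GB) := mP.gn cK3g 2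
noncomputable abbrev cK4 : Subgroup (GA × GB) := mP.gn cK4g 3
noncomputable abbrev cK5 : Subgroup (GA × GB) := mP.gn cK5g 4
noncomputable abbrev cK6 : Subgroup (GA × GB) := mP.gn cK6g 5
noncomputable abbrev cK7 : Subgroup (GA × GB) := mP.gn cK7g 8
noncomputable abbrev cK8 : Subgroup (GA × GB) := mP.gn cK8g 5
noncomputable def ce8 : ℕ → ℕ := cel1 (pmul (mul3 (nat_lit 248)) (mul2 (nat_lit 40)) (nat_lit 1600)) cT8 (nat_lit 5) (fun _ => (join (nat_lit 1600) (one2 (nat_lit 40)) (one2 (nat_lit 248))))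
noncomputable def ce7 : ℕ → ℕ := cel1 (pmul (mul3 (nat_lit 248)) (mul2 (nat_lit 40)) (nat_lit 1600)) cT7 (nat_lit 4) ce8
noncomputable def ce6 : ℕ → ℕ := cel1 (pmul (mul3 (nat_lit 248)) (mul2 (nat_lit 40)) (nat_lit 1600)) cT6 (nat_lit 2) ce7
noncomputable def ce5 : ℕ → ℕ := cel1 (pmul (mul3 (nat_lit 248)) (mul2 (nat_lit 40)) (nat_lit 1600)) cT5 (nat_lit 2) ce6
noncomputable def ce4 : ℕ → ℕ := cel1 (pmul (mul3 (nat_lit 248)) (mul2 (nat_lit 40)) (nat_lit 1600)) cT4 (nat_lit 3) ce5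
noncomputable def ce3 : ℕ → ℕ := cel1 (pmul (mul3 (nat_lit 248)) (mul2 (nat_lit 40)) (nat_lit 1600)) cT3 (nat_lit 3) ce4
noncomputable def ce2 : ℕ → ℕ := cel1 (pmul (mul3 (nat_lit 248)) (mul2 (nat_lit 40)) (nat_lit 1600)) cT2 (nat_lit 3) ce3
noncomputable def ce1 : ℕ → ℕ := cel1 (pmul (mul3 (nat_lit 248)) (mul2 (nat_lit 40)) (nat_lit 1600)) cT1 (nat_lit 3) ce2
noncomputable def ce0 : ℕ → ℕ := cel1 (pmul (mul3 (nat_lit 248)) (mul2 (nat_lit 40)) (nat_lit 1600)) cT0 (nat_lit 5) ce1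
noncomputable def c0Sf : ℕ → ℕ := chkS2 (pmul (mul3 (nat_lit 248)) (mul2 (nat_lit 40)) (nat_lit 1600)) Hg (nat_lit 2) cT0 ce1 c0c (nat_lit 5) (nat_lit 31)
noncomputable def c0Gf : ℕ → ℕ := chkG (pmul (mul3 (nat_lit 248)) (mul2 (nat_lit 40)) (nat_lit 1600)) Hg cT0 cK1g [[nat_lit 1, nat_lit 16, nat_lit 0, nat_lit 1],
  [nat_lit 2, nat_lit 30, nat_lit 0, nat_lit 1]]
noncomputable def c1Sf : ℕ → ℕ := chkS2 (pmul (mul3 (nat_lit 248)) (mul2 (nat_lit 40)) (nat_lit 1600)) cK1g (nat_lit 2) cT1 ce2 c1c (nat_lit 3) (nat_lit 8)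
noncomputable def c1Gf : ℕ → ℕ := chkG (pmul (mul3 (nat_lit 248)) (mul2 (nat_lit 40)) (nat_lit 1600)) cK1g cT1 cK2g [[nat_lit 7, nat_lit 7, nat_lit 0, nat_lit 0],
  [nat_lit 0, nat_lit 3, nat_lit 1, nat_lit 1, nat_lit 1]]
noncomputable def c2Sf : ℕ → ℕ := chkS2 (pmul (mul3 (nat_lit 248)) (mul2 (nat_lit 40)) (nat_lit 1600)) cK2g (nat_lit 2) cT2 ce3 c2c (nat_lit 3) (nat_lit 7)
noncomputable def c2Gf : ℕ → ℕ := chkG (pmul (mul3 (nat_lit 248)) (mul2 (nat_lit 40)) (nat_lit 1600)) cK2g cT2 cK3g [[nat_lit 0, nat_lit 6, nat_lit 1, nat_lit 0, nat_lit 0],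
  [nat_lit 5, nat_lit 0, nat_lit 1, nat_lit 1, nat_lit 1]]
noncomputable def c3Sf : ℕ → ℕ := chkS2 (pmul (mul3 (nat_lit 248)) (mul2 (nat_lit 40)) (nat_lit 1600)) cK3g (nat_lit 2) cT3 ce4 c3c (nat_lit 3) (nat_lit 6)
noncomputable def c3Gf : ℕ → ℕ := chkG (pmul (mul3 (nat_lit 248)) (mul2 (nat_lit 40)) (nat_lit 1600)) cK3g cT3 cK4g [[nat_lit 1, nat_lit 0, nat_lit 1, nat_lit 0, nat_lit 1],
  [nat_lit 0, nat_lit 4, nat_lit 1, nat_lit 1],
  [nat_lit 0, nat_lit 3, nat_lit 0]]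
noncomputable def c4Sf : ℕ → ℕ := chkS2 (pmul (mul3 (nat_lit 248)) (mul2 (nat_lit 40)) (nat_lit 1600)) cK4g (nat_lit 3) cT4 ce5 c4c (nat_lit 3) (nat_lit 5)
noncomputable def c4Gf : ℕ → ℕ := chkG (pmul (mul3 (nat_lit 248)) (mul2 (nat_lit 40)) (nat_lit 1600)) cK4g cT4 cK5g [[nat_lit 1, nat_lit 4, nat_lit 1, nat_lit 1],
  [nat_lit 0, nat_lit 0, nat_lit 0, nat_lit 2],
  [nat_lit 3, nat_lit 3, nat_lit 2],
  [nat_lit 1, nat_lit 1, nat_lit 2, nat_lit 1, nat_lit 0]]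
noncomputable def c5Sf : ℕ → ℕ := chkS2 (pmul (mul3 (nat_lit 248)) (mul2 (nat_lit 40)) (nat_lit 1600)) cK5g (nat_lit 4) cT5 ce6 c5c (nat_lit 2) (nat_lit 4)
noncomputable def c5Gf : ℕ → ℕ := chkG (pmul (mul3 (nat_lit 248)) (mul2 (nat_lit 40)) (nat_lit 1600)) cK5g cT5 cK6g [[nat_lit 2, nat_lit 3, nat_lit 1, nat_lit 3],
  [nat_lit 3, nat_lit 3, nat_lit 1, nat_lit 3, nat_lit 0],
  [nat_lit 0, nat_lit 1, nat_lit 0, nat_lit 3],
  [nat_lit 0, nat_lit 2, nat_lit 1, nat_lit 2],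
  [nat_lit 2, nat_lit 2, nat_lit 1, nat_lit 0, nat_lit 1]]
noncomputable def c6Sf : ℕ → ℕ := chkS2 (pmul (mul3 (nat_lit 248)) (mul2 (nat_lit 40)) (nat_lit 1600)) cK6g (nat_lit 5) cT6 ce7 c6c (nat_lit 2) (nat_lit 3)
noncomputable def c6Gf : ℕ → ℕ := chkG (pmul (mul3 (nat_lit 248)) (mul2 (nat_lit 40)) (nat_lit 1600)) cK6g cT6 cK7g [[nat_lit 2, nat_lit 2, nat_lit 1, nat_lit 1, nat_lit 3],
  [nat_lit 0, nat_lit 2, nat_lit 3, nat_lit 4, nat_lit 2],
  [nat_lit 1, nat_lit 0, nat_lit 3],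
  [nat_lit 2, nat_lit 0, nat_lit 1, nat_lit 4],
  [nat_lit 1, nat_lit 1, nat_lit 4, nat_lit 1, nat_lit 1],
  [nat_lit 2, nat_lit 1, nat_lit 3],
  [nat_lit 1, nat_lit 0, nat_lit 1, nat_lit 2, nat_lit 1],
  [nat_lit 1, nat_lit 2, nat_lit 0, nat_lit 0]]
noncomputable def c7Sf : ℕ → ℕ := chkS2 (pmul (mul3 (nat_lit 248)) (mul2 (nat_lit 40)) (nat_lit 1600)) cK7g (nat_lit 8) cT7 ce8 c7c (nat_lit 4) (nat_lit 16)
noncomputable def c7Gf : ℕ → ℕ := chkG (pmul (mul3 (nat_lit 248)) (mul2 (nat_lit 40)) (nat_lit 1600)) cK7g cT7 cK8g [[nat_lit 2, nat_lit 4, nat_lit 7],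
  [nat_lit 12, nat_lit 7, nat_lit 2, nat_lit 1, nat_lit 2],
  [nat_lit 0, nat_lit 5, nat_lit 6, nat_lit 0, nat_lit 5],
  [nat_lit 2, nat_lit 5, nat_lit 5],
  [nat_lit 4, nat_lit 9, nat_lit 1, nat_lit 4]]
noncomputable def c8Sf : ℕ → ℕ := chkS2 (pmul (mul3 (nat_lit 248)) (mul2 (nat_lit 40)) (nat_lit 1600)) cK8g (nat_lit 5) cT8 (fun _ => (join (nat_lit 1600) (one2 (nat_lit 40)) (one2 (nat_lit 248)))) c8c (nat_lit 5) (nat_lit 32)
noncomputable def YYf : ℕ → ℕ := chkY can0 (brow (nat_lit 40)) Y (nat_lit 248)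
noncomputable def qDIf : ℕ → ℕ := chkI (mul3 (nat_lit 248)) (one2 (nat_lit 248)) qD qDi
noncomputable def qRHOf : ℕ → ℕ := chkO (img2 (nat_lit 40) fun s => lo (nat_lit 1600) (Hg s)) (brow (nat_lit 40)) Y qRHa (nat_lit 248) [nat_lit 174]
noncomputable abbrev qL1 : Subgroup (GA × GB) := Lf fst H (mA.elt (qD 1))
noncomputable def qL1Ef : ℕ → ℕ := chkE qL1P ce0 [nat_lit 78434304, nat_lit 1009790464]
noncomputable def qL1Cf : ℕ → ℕ := chkL (mul3 (nat_lit 248)) (qD 1) (fun s => hi (nat_lit 1600) (qL1P s)) (fun x => hi (nat_lit 1600) (ce0 x)) [nat_lit 323259392, nat_lit 681836800]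
noncomputable def qL1Wf : ℕ → ℕ := chkPl (pmul (mul3 (nat_lit 248)) (mul2 (nat_lit 40)) (nat_lit 1600)) qL1P [[nat_lit 1, nat_lit 1, nat_lit 1, nat_lit 1, nat_lit 0, nat_lit 1, nat_lit 0, nat_lit 1, nat_lit 1, nat_lit 0, nat_lit 1],
  [nat_lit 1, nat_lit 1, nat_lit 0, nat_lit 0, nat_lit 0, nat_lit 1, nat_lit 0, nat_lit 1, nat_lit 0, nat_lit 1, nat_lit 0],
  [nat_lit 2, nat_lit 3, nat_lit 2, nat_lit 3, nat_lit 3, nat_lit 3, nat_lit 3, nat_lit 2],
  [nat_lit 2, nat_lit 3, nat_lit 3, nat_lit 2, nat_lit 3, nat_lit 2, nat_lit 3, nat_lit 3, nat_lit 2, nat_lit 2],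
  [nat_lit 3, nat_lit 2, nat_lit 3, nat_lit 2, nat_lit 3, nat_lit 2],
  [nat_lit 4, nat_lit 4, nat_lit 6, nat_lit 4],
  [nat_lit 5],
  [nat_lit 4, nat_lit 4, nat_lit 5, nat_lit 4],
  [nat_lit 4, nat_lit 4, nat_lit 4],
  [nat_lit 4, nat_lit 4, nat_lit 4, nat_lit 5, nat_lit 4, nat_lit 4, nat_lit 6, nat_lit 4],
  [nat_lit 9, nat_lit 9, nat_lit 11, nat_lit 9, nat_lit 10],
  [nat_lit 9, nat_lit 10, nat_lit 9, nat_lit 9, nat_lit 7],
  [nat_lit 8, nat_lit 10, nat_lit 9],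
  [nat_lit 9, nat_lit 9, nat_lit 7],
  [nat_lit 15, nat_lit 14],
  [nat_lit 12, nat_lit 12, nat_lit 15, nat_lit 12, nat_lit 12],
  [nat_lit 12, nat_lit 12, nat_lit 15, nat_lit 12, nat_lit 13],
  [nat_lit 17, nat_lit 17, nat_lit 18, nat_lit 17],
  [nat_lit 17, nat_lit 17, nat_lit 17, nat_lit 17, nat_lit 16],
  [nat_lit 19, nat_lit 20, nat_lit 19],
  [nat_lit 19, nat_lit 20, nat_lit 19]] (nat_lit 2)
noncomputable def qL10yYf : ℕ → ℕ := chkY can0 (brow (nat_lit 40)) qL10y (nat_lit 1)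
noncomputable def qL10ROf : ℕ → ℕ := chkO (img2 (nat_lit 40) fun s => lo (nat_lit 1600) ((shf qL1P (nat_lit 0)) s)) (brow (nat_lit 40)) qL10y qL10Ra (nat_lit 1) [nat_lit 0]
noncomputable def qL10Xf : ℕ → ℕ := chkFx (img2 (nat_lit 40) fun s => lo (nat_lit 1600) (qL1P s)) (brow (nat_lit 40)) qL10y (nat_lit 0) [nat_lit 0, nat_lit 0, nat_lit 0, nat_lit 0, nat_lit 0, nat_lit 0, nat_lit 0, nat_lit 0, nat_lit 0, nat_lit 0, nat_lit 0, nat_lit 0, nat_lit 0, nat_lit 0, nat_lit 0, nat_lit 0, nat_lit 0, nat_lit 0, nat_lit 0, nat_lit 0, nat_lit 0, nat_lit 0, nat_lit 0] (nat_lit 0)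
noncomputable abbrev qL1K1 : Subgroup (GA × GB) := qL1 ⊓ MulAction.stabilizer (GA × GB) (pvB (pt (brow (nat_lit 40)) qL10y (nat_lit 0)))
noncomputable def qL11yYf : ℕ → ℕ := chkY can0 (brow (nat_lit 40)) qL11y (nat_lit 240)
noncomputable def qL11ROf : ℕ → ℕ := chkO (img2 (nat_lit 40) fun s => lo (nat_lit 1600) ((shf qL1P (nat_lit 0)) s)) (brow (nat_lit 40)) qL11y qL11Ra (nat_lit 240) [nat_lit 178]
noncomputable def qL11Xf : ℕ → ℕ := chkFx (img2 (nat_lit 40) fun s => lo (nat_lit 1600) (qL1P s)) (brow (nat_lit 40)) qL11y (nat_lit 178) [nat_lit 0, nat_lit 0, nat_lit 0, nat_lit 0, nat_lit 0, nat_lit 0, nat_lit 0, nat_lit 0, nat_lit 0, nat_lit 0, nat_lit 0, nat_lit 0, nat_lit 0, nat_lit 0, nat_lit 0, nat_lit 0, nat_lit 0, nat_lit 0, nat_lit 0, nat_lit 0, nat_lit 0] (nat_lit 2)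
noncomputable abbrev qL1K2 : Subgroup (GA × GB) := qL1K1 ⊓ MulAction.stabilizer (GA × GB) (pvB (pt (brow (nat_lit 40)) qL11y (nat_lit 178)))
noncomputable def qL12yYf : ℕ → ℕ := chkY can0 (brow (nat_lit 40)) qL12y (nat_lit 56)
noncomputable def qL12ROf : ℕ → ℕ := chkO (img2 (nat_lit 40) fun s => lo (nat_lit 1600) ((shf qL1P (nat_lit 2)) s)) (brow (nat_lit 40)) qL12y qL12Ra (nat_lit 56) [nat_lit 13]
noncomputable def qL12Xf : ℕ → ℕ := chkFx (img2 (nat_lit 40) fun s => lo (nat_lit 1600) (qL1P s)) (brow (nat_lit 40)) qL12y (nat_lit 13) [nat_lit 0, nat_lit 0, nat_lit 0, nat_lit 0, nat_lit 0, nat_lit 0, nat_lit 0, nat_lit 0, nat_lit 0, nat_lit 0, nat_lit 0, nat_lit 0, nat_lit 0, nat_lit 0, nat_lit 0, nat_lit 0, nat_lit 0, nat_lit 0, nat_lit 0] (nat_lit 4)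
noncomputable abbrev qL1K3 : Subgroup (GA × GB) := qL1K2 ⊓ MulAction.stabilizer (GA × GB) (pvB (pt (brow (nat_lit 40)) qL12y (nat_lit 13)))
noncomputable def qL13yYf : ℕ → ℕ := chkY can0 (brow (nat_lit 40)) qL13y (nat_lit 3)
noncomputable def qL13ROf : ℕ → ℕ := chkO (img2 (nat_lit 40) fun s => lo (nat_lit 1600) ((shf qL1P (nat_lit 4)) s)) (brow (nat_lit 40)) qL13y qL13Ra (nat_lit 3) [nat_lit 1]
noncomputable def qL13Xf : ℕ → ℕ := chkFx (img2 (nat_lit 40) fun s => lo (nat_lit 1600) (qL1P s)) (brow (nat_lit 40)) qL13y (nat_lit 1) [nat_lit 0, nat_lit 0, nat_lit 0, nat_lit 0, nat_lit 0, nat_lit 0, nat_lit 0, nat_lit 0, nat_lit 0, nat_lit 0, nat_lit 0, nat_lit 0, nat_lit 0, nat_lit 0, nat_lit 0, nat_lit 0] (nat_lit 7)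
noncomputable abbrev qL1K4 : Subgroup (GA × GB) := qL1K3 ⊓ MulAction.stabilizer (GA × GB) (pvB (pt (brow (nat_lit 40)) qL13y (nat_lit 1)))
noncomputable def qL14yYf : ℕ → ℕ := chkY (can3 (nat_lit 248)) (row3 (nat_lit 248)) qL14y (nat_lit 2)
noncomputable def qL14ROf : ℕ → ℕ := chkO (img3 (nat_lit 248) fun s => hi (nat_lit 1600) ((shf qL1P (nat_lit 7)) s)) (row3 (nat_lit 248)) qL14y qL14Ra (nat_lit 2) [nat_lit 0]
noncomputable def qL14Xf : ℕ → ℕ := chkFx (img3 (nat_lit 248) fun s => hi (nat_lit 1600) (qL1P s)) (row3 (nat_lit 248)) qL14y (nat_lit 0) [nat_lit 0, nat_lit 0, nat_lit 0, nat_lit 0, nat_lit 0, nat_lit 0, nat_lit 0, nat_lit 0, nat_lit 0, nat_lit 0, nat_lit 0] (nat_lit 12)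
noncomputable abbrev qL1K5 : Subgroup (GA × GB) := qL1K4 ⊓ MulAction.stabilizer (GA × GB) (pvP (pt (row3 (nat_lit 248)) qL14y (nat_lit 0)))
noncomputable def qL15yYf : ℕ → ℕ := chkY (can3 (nat_lit 248)) (row3 (nat_lit 248)) qL15y (nat_lit 2)
noncomputable def qL15ROf : ℕ → ℕ := chkO (img3 (nat_lit 248) fun s => hi (nat_lit 1600) ((shf qL1P (nat_lit 12)) s)) (row3 (nat_lit 248)) qL15y qL15Ra (nat_lit 2) [nat_lit 0]
noncomputable def qL15Xf : ℕ → ℕ := chkFx (img3 (nat_lit 248) fun s => hi (nat_lit 1600) (qL1P s)) (row3 (nat_lit 248)) qL15y (nat_lit 0) [nat_lit 0, nat_lit 0, nat_lit 0, nat_lit 0, nat_lit 0, nat_lit 0, nat_lit 0] (nat_lit 16)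
noncomputable abbrev qL1K6 : Subgroup (GA × GB) := qL1K5 ⊓ MulAction.stabilizer (GA × GB) (pvP (pt (row3 (nat_lit 248)) qL15y (nat_lit 0)))
noncomputable def qL16yYf : ℕ → ℕ := chkY (can3 (nat_lit 248)) (row3 (nat_lit 248)) qL16y (nat_lit 2)
noncomputable def qL16ROf : ℕ → ℕ := chkO (img3 (nat_lit 248) fun s => hi (nat_lit 1600) ((shf qL1P (nat_lit 16)) s)) (row3 (nat_lit 248)) qL16y qL16Ra (nat_lit 2) [nat_lit 0]
noncomputable def qL16Xf : ℕ → ℕ := chkFx (img3 (nat_lit 248) fun s => hi (nat_lit 1600) (qL1P s)) (row3 (nat_lit 248)) qL16y (nat_lit 0) [nat_lit 0, nat_lit 0, nat_lit 0, nat_lit 0] (nat_lit 19)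
noncomputable abbrev qL1K7 : Subgroup (GA × GB) := qL1K6 ⊓ MulAction.stabilizer (GA × GB) (pvP (pt (row3 (nat_lit 248)) qL16y (nat_lit 0)))
noncomputable def qL17yYf : ℕ → ℕ := chkY (can3 (nat_lit 248)) (row3 (nat_lit 248)) qL17y (nat_lit 2)
noncomputable def qL17ROf : ℕ → ℕ := chkO (img3 (nat_lit 248) fun s => hi (nat_lit 1600) ((shf qL1P (nat_lit 19)) s)) (row3 (nat_lit 248)) qL17y qL17Ra (nat_lit 2) [nat_lit 0]
noncomputable def qL17Xf : ℕ → ℕ := chkFx (img3 (nat_lit 248) fun s => hi (nat_lit 1600) (qL1P s)) (row3 (nat_lit 248)) qL17y (nat_lit 0) [nat_lit 0, nat_lit 0] (nat_lit 21)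
noncomputable abbrev qL1K8 : Subgroup (GA × GB) := qL1K7 ⊓ MulAction.stabilizer (GA × GB) (pvP (pt (row3 (nat_lit 248)) qL17y (nat_lit 0)))
noncomputable def qL18yYf : ℕ → ℕ := chkY (can3 (nat_lit 248)) (row3 (nat_lit 248)) qL18y (nat_lit 2)
noncomputable def qL18ROf : ℕ → ℕ := chkO (img3 (nat_lit 248) fun s => hi (nat_lit 1600) ((shf qL1P (nat_lit 21)) s)) (row3 (nat_lit 248)) qL18y qL18Ra (nat_lit 2) [nat_lit 1]
noncomputable def qL18Xf : ℕ → ℕ := chkFx (img3 (nat_lit 248) fun s => hi (nat_lit 1600) (qL1P s)) (row3 (nat_lit 248)) qL18y (nat_lit 1) [] (nat_lit 23)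
noncomputable abbrev qL1K9 : Subgroup (GA × GB) := qL1K8 ⊓ MulAction.stabilizer (GA × GB) (pvP (pt (row3 (nat_lit 248)) qL18y (nat_lit 1)))
noncomputable abbrev qL2 : Subgroup (GA × GB) := Lf fst H (mA.elt (qD 2))
noncomputable def qL2Ef : ℕ → ℕ := chkE qL2P ce0 [nat_lit 557204736, nat_lit 46149120]
noncomputable def qL2Cf : ℕ → ℕ := chkL (mul3 (nat_lit 248)) (qD 2) (fun s => hi (nat_lit 1600) (qL2P s)) (fun x => hi (nat_lit 1600) (ce0 x)) [nat_lit 738345472, nat_lit 815961600]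
noncomputable def qL2Wf : ℕ → ℕ := chkPl (pmul (mul3 (nat_lit 248)) (mul2 (nat_lit 40)) (nat_lit 1600)) qL2P [[nat_lit 0, nat_lit 1, nat_lit 1, nat_lit 0, nat_lit 0, nat_lit 0, nat_lit 1, nat_lit 0, nat_lit 1],
  [nat_lit 0, nat_lit 0, nat_lit 0, nat_lit 1, nat_lit 1, nat_lit 0, nat_lit 0],
  [nat_lit 1, nat_lit 1, nat_lit 0, nat_lit 1, nat_lit 1, nat_lit 0, nat_lit 1, nat_lit 1, nat_lit 0],
  [nat_lit 2, nat_lit 3, nat_lit 2, nat_lit 3, nat_lit 4, nat_lit 2, nat_lit 3],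
  [nat_lit 3, nat_lit 2, nat_lit 4, nat_lit 3, nat_lit 2, nat_lit 3, nat_lit 2]] (nat_lit 2)
noncomputable def qL20yYf : ℕ → ℕ := chkY can0 (brow (nat_lit 40)) qL20y (nat_lit 128)
noncomputable def qL20ROf : ℕ → ℕ := chkO (img2 (nat_lit 40) fun s => lo (nat_lit 1600) ((shf qL2P (nat_lit 0)) s)) (brow (nat_lit 40)) qL20y qL20Ra (nat_lit 128) [nat_lit 95]
noncomputable def qL20Xf : ℕ → ℕ := chkFx (img2 (nat_lit 40) fun s => lo (nat_lit 1600) (qL2P s)) (brow (nat_lit 40)) qL20y (nat_lit 95) [nat_lit 0, nat_lit 0, nat_lit 0, nat_lit 0, nat_lit 0] (nat_lit 2)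
noncomputable abbrev qL2K1 : Subgroup (GA × GB) := qL2 ⊓ MulAction.stabilizer (GA × GB) (pvB (pt (brow (nat_lit 40)) qL20y (nat_lit 95)))
noncomputable def qL21yYf : ℕ → ℕ := chkY can0 (brow (nat_lit 40)) qL21y (nat_lit 21)
noncomputable def qL21ROf : ℕ → ℕ := chkO (img2 (nat_lit 40) fun s => lo (nat_lit 1600) ((shf qL2P (nat_lit 2)) s)) (brow (nat_lit 40)) qL21y qL21Ra (nat_lit 21) [nat_lit 20]
noncomputable def qL21Xf : ℕ → ℕ := chkFx (img2 (nat_lit 40) fun s => lo (nat_lit 1600) (qL2P s)) (brow (nat_lit 40)) qL21y (nat_lit 20) [nat_lit 0, nat_lit 0] (nat_lit 5)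
noncomputable abbrev qL2K2 : Subgroup (GA × GB) := qL2K1 ⊓ MulAction.stabilizer (GA × GB) (pvB (pt (brow (nat_lit 40)) qL21y (nat_lit 20)))
noncomputable def qL22yYf : ℕ → ℕ := chkY (can3 (nat_lit 248)) (row3 (nat_lit 248)) qL22y (nat_lit 2)
noncomputable def qL22ROf : ℕ → ℕ := chkO (img3 (nat_lit 248) fun s => hi (nat_lit 1600) ((shf qL2P (nat_lit 5)) s)) (row3 (nat_lit 248)) qL22y qL22Ra (nat_lit 2) [nat_lit 0]
noncomputable def qL22Xf : ℕ → ℕ := chkFx (img3 (nat_lit 248) fun s => hi (nat_lit 1600) (qL2P s)) (row3 (nat_lit 248)) qL22y (nat_lit 0) [] (nat_lit 7)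
noncomputable abbrev qL2K3 : Subgroup (GA × GB) := qL2K2 ⊓ MulAction.stabilizer (GA × GB) (pvP (pt (row3 (nat_lit 248)) qL22y (nat_lit 0)))
noncomputable abbrev qL3 : Subgroup (GA × GB) := Lf fst H (mA.elt (qD 3))
noncomputable def qL3Ef : ℕ → ℕ := chkE qL3P ce0 [nat_lit 834032354]
noncomputable def qL3Cf : ℕ → ℕ := chkL (mul3 (nat_lit 248)) (qD 3) (fun s => hi (nat_lit 1600) (qL3P s)) (fun x => hi (nat_lit 1600) (ce0 x)) [nat_lit 351195618]
noncomputable def qL30yYf : ℕ → ℕ := chkY can0 (brow (nat_lit 40)) qL30y (nat_lit 5)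
noncomputable def qL30ROf : ℕ → ℕ := chkO (img2 (nat_lit 40) fun s => lo (nat_lit 1600) ((shf qL3P (nat_lit 0)) s)) (brow (nat_lit 40)) qL30y qL30Ra (nat_lit 5) [nat_lit 3]
noncomputable def qL30Xf : ℕ → ℕ := chkFx (img2 (nat_lit 40) fun s => lo (nat_lit 1600) (qL3P s)) (brow (nat_lit 40)) qL30y (nat_lit 3) [] (nat_lit 1)
noncomputable abbrev qL3K1 : Subgroup (GA × GB) := qL3 ⊓ MulAction.stabilizer (GA × GB) (pvB (pt (brow (nat_lit 40)) qL30y (nat_lit 3)))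
noncomputable abbrev qL4 : Subgroup (GA × GB) := Lf fst H (mA.elt (qD 4))
noncomputable def qL4Ef : ℕ → ℕ := chkE qL4P ce0 [nat_lit 442814134, nat_lit 298226101]
noncomputable def qL4Cf : ℕ → ℕ := chkL (mul3 (nat_lit 248)) (qD 4) (fun s => hi (nat_lit 1600) (qL4P s)) (fun x => hi (nat_lit 1600) (ce0 x)) [nat_lit 497717707, nat_lit 980093393]
noncomputable def qL40yYf : ℕ → ℕ := chkY can0 (brow (nat_lit 40)) qL40y (nat_lit 9)
noncomputable def qL40ROf : ℕ → ℕ := chkO (img2 (nat_lit 40) fun s => lo (nat_lit 1600) ((shf qL4P (nat_lit 0)) s)) (brow (nat_lit 40)) qL40y qL40Ra (nat_lit 9) [nat_lit 5]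
noncomputable def qL40Xf : ℕ → ℕ := chkFx (img2 (nat_lit 40) fun s => lo (nat_lit 1600) (qL4P s)) (brow (nat_lit 40)) qL40y (nat_lit 5) [] (nat_lit 2)
noncomputable abbrev qL4K1 : Subgroup (GA × GB) := qL4 ⊓ MulAction.stabilizer (GA × GB) (pvB (pt (brow (nat_lit 40)) qL40y (nat_lit 5)))
noncomputable abbrev qL5 : Subgroup (GA × GB) := Lf fst H (mA.elt (qD 5))
noncomputable def qL5Ef : ℕ → ℕ := chkE qL5P ce0 [nat_lit 990151970]
noncomputable def qL5Cf : ℕ → ℕ := chkL (mul3 (nat_lit 248)) (qD 5) (fun s => hi (nat_lit 1600) (qL5P s)) (fun x => hi (nat_lit 1600) (ce0 x)) [nat_lit 337823389]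
noncomputable def qL50yYf : ℕ → ℕ := chkY can0 (brow (nat_lit 40)) qL50y (nat_lit 5)
noncomputable def qL50ROf : ℕ → ℕ := chkO (img2 (nat_lit 40) fun s => lo (nat_lit 1600) ((shf qL5P (nat_lit 0)) s)) (brow (nat_lit 40)) qL50y qL50Ra (nat_lit 5) [nat_lit 3]
noncomputable def qL50Xf : ℕ → ℕ := chkFx (img2 (nat_lit 40) fun s => lo (nat_lit 1600) (qL5P s)) (brow (nat_lit 40)) qL50y (nat_lit 3) [] (nat_lit 1)
noncomputable abbrev qL5K1 : Subgroup (GA × GB) := qL5 ⊓ MulAction.stabilizer (GA × GB) (pvB (pt (brow (nat_lit 40)) qL50y (nat_lit 3)))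
noncomputable abbrev qL6 : Subgroup (GA × GB) := Lf fst H (mA.elt (qD 6))
noncomputable def qL6Ef : ℕ → ℕ := chkE qL6P ce0 [nat_lit 140530562]
noncomputable def qL6Cf : ℕ → ℕ := chkL (mul3 (nat_lit 248)) (qD 6) (fun s => hi (nat_lit 1600) (qL6P s)) (fun x => hi (nat_lit 1600) (ce0 x)) [nat_lit 168495464]
noncomputable def qL60yYf : ℕ → ℕ := chkY can0 (brow (nat_lit 40)) qL60y (nat_lit 3)
noncomputable def qL60ROf : ℕ → ℕ := chkO (img2 (nat_lit 40) fun s => lo (nat_lit 1600) ((shf qL6P (nat_lit 0)) s)) (brow (nat_lit 40)) qL60y qL60Ra (nat_lit 3) [nat_lit 1]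
noncomputable def qL60Xf : ℕ → ℕ := chkFx (img2 (nat_lit 40) fun s => lo (nat_lit 1600) (qL6P s)) (brow (nat_lit 40)) qL60y (nat_lit 1) [] (nat_lit 1)
noncomputable abbrev qL6K1 : Subgroup (GA × GB) := qL6 ⊓ MulAction.stabilizer (GA × GB) (pvB (pt (brow (nat_lit 40)) qL60y (nat_lit 1)))
noncomputable abbrev qL7 : Subgroup (GA × GB) := Lf fst H (mA.elt (qD 7))
noncomputable def qL7Ef : ℕ → ℕ := chkE qL7P ce0 [nat_lit 298608907, nat_lit 814811500]
noncomputable def qL7Cf : ℕ → ℕ := chkL (mul3 (nat_lit 248)) (qD 7) (fun s => hi (nat_lit 1600) (qL7P s)) (fun x => hi (nat_lit 1600) (ce0 x)) [nat_lit 747967637, nat_lit 1035141691]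
noncomputable def qL70yYf : ℕ → ℕ := chkY can0 (brow (nat_lit 40)) qL70y (nat_lit 126)
noncomputable def qL70ROf : ℕ → ℕ := chkO (img2 (nat_lit 40) fun s => lo (nat_lit 1600) ((shf qL7P (nat_lit 0)) s)) (brow (nat_lit 40)) qL70y qL70Ra (nat_lit 126) [nat_lit 89]
noncomputable def qL70Xf : ℕ → ℕ := chkFx (img2 (nat_lit 40) fun s => lo (nat_lit 1600) (qL7P s)) (brow (nat_lit 40)) qL70y (nat_lit 89) [] (nat_lit 2)
noncomputable abbrev qL7K1 : Subgroup (GA × GB) := qL7 ⊓ MulAction.stabilizer (GA × GB) (pvB (pt (brow (nat_lit 40)) qL70y (nat_lit 89)))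
noncomputable abbrev qL8 : Subgroup (GA × GB) := Lf fst H (mA.elt (qD 8))
noncomputable def qL8Ef : ℕ → ℕ := chkE qL8P ce0 [nat_lit 600054061, nat_lit 764683771]
noncomputable def qL8Cf : ℕ → ℕ := chkL (mul3 (nat_lit 248)) (qD 8) (fun s => hi (nat_lit 1600) (qL8P s)) (fun x => hi (nat_lit 1600) (ce0 x)) [nat_lit 237267618, nat_lit 876648522]
noncomputable def qL80yYf : ℕ → ℕ := chkY can0 (brow (nat_lit 40)) qL80y (nat_lit 155)
noncomputable def qL80ROf : ℕ → ℕ := chkO (img2 (nat_lit 40) fun s => lo (nat_lit 1600) ((shf qL8P (nat_lit 0)) s)) (brow (nat_lit 40)) qL80y qL80Ra (nat_lit 155) [nat_lit 108]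
noncomputable def qL80Xf : ℕ → ℕ := chkFx (img2 (nat_lit 40) fun s => lo (nat_lit 1600) (qL8P s)) (brow (nat_lit 40)) qL80y (nat_lit 108) [] (nat_lit 2)
noncomputable abbrev qL8K1 : Subgroup (GA × GB) := qL8 ⊓ MulAction.stabilizer (GA × GB) (pvB (pt (brow (nat_lit 40)) qL80y (nat_lit 108)))
noncomputable abbrev qL9 : Subgroup (GA × GB) := Lf fst H (mA.elt (qD 9))
noncomputable def qL9Ef : ℕ → ℕ := chkE qL9P ce0 [nat_lit 841096583, nat_lit 985699959]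
noncomputable def qL9Cf : ℕ → ℕ := chkL (mul3 (nat_lit 248)) (qD 9) (fun s => hi (nat_lit 1600) (qL9P s)) (fun x => hi (nat_lit 1600) (ce0 x)) [nat_lit 482675328, nat_lit 872588633]
noncomputable def qL90yYf : ℕ → ℕ := chkY can0 (brow (nat_lit 40)) qL90y (nat_lit 48)
noncomputable def qL90ROf : ℕ → ℕ := chkO (img2 (nat_lit 40) fun s => lo (nat_lit 1600) ((shf qL9P (nat_lit 0)) s)) (brow (nat_lit 40)) qL90y qL90Ra (nat_lit 48) [nat_lit 44]
noncomputable def qL90Xf : ℕ → ℕ := chkFx (img2 (nat_lit 40) fun s => lo (nat_lit 1600) (qL9P s)) (brow (nat_lit 40)) qL90y (nat_lit 44) [] (nat_lit 2)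
noncomputable abbrev qL9K1 : Subgroup (GA × GB) := qL9 ⊓ MulAction.stabilizer (GA × GB) (pvB (pt (brow (nat_lit 40)) qL90y (nat_lit 44)))
noncomputable abbrev qL10 : Subgroup (GA × GB) := Lf fst H (mA.elt (qD 10))
noncomputable def qL10Ef : ℕ → ℕ := chkE qL10P ce0 [nat_lit 1051005877, nat_lit 894884304]
noncomputable def qL10Cf : ℕ → ℕ := chkL (mul3 (nat_lit 248)) (qD 10) (fun s => hi (nat_lit 1600) (qL10P s)) (fun x => hi (nat_lit 1600) (ce0 x)) [nat_lit 791225054, nat_lit 374341731]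
noncomputable def qL100yYf : ℕ → ℕ := chkY can0 (brow (nat_lit 40)) qL100y (nat_lit 155)
noncomputable def qL100ROf : ℕ → ℕ := chkO (img2 (nat_lit 40) fun s => lo (nat_lit 1600) ((shf qL10P (nat_lit 0)) s)) (brow (nat_lit 40)) qL100y qL100Ra (nat_lit 155) [nat_lit 109]
noncomputable def qL100Xf : ℕ → ℕ := chkFx (img2 (nat_lit 40) fun s => lo (nat_lit 1600) (qL10P s)) (brow (nat_lit 40)) qL100y (nat_lit 109) [] (nat_lit 2)
noncomputable abbrev qL10K1 : Subgroup (GA × GB) := qL10 ⊓ MulAction.stabilizer (GA × GB) (pvB (pt (brow (nat_lit 40)) qL100y (nat_lit 109)))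
noncomputable def qB : ℕ := (nat_lit 0xb4749a246fb4749a246fb4749a246fb4749a246fb4749a246fb4749a246fb4749a246fb4749a246fb4749a246fb4749a246fb4749a246fb4749a246fb4749a246fb4749a246fb4749a246fb4749a246fb4749a246fb4749a246fb4749a246fb4749a246fb4749a246fb4749a246fb4749a246fb4749a246fb4749a246fb4749a246fb4749a246fb4749a246fb4749a246fb4749a246fb4749a246fb4749a246fb4749a246fb4749a246fb4749a246fb4749a246fb4749a246fb4749a246fb4749a246fb4749a246fb4749a246fb4749a246fb4749a246fb4749a246fb4749a246fb4749a246fb4749a246fb4749a246fb4749a246fb4749a246fb4749a246fb4749a246fb4749a246fb4749a246fb4749a246fb4749a246fb4749a246fb4749a246fb4749a246fb4749a246fb4749a246fb4749a246fb4749a246fb4749a246f)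
noncomputable def qBkf : ℕ → ℕ := chkB (img2 (nat_lit 40) fun s => lo (nat_lit 1600) ((cel1 (pmul (mul3 (nat_lit 248)) (mul2 (nat_lit 40)) (nat_lit 1600)) qL1P (nat_lit 5) qL1P) s)) (brow (nat_lit 40)) Y (nat_lit 174) qB [nat_lit 23, nat_lit 23, nat_lit 23, nat_lit 23, nat_lit 23, nat_lit 23, nat_lit 23, nat_lit 23, nat_lit 23, nat_lit 23, nat_lit 23, nat_lit 23, nat_lit 23, nat_lit 23, nat_lit 23, nat_lit 23, nat_lit 23, nat_lit 23, nat_lit 23, nat_lit 23, nat_lit 23, nat_lit 23, nat_lit 23, nat_lit 23, nat_lit 23, nat_lit 23, nat_lit 23, nat_lit 23, nat_lit 23, nat_lit 23, nat_lit 23, nat_lit 23, nat_lit 23, nat_lit 23, nat_lit 23, nat_lit 23, nat_lit 23, nat_lit 23, nat_lit 23, nat_lit 23, nat_lit 23, nat_lit 23, nat_lit 23, nat_lit 23, nat_lit 23, nat_lit 23, nat_lit 23, nat_lit 23, nat_lit 23, nat_lit 23, nat_lit 23, nat_lit 23, nat_lit 23, nat_lit 23, nat_lit 23, nat_lit 23, nat_lit 23, nat_lit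 23, nat_lit 23, nat_lit 23, nat_lit 23, nat_lit 23, nat_lit 23, nat_lit 23] [nat_lit 0, nat_lit 0, nat_lit 0, nat_lit 0, nat_lit 0, nat_lit 0, nat_lit 0, nat_lit 0, nat_lit 0, nat_lit 0, nat_lit 0, nat_lit 0, nat_lit 0, nat_lit 0, nat_lit 0, nat_lit 0, nat_lit 0, nat_lit 0, nat_lit 0, nat_lit 0, nat_lit 0, nat_lit 0, nat_lit 0, nat_lit 0, nat_lit 0, nat_lit 0, nat_lit 0, nat_lit 0, nat_lit 0, nat_lit 0, nat_lit 0, nat_lit 0, nat_lit 0, nat_lit 0, nat_lit 0, nat_lit 0, nat_lit 0, nat_lit 0, nat_lit 0, nat_lit 0, nat_lit 0, nat_lit 0, nat_lit 0, nat_lit 0, nat_lit 0, nat_lit 0, nat_lit 0, nat_lit 0, nat_lit 0, nat_lit 0, nat_lit 0, nat_lit 0, nat_lit 0, nat_lit 0, nat_lit 0, nat_lit 0, nat_lit 0, nat_lit 0, nat_lit 0, nat_lit 0, nat_lit 0, nat_lit 0, nat_lit 0, nat_lit 0]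
noncomputable def qR1w : List (List ℕ) := [[nat_lit 1, nat_lit 0, nat_lit 1, nat_lit 617535112, nat_lit 0, nat_lit 124016251],
  [nat_lit 1, nat_lit 1, nat_lit 1, nat_lit 328540928, nat_lit 2, nat_lit 432463872],
  [nat_lit 1, nat_lit 32, nat_lit 1, nat_lit 64040384, nat_lit 1, nat_lit 55329920]]
noncomputable def qR1If : ℕ → ℕ := chkD1 (mul3 (nat_lit 248)) qD (fun x => hi (nat_lit 1600) (ce0 x)) qR1w (nat_lit 1) (nat_lit 11)
noncomputable def qR1Of : ℕ → ℕ := chkR (img2 (nat_lit 40) fun s => lo (nat_lit 1600) (qL1P s)) (img2 (nat_lit 40) fun s => lo (nat_lit 1600) (ce0 s)) (brow (nat_lit 40)) Y qR1a (nat_lit 248) qB qR1w (nat_lit 3)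
noncomputable def qR2w : List (List ℕ) := [[nat_lit 2, nat_lit 0, nat_lit 1, nat_lit 175139840, nat_lit 1, nat_lit 1004678117],
  [nat_lit 2, nat_lit 1, nat_lit 1, nat_lit 979935288, nat_lit 7, nat_lit 659965485],
  [nat_lit 2, nat_lit 4, nat_lit 1, nat_lit 923732057, nat_lit 9, nat_lit 467796409],
  [nat_lit 2, nat_lit 32, nat_lit 1, nat_lit 154013696, nat_lit 2, nat_lit 545303584]]
noncomputable def qR2If : ℕ → ℕ := chkD1 (mul3 (nat_lit 248)) qD (fun x => hi (nat_lit 1600) (ce0 x)) qR2w (nat_lit 2) (nat_lit 11)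
noncomputable def qR2Of : ℕ → ℕ := chkR (img2 (nat_lit 40) fun s => lo (nat_lit 1600) (qL2P s)) (img2 (nat_lit 40) fun s => lo (nat_lit 1600) (ce0 s)) (brow (nat_lit 40)) Y qR2a (nat_lit 248) qB qR2w (nat_lit 4)
noncomputable def qR3w : List (List ℕ) := [[nat_lit 3, nat_lit 0, nat_lit 1, nat_lit 32806529, nat_lit 5, nat_lit 203887600],
  [nat_lit 3, nat_lit 1, nat_lit 1, nat_lit 671090747, nat_lit 6, nat_lit 124838795],
  [nat_lit 3, nat_lit 2, nat_lit 1, nat_lit 596383171, nat_lit 4, nat_lit 1009293863],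
  [nat_lit 3, nat_lit 3, nat_lit 1, nat_lit 491585547, nat_lit 4, nat_lit 520939799],
  [nat_lit 3, nat_lit 4, nat_lit 1, nat_lit 45507497, nat_lit 6, nat_lit 404033704],
  [nat_lit 3, nat_lit 5, nat_lit 1, nat_lit 696304433, nat_lit 6, nat_lit 892413609],
  [nat_lit 3, nat_lit 6, nat_lit 1, nat_lit 567708552, nat_lit 6, nat_lit 609553993],
  [nat_lit 3, nat_lit 7, nat_lit 1, nat_lit 459468163, nat_lit 6, nat_lit 897656454],
  [nat_lit 3, nat_lit 8, nat_lit 1, nat_lit 965223767, nat_lit 6, nat_lit 94938021],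
  [nat_lit 3, nat_lit 9, nat_lit 1, nat_lit 923278682, nat_lit 6, nat_lit 542140716],
  [nat_lit 3, nat_lit 10, nat_lit 1, nat_lit 264379061, nat_lit 6, nat_lit 1026213024],
  [nat_lit 3, nat_lit 11, nat_lit 1, nat_lit 306203367, nat_lit 5, nat_lit 754191965],
  [nat_lit 3, nat_lit 12, nat_lit 1, nat_lit 435558523, nat_lit 3, nat_lit 344072993],
  [nat_lit 3, nat_lit 13, nat_lit 1, nat_lit 814684375, nat_lit 3, nat_lit 466666421],
  [nat_lit 3, nat_lit 14, nat_lit 1, nat_lit 1025820891, nat_lit 5, nat_lit 456200701],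
  [nat_lit 3, nat_lit 16, nat_lit 1, nat_lit 116038949, nat_lit 3, nat_lit 497604177],
  [nat_lit 3, nat_lit 17, nat_lit 1, nat_lit 235449532, nat_lit 3, nat_lit 179342311],
  [nat_lit 3, nat_lit 18, nat_lit 1, nat_lit 107794590, nat_lit 6, nat_lit 13129264],
  [nat_lit 3, nat_lit 19, nat_lit 1, nat_lit 877675991, nat_lit 6, nat_lit 505939584],
  [nat_lit 3, nat_lit 20, nat_lit 1, nat_lit 291919538, nat_lit 3, nat_lit 909011269],
  [nat_lit 3, nat_lit 21, nat_lit 1, nat_lit 199289291, nat_lit 6, nat_lit 610999496],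
  [nat_lit 3, nat_lit 23, nat_lit 1, nat_lit 783477810, nat_lit 5, nat_lit 466904280],
  [nat_lit 3, nat_lit 24, nat_lit 1, nat_lit 247857978, nat_lit 6, nat_lit 1009535133],
  [nat_lit 3, nat_lit 26, nat_lit 1, nat_lit 495479462, nat_lit 5, nat_lit 64405634],
  [nat_lit 3, nat_lit 27, nat_lit 1, nat_lit 329290585, nat_lit 3, nat_lit 25306663],
  [nat_lit 3, nat_lit 28, nat_lit 1, nat_lit 866290819, nat_lit 6, nat_lit 761273172],
  [nat_lit 3, nat_lit 32, nat_lit 1, nat_lit 995279100, nat_lit 6, nat_lit 841140390],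
  [nat_lit 3, nat_lit 64, nat_lit 1, nat_lit 575705195, nat_lit 4, nat_lit 414321821],
  [nat_lit 3, nat_lit 192, nat_lit 1, nat_lit 768142481, nat_lit 5, nat_lit 939857954],
  [nat_lit 3, nat_lit 35, nat_lit 1, nat_lit 189344615, nat_lit 5, nat_lit 416211020],
  [nat_lit 3, nat_lit 37, nat_lit 1, nat_lit 570689677, nat_lit 5, nat_lit 389317635],
  [nat_lit 3, nat_lit 38, nat_lit 1, nat_lit 724849979, nat_lit 3, nat_lit 53898340],
  [nat_lit 3, nat_lit 39, nat_lit 1, nat_lit 68349274, nat_lit 3, nat_lit 90626800],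
  [nat_lit 3, nat_lit 43, nat_lit 1, nat_lit 84321872, nat_lit 6, nat_lit 506123347],
  [nat_lit 3, nat_lit 44, nat_lit 1, nat_lit 165076221, nat_lit 5, nat_lit 1044784309],
  [nat_lit 3, nat_lit 45, nat_lit 1, nat_lit 556050621, nat_lit 6, nat_lit 933661796],
  [nat_lit 3, nat_lit 49, nat_lit 1, nat_lit 646381625, nat_lit 4, nat_lit 288104085],
  [nat_lit 3, nat_lit 52, nat_lit 1, nat_lit 868899625, nat_lit 5, nat_lit 795291235],
  [nat_lit 3, nat_lit 56, nat_lit 1, nat_lit 919634842, nat_lit 8, nat_lit 582157798],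
  [nat_lit 3, nat_lit 57, nat_lit 1, nat_lit 213936820, nat_lit 3, nat_lit 586572098],
  [nat_lit 3, nat_lit 67, nat_lit 1, nat_lit 310809549, nat_lit 4, nat_lit 746760320],
  [nat_lit 3, nat_lit 69, nat_lit 1, nat_lit 107798159, nat_lit 3, nat_lit 443582927],
  [nat_lit 3, nat_lit 70, nat_lit 1, nat_lit 27534755, nat_lit 3, nat_lit 480268421],
  [nat_lit 3, nat_lit 77, nat_lit 1, nat_lit 149849356, nat_lit 6, nat_lit 915809012],
  [nat_lit 3, nat_lit 82, nat_lit 1, nat_lit 135025367, nat_lit 6, nat_lit 508842756],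
  [nat_lit 3, nat_lit 85, nat_lit 1, nat_lit 428251945, nat_lit 5, nat_lit 375429563],
  [nat_lit 3, nat_lit 89, nat_lit 1, nat_lit 39873232, nat_lit 4, nat_lit 885822589],
  [nat_lit 3, nat_lit 100, nat_lit 1, nat_lit 1030150596, nat_lit 3, nat_lit 740894110],
  [nat_lit 3, nat_lit 114, nat_lit 1, nat_lit 453437010, nat_lit 5, nat_lit 587908285],
  [nat_lit 3, nat_lit 122, nat_lit 1, nat_lit 52979810, nat_lit 6, nat_lit 219430912],
  [nat_lit 3, nat_lit 184, nat_lit 1, nat_lit 881470764, nat_lit 10, nat_lit 65706571],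
  [nat_lit 3, nat_lit 216, nat_lit 1, nat_lit 636226136, nat_lit 5, nat_lit 112643431]]
noncomputable def qR3If : ℕ → ℕ := chkD1 (mul3 (nat_lit 248)) qD (fun x => hi (nat_lit 1600) (ce0 x)) qR3w (nat_lit 3) (nat_lit 11)
noncomputable def qR3Of : ℕ → ℕ := chkR (img2 (nat_lit 40) fun s => lo (nat_lit 1600) (qL3P s)) (img2 (nat_lit 40) fun s => lo (nat_lit 1600) (ce0 s)) (brow (nat_lit 40)) Y qR3a (nat_lit 248) qB qR3w (nat_lit 52)
noncomputable def qR4w : List (List ℕ) := [[nat_lit 4, nat_lit 0, nat_lit 1, nat_lit 1065627368, nat_lit 3, nat_lit 388123451],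
  [nat_lit 4, nat_lit 1, nat_lit 1, nat_lit 331819653, nat_lit 3, nat_lit 466914161],
  [nat_lit 4, nat_lit 2, nat_lit 1, nat_lit 58746519, nat_lit 4, nat_lit 297806945],
  [nat_lit 4, nat_lit 4, nat_lit 1, nat_lit 562334462, nat_lit 4, nat_lit 34741506],
  [nat_lit 4, nat_lit 6, nat_lit 1, nat_lit 272011417, nat_lit 3, nat_lit 644138055],
  [nat_lit 4, nat_lit 7, nat_lit 1, nat_lit 1038149084, nat_lit 5, nat_lit 46930892],
  [nat_lit 4, nat_lit 9, nat_lit 1, nat_lit 1063575817, nat_lit 6, nat_lit 1070606486],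
  [nat_lit 4, nat_lit 10, nat_lit 1, nat_lit 481699250, nat_lit 4, nat_lit 8442634],
  [nat_lit 4, nat_lit 11, nat_lit 1, nat_lit 668150136, nat_lit 4, nat_lit 834014635],
  [nat_lit 4, nat_lit 12, nat_lit 1, nat_lit 65078978, nat_lit 6, nat_lit 179218487],
  [nat_lit 4, nat_lit 14, nat_lit 1, nat_lit 636750294, nat_lit 3, nat_lit 226777910],
  [nat_lit 4, nat_lit 15, nat_lit 1, nat_lit 395240796, nat_lit 3, nat_lit 243805531],
  [nat_lit 4, nat_lit 16, nat_lit 1, nat_lit 901147622, nat_lit 6, nat_lit 90643979],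
  [nat_lit 4, nat_lit 17, nat_lit 1, nat_lit 942574329, nat_lit 6, nat_lit 34215654],
  [nat_lit 4, nat_lit 18, nat_lit 1, nat_lit 615187939, nat_lit 5, nat_lit 618053673],
  [nat_lit 4, nat_lit 24, nat_lit 1, nat_lit 366117037, nat_lit 7, nat_lit 924093067],
  [nat_lit 4, nat_lit 25, nat_lit 1, nat_lit 747312823, nat_lit 6, nat_lit 426400188],
  [nat_lit 4, nat_lit 27, nat_lit 1, nat_lit 1004573179, nat_lit 9, nat_lit 944443670],
  [nat_lit 4, nat_lit 28, nat_lit 1, nat_lit 578835433, nat_lit 4, nat_lit 282122712],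
  [nat_lit 4, nat_lit 29, nat_lit 1, nat_lit 685000875, nat_lit 5, nat_lit 473057404],
  [nat_lit 4, nat_lit 30, nat_lit 1, nat_lit 281206085, nat_lit 5, nat_lit 919490637],
  [nat_lit 4, nat_lit 64, nat_lit 1, nat_lit 770098517, nat_lit 3, nat_lit 300862873],
  [nat_lit 4, nat_lit 96, nat_lit 1, nat_lit 541762634, nat_lit 5, nat_lit 181854454],
  [nat_lit 4, nat_lit 160, nat_lit 1, nat_lit 186810848, nat_lit 6, nat_lit 594215842],
  [nat_lit 4, nat_lit 36, nat_lit 1, nat_lit 476890500, nat_lit 5, nat_lit 923682466],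
  [nat_lit 4, nat_lit 41, nat_lit 1, nat_lit 579110088, nat_lit 5, nat_lit 858147977],
  [nat_lit 4, nat_lit 44, nat_lit 1, nat_lit 1059363746, nat_lit 6, nat_lit 679807223],
  [nat_lit 4, nat_lit 58, nat_lit 1, nat_lit 997217904, nat_lit 4, nat_lit 648455405],
  [nat_lit 4, nat_lit 59, nat_lit 1, nat_lit 351668288, nat_lit 4, nat_lit 989079035],
  [nat_lit 4, nat_lit 72, nat_lit 1, nat_lit 1055401002, nat_lit 6, nat_lit 230841807],
  [nat_lit 4, nat_lit 92, nat_lit 1, nat_lit 275327801, nat_lit 5, nat_lit 334534810],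
  [nat_lit 4, nat_lit 122, nat_lit 1, nat_lit 663377943, nat_lit 9, nat_lit 34101383],
  [nat_lit 4, nat_lit 140, nat_lit 1, nat_lit 229707516, nat_lit 4, nat_lit 960523916],
  [nat_lit 4, nat_lit 141, nat_lit 1, nat_lit 470602293, nat_lit 9, nat_lit 28369542],
  [nat_lit 4, nat_lit 169, nat_lit 1, nat_lit 502449668, nat_lit 4, nat_lit 875242930],
  [nat_lit 4, nat_lit 172, nat_lit 1, nat_lit 671892747, nat_lit 7, nat_lit 528641332]]
noncomputable def qR4If : ℕ → ℕ := chkD1 (mul3 (nat_lit 248)) qD (fun x => hi (nat_lit 1600) (ce0 x)) qR4w (nat_lit 4) (nat_lit 11)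
noncomputable def qR4Of : ℕ → ℕ := chkR (img2 (nat_lit 40) fun s => lo (nat_lit 1600) (qL4P s)) (img2 (nat_lit 40) fun s => lo (nat_lit 1600) (ce0 s)) (brow (nat_lit 40)) Y qR4a (nat_lit 248) qB qR4w (nat_lit 36)
noncomputable def qR5w : List (List ℕ) := [[nat_lit 5, nat_lit 0, nat_lit 1, nat_lit 1072180519, nat_lit 3, nat_lit 190246395],
  [nat_lit 5, nat_lit 1, nat_lit 1, nat_lit 267841256, nat_lit 5, nat_lit 40896826],
  [nat_lit 5, nat_lit 2, nat_lit 1, nat_lit 256786546, nat_lit 6, nat_lit 890525286],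
  [nat_lit 5, nat_lit 3, nat_lit 1, nat_lit 1009970613, nat_lit 3, nat_lit 883497838],
  [nat_lit 5, nat_lit 4, nat_lit 1, nat_lit 941649521, nat_lit 5, nat_lit 691019514],
  [nat_lit 5, nat_lit 5, nat_lit 1, nat_lit 503319867, nat_lit 6, nat_lit 218522902],
  [nat_lit 5, nat_lit 6, nat_lit 1, nat_lit 648156044, nat_lit 4, nat_lit 598791905],
  [nat_lit 5, nat_lit 7, nat_lit 1, nat_lit 596790044, nat_lit 6, nat_lit 63052893],
  [nat_lit 5, nat_lit 8, nat_lit 1, nat_lit 215259842, nat_lit 3, nat_lit 310645981],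
  [nat_lit 5, nat_lit 9, nat_lit 1, nat_lit 435588134, nat_lit 9, nat_lit 458293990],
  [nat_lit 5, nat_lit 10, nat_lit 1, nat_lit 475422336, nat_lit 5, nat_lit 516686830],
  [nat_lit 5, nat_lit 12, nat_lit 1, nat_lit 1011637244, nat_lit 3, nat_lit 579520023],
  [nat_lit 5, nat_lit 14, nat_lit 1, nat_lit 437423461, nat_lit 3, nat_lit 979655004],
  [nat_lit 5, nat_lit 16, nat_lit 1, nat_lit 71439363, nat_lit 6, nat_lit 538057986],
  [nat_lit 5, nat_lit 17, nat_lit 1, nat_lit 889237182, nat_lit 4, nat_lit 996853362],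
  [nat_lit 5, nat_lit 18, nat_lit 1, nat_lit 618849353, nat_lit 6, nat_lit 162208963],
  [nat_lit 5, nat_lit 20, nat_lit 1, nat_lit 976153171, nat_lit 6, nat_lit 312476406],
  [nat_lit 5, nat_lit 21, nat_lit 1, nat_lit 330342830, nat_lit 3, nat_lit 535317303],
  [nat_lit 5, nat_lit 23, nat_lit 1, nat_lit 759235894, nat_lit 5, nat_lit 724829249],
  [nat_lit 5, nat_lit 24, nat_lit 1, nat_lit 107422183, nat_lit 4, nat_lit 511970550],
  [nat_lit 5, nat_lit 25, nat_lit 1, nat_lit 824905032, nat_lit 5, nat_lit 984678410],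
  [nat_lit 5, nat_lit 26, nat_lit 1, nat_lit 573883333, nat_lit 4, nat_lit 661307964],
  [nat_lit 5, nat_lit 27, nat_lit 1, nat_lit 421702749, nat_lit 6, nat_lit 644523373],
  [nat_lit 5, nat_lit 29, nat_lit 1, nat_lit 208151286, nat_lit 6, nat_lit 129014536],
  [nat_lit 5, nat_lit 30, nat_lit 1, nat_lit 780278057, nat_lit 6, nat_lit 135014100],
  [nat_lit 5, nat_lit 96, nat_lit 1, nat_lit 1024215901, nat_lit 6, nat_lit 750048079],
  [nat_lit 5, nat_lit 128, nat_lit 1, nat_lit 23779047, nat_lit 5, nat_lit 513198124],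
  [nat_lit 5, nat_lit 160, nat_lit 1, nat_lit 729158610, nat_lit 4, nat_lit 763765461],
  [nat_lit 5, nat_lit 224, nat_lit 1, nat_lit 1036689091, nat_lit 3, nat_lit 101379463],
  [nat_lit 5, nat_lit 33, nat_lit 1, nat_lit 173214113, nat_lit 4, nat_lit 286567164],
  [nat_lit 5, nat_lit 36, nat_lit 1, nat_lit 92803649, nat_lit 5, nat_lit 26267095],
  [nat_lit 5, nat_lit 40, nat_lit 1, nat_lit 74230215, nat_lit 3, nat_lit 753933682],
  [nat_lit 5, nat_lit 42, nat_lit 1, nat_lit 57810944, nat_lit 6, nat_lit 583535561],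
  [nat_lit 5, nat_lit 44, nat_lit 1, nat_lit 76186679, nat_lit 5, nat_lit 17208514],
  [nat_lit 5, nat_lit 46, nat_lit 1, nat_lit 453028384, nat_lit 6, nat_lit 475418931],
  [nat_lit 5, nat_lit 49, nat_lit 1, nat_lit 999708745, nat_lit 4, nat_lit 249875796],
  [nat_lit 5, nat_lit 51, nat_lit 1, nat_lit 166479541, nat_lit 3, nat_lit 93529555],
  [nat_lit 5, nat_lit 52, nat_lit 1, nat_lit 838214501, nat_lit 5, nat_lit 246173905],
  [nat_lit 5, nat_lit 55, nat_lit 1, nat_lit 1034218482, nat_lit 7, nat_lit 382510695],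
  [nat_lit 5, nat_lit 56, nat_lit 1, nat_lit 854467517, nat_lit 3, nat_lit 1055316155],
  [nat_lit 5, nat_lit 60, nat_lit 1, nat_lit 575821196, nat_lit 6, nat_lit 682033835],
  [nat_lit 5, nat_lit 61, nat_lit 1, nat_lit 948890253, nat_lit 6, nat_lit 466879465],
  [nat_lit 5, nat_lit 62, nat_lit 1, nat_lit 99501237, nat_lit 6, nat_lit 120115332],
  [nat_lit 5, nat_lit 67, nat_lit 1, nat_lit 491931867, nat_lit 3, nat_lit 400595285],
  [nat_lit 5, nat_lit 69, nat_lit 1, nat_lit 189174652, nat_lit 5, nat_lit 228860212],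
  [nat_lit 5, nat_lit 71, nat_lit 1, nat_lit 75901782, nat_lit 10, nat_lit 745311124],
  [nat_lit 5, nat_lit 99, nat_lit 1, nat_lit 942331225, nat_lit 3, nat_lit 439117364],
  [nat_lit 5, nat_lit 103, nat_lit 1, nat_lit 235018413, nat_lit 3, nat_lit 812270808],
  [nat_lit 5, nat_lit 111, nat_lit 1, nat_lit 841294966, nat_lit 6, nat_lit 544136918],
  [nat_lit 5, nat_lit 124, nat_lit 1, nat_lit 698369303, nat_lit 4, nat_lit 829744424],
  [nat_lit 5, nat_lit 135, nat_lit 1, nat_lit 739155357, nat_lit 8, nat_lit 830752150],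
  [nat_lit 5, nat_lit 141, nat_lit 1, nat_lit 526986876, nat_lit 5, nat_lit 435579172]]
noncomputable def qR5If : ℕ → ℕ := chkD1 (mul3 (nat_lit 248)) qD (fun x => hi (nat_lit 1600) (ce0 x)) qR5w (nat_lit 5) (nat_lit 11)
noncomputable def qR5Of : ℕ → ℕ := chkR (img2 (nat_lit 40) fun s => lo (nat_lit 1600) (qL5P s)) (img2 (nat_lit 40) fun s => lo (nat_lit 1600) (ce0 s)) (brow (nat_lit 40)) Y qR5a (nat_lit 248) qB qR5w (nat_lit 52)
noncomputable def qR6w : List (List ℕ) := [[nat_lit 6, nat_lit 0, nat_lit 1, nat_lit 842467571, nat_lit 3, nat_lit 670318714],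
  [nat_lit 6, nat_lit 1, nat_lit 1, nat_lit 761538952, nat_lit 6, nat_lit 928317564],
  [nat_lit 6, nat_lit 2, nat_lit 1, nat_lit 587516398, nat_lit 5, nat_lit 898173587],
  [nat_lit 6, nat_lit 3, nat_lit 1, nat_lit 607536445, nat_lit 3, nat_lit 490925710],
  [nat_lit 6, nat_lit 4, nat_lit 1, nat_lit 237802900, nat_lit 3, nat_lit 1002490223],
  [nat_lit 6, nat_lit 5, nat_lit 1, nat_lit 595992914, nat_lit 3, nat_lit 88499878],
  [nat_lit 6, nat_lit 6, nat_lit 1, nat_lit 22070956, nat_lit 4, nat_lit 717263302],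
  [nat_lit 6, nat_lit 7, nat_lit 1, nat_lit 778314296, nat_lit 9, nat_lit 231524577],
  [nat_lit 6, nat_lit 8, nat_lit 1, nat_lit 475195854, nat_lit 5, nat_lit 424877810],
  [nat_lit 6, nat_lit 9, nat_lit 1, nat_lit 333633189, nat_lit 6, nat_lit 930385332],
  [nat_lit 6, nat_lit 10, nat_lit 1, nat_lit 1007086622, nat_lit 3, nat_lit 235852156],
  [nat_lit 6, nat_lit 12, nat_lit 1, nat_lit 565091416, nat_lit 3, nat_lit 996730141],
  [nat_lit 6, nat_lit 13, nat_lit 1, nat_lit 187900972, nat_lit 3, nat_lit 877437257],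
  [nat_lit 6, nat_lit 14, nat_lit 1, nat_lit 813078113, nat_lit 6, nat_lit 925772794],
  [nat_lit 6, nat_lit 15, nat_lit 1, nat_lit 51027611, nat_lit 4, nat_lit 702868935],
  [nat_lit 6, nat_lit 16, nat_lit 1, nat_lit 135668962, nat_lit 6, nat_lit 298239208],
  [nat_lit 6, nat_lit 17, nat_lit 1, nat_lit 894573286, nat_lit 3, nat_lit 863136954],
  [nat_lit 6, nat_lit 18, nat_lit 1, nat_lit 503880030, nat_lit 6, nat_lit 486548123],
  [nat_lit 6, nat_lit 19, nat_lit 1, nat_lit 510660077, nat_lit 6, nat_lit 157346444],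
  [nat_lit 6, nat_lit 20, nat_lit 1, nat_lit 613728674, nat_lit 6, nat_lit 964970744],
  [nat_lit 6, nat_lit 21, nat_lit 1, nat_lit 472959118, nat_lit 10, nat_lit 501891888],
  [nat_lit 6, nat_lit 22, nat_lit 1, nat_lit 462180976, nat_lit 5, nat_lit 288039761],
  [nat_lit 6, nat_lit 23, nat_lit 1, nat_lit 890292776, nat_lit 6, nat_lit 648446903],
  [nat_lit 6, nat_lit 24, nat_lit 1, nat_lit 463897157, nat_lit 5, nat_lit 1057934654],
  [nat_lit 6, nat_lit 25, nat_lit 1, nat_lit 510845068, nat_lit 6, nat_lit 488805562],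
  [nat_lit 6, nat_lit 26, nat_lit 1, nat_lit 193205564, nat_lit 6, nat_lit 556323162],
  [nat_lit 6, nat_lit 27, nat_lit 1, nat_lit 818988122, nat_lit 6, nat_lit 967877774],
  [nat_lit 6, nat_lit 28, nat_lit 1, nat_lit 376900776, nat_lit 4, nat_lit 90858601],
  [nat_lit 6, nat_lit 29, nat_lit 1, nat_lit 295714915, nat_lit 6, nat_lit 1052777630],
  [nat_lit 6, nat_lit 64, nat_lit 1, nat_lit 887378487, nat_lit 4, nat_lit 845293271],
  [nat_lit 6, nat_lit 128, nat_lit 1, nat_lit 369508693, nat_lit 3, nat_lit 341126055],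
  [nat_lit 6, nat_lit 160, nat_lit 1, nat_lit 818696791, nat_lit 3, nat_lit 608733616],
  [nat_lit 6, nat_lit 192, nat_lit 1, nat_lit 590399919, nat_lit 6, nat_lit 644145222],
  [nat_lit 6, nat_lit 224, nat_lit 1, nat_lit 326291923, nat_lit 5, nat_lit 26365536],
  [nat_lit 6, nat_lit 33, nat_lit 1, nat_lit 315361426, nat_lit 6, nat_lit 726696822],
  [nat_lit 6, nat_lit 35, nat_lit 1, nat_lit 724459082, nat_lit 6, nat_lit 78518281],
  [nat_lit 6, nat_lit 36, nat_lit 1, nat_lit 644406698, nat_lit 6, nat_lit 585932261],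
  [nat_lit 6, nat_lit 37, nat_lit 1, nat_lit 478178044, nat_lit 5, nat_lit 989994206],
  [nat_lit 6, nat_lit 38, nat_lit 1, nat_lit 590158653, nat_lit 5, nat_lit 610601203],
  [nat_lit 6, nat_lit 39, nat_lit 1, nat_lit 150131220, nat_lit 6, nat_lit 482662042],
  [nat_lit 6, nat_lit 41, nat_lit 1, nat_lit 751866769, nat_lit 6, nat_lit 54532292],
  [nat_lit 6, nat_lit 43, nat_lit 1, nat_lit 457987274, nat_lit 3, nat_lit 393347847],
  [nat_lit 6, nat_lit 44, nat_lit 1, nat_lit 489300836, nat_lit 3, nat_lit 401533524],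
  [nat_lit 6, nat_lit 45, nat_lit 1, nat_lit 554353184, nat_lit 3, nat_lit 212917405],
  [nat_lit 6, nat_lit 46, nat_lit 1, nat_lit 124708028, nat_lit 6, nat_lit 534909234],
  [nat_lit 6, nat_lit 48, nat_lit 1, nat_lit 945179831, nat_lit 3, nat_lit 822222927],
  [nat_lit 6, nat_lit 49, nat_lit 1, nat_lit 525500558, nat_lit 3, nat_lit 665741856],
  [nat_lit 6, nat_lit 50, nat_lit 1, nat_lit 8835442, nat_lit 6, nat_lit 388646523],
  [nat_lit 6, nat_lit 51, nat_lit 1, nat_lit 493671629, nat_lit 5, nat_lit 284590493],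
  [nat_lit 6, nat_lit 52, nat_lit 1, nat_lit 28650388, nat_lit 5, nat_lit 743769309],
  [nat_lit 6, nat_lit 53, nat_lit 1, nat_lit 82521515, nat_lit 8, nat_lit 791063763],
  [nat_lit 6, nat_lit 54, nat_lit 1, nat_lit 908743876, nat_lit 4, nat_lit 880053049],
  [nat_lit 6, nat_lit 55, nat_lit 1, nat_lit 652256413, nat_lit 4, nat_lit 128243308],
  [nat_lit 6, nat_lit 58, nat_lit 1, nat_lit 1020462801, nat_lit 9, nat_lit 840063194],
  [nat_lit 6, nat_lit 60, nat_lit 1, nat_lit 1038542337, nat_lit 5, nat_lit 675603055],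
  [nat_lit 6, nat_lit 62, nat_lit 1, nat_lit 355748646, nat_lit 5, nat_lit 536233479],
  [nat_lit 6, nat_lit 67, nat_lit 1, nat_lit 732972618, nat_lit 5, nat_lit 499296394],
  [nat_lit 6, nat_lit 68, nat_lit 1, nat_lit 539125371, nat_lit 6, nat_lit 972219491],
  [nat_lit 6, nat_lit 69, nat_lit 1, nat_lit 642843599, nat_lit 6, nat_lit 758288556],
  [nat_lit 6, nat_lit 70, nat_lit 1, nat_lit 244747764, nat_lit 6, nat_lit 405344802],
  [nat_lit 6, nat_lit 72, nat_lit 1, nat_lit 867504589, nat_lit 6, nat_lit 732318579],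
  [nat_lit 6, nat_lit 75, nat_lit 1, nat_lit 617016583, nat_lit 5, nat_lit 460114690],
  [nat_lit 6, nat_lit 78, nat_lit 1, nat_lit 567052742, nat_lit 6, nat_lit 79087783],
  [nat_lit 6, nat_lit 82, nat_lit 1, nat_lit 62972717, nat_lit 6, nat_lit 552995538],
  [nat_lit 6, nat_lit 83, nat_lit 1, nat_lit 304093190, nat_lit 3, nat_lit 421566854],
  [nat_lit 6, nat_lit 84, nat_lit 1, nat_lit 1059645124, nat_lit 3, nat_lit 194124491],
  [nat_lit 6, nat_lit 85, nat_lit 1, nat_lit 187623112, nat_lit 6, nat_lit 44637374],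
  [nat_lit 6, nat_lit 87, nat_lit 1, nat_lit 808902307, nat_lit 7, nat_lit 242670721],
  [nat_lit 6, nat_lit 89, nat_lit 1, nat_lit 745408513, nat_lit 6, nat_lit 1060023054],
  [nat_lit 6, nat_lit 92, nat_lit 1, nat_lit 173198494, nat_lit 5, nat_lit 166794021],
  [nat_lit 6, nat_lit 100, nat_lit 1, nat_lit 153921803, nat_lit 3, nat_lit 908494893],
  [nat_lit 6, nat_lit 101, nat_lit 1, nat_lit 935499091, nat_lit 6, nat_lit 837299472],
  [nat_lit 6, nat_lit 103, nat_lit 1, nat_lit 337789496, nat_lit 6, nat_lit 283919054],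
  [nat_lit 6, nat_lit 105, nat_lit 1, nat_lit 621552697, nat_lit 6, nat_lit 866323781],
  [nat_lit 6, nat_lit 107, nat_lit 1, nat_lit 732209326, nat_lit 4, nat_lit 1004979831],
  [nat_lit 6, nat_lit 108, nat_lit 1, nat_lit 886482138, nat_lit 5, nat_lit 881649099],
  [nat_lit 6, nat_lit 114, nat_lit 1, nat_lit 516468455, nat_lit 6, nat_lit 332581358],
  [nat_lit 6, nat_lit 117, nat_lit 1, nat_lit 563382366, nat_lit 6, nat_lit 806495573],
  [nat_lit 6, nat_lit 119, nat_lit 1, nat_lit 125207776, nat_lit 6, nat_lit 577571447],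
  [nat_lit 6, nat_lit 135, nat_lit 1, nat_lit 701393846, nat_lit 6, nat_lit 613548146],
  [nat_lit 6, nat_lit 149, nat_lit 1, nat_lit 747553242, nat_lit 6, nat_lit 422094878],
  [nat_lit 6, nat_lit 156, nat_lit 1, nat_lit 548050010, nat_lit 9, nat_lit 965126875],
  [nat_lit 6, nat_lit 157, nat_lit 1, nat_lit 1049633097, nat_lit 3, nat_lit 414106776],
  [nat_lit 6, nat_lit 183, nat_lit 1, nat_lit 509945333, nat_lit 6, nat_lit 564140823],
  [nat_lit 6, nat_lit 202, nat_lit 1, nat_lit 223497109, nat_lit 5, nat_lit 931864125],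
  [nat_lit 6, nat_lit 247, nat_lit 1, nat_lit 213199156, nat_lit 4, nat_lit 1005488364]]
noncomputable def qR6If : ℕ → ℕ := chkD1 (mul3 (nat_lit 248)) qD (fun x => hi (nat_lit 1600) (ce0 x)) qR6w (nat_lit 6) (nat_lit 11)
noncomputable def qR6Of : ℕ → ℕ := chkR (img2 (nat_lit 40) fun s => lo (nat_lit 1600) (qL6P s)) (img2 (nat_lit 40) fun s => lo (nat_lit 1600) (ce0 s)) (brow (nat_lit 40)) Y qR6a (nat_lit 248) qB qR6w (nat_lit 86)
noncomputable def qR7w : List (List ℕ) := [[nat_lit 7, nat_lit 0, nat_lit 1, nat_lit 418830525, nat_lit 5, nat_lit 836168314],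
  [nat_lit 7, nat_lit 1, nat_lit 1, nat_lit 556795504, nat_lit 6, nat_lit 405974359],
  [nat_lit 7, nat_lit 4, nat_lit 1, nat_lit 618715552, nat_lit 4, nat_lit 365838508],
  [nat_lit 7, nat_lit 6, nat_lit 1, nat_lit 764808464, nat_lit 7, nat_lit 477284604],
  [nat_lit 7, nat_lit 8, nat_lit 1, nat_lit 237815970, nat_lit 4, nat_lit 917642428],
  [nat_lit 7, nat_lit 38, nat_lit 1, nat_lit 518825449, nat_lit 2, nat_lit 111935796]]
noncomputable def qR7If : ℕ → ℕ := chkD1 (mul3 (nat_lit 248)) qD (fun x => hi (nat_lit 1600) (ce0 x)) qR7w (nat_lit 7) (nat_lit 11)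
noncomputable def qR7Of : ℕ → ℕ := chkR (img2 (nat_lit 40) fun s => lo (nat_lit 1600) (qL7P s)) (img2 (nat_lit 40) fun s => lo (nat_lit 1600) (ce0 s)) (brow (nat_lit 40)) Y qR7a (nat_lit 248) qB qR7w (nat_lit 6)
noncomputable def qR8w : List (List ℕ) := [[nat_lit 8, nat_lit 0, nat_lit 1, nat_lit 757917918, nat_lit 6, nat_lit 305565950],
  [nat_lit 8, nat_lit 1, nat_lit 1, nat_lit 238296647, nat_lit 5, nat_lit 673503367],
  [nat_lit 8, nat_lit 3, nat_lit 1, nat_lit 592201372, nat_lit 3, nat_lit 235870776],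
  [nat_lit 8, nat_lit 9, nat_lit 1, nat_lit 939676440, nat_lit 10, nat_lit 831577645]]
noncomputable def qR8If : ℕ → ℕ := chkD1 (mul3 (nat_lit 248)) qD (fun x => hi (nat_lit 1600) (ce0 x)) qR8w (nat_lit 8) (nat_lit 11)
noncomputable def qR8Of : ℕ → ℕ := chkR (img2 (nat_lit 40) fun s => lo (nat_lit 1600) (qL8P s)) (img2 (nat_lit 40) fun s => lo (nat_lit 1600) (ce0 s)) (brow (nat_lit 40)) Y qR8a (nat_lit 248) qB qR8w (nat_lit 4)
noncomputable def qR9w : List (List ℕ) := [[nat_lit 9, nat_lit 0, nat_lit 1, nat_lit 713884936, nat_lit 4, nat_lit 308873874],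
  [nat_lit 9, nat_lit 1, nat_lit 1, nat_lit 1017849966, nat_lit 6, nat_lit 11144594],
  [nat_lit 9, nat_lit 2, nat_lit 1, nat_lit 409274611, nat_lit 6, nat_lit 176870049],
  [nat_lit 9, nat_lit 7, nat_lit 1, nat_lit 1030678700, nat_lit 5, nat_lit 1052828937],
  [nat_lit 9, nat_lit 9, nat_lit 1, nat_lit 613340320, nat_lit 6, nat_lit 579938670],
  [nat_lit 9, nat_lit 21, nat_lit 1, nat_lit 267037230, nat_lit 4, nat_lit 761439515],
  [nat_lit 9, nat_lit 23, nat_lit 1, nat_lit 67506541, nat_lit 4, nat_lit 851758548],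
  [nat_lit 9, nat_lit 25, nat_lit 1, nat_lit 648200736, nat_lit 9, nat_lit 951249977],
  [nat_lit 9, nat_lit 89, nat_lit 1, nat_lit 1021355584, nat_lit 9, nat_lit 1032343129],
  [nat_lit 9, nat_lit 185, nat_lit 1, nat_lit 489182667, nat_lit 2, nat_lit 528558314]]
noncomputable def qR9If : ℕ → ℕ := chkD1 (mul3 (nat_lit 248)) qD (fun x => hi (nat_lit 1600) (ce0 x)) qR9w (nat_lit 9) (nat_lit 11)
noncomputable def qR9Of : ℕ → ℕ := chkR (img2 (nat_lit 40) fun s => lo (nat_lit 1600) (qL9P s)) (img2 (nat_lit 40) fun s => lo (nat_lit 1600) (ce0 s)) (brow (nat_lit 40)) Y qR9a (nat_lit 248) qB qR9w (nat_lit 10)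
noncomputable def qR10w : List (List ℕ) := [[nat_lit 10, nat_lit 0, nat_lit 1, nat_lit 744524981, nat_lit 6, nat_lit 740565525],
  [nat_lit 10, nat_lit 3, nat_lit 1, nat_lit 335809051, nat_lit 8, nat_lit 51127222],
  [nat_lit 10, nat_lit 7, nat_lit 1, nat_lit 227420320, nat_lit 3, nat_lit 873114040],
  [nat_lit 10, nat_lit 32, nat_lit 1, nat_lit 1066721475, nat_lit 5, nat_lit 87462727]]
noncomputable def qR10If : ℕ → ℕ := chkD1 (mul3 (nat_lit 248)) qD (fun x => hi (nat_lit 1600) (ce0 x)) qR10w (nat_lit 10) (nat_lit 11)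
noncomputable def qR10Of : ℕ → ℕ := chkR (img2 (nat_lit 40) fun s => lo (nat_lit 1600) (qL10P s)) (img2 (nat_lit 40) fun s => lo (nat_lit 1600) (ce0 s)) (brow (nat_lit 40)) Y qR10a (nat_lit 248) qB qR10w (nat_lit 4)
noncomputable abbrev qG : Subgroup GA := (Subgroup.map fst H) ⊔ zpowers (mA.elt (qD 1))
noncomputable def qXw : List (List ℕ) := [[nat_lit 8, nat_lit 873370318, nat_lit 8, nat_lit 978611119, nat_lit 6, nat_lit 564582999],
  [nat_lit 10, nat_lit 198646350, nat_lit 10, nat_lit 166762767, nat_lit 3, nat_lit 569450895]]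
noncomputable def qXf : ℕ → ℕ := chkD (mul3 (nat_lit 248)) qD (fun x => hi (nat_lit 1600) (ce0 x)) qXw
noncomputable def qe : ℕ → ℕ := del1 (mul3 (nat_lit 248)) qD (nat_lit 4) (nat_lit 30) (fun x => hi (nat_lit 1600) (ce0 x))
noncomputable abbrev HAg : ℕ → ℕ := fun s => hi (nat_lit 1600) (Hg s)
noncomputable abbrev HA : Subgroup GA := Subgroup.map fst H
noncomputable abbrev XAg : ℕ → ℕ := fun s => hi (nat_lit 1600) (cK1g s)
noncomputable abbrev XA : Subgroup GA := Subgroup.map fst cK1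
noncomputable abbrev Gg : ℕ → ℕ := cons1 (qD 1) HAg
noncomputable def XEf : ℕ → ℕ := fun s => Nat.xor (XAg s) (xP s)
noncomputable def xWf : ℕ → ℕ := chkPl (mul3 (nat_lit 248)) xP [[nat_lit 0, nat_lit 0, nat_lit 0, nat_lit 1, nat_lit 0, nat_lit 0, nat_lit 0],
  [nat_lit 0, nat_lit 0, nat_lit 0, nat_lit 0, nat_lit 1, nat_lit 0, nat_lit 0, nat_lit 1, nat_lit 1, nat_lit 1],
  [nat_lit 3, nat_lit 2, nat_lit 3, nat_lit 3, nat_lit 2, nat_lit 3, nat_lit 3, nat_lit 2, nat_lit 3],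
  [nat_lit 2, nat_lit 2, nat_lit 3, nat_lit 3, nat_lit 3, nat_lit 3, nat_lit 2, nat_lit 2, nat_lit 3],
  [nat_lit 5, nat_lit 5, nat_lit 5, nat_lit 4, nat_lit 5, nat_lit 5, nat_lit 5, nat_lit 4],
  [nat_lit 4, nat_lit 4, nat_lit 5, nat_lit 5, nat_lit 5],
  [nat_lit 6, nat_lit 6, nat_lit 7, nat_lit 6],
  [nat_lit 6, nat_lit 7, nat_lit 6, nat_lit 6]] (nat_lit 2)
noncomputable def x0yYf : ℕ → ℕ := chkY (can3 (nat_lit 248)) (row3 (nat_lit 248)) x0y (nat_lit 240)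
noncomputable def x0ROf : ℕ → ℕ := chkO (img3 (nat_lit 248) (shf xP (nat_lit 0))) (row3 (nat_lit 248)) x0y x0Ra (nat_lit 240) [nat_lit 95]
noncomputable def x0Xf : ℕ → ℕ := chkFx (img3 (nat_lit 248) xP) (row3 (nat_lit 248)) x0y (nat_lit 95) [nat_lit 0, nat_lit 0, nat_lit 0, nat_lit 0, nat_lit 0, nat_lit 0, nat_lit 0, nat_lit 0] (nat_lit 2)
noncomputable abbrev xK1 : Subgroup GA := XA ⊓ MulAction.stabilizer GA (pvA (pt (row3 (nat_lit 248)) x0y (nat_lit 95)))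
noncomputable def x1yYf : ℕ → ℕ := chkY (can3 (nat_lit 248)) (row3 (nat_lit 248)) x1y (nat_lit 224)
noncomputable def x1ROf : ℕ → ℕ := chkO (img3 (nat_lit 248) (shf xP (nat_lit 2))) (row3 (nat_lit 248)) x1y x1Ra (nat_lit 224) [nat_lit 57]
noncomputable def x1Xf : ℕ → ℕ := chkFx (img3 (nat_lit 248) xP) (row3 (nat_lit 248)) x1y (nat_lit 57) [nat_lit 0, nat_lit 0, nat_lit 0, nat_lit 0, nat_lit 0, nat_lit 0] (nat_lit 4)
noncomputable abbrev xK2 : Subgroup GA := xK1 ⊓ MulAction.stabilizer GA (pvA (pt (row3 (nat_lit 248)) x1y (nat_lit 57)))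
noncomputable def x2yYf : ℕ → ℕ := chkY (can3 (nat_lit 248)) (row3 (nat_lit 248)) x2y (nat_lit 48)
noncomputable def x2ROf : ℕ → ℕ := chkO (img3 (nat_lit 248) (shf xP (nat_lit 4))) (row3 (nat_lit 248)) x2y x2Ra (nat_lit 48) [nat_lit 36]
noncomputable def x2Xf : ℕ → ℕ := chkFx (img3 (nat_lit 248) xP) (row3 (nat_lit 248)) x2y (nat_lit 36) [nat_lit 0, nat_lit 0, nat_lit 0, nat_lit 0] (nat_lit 6)
noncomputable abbrev xK3 : Subgroup GA := xK2 ⊓ MulAction.stabilizer GA (pvA (pt (row3 (nat_lit 248)) x2y (nat_lit 36)))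
noncomputable def x3yYf : ℕ → ℕ := chkY (can3 (nat_lit 248)) (row3 (nat_lit 248)) x3y (nat_lit 2)
noncomputable def x3ROf : ℕ → ℕ := chkO (img3 (nat_lit 248) (shf xP (nat_lit 6))) (row3 (nat_lit 248)) x3y x3Ra (nat_lit 2) [nat_lit 0]
noncomputable def x3Xf : ℕ → ℕ := chkFx (img3 (nat_lit 248) xP) (row3 (nat_lit 248)) x3y (nat_lit 0) [nat_lit 0, nat_lit 0] (nat_lit 8)
noncomputable abbrev xK4 : Subgroup GA := xK3 ⊓ MulAction.stabilizer GA (pvA (pt (row3 (nat_lit 248)) x3y (nat_lit 0)))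
noncomputable def x4yYf : ℕ → ℕ := chkY (can3 (nat_lit 248)) (row3 (nat_lit 248)) x4y (nat_lit 2)
noncomputable def x4ROf : ℕ → ℕ := chkO (img3 (nat_lit 248) (shf xP (nat_lit 8))) (row3 (nat_lit 248)) x4y x4Ra (nat_lit 2) [nat_lit 0]
noncomputable def x4Xf : ℕ → ℕ := chkFx (img3 (nat_lit 248) xP) (row3 (nat_lit 248)) x4y (nat_lit 0) [] (nat_lit 10)
noncomputable abbrev xK5 : Subgroup GA := xK4 ⊓ MulAction.stabilizer GA (pvA (pt (row3 (nat_lit 248)) x4y (nat_lit 0)))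
noncomputable abbrev P3 : Subgroup GA := mA.gn P3g 10
noncomputable def P3IEf : ℕ → ℕ := chkE P3g qe [nat_lit 2425909897993575683, nat_lit 14592670323947775381, nat_lit 6452731644022719235, nat_lit 5874025194586432053, nat_lit 5091472180536187398, nat_lit 7590871972293921347, nat_lit 11912031487222102259, nat_lit 6101431192304538405, nat_lit 4684735222861447110, nat_lit 5886877064774476694]
noncomputable def P3w : List (List ℕ) := [[],
  [],
  [],
  [],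
  [],
  [],
  [],
  [],
  [],
  [],
  [nat_lit 0],
  [],
  [],
  [],
  [],
  [],
  [],
  [],
  [],
  [],
  [nat_lit 0],
  [nat_lit 1],
  [],
  [],
  [],
  [],
  [],
  [],
  [],
  [],
  [nat_lit 0],
  [nat_lit 1],
  [nat_lit 2],
  [],
  [],
  [],
  [],
  [],
  [],
  [],
  [nat_lit 0],
  [nat_lit 1],
  [nat_lit 2],
  [nat_lit 3, nat_lit 0, nat_lit 0],
  [],
  [],
  [],
  [],
  [],
  [],
  [nat_lit 0],
  [nat_lit 1],
  [nat_lit 2],
  [nat_lit 3],
  [nat_lit 4, nat_lit 1, nat_lit 1, nat_lit 0],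
  [],
  [],
  [],
  [],
  [],
  [nat_lit 0],
  [nat_lit 1],
  [nat_lit 2, nat_lit 0, nat_lit 0],
  [nat_lit 3, nat_lit 1, nat_lit 1, nat_lit 0, nat_lit 0],
  [nat_lit 4, nat_lit 2, nat_lit 2, nat_lit 1, nat_lit 0, nat_lit 0],
  [nat_lit 5, nat_lit 0],
  [],
  [],
  [],
  [],
  [nat_lit 0],
  [nat_lit 1],
  [nat_lit 2],
  [nat_lit 3, nat_lit 0],
  [nat_lit 4, nat_lit 2, nat_lit 1, nat_lit 1, nat_lit 0, nat_lit 0],
  [nat_lit 5, nat_lit 1, nat_lit 1],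
  [nat_lit 6, nat_lit 3, nat_lit 1],
  [],
  [],
  [],
  [nat_lit 0],
  [nat_lit 1, nat_lit 0],
  [nat_lit 2],
  [nat_lit 3, nat_lit 2, nat_lit 2],
  [nat_lit 4, nat_lit 2, nat_lit 2, nat_lit 1, nat_lit 1, nat_lit 0, nat_lit 0],
  [nat_lit 5, nat_lit 3, nat_lit 3, nat_lit 2],
  [nat_lit 6, nat_lit 4, nat_lit 4, nat_lit 2, nat_lit 2, nat_lit 1, nat_lit 0, nat_lit 0],
  [nat_lit 7, nat_lit 3, nat_lit 3, nat_lit 2, nat_lit 1, nat_lit 0, nat_lit 0],
  [],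
  [],
  [nat_lit 0],
  [nat_lit 1],
  [nat_lit 2, nat_lit 1],
  [nat_lit 3, nat_lit 0],
  [nat_lit 4, nat_lit 3, nat_lit 3, nat_lit 0, nat_lit 0],
  [nat_lit 5, nat_lit 1, nat_lit 0],
  [nat_lit 6, nat_lit 5, nat_lit 5, nat_lit 0],
  [nat_lit 7, nat_lit 5, nat_lit 5, nat_lit 3, nat_lit 3, nat_lit 2, nat_lit 1, nat_lit 1],
  [nat_lit 8, nat_lit 6, nat_lit 4, nat_lit 2, nat_lit 2, nat_lit 1, nat_lit 0, nat_lit 0],
  []]
noncomputable def P3Cf : ℕ → ℕ := chkPC (mul3 (nat_lit 248)) (one2 (nat_lit 248)) P3g P3w (nat_lit 10) (nat_lit 9)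
noncomputable abbrev P3h : Subgroup GA := mA.gn P3g 5
noncomputable def P3kEf : ℕ → ℕ := fun s => Nat.xor (P3g s) (P3k s)
noncomputable def Z1Yf : ℕ → ℕ := chkY (can3 (nat_lit 248)) (row3 (nat_lit 248)) Z1 (nat_lit 243)
noncomputable def Z1ROf : ℕ → ℕ := chkO (img3 (nat_lit 248) P3g) (row3 (nat_lit 248)) Z1 Z1Ra (nat_lit 243) [nat_lit 175]
noncomputable def Z1Ff : ℕ → ℕ := chkF (img3 (nat_lit 248) P3g) (row3 (nat_lit 248)) Z1 (nat_lit 175) []
noncomputable def Z2Yf : ℕ → ℕ := chkY (can3 (nat_lit 248)) (row3 (nat_lit 248)) Z2 (nat_lit 243)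
noncomputable def Z2ROf : ℕ → ℕ := chkO (img3 (nat_lit 248) P3k) (row3 (nat_lit 248)) Z2 Z2Ra (nat_lit 243) [nat_lit 0]
noncomputable abbrev P5 : Subgroup GA := mA.gn P5g 3
noncomputable def P5IEf : ℕ → ℕ := chkE P5g qe [nat_lit 6632703296371873793, nat_lit 16837272806015487097, nat_lit 7043988208718289337]
noncomputable def P5w : List (List ℕ) := [[],
  [],
  [],
  [nat_lit 0],
  [],
  [],
  [nat_lit 0],
  [nat_lit 0, nat_lit 1],
  []]
noncomputable def P5Cf : ℕ → ℕ := chkPC (mul3 (nat_lit 248)) (one2 (nat_lit 248)) P5g P5w (nat_lit 3) (nat_lit 5)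
noncomputable def P5ZYf : ℕ → ℕ := chkY (can3 (nat_lit 248)) (row3 (nat_lit 248)) P5Z (nat_lit 125)
noncomputable def P5ROf : ℕ → ℕ := chkO (img3 (nat_lit 248) P5g) (row3 (nat_lit 248)) P5Z P5Ra (nat_lit 125) [nat_lit 0]
noncomputable abbrev P7 : Subgroup GA := mA.gn P7g 2
noncomputable def P7IEf : ℕ → ℕ := chkE P7g qe [nat_lit 2166821863476044289, nat_lit 10815575611665360551]
noncomputable def P7w : List (List ℕ) := [[],
  [],
  [nat_lit 0],
  []]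
noncomputable def P7Cf : ℕ → ℕ := chkPC (mul3 (nat_lit 248)) (one2 (nat_lit 248)) P7g P7w (nat_lit 2) (nat_lit 7)
noncomputable def P7ZYf : ℕ → ℕ := chkY (can3 (nat_lit 248)) (row3 (nat_lit 248)) P7Z (nat_lit 49)
noncomputable def P7ROf : ℕ → ℕ := chkO (img3 (nat_lit 248) P7g) (row3 (nat_lit 248)) P7Z P7Ra (nat_lit 49) [nat_lit 0]
noncomputable def GPf : ℕ → ℕ := chkPW (mul3 (nat_lit 248)) (one2 (nat_lit 248)) Gg [[nat_lit 0, nat_lit 1, nat_lit 1, nat_lit 1, nat_lit 2, nat_lit 1, nat_lit 0, nat_lit 0, nat_lit 2, nat_lit 0, nat_lit 2],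
  [nat_lit 1, nat_lit 2, nat_lit 0, nat_lit 1, nat_lit 2, nat_lit 0],
  [nat_lit 1, nat_lit 1, nat_lit 1, nat_lit 0, nat_lit 1, nat_lit 2, nat_lit 1, nat_lit 2, nat_lit 0, nat_lit 0]] Gg GPy (nat_lit 19)

end Cfsg.Agent.H4.Th
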