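import Cfsg.Agent.H4.T1C0
import Cfsg.Agent.H4.T1C1
import Cfsg.Agent.H4.T1C2

set_option autoImplicit false
set_option maxRecDepth 100000

namespace Cfsg.Agent.H4.Th

open Subgroup Cfsg.Agent.H5 Cfsg.Agent.H5.Mdl 

attribute [local irreducible] look Tr.get

theorem HgI : ∀ i < 2, (chkI (mul3 (nat_lit 248)) (one2 (nat_lit 248)) (fun s => hi (nat_lit 1600) (Hg s)) Hgi) i = 0 :=
  (rng_step (all0 _) HgI_0)
theorem HgJ : ∀ i < 2, (chkI (mul2 (nat_lit 40)) (one2 (nat_lit 40)) (fun s => lo (nat_lit 1600) (Hg s)) Hgj) i = 0 :=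
  (rng_step (all0 _) HgJ_0)
theorem H_top : ∀ s < 2, mP.In ⊤ (Hg s) :=
  fun s hs => in_pair (in_of_chkI mA (fun _ => rfl) HgI s hs) (in_of_chkI mB (fun _ => rfl) HgJ s hs)
theorem H_in : ∀ s < 2, mP.In H (Hg s) :=
  in_gn H_top
theorem H_eg : mP.El H Hg :=
  el_gn H_top
theorem c0S : ∀ i < 31, (chkS2 (pmul (mul3 (nat_lit 248)) (mul2 (nat_lit 40)) (nat_lit 1600)) Hg (nat_lit 2) cT0 ce1 c0c (nat_lit 5) (nat_lit 31)) i = 0 :=
  (rng_step (rng_step (rng_step (rng_step (rng_step (rng_step (rng_step (rng_step (rng_step (rng_step (rng_step (rng_step (all0 _) c0S_0) c0S_1) c0S_2) c0S_3) c0S_4) c0S_5) c0S_6) c0S_7) c0S_8) c0S_9) c0S_10) c0S_11)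
theorem c0elT : mP.El H cT0 :=
  el_of_pad (inT_of_chkS2 (m := mP) c0T0 (by decide) H_in c0S)
theorem c0G : ∀ i < 2, (chkG (pmul (mul3 (nat_lit 248)) (mul2 (nat_lit 40)) (nat_lit 1600)) Hg cT0 cK1g [[nat_lit 1, nat_lit 16, nat_lit 0, nat_lit 1],
  [nat_lit 2, nat_lit 30, nat_lit 0, nat_lit 1]]) i = 0 :=
  (rng_step (all0 _) c0G_0)
theorem c0inG : ∀ s < 2, mP.In H (cK1g s) :=
  in_of_chkG H_eg c0elT c0G
theorem cK1_top : ∀ s < 2, mP.In ⊤ (cK1g s) :=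
  fun s hs => (c0inG s hs).top
theorem cK1_in : ∀ s < 2, mP.In cK1 (cK1g s) :=
  in_gn cK1_top
theorem cK1_eg : mP.El cK1 cK1g :=
  el_gn cK1_top
theorem c0le : cK1 ≤ H :=
  gn_le c0inG
theorem c1S : ∀ i < 8, (chkS2 (pmul (mul3 (nat_lit 248)) (mul2 (nat_lit 40)) (nat_lit 1600)) cK1g (nat_lit 2) cT1 ce2 c1c (nat_lit 3) (nat_lit 8)) i = 0 :=
  (rng_step (rng_step (rng_step (all0 _) c1S_0) c1S_1) c1S_2)
theorem c1elT : mP.El cK1 cT1 :=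
  el_of_pad (inT_of_chkS2 (m := mP) c1T0 (by decide) cK1_in c1S)
theorem c1G : ∀ i < 2, (chkG (pmul (mul3 (nat_lit 248)) (mul2 (nat_lit 40)) (nat_lit 1600)) cK1g cT1 cK2g [[nat_lit 7, nat_lit 7, nat_lit 0, nat_lit 0],
  [nat_lit 0, nat_lit 3, nat_lit 1, nat_lit 1, nat_lit 1]]) i = 0 :=
  (rng_step (all0 _) c1G_0)
theorem c1inG : ∀ s < 2, mP.In cK1 (cK2g s) :=
  in_of_chkG cK1_eg c1elT c1G
theorem cK2_top : ∀ s < 2, mP.In ⊤ (cK2g s) :=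
  fun s hs => (c1inG s hs).top
theorem cK2_in : ∀ s < 2, mP.In cK2 (cK2g s) :=
  in_gn cK2_top
theorem cK2_eg : mP.El cK2 cK2g :=
  el_gn cK2_top
theorem c1le : cK2 ≤ cK1 :=
  gn_le c1inG
theorem c2S : ∀ i < 7, (chkS2 (pmul (mul3 (nat_lit 248)) (mul2 (nat_lit 40)) (nat_lit 1600)) cK2g (nat_lit 2) cT2 ce3 c2c (nat_lit 3) (nat_lit 7)) i = 0 :=
  (rng_step (rng_step (all0 _) c2S_0) c2S_1)
theorem c2elT : mP.El cK2 cT2 :=
  el_of_pad (inT_of_chkS2 (m := mP) c2T0 (by decide) cK2_in c2S)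
theorem c2G : ∀ i < 2, (chkG (pmul (mul3 (nat_lit 248)) (mul2 (nat_lit 40)) (nat_lit 1600)) cK2g cT2 cK3g [[nat_lit 0, nat_lit 6, nat_lit 1, nat_lit 0, nat_lit 0],
  [nat_lit 5, nat_lit 0, nat_lit 1, nat_lit 1, nat_lit 1]]) i = 0 :=
  (rng_step (all0 _) c2G_0)
theorem c2inG : ∀ s < 2, mP.In cK2 (cK3g s) :=
  in_of_chkG cK2_eg c2elT c2G
theorem cK3_top : ∀ s < 2, mP.In ⊤ (cK3g s) :=
  fun s hs => (c2inG s hs).top
theorem cK3_in : ∀ s < 2, mP.In cK3 (cK3g s) :=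
  in_gn cK3_top
theorem cK3_eg : mP.El cK3 cK3g :=
  el_gn cK3_top
theorem c2le : cK3 ≤ cK2 :=
  gn_le c2inG
theorem c3S : ∀ i < 6, (chkS2 (pmul (mul3 (nat_lit 248)) (mul2 (nat_lit 40)) (nat_lit 1600)) cK3g (nat_lit 2) cT3 ce4 c3c (nat_lit 3) (nat_lit 6)) i = 0 :=
  (rng_step (rng_step (all0 _) c3S_0) c3S_1)
theorem c3elT : mP.El cK3 cT3 :=
  el_of_pad (inT_of_chkS2 (m := mP) c3T0 (by decide) cK3_in c3S)
theorem c3G : ∀ i < 3, (chkG (pmul (mul3 (nat_lit 248)) (mul2 (nat_lit 40)) (nat_lit 1600)) cK3g cT3 cK4g [[nat_lit 1, nat_lit 0, nat_lit 1, nat_lit 0, nat_lit 1],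
  [nat_lit 0, nat_lit 4, nat_lit 1, nat_lit 1],
  [nat_lit 0, nat_lit 3, nat_lit 0]]) i = 0 :=
  (rng_step (all0 _) c3G_0)
theorem c3inG : ∀ s < 3, mP.In cK3 (cK4g s) :=
  in_of_chkG cK3_eg c3elT c3G
theorem cK4_top : ∀ s < 3, mP.In ⊤ (cK4g s) :=
  fun s hs => (c3inG s hs).top
theorem cK4_in : ∀ s < 3, mP.In cK4 (cK4g s) :=
  in_gn cK4_top
theorem cK4_eg : mP.El cK4 cK4g :=
  el_gn cK4_top
theorem c3le : cK4 ≤ cK3 :=
  gn_le c3inG
theorem c4S : ∀ i < 5, (chkS2 (pmul (mul3 (nat_lit 248)) (mul2 (nat_lit 40)) (nat_lit 1600)) cK4g (nat_lit 3) cT4 ce5 c4c (nat_lit 3) (nat_lit 5)) i = 0 :=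
  (rng_step (rng_step (all0 _) c4S_0) c4S_1)
theorem c4elT : mP.El cK4 cT4 :=
  el_of_pad (inT_of_chkS2 (m := mP) c4T0 (by decide) cK4_in c4S)
theorem c4G : ∀ i < 4, (chkG (pmul (mul3 (nat_lit 248)) (mul2 (nat_lit 40)) (nat_lit 1600)) cK4g cT4 cK5g [[nat_lit 1, nat_lit 4, nat_lit 1, nat_lit 1],
  [nat_lit 0, nat_lit 0, nat_lit 0, nat_lit 2],
  [nat_lit 3, nat_lit 3, nat_lit 2],
  [nat_lit 1, nat_lit 1, nat_lit 2, nat_lit 1, nat_lit 0]]) i = 0 :=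
  (rng_step (all0 _) c4G_0)
theorem c4inG : ∀ s < 4, mP.In cK4 (cK5g s) :=
  in_of_chkG cK4_eg c4elT c4G
theorem cK5_top : ∀ s < 4, mP.In ⊤ (cK5g s) :=
  fun s hs => (c4inG s hs).top
theorem cK5_in : ∀ s < 4, mP.In cK5 (cK5g s) :=
  in_gn cK5_top
theorem cK5_eg : mP.El cK5 cK5g :=
  el_gn cK5_top
theorem c4le : cK5 ≤ cK4 :=
  gn_le c4inG
theorem c5S : ∀ i < 4, (chkS2 (pmul (mul3 (nat_lit 248)) (mul2 (nat_lit 40)) (nat_lit 1600)) cK5g (nat_lit 4) cT5 ce6 c5c (nat_lit 2) (nat_lit 4)) i = 0 :=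
  (rng_step (rng_step (all0 _) c5S_0) c5S_1)
theorem c5elT : mP.El cK5 cT5 :=
  el_of_pad (inT_of_chkS2 (m := mP) c5T0 (by decide) cK5_in c5S)
theorem c5G : ∀ i < 5, (chkG (pmul (mul3 (nat_lit 248)) (mul2 (nat_lit 40)) (nat_lit 1600)) cK5g cT5 cK6g [[nat_lit 2, nat_lit 3, nat_lit 1, nat_lit 3],
  [nat_lit 3, nat_lit 3, nat_lit 1, nat_lit 3, nat_lit 0],
  [nat_lit 0, nat_lit 1, nat_lit 0, nat_lit 3],
  [nat_lit 0, nat_lit 2, nat_lit 1, nat_lit 2],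
  [nat_lit 2, nat_lit 2, nat_lit 1, nat_lit 0, nat_lit 1]]) i = 0 :=
  (rng_step (all0 _) c5G_0)
theorem c5inG : ∀ s < 5, mP.In cK5 (cK6g s) :=
  in_of_chkG cK5_eg c5elT c5G
theorem cK6_top : ∀ s < 5, mP.In ⊤ (cK6g s) :=
  fun s hs => (c5inG s hs).top
theorem cK6_in : ∀ s < 5, mP.In cK6 (cK6g s) :=
  in_gn cK6_top
theorem cK6_eg : mP.El cK6 cK6g :=
  el_gn cK6_top
theorem c5le : cK6 ≤ cK5 :=
  gn_le c5inG
theorem c6S : ∀ i < 3, (chkS2 (pmul (mul3 (nat_lit 248)) (mul2 (nat_lit 40)) (nat_lit 1600)) cK6g (nat_lit 5) cT6 ce7 c6c (nat_lit 2) (nat_lit 3)) i = 0 :=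
  (rng_step (rng_step (all0 _) c6S_0) c6S_1)
theorem c6elT : mP.El cK6 cT6 :=
  el_of_pad (inT_of_chkS2 (m := mP) c6T0 (by decide) cK6_in c6S)
theorem c6G : ∀ i < 8, (chkG (pmul (mul3 (nat_lit 248)) (mul2 (nat_lit 40)) (nat_lit 1600)) cK6g cT6 cK7g [[nat_lit 2, nat_lit 2, nat_lit 1, nat_lit 1, nat_lit 3],
  [nat_lit 0, nat_lit 2, nat_lit 3, nat_lit 4, nat_lit 2],
  [nat_lit 1, nat_lit 0, nat_lit 3],
  [nat_lit 2, nat_lit 0, nat_lit 1, nat_lit 4],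
  [nat_lit 1, nat_lit 1, nat_lit 4, nat_lit 1, nat_lit 1],
  [nat_lit 2, nat_lit 1, nat_lit 3],
  [nat_lit 1, nat_lit 0, nat_lit 1, nat_lit 2, nat_lit 1],
  [nat_lit 1, nat_lit 2, nat_lit 0, nat_lit 0]]) i = 0 :=
  (rng_step (all0 _) c6G_0)
theorem c6inG : ∀ s < 8, mP.In cK6 (cK7g s) :=
  in_of_chkG cK6_eg c6elT c6G
theorem cK7_top : ∀ s < 8, mP.In ⊤ (cK7g s) :=
  fun s hs => (c6inG s hs).top
theorem cK7_in : ∀ s < 8, mP.In cK7 (cK7g s) :=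
  in_gn cK7_top
theorem cK7_eg : mP.El cK7 cK7g :=
  el_gn cK7_top
theorem c6le : cK7 ≤ cK6 :=
  gn_le c6inG
theorem c7S : ∀ i < 16, (chkS2 (pmul (mul3 (nat_lit 248)) (mul2 (nat_lit 40)) (nat_lit 1600)) cK7g (nat_lit 8) cT7 ce8 c7c (nat_lit 4) (nat_lit 16)) i = 0 :=
  (rng_step (rng_step (rng_step (rng_step (rng_step (rng_step (rng_step (rng_step (rng_step (rng_step (rng_step (rng_step (all0 _) c7S_0) c7S_1) c7S_2) c7S_3) c7S_4) c7S_5) c7S_6) c7S_7) c7S_8) c7S_9) c7S_10) c7S_11)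
theorem c7elT : mP.El cK7 cT7 :=
  el_of_pad (inT_of_chkS2 (m := mP) c7T0 (by decide) cK7_in c7S)
theorem c7G : ∀ i < 5, (chkG (pmul (mul3 (nat_lit 248)) (mul2 (nat_lit 40)) (nat_lit 1600)) cK7g cT7 cK8g [[nat_lit 2, nat_lit 4, nat_lit 7],
  [nat_lit 12, nat_lit 7, nat_lit 2, nat_lit 1, nat_lit 2],
  [nat_lit 0, nat_lit 5, nat_lit 6, nat_lit 0, nat_lit 5],
  [nat_lit 2, nat_lit 5, nat_lit 5],
  [nat_lit 4, nat_lit 9, nat_lit 1, nat_lit 4]]) i = 0 :=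
  (rng_step (all0 _) c7G_0)
theorem c7inG : ∀ s < 5, mP.In cK7 (cK8g s) :=
  in_of_chkG cK7_eg c7elT c7G
theorem cK8_top : ∀ s < 5, mP.In ⊤ (cK8g s) :=
  fun s hs => (c7inG s hs).top
theorem cK8_in : ∀ s < 5, mP.In cK8 (cK8g s) :=
  in_gn cK8_top
theorem cK8_eg : mP.El cK8 cK8g :=
  el_gn cK8_top
theorem c7le : cK8 ≤ cK7 :=
  gn_le c7inG
theorem c8S : ∀ i < 32, (chkS2 (pmul (mul3 (nat_lit 248)) (mul2 (nat_lit 40)) (nat_lit 1600)) cK8g (nat_lit 5) cT8 (fun _ => (join (nat_lit 1600) (one2 (nat_lit 40)) (one2 (nat_lit 248)))) c8c (nat_lit 5) (nat_lit 32)) i = 0 :=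
  (rng_step (rng_step (rng_step (rng_step (rng_step (rng_step (rng_step (all0 _) c8S_0) c8S_1) c8S_2) c8S_3) c8S_4) c8S_5) c8S_6)
theorem c8elT : mP.El cK8 cT8 :=
  el_of_pad (inT_of_chkS2 (m := mP) c8T0 (by decide) cK8_in c8S)
theorem c8le : (⊥ : Subgroup (GA × GB)) ≤ cK8 :=
  bot_le
theorem c8ub : Nat.card cK8 ≤ 32 :=
  (ub_of_chkS2 (m := mP) (el_one (m := mP) ⊥) (by decide) c8T0 c8S card_bot_le).trans (by norm_num)
theorem c8el : mP.El cK8 ce8 :=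
  el_cel1 c8elT ((el_one (m := mP) ⊥).mono c8le) _
theorem c7ub : Nat.card cK7 ≤ 512 :=
  (ub_of_chkS2 (m := mP) c8el (by decide) c7T0 c7S c8ub).trans (by norm_num)
theorem c7el : mP.El cK7 ce7 :=
  el_cel1 c7elT (c8el.mono c7le) _
theorem c6ub : Nat.card cK6 ≤ 1536 :=
  (ub_of_chkS2 (m := mP) c7el (by decide) c6T0 c6S c7ub).trans (by norm_num)
theorem c6el : mP.El cK6 ce6 :=
  el_cel1 c6elT (c7el.mono c6le) _
theorem c5ub : Nat.card cK5 ≤ 6144 :=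
  (ub_of_chkS2 (m := mP) c6el (by decide) c5T0 c5S c6ub).trans (by norm_num)
theorem c5el : mP.El cK5 ce5 :=
  el_cel1 c5elT (c6el.mono c5le) _
theorem c4ub : Nat.card cK4 ≤ 30720 :=
  (ub_of_chkS2 (m := mP) c5el (by decide) c4T0 c4S c5ub).trans (by norm_num)
theorem c4el : mP.El cK4 ce4 :=
  el_cel1 c4elT (c5el.mono c4le) _
theorem c3ub : Nat.card cK3 ≤ 184320 :=
  (ub_of_chkS2 (m := mP) c4el (by decide) c3T0 c3S c4ub).trans (by norm_num)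
theorem c3el : mP.El cK3 ce3 :=
  el_cel1 c3elT (c4el.mono c3le) _
theorem c2ub : Nat.card cK2 ≤ 1290240 :=
  (ub_of_chkS2 (m := mP) c3el (by decide) c2T0 c2S c3ub).trans (by norm_num)
theorem c2el : mP.El cK2 ce2 :=
  el_cel1 c2elT (c3el.mono c2le) _
theorem c1ub : Nat.card cK1 ≤ 10321920 :=
  (ub_of_chkS2 (m := mP) c2el (by decide) c1T0 c1S c2ub).trans (by norm_num)
theorem c1el : mP.El cK1 ce1 :=
  el_cel1 c1elT (c2el.mono c1le) _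
theorem c0ub : Nat.card H ≤ 319979520 :=
  (ub_of_chkS2 (m := mP) c1el (by decide) c0T0 c0S c1ub).trans (by norm_num)
theorem c0el : mP.El H ce0 :=
  el_cel1 c0elT (c1el.mono c0le) _
theorem YY : ∀ i < 248, (chkY can0 (brow (nat_lit 40)) Y (nat_lit 248)) i = 0 :=
  allB (rngB_step (allB0 _ _) YY_0) (by decide)
theorem YD : Dist (fun i => pvB (pt (brow (nat_lit 40)) Y i)) 248 :=
  dist_of_chk (canT2 ψB) YY
theorem qDI : ∀ i < 11, (chkI (mul3 (nat_lit 248)) (one2 (nat_lit 248)) qD qDi) i = 0 :=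
  (rng_step (all0 _) qDI_0)
theorem qelD : mA.El ⊤ qD :=
  el_of_pad (in_of_chkI mA (fun _ => rfl) qDI)
theorem qd0 : (mA.elt (qD 0)) = 1 :=
  elt_of_eq_one qD0
theorem qtinv : (mA.elt (qD 1))⁻¹ = (mA.elt (qD 1)) :=
  elt_inv_eq (qelD 1) (qelD 1) qtt
theorem qRHO : ∀ i < 248, (chkO (img2 (nat_lit 40) fun s => lo (nat_lit 1600) (Hg s)) (brow (nat_lit 40)) Y qRHa (nat_lit 248) [nat_lit 174]) i = 0 :=
  allB (rngB_step (allB0 _ _) qRHO_0) (by decide)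
theorem qRH : Reach H (fun i => pvB (pt (brow (nat_lit 40)) Y i)) 248 [nat_lit 174] :=
  reach_of_chk ((acts2 (m := mP) ψB hPB Hg).ex H_eg) qRHO
theorem qL1E : ∀ i < 2, (chkE qL1P ce0 [nat_lit 78434304, nat_lit 1009790464]) i = 0 :=
  (rng_step (all0 _) qL1E_0)
theorem qL1C : ∀ i < 2, (chkL (mul3 (nat_lit 248)) (qD 1) (fun s => hi (nat_lit 1600) (qL1P s)) (fun x => hi (nat_lit 1600) (ce0 x)) [nat_lit 323259392, nat_lit 681836800]) i = 0 :=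
  (rng_step (all0 _) qL1C_0)
theorem qL1in0 : ∀ u < 2, mP.In qL1 (qL1P u) :=
  in_Lf pf c0el (qelD 1) (in_of_chkE c0el qL1E) qL1C
theorem qL1W : ∀ i < 21, (chkPl (pmul (mul3 (nat_lit 248)) (mul2 (nat_lit 40)) (nat_lit 1600)) qL1P [[nat_lit 1, nat_lit 1, nat_lit 1, nat_lit 1, nat_lit 0, nat_lit 1, nat_lit 0, nat_lit 1, nat_lit 1, nat_lit 0, nat_lit 1],
  [nat_lit 1, nat_lit 1, nat_lit 0, nat_lit 0, nat_lit 0, nat_lit 1, nat_lit 0, nat_lit 1, nat_lit 0, nat_lit 1, nat_lit 0],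
  [nat_lit 2, nat_lit 3, nat_lit 2, nat_lit 3, nat_lit 3, nat_lit 3, nat_lit 3, nat_lit 2],
  [nat_lit 2, nat_lit 3, nat_lit 3, nat_lit 2, nat_lit 3, nat_lit 2, nat_lit 3, nat_lit 3, nat_lit 2, nat_lit 2],
  [nat_lit 3, nat_lit 2, nat_lit 3, nat_lit 2, nat_lit 3, nat_lit 2],
  [nat_lit 4, nat_lit 4, nat_lit 6, nat_lit 4],
  [nat_lit 5],
  [nat_lit 4, nat_lit 4, nat_lit 5, nat_lit 4],
  [nat_lit 4, nat_lit 4, nat_lit 4],
  [nat_lit 4, nat_lit 4, nat_lit 4, nat_lit 5, nat_lit 4, nat_lit 4, nat_lit 6, nat_lit 4],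
  [nat_lit 9, nat_lit 9, nat_lit 11, nat_lit 9, nat_lit 10],
  [nat_lit 9, nat_lit 10, nat_lit 9, nat_lit 9, nat_lit 7],
  [nat_lit 8, nat_lit 10, nat_lit 9],
  [nat_lit 9, nat_lit 9, nat_lit 7],
  [nat_lit 15, nat_lit 14],
  [nat_lit 12, nat_lit 12, nat_lit 15, nat_lit 12, nat_lit 12],
  [nat_lit 12, nat_lit 12, nat_lit 15, nat_lit 12, nat_lit 13],
  [nat_lit 17, nat_lit 17, nat_lit 18, nat_lit 17],
  [nat_lit 17, nat_lit 17, nat_lit 17, nat_lit 17, nat_lit 16],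
  [nat_lit 19, nat_lit 20, nat_lit 19],
  [nat_lit 19, nat_lit 20, nat_lit 19]] (nat_lit 2)) i = 0 :=
  (rng_step (rng_step (rng_step (rng_step (all0 _) qL1W_0) qL1W_1) qL1W_2) qL1W_3)
theorem qL1el : mP.El qL1 qL1P :=
  el_of_pad (in_pool qL1in0 qL1W)
theorem qL1s0 : Suf mP qL1 qL1P 0 :=
  suf0 qL1el
theorem qL10yY : ∀ i < 1, (chkY can0 (brow (nat_lit 40)) qL10y (nat_lit 1)) i = 0 :=
  allB (rngB_step (allB0 _ _) qL10yY_0) (by decide)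
theorem qL10yD : Dist (fun i => pvB (pt (brow (nat_lit 40)) qL10y i)) 1 :=
  dist_of_chk (canT2 ψB) qL10yY
theorem qL10RO : ∀ i < 1, (chkO (img2 (nat_lit 40) fun s => lo (nat_lit 1600) ((shf qL1P (nat_lit 0)) s)) (brow (nat_lit 40)) qL10y qL10Ra (nat_lit 1) [nat_lit 0]) i = 0 :=
  allB (rngB_step (allB0 _ _) qL10RO_0) (by decide)
theorem qL10R : Reach qL1 (fun i => pvB (pt (brow (nat_lit 40)) qL10y i)) 1 [nat_lit 0] :=
  reach_of_chk ((acts2 (m := mP) ψB hPB (shf qL1P (nat_lit 0))).ex qL1s0.el) qL10RO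
theorem qL10X : ∀ i < 23, (chkFx (img2 (nat_lit 40) fun s => lo (nat_lit 1600) (qL1P s)) (brow (nat_lit 40)) qL10y (nat_lit 0) [nat_lit 0, nat_lit 0, nat_lit 0, nat_lit 0, nat_lit 0, nat_lit 0, nat_lit 0, nat_lit 0, nat_lit 0, nat_lit 0, nat_lit 0, nat_lit 0, nat_lit 0, nat_lit 0, nat_lit 0, nat_lit 0, nat_lit 0, nat_lit 0, nat_lit 0, nat_lit 0, nat_lit 0, nat_lit 0, nat_lit 0] (nat_lit 0)) i = 0 :=
  (rng_step (all0 _) qL10X_0)
theorem qL1s1 : Suf mP qL1K1 qL1P 0 :=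
  qL1s0.step (by decide) (by decide) (acts2 (m := mP) ψB hPB qL1P) qL10X
theorem qL11yY : ∀ i < 240, (chkY can0 (brow (nat_lit 40)) qL11y (nat_lit 240)) i = 0 :=
  allB (rngB_step (allB0 _ _) qL11yY_0) (by decide)
theorem qL11yD : Dist (fun i => pvB (pt (brow (nat_lit 40)) qL11y i)) 240 :=
  dist_of_chk (canT2 ψB) qL11yY
theorem qL11RO : ∀ i < 240, (chkO (img2 (nat_lit 40) fun s => lo (nat_lit 1600) ((shf qL1P (nat_lit 0)) s)) (brow (nat_lit 40)) qL11y qL11Ra (nat_lit 240) [nat_lit 178]) i = 0 :=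
  allB (rngB_step (allB0 _ _) qL11RO_0) (by decide)
theorem qL11R : Reach qL1K1 (fun i => pvB (pt (brow (nat_lit 40)) qL11y i)) 240 [nat_lit 178] :=
  reach_of_chk ((acts2 (m := mP) ψB hPB (shf qL1P (nat_lit 0))).ex qL1s1.el) qL11RO
theorem qL11X : ∀ i < 21, (chkFx (img2 (nat_lit 40) fun s => lo (nat_lit 1600) (qL1P s)) (brow (nat_lit 40)) qL11y (nat_lit 178) [nat_lit 0, nat_lit 0, nat_lit 0, nat_lit 0, nat_lit 0, nat_lit 0, nat_lit 0, nat_lit 0, nat_lit 0, nat_lit 0, nat_lit 0, nat_lit 0, nat_lit 0, nat_lit 0, nat_lit 0, nat_lit 0, nat_lit 0, nat_lit 0, nat_lit 0, nat_lit 0, nat_lit 0] (nat_lit 2)) i = 0 :=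
  (rng_step (all0 _) qL11X_0)
theorem qL1s2 : Suf mP qL1K2 qL1P 2 :=
  qL1s1.step (by decide) (by decide) (acts2 (m := mP) ψB hPB qL1P) qL11X
theorem qL12yY : ∀ i < 56, (chkY can0 (brow (nat_lit 40)) qL12y (nat_lit 56)) i = 0 :=
  allB (rngB_step (allB0 _ _) qL12yY_0) (by decide)
theorem qL12yD : Dist (fun i => pvB (pt (brow (nat_lit 40)) qL12y i)) 56 :=
  dist_of_chk (canT2 ψB) qL12yY
theorem qL12RO : ∀ i < 56, (chkO (img2 (nat_lit 40) fun s => lo (nat_lit 1600) ((shf qL1P (nat_lit 2)) s)) (brow (nat_lit 40)) qL12y qL12Ra (nat_lit 56) [nat_lit 13]) i = 0 :=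
  allB (rngB_step (allB0 _ _) qL12RO_0) (by decide)
theorem qL12R : Reach qL1K2 (fun i => pvB (pt (brow (nat_lit 40)) qL12y i)) 56 [nat_lit 13] :=
  reach_of_chk ((acts2 (m := mP) ψB hPB (shf qL1P (nat_lit 2))).ex qL1s2.el) qL12RO
theorem qL12X : ∀ i < 19, (chkFx (img2 (nat_lit 40) fun s => lo (nat_lit 1600) (qL1P s)) (brow (nat_lit 40)) qL12y (nat_lit 13) [nat_lit 0, nat_lit 0, nat_lit 0, nat_lit 0, nat_lit 0, nat_lit 0, nat_lit 0, nat_lit 0, nat_lit 0, nat_lit 0, nat_lit 0, nat_lit 0, nat_lit 0, nat_lit 0, nat_lit 0, nat_lit 0, nat_lit 0, nat_lit 0, nat_lit 0] (nat_lit 4)) i = 0 :=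
  (rng_step (all0 _) qL12X_0)
theorem qL1s3 : Suf mP qL1K3 qL1P 4 :=
  qL1s2.step (by decide) (by decide) (acts2 (m := mP) ψB hPB qL1P) qL12X
theorem qL13yY : ∀ i < 3, (chkY can0 (brow (nat_lit 40)) qL13y (nat_lit 3)) i = 0 :=
  allB (rngB_step (allB0 _ _) qL13yY_0) (by decide)
theorem qL13yD : Dist (fun i => pvB (pt (brow (nat_lit 40)) qL13y i)) 3 :=
  dist_of_chk (canT2 ψB) qL13yY
theorem qL13RO : ∀ i < 3, (chkO (img2 (nat_lit 40) fun s => lo (nat_lit 1600) ((shf qL1P (nat_lit 4)) s)) (brow (nat_lit 40)) qL13y qL13Ra (nat_lit 3) [nat_lit 1]) i = 0 :=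
  allB (rngB_step (allB0 _ _) qL13RO_0) (by decide)
theorem qL13R : Reach qL1K3 (fun i => pvB (pt (brow (nat_lit 40)) qL13y i)) 3 [nat_lit 1] :=
  reach_of_chk ((acts2 (m := mP) ψB hPB (shf qL1P (nat_lit 4))).ex qL1s3.el) qL13RO
theorem qL13X : ∀ i < 16, (chkFx (img2 (nat_lit 40) fun s => lo (nat_lit 1600) (qL1P s)) (brow (nat_lit 40)) qL13y (nat_lit 1) [nat_lit 0, nat_lit 0, nat_lit 0, nat_lit 0, nat_lit 0, nat_lit 0, nat_lit 0, nat_lit 0, nat_lit 0, nat_lit 0, nat_lit 0, nat_lit 0, nat_lit 0, nat_lit 0, nat_lit 0, nat_lit 0] (nat_lit 7)) i = 0 :=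
  (rng_step (all0 _) qL13X_0)
theorem qL1s4 : Suf mP qL1K4 qL1P 7 :=
  qL1s3.step (by decide) (by decide) (acts2 (m := mP) ψB hPB qL1P) qL13X
theorem qL14yY : ∀ i < 2, (chkY (can3 (nat_lit 248)) (row3 (nat_lit 248)) qL14y (nat_lit 2)) i = 0 :=
  allB (rngB_step (allB0 _ _) qL14yY_0) (by decide)
theorem qL14yD : Dist (fun i => pvP (pt (row3 (nat_lit 248)) qL14y i)) 2 :=
  dist_of_chk (canT3 ψA) qL14yY
theorem qL14RO : ∀ i < 2, (chkO (img3 (nat_lit 248) fun s => hi (nat_lit 1600) ((shf qL1P (nat_lit 7)) s)) (row3 (nat_lit 248)) qL14y qL14Ra (nat_lit 2) [nat_lit 0]) i = 0 :=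
  allB (rngB_step (allB0 _ _) qL14RO_0) (by decide)
theorem qL14R : Reach qL1K4 (fun i => pvP (pt (row3 (nat_lit 248)) qL14y i)) 2 [nat_lit 0] :=
  reach_of_chk ((acts3 (m := mP) ψA hPA (shf qL1P (nat_lit 7))).ex qL1s4.el) qL14RO
theorem qL14X : ∀ i < 11, (chkFx (img3 (nat_lit 248) fun s => hi (nat_lit 1600) (qL1P s)) (row3 (nat_lit 248)) qL14y (nat_lit 0) [nat_lit 0, nat_lit 0, nat_lit 0, nat_lit 0, nat_lit 0, nat_lit 0, nat_lit 0, nat_lit 0, nat_lit 0, nat_lit 0, nat_lit 0] (nat_lit 12)) i = 0 :=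
  (rng_step (all0 _) qL14X_0)
theorem qL1s5 : Suf mP qL1K5 qL1P 12 :=
  qL1s4.step (by decide) (by decide) (acts3 (m := mP) ψA hPA qL1P) qL14X
theorem qL15yY : ∀ i < 2, (chkY (can3 (nat_lit 248)) (row3 (nat_lit 248)) qL15y (nat_lit 2)) i = 0 :=
  allB (rngB_step (allB0 _ _) qL15yY_0) (by decide)
theorem qL15yD : Dist (fun i => pvP (pt (row3 (nat_lit 248)) qL15y i)) 2 :=
  dist_of_chk (canT3 ψA) qL15yY
theorem qL15RO : ∀ i < 2, (chkO (img3 (nat_lit 248) fun s => hi (nat_lit 1600) ((shf qL1P (nat_lit 12)) s)) (row3 (nat_lit 248)) qL15y qL15Ra (nat_lit 2) [nat_lit 0]) i = 0 :=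
  allB (rngB_step (allB0 _ _) qL15RO_0) (by decide)
theorem qL15R : Reach qL1K5 (fun i => pvP (pt (row3 (nat_lit 248)) qL15y i)) 2 [nat_lit 0] :=
  reach_of_chk ((acts3 (m := mP) ψA hPA (shf qL1P (nat_lit 12))).ex qL1s5.el) qL15RO
theorem qL15X : ∀ i < 7, (chkFx (img3 (nat_lit 248) fun s => hi (nat_lit 1600) (qL1P s)) (row3 (nat_lit 248)) qL15y (nat_lit 0) [nat_lit 0, nat_lit 0, nat_lit 0, nat_lit 0, nat_lit 0, nat_lit 0, nat_lit 0] (nat_lit 16)) i = 0 :=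
  (rng_step (all0 _) qL15X_0)
theorem qL1s6 : Suf mP qL1K6 qL1P 16 :=
  qL1s5.step (by decide) (by decide) (acts3 (m := mP) ψA hPA qL1P) qL15X
theorem qL16yY : ∀ i < 2, (chkY (can3 (nat_lit 248)) (row3 (nat_lit 248)) qL16y (nat_lit 2)) i = 0 :=
  allB (rngB_step (allB0 _ _) qL16yY_0) (by decide)
theorem qL16yD : Dist (fun i => pvP (pt (row3 (nat_lit 248)) qL16y i)) 2 :=
  dist_of_chk (canT3 ψA) qL16yY
theorem qL16RO : ∀ i < 2, (chkO (img3 (nat_lit 248) fun s => hi (nat_lit 1600) ((shf qL1P (nat_lit 16)) s)) (row3 (nat_lit 248)) qL16y qL16Ra (nat_lit 2) [nat_lit 0]) i = 0 :=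
  allB (rngB_step (allB0 _ _) qL16RO_0) (by decide)
theorem qL16R : Reach qL1K6 (fun i => pvP (pt (row3 (nat_lit 248)) qL16y i)) 2 [nat_lit 0] :=
  reach_of_chk ((acts3 (m := mP) ψA hPA (shf qL1P (nat_lit 16))).ex qL1s6.el) qL16RO
theorem qL16X : ∀ i < 4, (chkFx (img3 (nat_lit 248) fun s => hi (nat_lit 1600) (qL1P s)) (row3 (nat_lit 248)) qL16y (nat_lit 0) [nat_lit 0, nat_lit 0, nat_lit 0, nat_lit 0] (nat_lit 19)) i = 0 :=
  (rng_step (all0 _) qL16X_0)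
theorem qL1s7 : Suf mP qL1K7 qL1P 19 :=
  qL1s6.step (by decide) (by decide) (acts3 (m := mP) ψA hPA qL1P) qL16X
theorem qL17yY : ∀ i < 2, (chkY (can3 (nat_lit 248)) (row3 (nat_lit 248)) qL17y (nat_lit 2)) i = 0 :=
  allB (rngB_step (allB0 _ _) qL17yY_0) (by decide)
theorem qL17yD : Dist (fun i => pvP (pt (row3 (nat_lit 248)) qL17y i)) 2 :=
  dist_of_chk (canT3 ψA) qL17yY
theorem qL17RO : ∀ i < 2, (chkO (img3 (nat_lit 248) fun s => hi (nat_lit 1600) ((shf qL1P (nat_lit 19)) s)) (row3 (nat_lit 248)) qL17y qL17Ra (nat_lit 2) [nat_lit 0]) i = 0 :=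
  allB (rngB_step (allB0 _ _) qL17RO_0) (by decide)
theorem qL17R : Reach qL1K7 (fun i => pvP (pt (row3 (nat_lit 248)) qL17y i)) 2 [nat_lit 0] :=
  reach_of_chk ((acts3 (m := mP) ψA hPA (shf qL1P (nat_lit 19))).ex qL1s7.el) qL17RO
theorem qL17X : ∀ i < 2, (chkFx (img3 (nat_lit 248) fun s => hi (nat_lit 1600) (qL1P s)) (row3 (nat_lit 248)) qL17y (nat_lit 0) [nat_lit 0, nat_lit 0] (nat_lit 21)) i = 0 :=
  (rng_step (all0 _) qL17X_0)
theorem qL1s8 : Suf mP qL1K8 qL1P 21 :=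
  qL1s7.step (by decide) (by decide) (acts3 (m := mP) ψA hPA qL1P) qL17X
theorem qL18yY : ∀ i < 2, (chkY (can3 (nat_lit 248)) (row3 (nat_lit 248)) qL18y (nat_lit 2)) i = 0 :=
  allB (rngB_step (allB0 _ _) qL18yY_0) (by decide)
theorem qL18yD : Dist (fun i => pvP (pt (row3 (nat_lit 248)) qL18y i)) 2 :=
  dist_of_chk (canT3 ψA) qL18yY
theorem qL18RO : ∀ i < 2, (chkO (img3 (nat_lit 248) fun s => hi (nat_lit 1600) ((shf qL1P (nat_lit 21)) s)) (row3 (nat_lit 248)) qL18y qL18Ra (nat_lit 2) [nat_lit 1]) i = 0 :=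
  allB (rngB_step (allB0 _ _) qL18RO_0) (by decide)
theorem qL18R : Reach qL1K8 (fun i => pvP (pt (row3 (nat_lit 248)) qL18y i)) 2 [nat_lit 1] :=
  reach_of_chk ((acts3 (m := mP) ψA hPA (shf qL1P (nat_lit 21))).ex qL1s8.el) qL18RO
theorem qL18X : ∀ i < 0, (chkFx (img3 (nat_lit 248) fun s => hi (nat_lit 1600) (qL1P s)) (row3 (nat_lit 248)) qL18y (nat_lit 1) [] (nat_lit 23)) i = 0 :=
  (all0 _)
theorem qL1s9 : Suf mP qL1K9 qL1P 23 :=
  qL1s8.step (by decide) (by decide) (acts3 (m := mP) ψA hPA qL1P) qL18X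
theorem qL1lb9 : 1 ≤ Nat.card qL1K9 :=
  one_le_card _
theorem qL1lb8 : 2 ≤ Nat.card qL1K8 :=
  le_of_eq_of_le (by norm_num) (card_ge qL18yD qL18R qL1lb9)
theorem qL1lb7 : 4 ≤ Nat.card qL1K7 :=
  le_of_eq_of_le (by norm_num) (card_ge qL17yD qL17R qL1lb8)
theorem qL1lb6 : 8 ≤ Nat.card qL1K6 :=
  le_of_eq_of_le (by norm_num) (card_ge qL16yD qL16R qL1lb7)
theorem qL1lb5 : 16 ≤ Nat.card qL1K5 :=
  le_of_eq_of_le (by norm_num) (card_ge qL15yD qL15R qL1lb6)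
theorem qL1lb4 : 32 ≤ Nat.card qL1K4 :=
  le_of_eq_of_le (by norm_num) (card_ge qL14yD qL14R qL1lb5)
theorem qL1lb3 : 96 ≤ Nat.card qL1K3 :=
  le_of_eq_of_le (by norm_num) (card_ge qL13yD qL13R qL1lb4)
theorem qL1lb2 : 5376 ≤ Nat.card qL1K2 :=
  le_of_eq_of_le (by norm_num) (card_ge qL12yD qL12R qL1lb3)
theorem qL1lb1 : 1290240 ≤ Nat.card qL1K1 :=
  le_of_eq_of_le (by norm_num) (card_ge qL11yD qL11R qL1lb2)
theorem qL1lb0 : 1290240 ≤ Nat.card qL1 :=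
  le_of_eq_of_le (by norm_num) (card_ge qL10yD qL10R qL1lb1)
theorem qL2E : ∀ i < 2, (chkE qL2P ce0 [nat_lit 557204736, nat_lit 46149120]) i = 0 :=
  (rng_step (all0 _) qL2E_0)
theorem qL2C : ∀ i < 2, (chkL (mul3 (nat_lit 248)) (qD 2) (fun s => hi (nat_lit 1600) (qL2P s)) (fun x => hi (nat_lit 1600) (ce0 x)) [nat_lit 738345472, nat_lit 815961600]) i = 0 :=
  (rng_step (all0 _) qL2C_0)
theorem qL2in0 : ∀ u < 2, mP.In qL2 (qL2P u) :=
  in_Lf pf c0el (qelD 2) (in_of_chkE c0el qL2E) qL2C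
theorem qL2W : ∀ i < 5, (chkPl (pmul (mul3 (nat_lit 248)) (mul2 (nat_lit 40)) (nat_lit 1600)) qL2P [[nat_lit 0, nat_lit 1, nat_lit 1, nat_lit 0, nat_lit 0, nat_lit 0, nat_lit 1, nat_lit 0, nat_lit 1],
  [nat_lit 0, nat_lit 0, nat_lit 0, nat_lit 1, nat_lit 1, nat_lit 0, nat_lit 0],
  [nat_lit 1, nat_lit 1, nat_lit 0, nat_lit 1, nat_lit 1, nat_lit 0, nat_lit 1, nat_lit 1, nat_lit 0],
  [nat_lit 2, nat_lit 3, nat_lit 2, nat_lit 3, nat_lit 4, nat_lit 2, nat_lit 3],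
  [nat_lit 3, nat_lit 2, nat_lit 4, nat_lit 3, nat_lit 2, nat_lit 3, nat_lit 2]] (nat_lit 2)) i = 0 :=
  (rng_step (rng_step (all0 _) qL2W_0) qL2W_1)
theorem qL2el : mP.El qL2 qL2P :=
  el_of_pad (in_pool qL2in0 qL2W)
theorem qL2s0 : Suf mP qL2 qL2P 0 :=
  suf0 qL2el
theorem qL20yY : ∀ i < 128, (chkY can0 (brow (nat_lit 40)) qL20y (nat_lit 128)) i = 0 :=
  allB (rngB_step (allB0 _ _) qL20yY_0) (by decide)
theorem qL20yD : Dist (fun i => pvB (pt (brow (nat_lit 40)) qL20y i)) 128 :=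
  dist_of_chk (canT2 ψB) qL20yY
theorem qL20RO : ∀ i < 128, (chkO (img2 (nat_lit 40) fun s => lo (nat_lit 1600) ((shf qL2P (nat_lit 0)) s)) (brow (nat_lit 40)) qL20y qL20Ra (nat_lit 128) [nat_lit 95]) i = 0 :=
  allB (rngB_step (allB0 _ _) qL20RO_0) (by decide)
theorem qL20R : Reach qL2 (fun i => pvB (pt (brow (nat_lit 40)) qL20y i)) 128 [nat_lit 95] :=
  reach_of_chk ((acts2 (m := mP) ψB hPB (shf qL2P (nat_lit 0))).ex qL2s0.el) qL20RO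
theorem qL20X : ∀ i < 5, (chkFx (img2 (nat_lit 40) fun s => lo (nat_lit 1600) (qL2P s)) (brow (nat_lit 40)) qL20y (nat_lit 95) [nat_lit 0, nat_lit 0, nat_lit 0, nat_lit 0, nat_lit 0] (nat_lit 2)) i = 0 :=
  (rng_step (all0 _) qL20X_0)
theorem qL2s1 : Suf mP qL2K1 qL2P 2 :=
  qL2s0.step (by decide) (by decide) (acts2 (m := mP) ψB hPB qL2P) qL20X
theorem qL21yY : ∀ i < 21, (chkY can0 (brow (nat_lit 40)) qL21y (nat_lit 21)) i = 0 :=
  allB (rngB_step (allB0 _ _) qL21yY_0) (by decide)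
theorem qL21yD : Dist (fun i => pvB (pt (brow (nat_lit 40)) qL21y i)) 21 :=
  dist_of_chk (canT2 ψB) qL21yY
theorem qL21RO : ∀ i < 21, (chkO (img2 (nat_lit 40) fun s => lo (nat_lit 1600) ((shf qL2P (nat_lit 2)) s)) (brow (nat_lit 40)) qL21y qL21Ra (nat_lit 21) [nat_lit 20]) i = 0 :=
  allB (rngB_step (allB0 _ _) qL21RO_0) (by decide)
theorem qL21R : Reach qL2K1 (fun i => pvB (pt (brow (nat_lit 40)) qL21y i)) 21 [nat_lit 20] :=
  reach_of_chk ((acts2 (m := mP) ψB hPB (shf qL2P (nat_lit 2))).ex qL2s1.el) qL21RO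
theorem qL21X : ∀ i < 2, (chkFx (img2 (nat_lit 40) fun s => lo (nat_lit 1600) (qL2P s)) (brow (nat_lit 40)) qL21y (nat_lit 20) [nat_lit 0, nat_lit 0] (nat_lit 5)) i = 0 :=
  (rng_step (all0 _) qL21X_0)
theorem qL2s2 : Suf mP qL2K2 qL2P 5 :=
  qL2s1.step (by decide) (by decide) (acts2 (m := mP) ψB hPB qL2P) qL21X
theorem qL22yY : ∀ i < 2, (chkY (can3 (nat_lit 248)) (row3 (nat_lit 248)) qL22y (nat_lit 2)) i = 0 :=
  allB (rngB_step (allB0 _ _) qL22yY_0) (by decide)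
theorem qL22yD : Dist (fun i => pvP (pt (row3 (nat_lit 248)) qL22y i)) 2 :=
  dist_of_chk (canT3 ψA) qL22yY
theorem qL22RO : ∀ i < 2, (chkO (img3 (nat_lit 248) fun s => hi (nat_lit 1600) ((shf qL2P (nat_lit 5)) s)) (row3 (nat_lit 248)) qL22y qL22Ra (nat_lit 2) [nat_lit 0]) i = 0 :=
  allB (rngB_step (allB0 _ _) qL22RO_0) (by decide)
theorem qL22R : Reach qL2K2 (fun i => pvP (pt (row3 (nat_lit 248)) qL22y i)) 2 [nat_lit 0] :=
  reach_of_chk ((acts3 (m := mP) ψA hPA (shf qL2P (nat_lit 5))).ex qL2s2.el) qL22RO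
theorem qL22X : ∀ i < 0, (chkFx (img3 (nat_lit 248) fun s => hi (nat_lit 1600) (qL2P s)) (row3 (nat_lit 248)) qL22y (nat_lit 0) [] (nat_lit 7)) i = 0 :=
  (all0 _)
theorem qL2s3 : Suf mP qL2K3 qL2P 7 :=
  qL2s2.step (by decide) (by decide) (acts3 (m := mP) ψA hPA qL2P) qL22X
theorem qL2lb3 : 1 ≤ Nat.card qL2K3 :=
  one_le_card _
theorem qL2lb2 : 2 ≤ Nat.card qL2K2 :=
  le_of_eq_of_le (by norm_num) (card_ge qL22yD qL22R qL2lb3)
theorem qL2lb1 : 42 ≤ Nat.card qL2K1 :=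
  le_of_eq_of_le (by norm_num) (card_ge qL21yD qL21R qL2lb2)
theorem qL2lb0 : 5376 ≤ Nat.card qL2 :=
  le_of_eq_of_le (by norm_num) (card_ge qL20yD qL20R qL2lb1)
theorem qL3E : ∀ i < 1, (chkE qL3P ce0 [nat_lit 834032354]) i = 0 :=
  (rng_step (all0 _) qL3E_0)
theorem qL3C : ∀ i < 1, (chkL (mul3 (nat_lit 248)) (qD 3) (fun s => hi (nat_lit 1600) (qL3P s)) (fun x => hi (nat_lit 1600) (ce0 x)) [nat_lit 351195618]) i = 0 :=
  (rng_step (all0 _) qL3C_0)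
theorem qL3in0 : ∀ u < 1, mP.In qL3 (qL3P u) :=
  in_Lf pf c0el (qelD 3) (in_of_chkE c0el qL3E) qL3C
theorem qL3el : mP.El qL3 qL3P :=
  el_of_pad qL3in0
theorem qL3s0 : Suf mP qL3 qL3P 0 :=
  suf0 qL3el
theorem qL30yY : ∀ i < 5, (chkY can0 (brow (nat_lit 40)) qL30y (nat_lit 5)) i = 0 :=
  allB (rngB_step (allB0 _ _) qL30yY_0) (by decide)
theorem qL30yD : Dist (fun i => pvB (pt (brow (nat_lit 40)) qL30y i)) 5 :=
  dist_of_chk (canT2 ψB) qL30yY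
theorem qL30RO : ∀ i < 5, (chkO (img2 (nat_lit 40) fun s => lo (nat_lit 1600) ((shf qL3P (nat_lit 0)) s)) (brow (nat_lit 40)) qL30y qL30Ra (nat_lit 5) [nat_lit 3]) i = 0 :=
  allB (rngB_step (allB0 _ _) qL30RO_0) (by decide)
theorem qL30R : Reach qL3 (fun i => pvB (pt (brow (nat_lit 40)) qL30y i)) 5 [nat_lit 3] :=
  reach_of_chk ((acts2 (m := mP) ψB hPB (shf qL3P (nat_lit 0))).ex qL3s0.el) qL30RO
theorem qL30X : ∀ i < 0, (chkFx (img2 (nat_lit 40) fun s => lo (nat_lit 1600) (qL3P s)) (brow (nat_lit 40)) qL30y (nat_lit 3) [] (nat_lit 1)) i = 0 :=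
  (all0 _)
theorem qL3s1 : Suf mP qL3K1 qL3P 1 :=
  qL3s0.step (by decide) (by decide) (acts2 (m := mP) ψB hPB qL3P) qL30X
theorem qL3lb1 : 1 ≤ Nat.card qL3K1 :=
  one_le_card _
theorem qL3lb0 : 5 ≤ Nat.card qL3 :=
  le_of_eq_of_le (by norm_num) (card_ge qL30yD qL30R qL3lb1)
theorem qL4E : ∀ i < 2, (chkE qL4P ce0 [nat_lit 442814134, nat_lit 298226101]) i = 0 :=
  (rng_step (all0 _) qL4E_0)
theorem qL4C : ∀ i < 2, (chkL (mul3 (nat_lit 248)) (qD 4) (fun s => hi (nat_lit 1600) (qL4P s)) (fun x => hi (nat_lit 1600) (ce0 x)) [nat_lit 497717707, nat_lit 980093393]) i = 0 :=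
  (rng_step (all0 _) qL4C_0)
theorem qL4in0 : ∀ u < 2, mP.In qL4 (qL4P u) :=
  in_Lf pf c0el (qelD 4) (in_of_chkE c0el qL4E) qL4C
theorem qL4el : mP.El qL4 qL4P :=
  el_of_pad qL4in0
theorem qL4s0 : Suf mP qL4 qL4P 0 :=
  suf0 qL4el
theorem qL40yY : ∀ i < 9, (chkY can0 (brow (nat_lit 40)) qL40y (nat_lit 9)) i = 0 :=
  allB (rngB_step (allB0 _ _) qL40yY_0) (by decide)
theorem qL40yD : Dist (fun i => pvB (pt (brow (nat_lit 40)) qL40y i)) 9 :=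
  dist_of_chk (canT2 ψB) qL40yY
theorem qL40RO : ∀ i < 9, (chkO (img2 (nat_lit 40) fun s => lo (nat_lit 1600) ((shf qL4P (nat_lit 0)) s)) (brow (nat_lit 40)) qL40y qL40Ra (nat_lit 9) [nat_lit 5]) i = 0 :=
  allB (rngB_step (allB0 _ _) qL40RO_0) (by decide)
theorem qL40R : Reach qL4 (fun i => pvB (pt (brow (nat_lit 40)) qL40y i)) 9 [nat_lit 5] :=
  reach_of_chk ((acts2 (m := mP) ψB hPB (shf qL4P (nat_lit 0))).ex qL4s0.el) qL40RO
theorem qL40X : ∀ i < 0, (chkFx (img2 (nat_lit 40) fun s => lo (nat_lit 1600) (qL4P s)) (brow (nat_lit 40)) qL40y (nat_lit 5) [] (nat_lit 2)) i = 0 :=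
  (all0 _)
theorem qL4s1 : Suf mP qL4K1 qL4P 2 :=
  qL4s0.step (by decide) (by decide) (acts2 (m := mP) ψB hPB qL4P) qL40X
theorem qL4lb1 : 1 ≤ Nat.card qL4K1 :=
  one_le_card _
theorem qL4lb0 : 9 ≤ Nat.card qL4 :=
  le_of_eq_of_le (by norm_num) (card_ge qL40yD qL40R qL4lb1)
theorem qL5E : ∀ i < 1, (chkE qL5P ce0 [nat_lit 990151970]) i = 0 :=
  (rng_step (all0 _) qL5E_0)
theorem qL5C : ∀ i < 1, (chkL (mul3 (nat_lit 248)) (qD 5) (fun s => hi (nat_lit 1600) (qL5P s)) (fun x => hi (nat_lit 1600) (ce0 x)) [nat_lit 337823389]) i = 0 :=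
  (rng_step (all0 _) qL5C_0)
theorem qL5in0 : ∀ u < 1, mP.In qL5 (qL5P u) :=
  in_Lf pf c0el (qelD 5) (in_of_chkE c0el qL5E) qL5C
theorem qL5el : mP.El qL5 qL5P :=
  el_of_pad qL5in0
theorem qL5s0 : Suf mP qL5 qL5P 0 :=
  suf0 qL5el
theorem qL50yY : ∀ i < 5, (chkY can0 (brow (nat_lit 40)) qL50y (nat_lit 5)) i = 0 :=
  allB (rngB_step (allB0 _ _) qL50yY_0) (by decide)
theorem qL50yD : Dist (fun i => pvB (pt (brow (nat_lit 40)) qL50y i)) 5 :=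
  dist_of_chk (canT2 ψB) qL50yY
theorem qL50RO : ∀ i < 5, (chkO (img2 (nat_lit 40) fun s => lo (nat_lit 1600) ((shf qL5P (nat_lit 0)) s)) (brow (nat_lit 40)) qL50y qL50Ra (nat_lit 5) [nat_lit 3]) i = 0 :=
  allB (rngB_step (allB0 _ _) qL50RO_0) (by decide)
theorem qL50R : Reach qL5 (fun i => pvB (pt (brow (nat_lit 40)) qL50y i)) 5 [nat_lit 3] :=
  reach_of_chk ((acts2 (m := mP) ψB hPB (shf qL5P (nat_lit 0))).ex qL5s0.el) qL50RO
theorem qL50X : ∀ i < 0, (chkFx (img2 (nat_lit 40) fun s => lo (nat_lit 1600) (qL5P s)) (brow (nat_lit 40)) qL50y (nat_lit 3) [] (nat_lit 1)) i = 0 :=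
  (all0 _)
theorem qL5s1 : Suf mP qL5K1 qL5P 1 :=
  qL5s0.step (by decide) (by decide) (acts2 (m := mP) ψB hPB qL5P) qL50X
theorem qL5lb1 : 1 ≤ Nat.card qL5K1 :=
  one_le_card _
theorem qL5lb0 : 5 ≤ Nat.card qL5 :=
  le_of_eq_of_le (by norm_num) (card_ge qL50yD qL50R qL5lb1)
theorem qL6E : ∀ i < 1, (chkE qL6P ce0 [nat_lit 140530562]) i = 0 :=
  (rng_step (all0 _) qL6E_0)
theorem qL6C : ∀ i < 1, (chkL (mul3 (nat_lit 248)) (qD 6) (fun s => hi (nat_lit 1600) (qL6P s)) (fun x => hi (nat_lit 1600) (ce0 x)) [nat_lit 168495464]) i = 0 :=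
  (rng_step (all0 _) qL6C_0)
theorem qL6in0 : ∀ u < 1, mP.In qL6 (qL6P u) :=
  in_Lf pf c0el (qelD 6) (in_of_chkE c0el qL6E) qL6C
theorem qL6el : mP.El qL6 qL6P :=
  el_of_pad qL6in0
theorem qL6s0 : Suf mP qL6 qL6P 0 :=
  suf0 qL6el
theorem qL60yY : ∀ i < 3, (chkY can0 (brow (nat_lit 40)) qL60y (nat_lit 3)) i = 0 :=
  allB (rngB_step (allB0 _ _) qL60yY_0) (by decide)
theorem qL60yD : Dist (fun i => pvB (pt (brow (nat_lit 40)) qL60y i)) 3 :=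
  dist_of_chk (canT2 ψB) qL60yY
theorem qL60RO : ∀ i < 3, (chkO (img2 (nat_lit 40) fun s => lo (nat_lit 1600) ((shf qL6P (nat_lit 0)) s)) (brow (nat_lit 40)) qL60y qL60Ra (nat_lit 3) [nat_lit 1]) i = 0 :=
  allB (rngB_step (allB0 _ _) qL60RO_0) (by decide)
theorem qL60R : Reach qL6 (fun i => pvB (pt (brow (nat_lit 40)) qL60y i)) 3 [nat_lit 1] :=
  reach_of_chk ((acts2 (m := mP) ψB hPB (shf qL6P (nat_lit 0))).ex qL6s0.el) qL60RO
theorem qL60X : ∀ i < 0, (chkFx (img2 (nat_lit 40) fun s => lo (nat_lit 1600) (qL6P s)) (brow (nat_lit 40)) qL60y (nat_lit 1) [] (nat_lit 1)) i = 0 :=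
  (all0 _)
theorem qL6s1 : Suf mP qL6K1 qL6P 1 :=
  qL6s0.step (by decide) (by decide) (acts2 (m := mP) ψB hPB qL6P) qL60X
theorem qL6lb1 : 1 ≤ Nat.card qL6K1 :=
  one_le_card _
theorem qL6lb0 : 3 ≤ Nat.card qL6 :=
  le_of_eq_of_le (by norm_num) (card_ge qL60yD qL60R qL6lb1)
theorem qL7E : ∀ i < 2, (chkE qL7P ce0 [nat_lit 298608907, nat_lit 814811500]) i = 0 :=
  (rng_step (all0 _) qL7E_0)
theorem qL7C : ∀ i < 2, (chkL (mul3 (nat_lit 248)) (qD 7) (fun s => hi (nat_lit 1600) (qL7P s)) (fun x => hi (nat_lit 1600) (ce0 x)) [nat_lit 747967637, nat_lit 1035141691]) i = 0 :=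
  (rng_step (all0 _) qL7C_0)
theorem qL7in0 : ∀ u < 2, mP.In qL7 (qL7P u) :=
  in_Lf pf c0el (qelD 7) (in_of_chkE c0el qL7E) qL7C
theorem qL7el : mP.El qL7 qL7P :=
  el_of_pad qL7in0
theorem qL7s0 : Suf mP qL7 qL7P 0 :=
  suf0 qL7el
theorem qL70yY : ∀ i < 126, (chkY can0 (brow (nat_lit 40)) qL70y (nat_lit 126)) i = 0 :=
  allB (rngB_step (allB0 _ _) qL70yY_0) (by decide)
theorem qL70yD : Dist (fun i => pvB (pt (brow (nat_lit 40)) qL70y i)) 126 :=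
  dist_of_chk (canT2 ψB) qL70yY
theorem qL70RO : ∀ i < 126, (chkO (img2 (nat_lit 40) fun s => lo (nat_lit 1600) ((shf qL7P (nat_lit 0)) s)) (brow (nat_lit 40)) qL70y qL70Ra (nat_lit 126) [nat_lit 89]) i = 0 :=
  allB (rngB_step (allB0 _ _) qL70RO_0) (by decide)
theorem qL70R : Reach qL7 (fun i => pvB (pt (brow (nat_lit 40)) qL70y i)) 126 [nat_lit 89] :=
  reach_of_chk ((acts2 (m := mP) ψB hPB (shf qL7P (nat_lit 0))).ex qL7s0.el) qL70RO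
theorem qL70X : ∀ i < 0, (chkFx (img2 (nat_lit 40) fun s => lo (nat_lit 1600) (qL7P s)) (brow (nat_lit 40)) qL70y (nat_lit 89) [] (nat_lit 2)) i = 0 :=
  (all0 _)
theorem qL7s1 : Suf mP qL7K1 qL7P 2 :=
  qL7s0.step (by decide) (by decide) (acts2 (m := mP) ψB hPB qL7P) qL70X
theorem qL7lb1 : 1 ≤ Nat.card qL7K1 :=
  one_le_card _
theorem qL7lb0 : 126 ≤ Nat.card qL7 :=
  le_of_eq_of_le (by norm_num) (card_ge qL70yD qL70R qL7lb1)
theorem qL8E : ∀ i < 2, (chkE qL8P ce0 [nat_lit 600054061, nat_lit 764683771]) i = 0 :=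
  (rng_step (all0 _) qL8E_0)
theorem qL8C : ∀ i < 2, (chkL (mul3 (nat_lit 248)) (qD 8) (fun s => hi (nat_lit 1600) (qL8P s)) (fun x => hi (nat_lit 1600) (ce0 x)) [nat_lit 237267618, nat_lit 876648522]) i = 0 :=
  (rng_step (all0 _) qL8C_0)
theorem qL8in0 : ∀ u < 2, mP.In qL8 (qL8P u) :=
  in_Lf pf c0el (qelD 8) (in_of_chkE c0el qL8E) qL8C
theorem qL8el : mP.El qL8 qL8P :=
  el_of_pad qL8in0
theorem qL8s0 : Suf mP qL8 qL8P 0 :=
  suf0 qL8el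
theorem qL80yY : ∀ i < 155, (chkY can0 (brow (nat_lit 40)) qL80y (nat_lit 155)) i = 0 :=
  allB (rngB_step (allB0 _ _) qL80yY_0) (by decide)
theorem qL80yD : Dist (fun i => pvB (pt (brow (nat_lit 40)) qL80y i)) 155 :=
  dist_of_chk (canT2 ψB) qL80yY
theorem qL80RO : ∀ i < 155, (chkO (img2 (nat_lit 40) fun s => lo (nat_lit 1600) ((shf qL8P (nat_lit 0)) s)) (brow (nat_lit 40)) qL80y qL80Ra (nat_lit 155) [nat_lit 108]) i = 0 :=
  allB (rngB_step (allB0 _ _) qL80RO_0) (by decide)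
theorem qL80R : Reach qL8 (fun i => pvB (pt (brow (nat_lit 40)) qL80y i)) 155 [nat_lit 108] :=
  reach_of_chk ((acts2 (m := mP) ψB hPB (shf qL8P (nat_lit 0))).ex qL8s0.el) qL80RO
theorem qL80X : ∀ i < 0, (chkFx (img2 (nat_lit 40) fun s => lo (nat_lit 1600) (qL8P s)) (brow (nat_lit 40)) qL80y (nat_lit 108) [] (nat_lit 2)) i = 0 :=
  (all0 _)
theorem qL8s1 : Suf mP qL8K1 qL8P 2 :=
  qL8s0.step (by decide) (by decide) (acts2 (m := mP) ψB hPB qL8P) qL80X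
theorem qL8lb1 : 1 ≤ Nat.card qL8K1 :=
  one_le_card _
theorem qL8lb0 : 155 ≤ Nat.card qL8 :=
  le_of_eq_of_le (by norm_num) (card_ge qL80yD qL80R qL8lb1)
theorem qL9E : ∀ i < 2, (chkE qL9P ce0 [nat_lit 841096583, nat_lit 985699959]) i = 0 :=
  (rng_step (all0 _) qL9E_0)
theorem qL9C : ∀ i < 2, (chkL (mul3 (nat_lit 248)) (qD 9) (fun s => hi (nat_lit 1600) (qL9P s)) (fun x => hi (nat_lit 1600) (ce0 x)) [nat_lit 482675328, nat_lit 872588633]) i = 0 :=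
  (rng_step (all0 _) qL9C_0)
theorem qL9in0 : ∀ u < 2, mP.In qL9 (qL9P u) :=
  in_Lf pf c0el (qelD 9) (in_of_chkE c0el qL9E) qL9C
theorem qL9el : mP.El qL9 qL9P :=
  el_of_pad qL9in0
theorem qL9s0 : Suf mP qL9 qL9P 0 :=
  suf0 qL9el
theorem qL90yY : ∀ i < 48, (chkY can0 (brow (nat_lit 40)) qL90y (nat_lit 48)) i = 0 :=
  allB (rngB_step (allB0 _ _) qL90yY_0) (by decide)
theorem qL90yD : Dist (fun i => pvB (pt (brow (nat_lit 40)) qL90y i)) 48 :=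
  dist_of_chk (canT2 ψB) qL90yY
theorem qL90RO : ∀ i < 48, (chkO (img2 (nat_lit 40) fun s => lo (nat_lit 1600) ((shf qL9P (nat_lit 0)) s)) (brow (nat_lit 40)) qL90y qL90Ra (nat_lit 48) [nat_lit 44]) i = 0 :=
  allB (rngB_step (allB0 _ _) qL90RO_0) (by decide)
theorem qL90R : Reach qL9 (fun i => pvB (pt (brow (nat_lit 40)) qL90y i)) 48 [nat_lit 44] :=
  reach_of_chk ((acts2 (m := mP) ψB hPB (shf qL9P (nat_lit 0))).ex qL9s0.el) qL90RO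
theorem qL90X : ∀ i < 0, (chkFx (img2 (nat_lit 40) fun s => lo (nat_lit 1600) (qL9P s)) (brow (nat_lit 40)) qL90y (nat_lit 44) [] (nat_lit 2)) i = 0 :=
  (all0 _)
theorem qL9s1 : Suf mP qL9K1 qL9P 2 :=
  qL9s0.step (by decide) (by decide) (acts2 (m := mP) ψB hPB qL9P) qL90X
theorem qL9lb1 : 1 ≤ Nat.card qL9K1 :=
  one_le_card _
theorem qL9lb0 : 48 ≤ Nat.card qL9 :=
  le_of_eq_of_le (by norm_num) (card_ge qL90yD qL90R qL9lb1)
theorem qL10E : ∀ i < 2, (chkE qL10P ce0 [nat_lit 1051005877, nat_lit 894884304]) i = 0 :=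
  (rng_step (all0 _) qL10E_0)
theorem qL10C : ∀ i < 2, (chkL (mul3 (nat_lit 248)) (qD 10) (fun s => hi (nat_lit 1600) (qL10P s)) (fun x => hi (nat_lit 1600) (ce0 x)) [nat_lit 791225054, nat_lit 374341731]) i = 0 :=
  (rng_step (all0 _) qL10C_0)
theorem qL10in0 : ∀ u < 2, mP.In qL10 (qL10P u) :=
  in_Lf pf c0el (qelD 10) (in_of_chkE c0el qL10E) qL10C
theorem qL10el : mP.El qL10 qL10P :=
  el_of_pad qL10in0
theorem qL10s0 : Suf mP qL10 qL10P 0 :=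
  suf0 qL10el
theorem qL100yY : ∀ i < 155, (chkY can0 (brow (nat_lit 40)) qL100y (nat_lit 155)) i = 0 :=
  allB (rngB_step (allB0 _ _) qL100yY_0) (by decide)
theorem qL100yD : Dist (fun i => pvB (pt (brow (nat_lit 40)) qL100y i)) 155 :=
  dist_of_chk (canT2 ψB) qL100yY
theorem qL100RO : ∀ i < 155, (chkO (img2 (nat_lit 40) fun s => lo (nat_lit 1600) ((shf qL10P (nat_lit 0)) s)) (brow (nat_lit 40)) qL100y qL100Ra (nat_lit 155) [nat_lit 109]) i = 0 :=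
  allB (rngB_step (allB0 _ _) qL100RO_0) (by decide)
theorem qL100R : Reach qL10 (fun i => pvB (pt (brow (nat_lit 40)) qL100y i)) 155 [nat_lit 109] :=
  reach_of_chk ((acts2 (m := mP) ψB hPB (shf qL10P (nat_lit 0))).ex qL10s0.el) qL100RO
theorem qL100X : ∀ i < 0, (chkFx (img2 (nat_lit 40) fun s => lo (nat_lit 1600) (qL10P s)) (brow (nat_lit 40)) qL100y (nat_lit 109) [] (nat_lit 2)) i = 0 :=
  (all0 _)
theorem qL10s1 : Suf mP qL10K1 qL10P 2 :=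
  qL10s0.step (by decide) (by decide) (acts2 (m := mP) ψB hPB qL10P) qL100X
theorem qL10lb1 : 1 ≤ Nat.card qL10K1 :=
  one_le_card _
theorem qL10lb0 : 155 ≤ Nat.card qL10 :=
  le_of_eq_of_le (by norm_num) (card_ge qL100yD qL100R qL10lb1)
theorem qex : MulAction.orbit H (pvB (pt (brow (nat_lit 40)) Y (nat_lit 174))) = (fun i => pvB (pt (brow (nat_lit 40)) Y i)) '' {i | i < 248} ∧ H ⊓ MulAction.stabilizer (GA × GB) (pvB (pt (brow (nat_lit 40)) Y (nat_lit 174))) = qL1K1 ∧ Nat.card H = 248 * 1290240 ∧ Nat.card qL1K1 = 1290240 :=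
  orbit_eq_of_card YD (qRH.sub fun r hr => ⟨1, one_mem _, by rw [List.mem_singleton.1 hr, one_smul]⟩)
    (inf_le_inf inf_le_left (congrArg (fun z => MulAction.stabilizer (GA × GB) (pvB z)) qhx).le) qL1lb1 (c0ub.trans (by norm_num))
theorem qhK : H ⊓ MulAction.stabilizer (GA × GB) (pvB (pt (brow (nat_lit 40)) Y (nat_lit 174))) ≤ Lf fst H (mA.elt (qD 1))⁻¹ :=
  qtinv.symm ▸ (qex.2.1.le.trans inf_le_left)
theorem qBk : ∀ i < 64, (chkB (img2 (nat_lit 40) fun s => lo (nat_lit 1600) ((cel1 (pmul (mul3 (nat_lit 248)) (mul2 (nat_lit 40)) (nat_lit 1600)) qL1P (nat_lit 5) qL1P) s)) (brow (nat_lit 40)) Y (nat_lit 174) qB [nat_lit 23, nat_lit 23, nat_lit 23, nat_lit 23, nat_lit 23, nat_lit 23, nat_lit 23, nat_lit 23, nat_lit 23, nat_lit 23, nat_lit 23, nat_lit 23, nat_lit 23, nat_lit 23, nat_lit 23, nat_lit 23, nat_lit 23, nat_lit 23, nat_lit 23, nat_lit 23, nat_lit 23, nat_lit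 23, nat_lit 23, nat_lit 23, nat_lit 23, nat_lit 23, nat_lit 23, nat_lit 23, nat_lit 23, nat_lit 23, nat_lit 23, nat_lit 23, nat_lit 23, nat_lit 23, nat_lit 23, nat_lit 23, nat_lit 23, nat_lit 23, nat_lit 23, nat_lit 23, nat_lit 23, nat_lit 23, nat_lit 23, nat_lit 23, nat_lit 23, nat_lit 23, nat_lit 23, nat_lit 23, nat_lit 23, nat_lit 23, nat_lit 23, nat_lit 23, nat_lit 23, nat_lit 23, nat_lit 23, nat_lit 23, nat_lit 23, nat_lit 23, nat_lit 23, nat_lit 23, nat_lit 23, nat_lit 23, nat_lit 23, nat_lit 23] [nat_lit 0, nat_lit 0, nat_lit 0, nat_lit 0, nat_lit 0, nat_lit 0, nat_lit 0, nat_lit 0, nat_lit 0, nat_lit 0, nat_lit 0, nat_lit 0, nat_lit 0, nat_lit 0, nat_lit 0, nat_lit 0, nat_lit 0, nat_lit 0, nat_lit 0, nat_lit 0, nat_lit 0, nat_lit 0, nat_lit 0, nat_lit 0, nat_lit 0, nat_lit 0, nat_lit 0, nat_lit 0, nat_lit 0, nat_lit 0, nat_lit 0, nat_lit 0, nat_lit 0, nat_lit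 0, nat_lit 0, nat_lit 0, nat_lit 0, nat_lit 0, nat_lit 0, nat_lit 0, nat_lit 0, nat_lit 0, nat_lit 0, nat_lit 0, nat_lit 0, nat_lit 0, nat_lit 0, nat_lit 0, nat_lit 0, nat_lit 0, nat_lit 0, nat_lit 0, nat_lit 0, nat_lit 0, nat_lit 0, nat_lit 0, nat_lit 0, nat_lit 0, nat_lit 0, nat_lit 0, nat_lit 0, nat_lit 0, nat_lit 0, nat_lit 0]) i = 0 :=
  (rng_step (all0 _) qBk_0)
theorem qhB : Rows (Lf fst H (mA.elt (qD 1))⁻¹) pvB (brow (nat_lit 40)) qB (pvB (pt (brow (nat_lit 40)) Y (nat_lit 174))) :=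
  qtinv.symm ▸ rows_of_chkB (acts2 (m := mP) ψB hPB (cel1 (pmul (mul3 (nat_lit 248)) (mul2 (nat_lit 40)) (nat_lit 1600)) qL1P (nat_lit 5) qL1P)) (el_cel1 qL1el qL1el _) qBk
theorem qR1I : ∀ i < 3, (chkD1 (mul3 (nat_lit 248)) qD (fun x => hi (nat_lit 1600) (ce0 x)) qR1w (nat_lit 1) (nat_lit 11)) i = 0 :=
  (rng_step (rng_step (rng_step (all0 _) qR1I_0) qR1I_1) qR1I_2)
theorem qR1O : ∀ i < 248, (chkR (img2 (nat_lit 40) fun s => lo (nat_lit 1600) (qL1P s)) (img2 (nat_lit 40) fun s => lo (nat_lit 1600) (ce0 s)) (brow (nat_lit 40)) Y qR1a (nat_lit 248) qB qR1w (nat_lit 3)) i = 0 :=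
  allB (rngB_step (allB0 _ _) qR1O_0) (by decide)
theorem qR1 : ∀ h ∈ (Subgroup.map fst H), ∃ j < 11, DCos (Subgroup.map fst H) (mA.elt (qD j)) ((mA.elt (qD 1)) * h * (mA.elt (qD 1))) :=
  dc_row pf qelD c0el qex.1.le qhK qhB (acts2 (m := mP) ψB hPB qL1P) qL1el (acts2 (m := mP) ψB hPB ce0) qR1O qR1I
theorem qR2I : ∀ i < 4, (chkD1 (mul3 (nat_lit 248)) qD (fun x => hi (nat_lit 1600) (ce0 x)) qR2w (nat_lit 2) (nat_lit 11)) i = 0 :=
  (rng_step (rng_step (rng_step (rng_step (all0 _) qR2I_0) qR2I_1) qR2I_2) qR2I_3)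
theorem qR2O : ∀ i < 248, (chkR (img2 (nat_lit 40) fun s => lo (nat_lit 1600) (qL2P s)) (img2 (nat_lit 40) fun s => lo (nat_lit 1600) (ce0 s)) (brow (nat_lit 40)) Y qR2a (nat_lit 248) qB qR2w (nat_lit 4)) i = 0 :=
  allB (rngB_step (allB0 _ _) qR2O_0) (by decide)
theorem qR2 : ∀ h ∈ (Subgroup.map fst H), ∃ j < 11, DCos (Subgroup.map fst H) (mA.elt (qD j)) ((mA.elt (qD 2)) * h * (mA.elt (qD 1))) :=
  dc_row pf qelD c0el qex.1.le qhK qhB (acts2 (m := mP) ψB hPB qL2P) qL2el (acts2 (m := mP) ψB hPB ce0) qR2O qR2I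
theorem qR3I : ∀ i < 52, (chkD1 (mul3 (nat_lit 248)) qD (fun x => hi (nat_lit 1600) (ce0 x)) qR3w (nat_lit 3) (nat_lit 11)) i = 0 :=
  (rng_step (rng_step (rng_step (rng_step (rng_step (rng_step (rng_step (rng_step (rng_step (rng_step (rng_step (rng_step (rng_step (rng_step (rng_step (rng_step (rng_step (rng_step (rng_step (rng_step (rng_step (rng_step (rng_step (rng_step (rng_step (rng_step (rng_step (rng_step (rng_step (rng_step (rng_step (rng_step (rng_step (rng_step (rng_step (rng_step (rng_step (rng_step (rng_step (rng_step (rng_step (rng_step (rng_step (rng_step (rng_step (rng_step (rng_step (rng_step (rng_step (rng_step (rng_step (rng_step (all0 _) qR3I_0) qR3I_1) qR3I_2) qR3I_3) qR3I_4) qR3I_5) qR3I_6) qR3I_7) qR3I_8) qR3I_9) qR3I_10) qR3I_11) qR3I_12) qR3I_13) qR3I_14) qR3I_15) qR3I_16) qR3I_17) qR3I_18) qR3I_19) qR3I_20) qR3I_21) qR3I_22) qR3I_23) qR3I_24)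 qR3I_25) qR3I_26) qR3I_27) qR3I_28) qR3I_29) qR3I_30) qR3I_31) qR3I_32) qR3I_33) qR3I_34) qR3I_35) qR3I_36) qR3I_37) qR3I_38) qR3I_39) qR3I_40) qR3I_41) qR3I_42) qR3I_43) qR3I_44) qR3I_45) qR3I_46) qR3I_47) qR3I_48) qR3I_49) qR3I_50) qR3I_51)
theorem qR3O : ∀ i < 248, (chkR (img2 (nat_lit 40) fun s => lo (nat_lit 1600) (qL3P s)) (img2 (nat_lit 40) fun s => lo (nat_lit 1600) (ce0 s)) (brow (nat_lit 40)) Y qR3a (nat_lit 248) qB qR3w (nat_lit 52)) i = 0 :=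
  allB (rngB_step (allB0 _ _) qR3O_0) (by decide)
theorem qR3 : ∀ h ∈ (Subgroup.map fst H), ∃ j < 11, DCos (Subgroup.map fst H) (mA.elt (qD j)) ((mA.elt (qD 3)) * h * (mA.elt (qD 1))) :=
  dc_row pf qelD c0el qex.1.le qhK qhB (acts2 (m := mP) ψB hPB qL3P) qL3el (acts2 (m := mP) ψB hPB ce0) qR3O qR3I
theorem qR4I : ∀ i < 36, (chkD1 (mul3 (nat_lit 248)) qD (fun x => hi (nat_lit 1600) (ce0 x)) qR4w (nat_lit 4) (nat_lit 11)) i = 0 :=
  (rng_step (rng_step (rng_step (rng_step (rng_step (rng_step (rng_step (rng_step (rng_step (rng_step (rng_step (rng_step (rng_step (rng_step (rng_step (rng_step (rng_step (rng_step (rng_step (rng_step (rng_step (rng_step (rng_step (rng_step (rng_step (rng_step (rng_step (rng_step (rng_step (rng_step (rng_step (rng_step (rng_step (rng_step (rng_step (rng_step (all0 _) qR4I_0) qR4I_1) qR4I_2) qR4I_3) qR4I_4) qR4I_5) qR4I_6) qR4I_7) qR4I_8)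 qR4I_9) qR4I_10) qR4I_11) qR4I_12) qR4I_13) qR4I_14) qR4I_15) qR4I_16) qR4I_17) qR4I_18) qR4I_19) qR4I_20) qR4I_21) qR4I_22) qR4I_23) qR4I_24) qR4I_25) qR4I_26) qR4I_27) qR4I_28) qR4I_29) qR4I_30) qR4I_31) qR4I_32) qR4I_33) qR4I_34) qR4I_35)
theorem qR4O : ∀ i < 248, (chkR (img2 (nat_lit 40) fun s => lo (nat_lit 1600) (qL4P s)) (img2 (nat_lit 40) fun s => lo (nat_lit 1600) (ce0 s)) (brow (nat_lit 40)) Y qR4a (nat_lit 248) qB qR4w (nat_lit 36)) i = 0 :=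
  allB (rngB_step (allB0 _ _) qR4O_0) (by decide)
theorem qR4 : ∀ h ∈ (Subgroup.map fst H), ∃ j < 11, DCos (Subgroup.map fst H) (mA.elt (qD j)) ((mA.elt (qD 4)) * h * (mA.elt (qD 1))) :=
  dc_row pf qelD c0el qex.1.le qhK qhB (acts2 (m := mP) ψB hPB qL4P) qL4el (acts2 (m := mP) ψB hPB ce0) qR4O qR4I
theorem qR5I : ∀ i < 52, (chkD1 (mul3 (nat_lit 248)) qD (fun x => hi (nat_lit 1600) (ce0 x)) qR5w (nat_lit 5) (nat_lit 11)) i = 0 :=
  (rng_step (rng_step (rng_step (rng_step (rng_step (rng_step (rng_step (rng_step (rng_step (rng_step (rng_step (rng_step (rng_step (rng_step (rng_step (rng_step (rng_step (rng_step (rng_step (rng_step (rng_step (rng_step (rng_step (rng_step (rng_step (rng_step (rng_step (rng_step (rng_step (rng_step (rng_step (rng_step (rng_step (rng_step (rng_step (rng_step (rng_step (rng_step (rng_step (rng_step (rng_step (rng_step (rng_step (rng_step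 (rng_step (rng_step (rng_step (rng_step (rng_step (rng_step (rng_step (rng_step (all0 _) qR5I_0) qR5I_1) qR5I_2) qR5I_3) qR5I_4) qR5I_5) qR5I_6) qR5I_7) qR5I_8) qR5I_9) qR5I_10) qR5I_11) qR5I_12) qR5I_13) qR5I_14) qR5I_15) qR5I_16) qR5I_17) qR5I_18) qR5I_19) qR5I_20) qR5I_21) qR5I_22) qR5I_23) qR5I_24) qR5I_25) qR5I_26) qR5I_27) qR5I_28) qR5I_29) qR5I_30) qR5I_31) qR5I_32) qR5I_33) qR5I_34) qR5I_35) qR5I_36) qR5I_37) qR5I_38) qR5I_39) qR5I_40) qR5I_41) qR5I_42) qR5I_43) qR5I_44) qR5I_45) qR5I_46) qR5I_47) qR5I_48) qR5I_49) qR5I_50) qR5I_51)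
theorem qR5O : ∀ i < 248, (chkR (img2 (nat_lit 40) fun s => lo (nat_lit 1600) (qL5P s)) (img2 (nat_lit 40) fun s => lo (nat_lit 1600) (ce0 s)) (brow (nat_lit 40)) Y qR5a (nat_lit 248) qB qR5w (nat_lit 52)) i = 0 :=
  allB (rngB_step (allB0 _ _) qR5O_0) (by decide)
theorem qR5 : ∀ h ∈ (Subgroup.map fst H), ∃ j < 11, DCos (Subgroup.map fst H) (mA.elt (qD j)) ((mA.elt (qD 5)) * h * (mA.elt (qD 1))) :=
  dc_row pf qelD c0el qex.1.le qhK qhB (acts2 (m := mP) ψB hPB qL5P) qL5el (acts2 (m := mP) ψB hPB ce0) qR5O qR5I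
theorem qR6I : ∀ i < 86, (chkD1 (mul3 (nat_lit 248)) qD (fun x => hi (nat_lit 1600) (ce0 x)) qR6w (nat_lit 6) (nat_lit 11)) i = 0 :=
  (rng_step (rng_step (rng_step (rng_step (rng_step (rng_step (rng_step (rng_step (rng_step (rng_step (rng_step (rng_step (rng_step (rng_step (rng_step (rng_step (rng_step (rng_step (rng_step (rng_step (rng_step (rng_step (rng_step (rng_step (rng_step (rng_step (rng_step (rng_step (rng_step (rng_step (rng_step (rng_step (rng_step (rng_step (rng_step (rng_step (rng_step (rng_step (rng_step (rng_step (rng_step (rng_step (rng_step (rng_step (rng_step (rng_step (rng_step (rng_step (rng_step (rng_step (rng_step (rng_step (rng_step (rng_step (rng_step (rng_step (rng_step (rng_step (rng_step (rng_step (rng_step (rng_step (rng_step (rng_step (rng_step (rng_step (rng_step (rng_step (rng_step (rng_step (rng_step (rng_step (rng_step (rng_step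 (rng_step (rng_step (rng_step (rng_step (rng_step (rng_step (rng_step (rng_step (rng_step (rng_step (rng_step (rng_step (all0 _) qR6I_0) qR6I_1) qR6I_2) qR6I_3) qR6I_4) qR6I_5) qR6I_6) qR6I_7) qR6I_8) qR6I_9) qR6I_10) qR6I_11) qR6I_12) qR6I_13) qR6I_14) qR6I_15) qR6I_16) qR6I_17) qR6I_18) qR6I_19) qR6I_20) qR6I_21) qR6I_22) qR6I_23) qR6I_24) qR6I_25) qR6I_26) qR6I_27) qR6I_28) qR6I_29) qR6I_30) qR6I_31) qR6I_32) qR6I_33) qR6I_34) qR6I_35) qR6I_36) qR6I_37) qR6I_38) qR6I_39) qR6I_40) qR6I_41) qR6I_42) qR6I_43) qR6I_44) qR6I_45) qR6I_46) qR6I_47) qR6I_48) qR6I_49) qR6I_50) qR6I_51) qR6I_52) qR6I_53) qR6I_54) qR6I_55) qR6I_56) qR6I_57) qR6I_58) qR6I_59) qR6I_60) qR6I_61) qR6I_62) qR6I_63) qR6I_64) qR6I_65) qR6I_66) qR6I_67) qR6I_68) qR6I_69) qR6I_70) qR6I_71) qR6I_72) qR6I_73) qR6I_74) qR6I_75) qR6I_76) qR6I_77) qR6I_78) qR6I_79) qR6I_80) qR6I_81) qR6I_82) qR6I_83)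 qR6I_84) qR6I_85)
theorem qR6O : ∀ i < 248, (chkR (img2 (nat_lit 40) fun s => lo (nat_lit 1600) (qL6P s)) (img2 (nat_lit 40) fun s => lo (nat_lit 1600) (ce0 s)) (brow (nat_lit 40)) Y qR6a (nat_lit 248) qB qR6w (nat_lit 86)) i = 0 :=
  allB (rngB_step (rngB_step (rngB_step (allB0 _ _) qR6O_0) qR6O_1) qR6O_2) (by decide)
theorem qR6 : ∀ h ∈ (Subgroup.map fst H), ∃ j < 11, DCos (Subgroup.map fst H) (mA.elt (qD j)) ((mA.elt (qD 6)) * h * (mA.elt (qD 1))) :=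
  dc_row pf qelD c0el qex.1.le qhK qhB (acts2 (m := mP) ψB hPB qL6P) qL6el (acts2 (m := mP) ψB hPB ce0) qR6O qR6I
theorem qR7I : ∀ i < 6, (chkD1 (mul3 (nat_lit 248)) qD (fun x => hi (nat_lit 1600) (ce0 x)) qR7w (nat_lit 7) (nat_lit 11)) i = 0 :=
  (rng_step (rng_step (rng_step (rng_step (rng_step (rng_step (all0 _) qR7I_0) qR7I_1) qR7I_2) qR7I_3) qR7I_4) qR7I_5)
theorem qR7O : ∀ i < 248, (chkR (img2 (nat_lit 40) fun s => lo (nat_lit 1600) (qL7P s)) (img2 (nat_lit 40) fun s => lo (nat_lit 1600) (ce0 s)) (brow (nat_lit 40)) Y qR7a (nat_lit 248) qB qR7w (nat_lit 6)) i = 0 :=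
  allB (rngB_step (allB0 _ _) qR7O_0) (by decide)
theorem qR7 : ∀ h ∈ (Subgroup.map fst H), ∃ j < 11, DCos (Subgroup.map fst H) (mA.elt (qD j)) ((mA.elt (qD 7)) * h * (mA.elt (qD 1))) :=
  dc_row pf qelD c0el qex.1.le qhK qhB (acts2 (m := mP) ψB hPB qL7P) qL7el (acts2 (m := mP) ψB hPB ce0) qR7O qR7I
theorem qR8I : ∀ i < 4, (chkD1 (mul3 (nat_lit 248)) qD (fun x => hi (nat_lit 1600) (ce0 x)) qR8w (nat_lit 8) (nat_lit 11)) i = 0 :=
  (rng_step (rng_step (rng_step (rng_step (all0 _) qR8I_0) qR8I_1) qR8I_2) qR8I_3)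
theorem qR8O : ∀ i < 248, (chkR (img2 (nat_lit 40) fun s => lo (nat_lit 1600) (qL8P s)) (img2 (nat_lit 40) fun s => lo (nat_lit 1600) (ce0 s)) (brow (nat_lit 40)) Y qR8a (nat_lit 248) qB qR8w (nat_lit 4)) i = 0 :=
  allB (rngB_step (allB0 _ _) qR8O_0) (by decide)
theorem qR8 : ∀ h ∈ (Subgroup.map fst H), ∃ j < 11, DCos (Subgroup.map fst H) (mA.elt (qD j)) ((mA.elt (qD 8)) * h * (mA.elt (qD 1))) :=
  dc_row pf qelD c0el qex.1.le qhK qhB (acts2 (m := mP) ψB hPB qL8P) qL8el (acts2 (m := mP) ψB hPB ce0) qR8O qR8I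
theorem qR9I : ∀ i < 10, (chkD1 (mul3 (nat_lit 248)) qD (fun x => hi (nat_lit 1600) (ce0 x)) qR9w (nat_lit 9) (nat_lit 11)) i = 0 :=
  (rng_step (rng_step (rng_step (rng_step (rng_step (rng_step (rng_step (rng_step (rng_step (rng_step (all0 _) qR9I_0) qR9I_1) qR9I_2) qR9I_3) qR9I_4) qR9I_5) qR9I_6) qR9I_7) qR9I_8) qR9I_9)
theorem qR9O : ∀ i < 248, (chkR (img2 (nat_lit 40) fun s => lo (nat_lit 1600) (qL9P s)) (img2 (nat_lit 40) fun s => lo (nat_lit 1600) (ce0 s)) (brow (nat_lit 40)) Y qR9a (nat_lit 248) qB qR9w (nat_lit 10)) i = 0 :=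
  allB (rngB_step (allB0 _ _) qR9O_0) (by decide)
theorem qR9 : ∀ h ∈ (Subgroup.map fst H), ∃ j < 11, DCos (Subgroup.map fst H) (mA.elt (qD j)) ((mA.elt (qD 9)) * h * (mA.elt (qD 1))) :=
  dc_row pf qelD c0el qex.1.le qhK qhB (acts2 (m := mP) ψB hPB qL9P) qL9el (acts2 (m := mP) ψB hPB ce0) qR9O qR9I
theorem qR10I : ∀ i < 4, (chkD1 (mul3 (nat_lit 248)) qD (fun x => hi (nat_lit 1600) (ce0 x)) qR10w (nat_lit 10) (nat_lit 11)) i = 0 :=
  (rng_step (rng_step (rng_step (rng_step (all0 _) qR10I_0) qR10I_1) qR10I_2) qR10I_3)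
theorem qR10O : ∀ i < 248, (chkR (img2 (nat_lit 40) fun s => lo (nat_lit 1600) (qL10P s)) (img2 (nat_lit 40) fun s => lo (nat_lit 1600) (ce0 s)) (brow (nat_lit 40)) Y qR10a (nat_lit 248) qB qR10w (nat_lit 4)) i = 0 :=
  allB (rngB_step (allB0 _ _) qR10O_0) (by decide)
theorem qR10 : ∀ h ∈ (Subgroup.map fst H), ∃ j < 11, DCos (Subgroup.map fst H) (mA.elt (qD j)) ((mA.elt (qD 10)) * h * (mA.elt (qD 1))) :=
  dc_row pf qelD c0el qex.1.le qhK qhB (acts2 (m := mP) ψB hPB qL10P) qL10el (acts2 (m := mP) ψB hPB ce0) qR10O qR10I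
theorem qcov : ∀ g ∈ qG, ∃ i < 11, DCos (Subgroup.map fst H) (mA.elt (qD i)) g :=
  dc_cover (d := fun i => mA.elt (qD i)) (by decide) qd0
    (all_succ (all_succ (all_succ (all_succ (all_succ (all_succ (all_succ (all_succ (all_succ (all_succ (all_succ all_nil (dc_row0 (by decide) qd0)) qR1) qR2) qR3) qR4) qR5) qR6) qR7) qR8) qR9) qR10)
theorem qhBs : ∀ i < 11, getN [nat_lit 319979520, nat_lit 1290240, nat_lit 5376, nat_lit 5, nat_lit 9, nat_lit 5, nat_lit 3, nat_lit 126, nat_lit 155, nat_lit 48, nat_lit 155] i ≤ Nat.card (Lf fst H (mA.elt (qD i))) :=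
  (all_succ (all_succ (all_succ (all_succ (all_succ (all_succ (all_succ (all_succ (all_succ (all_succ (all_succ all_nil (by rw [qd0, Lf_one, qex.2.2.1]; decide)) qL1lb0) qL2lb0) qL3lb0) qL4lb0) qL5lb0) qL6lb0) qL7lb0) qL8lb0) qL9lb0) qL10lb0)
theorem qub : Nat.card qG ≤ Nat.card (Subgroup.map fst H) * 283599225 :=
  (dc_ub qcov c0ub (getN [nat_lit 319979520, nat_lit 1290240, nat_lit 5376, nat_lit 5, nat_lit 9, nat_lit 5, nat_lit 3, nat_lit 126, nat_lit 155, nat_lit 48, nat_lit 155]) (getN [nat_lit 1, nat_lit 248, nat_lit 59520, nat_lit 63995904, nat_lit 35553280, nat_lit 63995904, nat_lit 106659840, nat_lit 2539520, nat_lit 2064384, nat_lit 6666240, nat_lit 2064384]) qhBs (by decide +kernel)).trans_eq (congrArg _ (by decide +kernel))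
theorem qM1 : ∀ N : Subgroup GA, (Subgroup.map fst H) ≤ N → (mA.elt (qD 1)) ∈ N → (mA.elt (qD 1)) ∈ N :=
  fun _ _ h => h
theorem qM2 : ∀ N : Subgroup GA, (Subgroup.map fst H) ≤ N → (mA.elt (qD 2)) ∈ N → (mA.elt (qD 1)) ∈ N :=
  fun N hN h => let ⟨_, ha, _, hb, _, hc, _, e⟩ := eq_of_chkD qelD (pf.el c0el) (add_eq_zero' (qR2I 3 (by decide))).1; (mem3 hN ha hb hc e).2 h h
theorem qM3 : ∀ N : Subgroup GA, (Subgroup.map fst H) ≤ N → (mA.elt (qD 3)) ∈ N → (mA.elt (qD 1)) ∈ N :=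
  fun N hN h => let ⟨_, ha, _, hb, _, hc, _, e⟩ := eq_of_chkD qelD (pf.el c0el) (add_eq_zero' (qR3I 12 (by decide))).1; (mem3 hN ha hb hc e).2 h h
theorem qM4 : ∀ N : Subgroup GA, (Subgroup.map fst H) ≤ N → (mA.elt (qD 4)) ∈ N → (mA.elt (qD 1)) ∈ N :=
  fun N hN h => let ⟨_, ha, _, hb, _, hc, _, e⟩ := eq_of_chkD qelD (pf.el c0el) (add_eq_zero' (qR4I 2 (by decide))).1; (mem3 hN ha hb hc e).2 h h
theorem qM5 : ∀ N : Subgroup GA, (Subgroup.map fst H) ≤ N → (mA.elt (qD 5)) ∈ N → (mA.elt (qD 1)) ∈ N :=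
  fun N hN h => let ⟨_, ha, _, hb, _, hc, _, e⟩ := eq_of_chkD qelD (pf.el c0el) (add_eq_zero' (qR5I 1 (by decide))).1; (mem3 hN ha hb hc e).2 h h
theorem qM6 : ∀ N : Subgroup GA, (Subgroup.map fst H) ≤ N → (mA.elt (qD 6)) ∈ N → (mA.elt (qD 1)) ∈ N :=
  fun N hN h => let ⟨_, ha, _, hb, _, hc, _, e⟩ := eq_of_chkD qelD (pf.el c0el) (add_eq_zero' (qR6I 1 (by decide))).1; (mem3 hN ha hb hc e).2 h h
theorem qM7 : ∀ N : Subgroup GA, (Subgroup.map fst H) ≤ N → (mA.elt (qD 7)) ∈ N → (mA.elt (qD 1)) ∈ N :=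
  fun N hN h => let ⟨_, ha, _, hb, _, hc, _, e⟩ := eq_of_chkD qelD (pf.el c0el) (add_eq_zero' (qR7I 3 (by decide))).1; (mem3 hN ha hb hc e).2 h h
theorem qM9 : ∀ N : Subgroup GA, (Subgroup.map fst H) ≤ N → (mA.elt (qD 9)) ∈ N → (mA.elt (qD 1)) ∈ N :=
  fun N hN h => let ⟨_, ha, _, hb, _, hc, _, e⟩ := eq_of_chkD qelD (pf.el c0el) (add_eq_zero' (qR9I 7 (by decide))).1; (mem3 hN ha hb hc e).2 h h
theorem qX : ∀ i < 2, (chkD (mul3 (nat_lit 248)) qD (fun x => hi (nat_lit 1600) (ce0 x)) qXw) i = 0 :=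
  (rng_step (rng_step (all0 _) qX_0) qX_1)
theorem qM8 : ∀ N : Subgroup GA, (Subgroup.map fst H) ≤ N → (mA.elt (qD 8)) ∈ N → (mA.elt (qD 1)) ∈ N :=
  fun N hN h => let ⟨_, ha, _, hb, _, hc, _, e⟩ := eq_of_chkD qelD (pf.el c0el) (qX 0 (by decide)); qM6 N hN ((mem3 hN ha hb hc e).1 h h)
theorem qM10 : ∀ N : Subgroup GA, (Subgroup.map fst H) ≤ N → (mA.elt (qD 10)) ∈ N → (mA.elt (qD 1)) ∈ N :=
  fun N hN h => let ⟨_, ha, _, hb, _, hc, _, e⟩ := eq_of_chkD qelD (pf.el c0el) (qX 1 (by decide)); qM3 N hN ((mem3 hN ha hb hc e).1 h h)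
theorem qmax : ∀ N : Subgroup GA, (Subgroup.map fst H) ≤ N → N ≤ qG → N = (Subgroup.map fst H) ∨ N = qG :=
  dc_max (d := fun i => mA.elt (qD i)) qd0 le_rfl qcov
    (all_succ (all_succ (all_succ (all_succ (all_succ (all_succ (all_succ (all_succ (all_succ (all_succ (all_succ all_nil (fun h => absurd h (by decide))) (fun _ => qM1)) (fun _ => qM2)) (fun _ => qM3)) (fun _ => qM4)) (fun _ => qM5)) (fun _ => qM6)) (fun _ => qM7)) (fun _ => qM8)) (fun _ => qM9)) (fun _ => qM10))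
theorem qG0 : (mA.elt (qD 0)) ∈ qG :=
  qd0 ▸ one_mem _
theorem qG1 : (mA.elt (qD 1)) ∈ qG :=
  mem_sup_right (mem_zpowers _)
theorem qG2 : (mA.elt (qD 2)) ∈ qG :=
  let ⟨_, ha, _, hb, _, hc, _, e⟩ := eq_of_chkD qelD (pf.el c0el) (add_eq_zero' (qR1I 1 (by decide))).1; (mem3 le_sup_left ha hb hc e).1 qG1 qG1
theorem qG7 : (mA.elt (qD 7)) ∈ qG :=
  let ⟨_, ha, _, hb, _, hc, _, e⟩ := eq_of_chkD qelD (pf.el c0el) (add_eq_zero' (qR2I 1 (by decide))).1; (mem3 le_sup_left ha hb hc e).1 qG2 qG1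
theorem qG9 : (mA.elt (qD 9)) ∈ qG :=
  let ⟨_, ha, _, hb, _, hc, _, e⟩ := eq_of_chkD qelD (pf.el c0el) (add_eq_zero' (qR2I 2 (by decide))).1; (mem3 le_sup_left ha hb hc e).1 qG2 qG1
theorem qG5 : (mA.elt (qD 5)) ∈ qG :=
  let ⟨_, ha, _, hb, _, hc, _, e⟩ := eq_of_chkD qelD (pf.el c0el) (add_eq_zero' (qR7I 0 (by decide))).1; (mem3 le_sup_left ha hb hc e).1 qG7 qG1
theorem qG6 : (mA.elt (qD 6)) ∈ qG :=
  let ⟨_, ha, _, hb, _, hc, _, e⟩ := eq_of_chkD qelD (pf.el c0el) (add_eq_zero' (qR7I 1 (by decide))).1; (mem3 le_sup_left ha hb hc e).1 qG7 qG1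
theorem qG4 : (mA.elt (qD 4)) ∈ qG :=
  let ⟨_, ha, _, hb, _, hc, _, e⟩ := eq_of_chkD qelD (pf.el c0el) (add_eq_zero' (qR7I 2 (by decide))).1; (mem3 le_sup_left ha hb hc e).1 qG7 qG1
theorem qG3 : (mA.elt (qD 3)) ∈ qG :=
  let ⟨_, ha, _, hb, _, hc, _, e⟩ := eq_of_chkD qelD (pf.el c0el) (add_eq_zero' (qR5I 0 (by decide))).1; (mem3 le_sup_left ha hb hc e).1 qG5 qG1
theorem qG10 : (mA.elt (qD 10)) ∈ qG :=
  let ⟨_, ha, _, hb, _, hc, _, e⟩ := eq_of_chkD qelD (pf.el c0el) (add_eq_zero' (qR5I 45 (by decide))).1; (mem3 le_sup_left ha hb hc e).1 qG5 qG1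
theorem qG8 : (mA.elt (qD 8)) ∈ qG :=
  let ⟨_, ha, _, hb, _, hc, _, e⟩ := eq_of_chkD qelD (pf.el c0el) (add_eq_zero' (qR5I 50 (by decide))).1; (mem3 le_sup_left ha hb hc e).1 qG5 qG1
theorem qelG : mA.El qG qD :=
  el_of_pad (in_of_elt qelD (all_succ (all_succ (all_succ (all_succ (all_succ (all_succ (all_succ (all_succ (all_succ (all_succ (all_succ all_nil qG0) qG1) qG2) qG3) qG4) qG5) qG6) qG7) qG8) qG9) qG10))
theorem qel : mA.El qG qe :=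
  el_del1 qelG ((pf.el c0el).mono le_sup_left) _ _
theorem HA_eq : HA = mA.gn HAg 2 :=
  pf.map_gn H_top
theorem HA_eg : mA.El HA HAg :=
  pf.el H_eg
theorem XA_eq : XA = mA.gn XAg 2 :=
  pf.map_gn cK1_top
theorem XA_eg : mA.El XA XAg :=
  pf.el cK1_eg
theorem G_eg : mA.El qG Gg :=
  El.cons1 (qelG 1) (HA_eg.mono le_sup_left)
theorem XE : ∀ i < 2, (fun s => Nat.xor (XAg s) (xP s)) i = 0 :=
  (rng_step (all0 _) XE_0)
theorem xin0 : ∀ u < 2, mA.In XA (xP u) :=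
  fun s hs => (XA_eg s).of_eq (XE s hs)
theorem xW : ∀ i < 8, (chkPl (mul3 (nat_lit 248)) xP [[nat_lit 0, nat_lit 0, nat_lit 0, nat_lit 1, nat_lit 0, nat_lit 0, nat_lit 0],
  [nat_lit 0, nat_lit 0, nat_lit 0, nat_lit 0, nat_lit 1, nat_lit 0, nat_lit 0, nat_lit 1, nat_lit 1, nat_lit 1],
  [nat_lit 3, nat_lit 2, nat_lit 3, nat_lit 3, nat_lit 2, nat_lit 3, nat_lit 3, nat_lit 2, nat_lit 3],
  [nat_lit 2, nat_lit 2, nat_lit 3, nat_lit 3, nat_lit 3, nat_lit 3, nat_lit 2, nat_lit 2, nat_lit 3],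
  [nat_lit 5, nat_lit 5, nat_lit 5, nat_lit 4, nat_lit 5, nat_lit 5, nat_lit 5, nat_lit 4],
  [nat_lit 4, nat_lit 4, nat_lit 5, nat_lit 5, nat_lit 5],
  [nat_lit 6, nat_lit 6, nat_lit 7, nat_lit 6],
  [nat_lit 6, nat_lit 7, nat_lit 6, nat_lit 6]] (nat_lit 2)) i = 0 :=
  (rng_step (rng_step (all0 _) xW_0) xW_1)
theorem xel : mA.El XA xP :=
  el_of_pad (in_pool xin0 xW)
theorem xs0 : Suf mA XA xP 0 :=
  suf0 xel
theorem x0yY : ∀ i < 240, (chkY (can3 (nat_lit 248)) (row3 (nat_lit 248)) x0y (nat_lit 240)) i = 0 :=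
  allB (rngB_step (allB0 _ _) x0yY_0) (by decide)
theorem x0yD : Dist (fun i => pvA (pt (row3 (nat_lit 248)) x0y i)) 240 :=
  dist_of_chk (canT3 φA) x0yY
theorem x0RO : ∀ i < 240, (chkO (img3 (nat_lit 248) (shf xP (nat_lit 0))) (row3 (nat_lit 248)) x0y x0Ra (nat_lit 240) [nat_lit 95]) i = 0 :=
  allB (rngB_step (allB0 _ _) x0RO_0) (by decide)
theorem x0R : Reach XA (fun i => pvA (pt (row3 (nat_lit 248)) x0y i)) 240 [nat_lit 95] :=
  reach_of_chk ((acts3 (m := mA) φA hA (shf xP (nat_lit 0))).ex xs0.el) x0RO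
theorem x0X : ∀ i < 8, (chkFx (img3 (nat_lit 248) xP) (row3 (nat_lit 248)) x0y (nat_lit 95) [nat_lit 0, nat_lit 0, nat_lit 0, nat_lit 0, nat_lit 0, nat_lit 0, nat_lit 0, nat_lit 0] (nat_lit 2)) i = 0 :=
  (rng_step (all0 _) x0X_0)
theorem xs1 : Suf mA xK1 xP 2 :=
  xs0.step (by decide) (by decide) (acts3 (m := mA) φA hA xP) x0X
theorem x1yY : ∀ i < 224, (chkY (can3 (nat_lit 248)) (row3 (nat_lit 248)) x1y (nat_lit 224)) i = 0 :=
  allB (rngB_step (allB0 _ _) x1yY_0) (by decide)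
theorem x1yD : Dist (fun i => pvA (pt (row3 (nat_lit 248)) x1y i)) 224 :=
  dist_of_chk (canT3 φA) x1yY
theorem x1RO : ∀ i < 224, (chkO (img3 (nat_lit 248) (shf xP (nat_lit 2))) (row3 (nat_lit 248)) x1y x1Ra (nat_lit 224) [nat_lit 57]) i = 0 :=
  allB (rngB_step (allB0 _ _) x1RO_0) (by decide)
theorem x1R : Reach xK1 (fun i => pvA (pt (row3 (nat_lit 248)) x1y i)) 224 [nat_lit 57] :=
  reach_of_chk ((acts3 (m := mA) φA hA (shf xP (nat_lit 2))).ex xs1.el) x1RO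
theorem x1X : ∀ i < 6, (chkFx (img3 (nat_lit 248) xP) (row3 (nat_lit 248)) x1y (nat_lit 57) [nat_lit 0, nat_lit 0, nat_lit 0, nat_lit 0, nat_lit 0, nat_lit 0] (nat_lit 4)) i = 0 :=
  (rng_step (all0 _) x1X_0)
theorem xs2 : Suf mA xK2 xP 4 :=
  xs1.step (by decide) (by decide) (acts3 (m := mA) φA hA xP) x1X
theorem x2yY : ∀ i < 48, (chkY (can3 (nat_lit 248)) (row3 (nat_lit 248)) x2y (nat_lit 48)) i = 0 :=
  allB (rngB_step (allB0 _ _) x2yY_0) (by decide)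
theorem x2yD : Dist (fun i => pvA (pt (row3 (nat_lit 248)) x2y i)) 48 :=
  dist_of_chk (canT3 φA) x2yY
theorem x2RO : ∀ i < 48, (chkO (img3 (nat_lit 248) (shf xP (nat_lit 4))) (row3 (nat_lit 248)) x2y x2Ra (nat_lit 48) [nat_lit 36]) i = 0 :=
  allB (rngB_step (allB0 _ _) x2RO_0) (by decide)
theorem x2R : Reach xK2 (fun i => pvA (pt (row3 (nat_lit 248)) x2y i)) 48 [nat_lit 36] :=
  reach_of_chk ((acts3 (m := mA) φA hA (shf xP (nat_lit 4))).ex xs2.el) x2RO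
theorem x2X : ∀ i < 4, (chkFx (img3 (nat_lit 248) xP) (row3 (nat_lit 248)) x2y (nat_lit 36) [nat_lit 0, nat_lit 0, nat_lit 0, nat_lit 0] (nat_lit 6)) i = 0 :=
  (rng_step (all0 _) x2X_0)
theorem xs3 : Suf mA xK3 xP 6 :=
  xs2.step (by decide) (by decide) (acts3 (m := mA) φA hA xP) x2X
theorem x3yY : ∀ i < 2, (chkY (can3 (nat_lit 248)) (row3 (nat_lit 248)) x3y (nat_lit 2)) i = 0 :=
  allB (rngB_step (allB0 _ _) x3yY_0) (by decide)
theorem x3yD : Dist (fun i => pvA (pt (row3 (nat_lit 248)) x3y i)) 2 :=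
  dist_of_chk (canT3 φA) x3yY
theorem x3RO : ∀ i < 2, (chkO (img3 (nat_lit 248) (shf xP (nat_lit 6))) (row3 (nat_lit 248)) x3y x3Ra (nat_lit 2) [nat_lit 0]) i = 0 :=
  allB (rngB_step (allB0 _ _) x3RO_0) (by decide)
theorem x3R : Reach xK3 (fun i => pvA (pt (row3 (nat_lit 248)) x3y i)) 2 [nat_lit 0] :=
  reach_of_chk ((acts3 (m := mA) φA hA (shf xP (nat_lit 6))).ex xs3.el) x3RO
theorem x3X : ∀ i < 2, (chkFx (img3 (nat_lit 248) xP) (row3 (nat_lit 248)) x3y (nat_lit 0) [nat_lit 0, nat_lit 0] (nat_lit 8)) i = 0 :=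
  (rng_step (all0 _) x3X_0)
theorem xs4 : Suf mA xK4 xP 8 :=
  xs3.step (by decide) (by decide) (acts3 (m := mA) φA hA xP) x3X
theorem x4yY : ∀ i < 2, (chkY (can3 (nat_lit 248)) (row3 (nat_lit 248)) x4y (nat_lit 2)) i = 0 :=
  allB (rngB_step (allB0 _ _) x4yY_0) (by decide)
theorem x4yD : Dist (fun i => pvA (pt (row3 (nat_lit 248)) x4y i)) 2 :=
  dist_of_chk (canT3 φA) x4yY
theorem x4RO : ∀ i < 2, (chkO (img3 (nat_lit 248) (shf xP (nat_lit 8))) (row3 (nat_lit 248)) x4y x4Ra (nat_lit 2) [nat_lit 0]) i = 0 :=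
  allB (rngB_step (allB0 _ _) x4RO_0) (by decide)
theorem x4R : Reach xK4 (fun i => pvA (pt (row3 (nat_lit 248)) x4y i)) 2 [nat_lit 0] :=
  reach_of_chk ((acts3 (m := mA) φA hA (shf xP (nat_lit 8))).ex xs4.el) x4RO
theorem x4X : ∀ i < 0, (chkFx (img3 (nat_lit 248) xP) (row3 (nat_lit 248)) x4y (nat_lit 0) [] (nat_lit 10)) i = 0 :=
  (all0 _)
theorem xs5 : Suf mA xK5 xP 10 :=
  xs4.step (by decide) (by decide) (acts3 (m := mA) φA hA xP) x4X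
theorem xlb5 : 1 ≤ Nat.card xK5 :=
  one_le_card _
theorem xlb4 : 2 ≤ Nat.card xK4 :=
  le_of_eq_of_le (by norm_num) (card_ge x4yD x4R xlb5)
theorem xlb3 : 4 ≤ Nat.card xK3 :=
  le_of_eq_of_le (by norm_num) (card_ge x3yD x3R xlb4)
theorem xlb2 : 192 ≤ Nat.card xK2 :=
  le_of_eq_of_le (by norm_num) (card_ge x2yD x2R xlb3)
theorem xlb1 : 43008 ≤ Nat.card xK1 :=
  le_of_eq_of_le (by norm_num) (card_ge x1yD x1R xlb2)
theorem xlb0 : 10321920 ≤ Nat.card XA :=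
  le_of_eq_of_le (by norm_num) (card_ge x0yD x0R xlb1)
theorem P3IE : ∀ i < 10, (chkE P3g qe [nat_lit 2425909897993575683, nat_lit 14592670323947775381, nat_lit 6452731644022719235, nat_lit 5874025194586432053, nat_lit 5091472180536187398, nat_lit 7590871972293921347, nat_lit 11912031487222102259, nat_lit 6101431192304538405, nat_lit 4684735222861447110, nat_lit 5886877064774476694]) i = 0 :=
  (rng_step (rng_step (rng_step (rng_step (rng_step (rng_step (rng_step (rng_step (rng_step (rng_step (all0 _) P3IE_0) P3IE_1) P3IE_2) P3IE_3) P3IE_4) P3IE_5) P3IE_6) P3IE_7) P3IE_8) P3IE_9)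
theorem P3I : ∀ s < 10, mA.In qG (P3g s) :=
  in_of_chkE qel P3IE
theorem P3_top : ∀ s < 10, mA.In ⊤ (P3g s) :=
  fun s hs => (P3I s hs).top
theorem P3_in : ∀ s < 10, mA.In P3 (P3g s) :=
  in_gn P3_top
theorem P3_eg : mA.El P3 P3g :=
  el_gn P3_top
theorem P3C : ∀ i < 100, (chkPC (mul3 (nat_lit 248)) (one2 (nat_lit 248)) P3g P3w (nat_lit 10) (nat_lit 9)) i = 0 :=
  (rng_step (rng_step (rng_step (rng_step (rng_step (rng_step (rng_step (rng_step (rng_step (rng_step (rng_step (rng_step (rng_step (all0 _) P3C_0) P3C_1) P3C_2) P3C_3) P3C_4) P3C_5) P3C_6) P3C_7) P3C_8) P3C_9) P3C_10) P3C_11) P3C_12)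
theorem P3_p : IsPGroup 3 P3 :=
  pgroup_of_chkPC (e := 2) P3_top P3C
theorem P3_le : P3 ≤ qG :=
  gn_le P3I
theorem P3he : ∀ s < 5, mA.In P3h (P3g s) :=
  in_gn fun s hs => P3_top s (by omega)
theorem P3kE : ∀ i < 5, (fun s => Nat.xor (P3g s) (P3k s)) i = 0 :=
  (rng_step (all0 _) P3kE_0)
theorem P3ke : mA.El P3h P3k :=
  el_of_pad fun s hs => (P3he s hs).of_eq (P3kE s hs)
theorem Z1Y : ∀ i < 243, (chkY (can3 (nat_lit 248)) (row3 (nat_lit 248)) Z1 (nat_lit 243)) i = 0 :=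
  allB (rngB_step (allB0 _ _) Z1Y_0) (by decide)
theorem Z1D : Dist (fun i => pvA (pt (row3 (nat_lit 248)) Z1 i)) 243 :=
  dist_of_chk (canT3 φA) Z1Y
theorem Z1RO : ∀ i < 243, (chkO (img3 (nat_lit 248) P3g) (row3 (nat_lit 248)) Z1 Z1Ra (nat_lit 243) [nat_lit 175]) i = 0 :=
  allB (rngB_step (allB0 _ _) Z1RO_0) (by decide)
theorem Z1R : Reach P3 (fun i => pvA (pt (row3 (nat_lit 248)) Z1 i)) 243 [nat_lit 175] :=
  reach_of_chk ((acts3 (m := mA) φA hA P3g).ex P3_eg) Z1RO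
theorem Z1F : ∀ i < 5, (chkF (img3 (nat_lit 248) P3g) (row3 (nat_lit 248)) Z1 (nat_lit 175) []) i = 0 :=
  (rng_step (all0 _) Z1F_0)
theorem Z2Y : ∀ i < 243, (chkY (can3 (nat_lit 248)) (row3 (nat_lit 248)) Z2 (nat_lit 243)) i = 0 :=
  allB (rngB_step (allB0 _ _) Z2Y_0) (by decide)
theorem Z2D : Dist (fun i => pvA (pt (row3 (nat_lit 248)) Z2 i)) 243 :=
  dist_of_chk (canT3 φA) Z2Y
theorem Z2RO : ∀ i < 243, (chkO (img3 (nat_lit 248) P3k) (row3 (nat_lit 248)) Z2 Z2Ra (nat_lit 243) [nat_lit 0]) i = 0 :=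
  allB (rngB_step (allB0 _ _) Z2RO_0) (by decide)
theorem Z2R : Reach P3h (fun i => pvA (pt (row3 (nat_lit 248)) Z2 i)) 243 [nat_lit 0] :=
  reach_of_chk ((acts3 (m := mA) φA hA P3k).ex P3ke) Z2RO
theorem d3 : 3 ^ (9 + 1) ∣ Nat.card qG :=
  pow_dvd_of_pgroup (by norm_num) P3_p P3_le (lower Z1D Z1R (gn_le fun s hs => P3_in s (by omega))
    (gn_le_stab (acts3 (m := mA) φA hA P3g) Z1F) (card_ge Z2D Z2R (one_le_card _))) (by norm_num)
theorem P5IE : ∀ i < 3, (chkE P5g qe [nat_lit 6632703296371873793, nat_lit 16837272806015487097, nat_lit 7043988208718289337]) i = 0 :=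
  (rng_step (rng_step (rng_step (all0 _) P5IE_0) P5IE_1) P5IE_2)
theorem P5I : ∀ s < 3, mA.In qG (P5g s) :=
  in_of_chkE qel P5IE
theorem P5_top : ∀ s < 3, mA.In ⊤ (P5g s) :=
  fun s hs => (P5I s hs).top
theorem P5_in : ∀ s < 3, mA.In P5 (P5g s) :=
  in_gn P5_top
theorem P5_eg : mA.El P5 P5g :=
  el_gn P5_top
theorem P5C : ∀ i < 9, (chkPC (mul3 (nat_lit 248)) (one2 (nat_lit 248)) P5g P5w (nat_lit 3) (nat_lit 5)) i = 0 :=
  (rng_step (all0 _) P5C_0)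
theorem P5_p : IsPGroup 5 P5 :=
  pgroup_of_chkPC (e := 1) P5_top P5C
theorem P5_le : P5 ≤ qG :=
  gn_le P5I
theorem P5ZY : ∀ i < 125, (chkY (can3 (nat_lit 248)) (row3 (nat_lit 248)) P5Z (nat_lit 125)) i = 0 :=
  allB (rngB_step (allB0 _ _) P5ZY_0) (by decide)
theorem P5ZD : Dist (fun i => pvA (pt (row3 (nat_lit 248)) P5Z i)) 125 :=
  dist_of_chk (canT3 φA) P5ZY
theorem P5RO : ∀ i < 125, (chkO (img3 (nat_lit 248) P5g) (row3 (nat_lit 248)) P5Z P5Ra (nat_lit 125) [nat_lit 0]) i = 0 :=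
  allB (rngB_step (allB0 _ _) P5RO_0) (by decide)
theorem P5R : Reach P5 (fun i => pvA (pt (row3 (nat_lit 248)) P5Z i)) 125 [nat_lit 0] :=
  reach_of_chk ((acts3 (m := mA) φA hA P5g).ex P5_eg) P5RO
theorem P5d : 5 ^ (2 + 1) ∣ Nat.card qG :=
  pow_dvd_of_pgroup (by norm_num) P5_p P5_le (card_ge P5ZD P5R (one_le_card _)) (by norm_num)
theorem P7IE : ∀ i < 2, (chkE P7g qe [nat_lit 2166821863476044289, nat_lit 10815575611665360551]) i = 0 :=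
  (rng_step (rng_step (all0 _) P7IE_0) P7IE_1)
theorem P7I : ∀ s < 2, mA.In qG (P7g s) :=
  in_of_chkE qel P7IE
theorem P7_top : ∀ s < 2, mA.In ⊤ (P7g s) :=
  fun s hs => (P7I s hs).top
theorem P7_in : ∀ s < 2, mA.In P7 (P7g s) :=
  in_gn P7_top
theorem P7_eg : mA.El P7 P7g :=
  el_gn P7_top
theorem P7C : ∀ i < 4, (chkPC (mul3 (nat_lit 248)) (one2 (nat_lit 248)) P7g P7w (nat_lit 2) (nat_lit 7)) i = 0 :=
  (rng_step (all0 _) P7C_0)
theorem P7_p : IsPGroup 7 P7 :=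
  pgroup_of_chkPC (e := 1) P7_top P7C
theorem P7_le : P7 ≤ qG :=
  gn_le P7I
theorem P7ZY : ∀ i < 49, (chkY (can3 (nat_lit 248)) (row3 (nat_lit 248)) P7Z (nat_lit 49)) i = 0 :=
  allB (rngB_step (allB0 _ _) P7ZY_0) (by decide)
theorem P7ZD : Dist (fun i => pvA (pt (row3 (nat_lit 248)) P7Z i)) 49 :=
  dist_of_chk (canT3 φA) P7ZY
theorem P7RO : ∀ i < 49, (chkO (img3 (nat_lit 248) P7g) (row3 (nat_lit 248)) P7Z P7Ra (nat_lit 49) [nat_lit 0]) i = 0 :=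
  allB (rngB_step (allB0 _ _) P7RO_0) (by decide)
theorem P7R : Reach P7 (fun i => pvA (pt (row3 (nat_lit 248)) P7Z i)) 49 [nat_lit 0] :=
  reach_of_chk ((acts3 (m := mA) φA hA P7g).ex P7_eg) P7RO
theorem P7d : 7 ^ (1 + 1) ∣ Nat.card qG :=
  pow_dvd_of_pgroup (by norm_num) P7_p P7_le (card_ge P7ZD P7R (one_le_card _)) (by norm_num)
theorem GP : ∀ i < 3, (chkPW (mul3 (nat_lit 248)) (one2 (nat_lit 248)) Gg [[nat_lit 0, nat_lit 1, nat_lit 1, nat_lit 1, nat_lit 2, nat_lit 1, nat_lit 0, nat_lit 0, nat_lit 2, nat_lit 0, nat_lit 2],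
  [nat_lit 1, nat_lit 2, nat_lit 0, nat_lit 1, nat_lit 2, nat_lit 0],
  [nat_lit 1, nat_lit 1, nat_lit 1, nat_lit 0, nat_lit 1, nat_lit 2, nat_lit 1, nat_lit 2, nat_lit 0, nat_lit 0]] Gg GPy (nat_lit 19)) i = 0 :=
  (rng_step (rng_step (rng_step (all0 _) GP_0) GP_1) GP_2)

theorem cardH : Nat.card H = 319979520 := qex.2.2.1.trans (by norm_num)

theorem cardHA : Nat.card HA ≤ 319979520 := (card_map_le _ _).trans cardH.le

theorem cardX : Nat.card XA = 10321920 := le_antisymm ((card_map_le _ _).trans c1ub) xlb0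

theorem XG : XA ≤ qG := (map_mono c0le).trans le_sup_left

theorem arith {n : ℕ} (h0 : 0 < n) (h1 : 10321920 ∣ n) (h2 : 3 ^ (9 + 1) ∣ n) (h3 : 5 ^ (2 + 1) ∣ n)
    (h4 : 7 ^ (1 + 1) ∣ n) (h5 : 13 ∣ n) (h6 : 19 ∣ n) (h7 : 31 ∣ n) (h : n ≤ 319979520 * 283599225) :
    n = 90745943887872000 := by
  have a1 : 32768 ∣ n := dvd_trans (by norm_num) h1
  have a2 := Nat.Coprime.mul_dvd_of_dvd_of_dvd (by norm_num) a1 h2
  have a3 := Nat.Coprime.mul_dvd_of_dvd_of_dvd (by norm_num) a2 h3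
  have a4 := Nat.Coprime.mul_dvd_of_dvd_of_dvd (by norm_num) a3 h4
  have a5 := Nat.Coprime.mul_dvd_of_dvd_of_dvd (by norm_num) a4 h5
  have a6 := Nat.Coprime.mul_dvd_of_dvd_of_dvd (by norm_num) a5 h6
  have a7 := Nat.Coprime.mul_dvd_of_dvd_of_dvd (by norm_num) a6 h7
  exact eq_of_dvd_of_le h0 (by simpa using a7) (by simpa using h)

theorem cardG : Nat.card qG = 90745943887872000 :=
  arith Nat.card_pos (cardX ▸ card_dvd_of_le XG) d3 P5d P7d (dvd_of_chkQW keyA G_eg (by norm_num) Q13)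
    (dvd_of_chkQW keyA G_eg (by norm_num) Q19) (dvd_of_chkQW keyA G_eg (by norm_num) Q31)
    (qub.trans (Nat.mul_le_mul_right _ cardHA))

theorem Lub : ∀ i < 11, Nat.card (Lf fst H (mA.elt (qD i))) ≤ getN [nat_lit 319979520, nat_lit 1290240, nat_lit 5376, nat_lit 5, nat_lit 9, nat_lit 5, nat_lit 3, nat_lit 126, nat_lit 155, nat_lit 48, nat_lit 155] i :=
  dc_eq (d := fun i => mA.elt (qD i)) qcov cardH.le (getN [nat_lit 319979520, nat_lit 1290240, nat_lit 5376, nat_lit 5, nat_lit 9, nat_lit 5, nat_lit 3, nat_lit 126, nat_lit 155, nat_lit 48, nat_lit 155]) (getN [nat_lit 1, nat_lit 248, nat_lit 59520, nat_lit 63995904, nat_lit 35553280, nat_lit 63995904, nat_lit 106659840, nat_lit 2539520, nat_lit 2064384, nat_lit 6666240, nat_lit 2064384]) qhBs (by decide +kernel)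
    ((Nat.mul_le_mul_right _ cardHA).trans (by rw [cardG]; decide +kernel))

theorem simpleG : IsSimpleGroup qG :=
  simple_rel (by rw [cardG]; norm_num) (dich_rel le_sup_left 19
    (Nat.Coprime.coprime_dvd_right (card_map_dvd _ _) (by rw [cardH]; norm_num)) qmax
    (core_of_coprime qG6 qG3 (by
      rw [le_antisymm (Lub 6 (by decide)) qL6lb0, le_antisymm (Lub 3 (by decide)) qL3lb0]; decide))
    fun N _ h =>
      have h1 := in_of_chkPW h G_eg (fun s _ => G_eg s) GP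
      sup_zpowers_le (HA_eq.le.trans (gn_le fun s hs => h1 (s + 1) (by omega))) (h1 0 (by decide)).elt_mem)

end Cfsg.Agent.H4.Th
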