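import Cfsg.Agent.H4.T2D0

set_option autoImplicit false
set_option maxRecDepth 100000

namespace Cfsg.Agent.H4.Th

open Subgroup Cfsg.Agent.H5 Cfsg.Agent.H5.Mdl 

noncomputable abbrev P0 : Subgroup GA := mA.gn P0g 2
noncomputable def P0If : ℕ → ℕ := chkI (mul3 (nat_lit 248)) (one2 (nat_lit 248)) P0g P0i
noncomputable abbrev P1 : Subgroup GA := mA.gn P1g 2
noncomputable def P1If : ℕ → ℕ := chkI (mul3 (nat_lit 248)) (one2 (nat_lit 248)) P1g P1i
noncomputable def p0Gf : ℕ → ℕ := chkG (mul3 (nat_lit 248)) P0g p0T P1g [[nat_lit 7, nat_lit 8, nat_lit 1],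
  [nat_lit 5, nat_lit 2, nat_lit 1, nat_lit 1]]
noncomputable abbrev P2 : Subgroup GA := mA.gn P2g 2
noncomputable def P2If : ℕ → ℕ := chkI (mul3 (nat_lit 248)) (one2 (nat_lit 248)) P2g P2i
noncomputable def p1Gf : ℕ → ℕ := chkG (mul3 (nat_lit 248)) P1g p1T P2g [[nat_lit 1, nat_lit 6, nat_lit 1, nat_lit 0],
  [nat_lit 3, nat_lit 5, nat_lit 0, nat_lit 1, nat_lit 0]]
noncomputable def p2Wf : ℕ → ℕ := chkW (mul3 (nat_lit 248)) (one2 (nat_lit 248)) P2g [[nat_lit 0, nat_lit 0, nat_lit 0, nat_lit 1, nat_lit 0, nat_lit 1, nat_lit 1, nat_lit 1, nat_lit 0, nat_lit 1, nat_lit 0, nat_lit 0, nat_lit 0],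
  [nat_lit 1, nat_lit 0, nat_lit 1, nat_lit 1, nat_lit 1, nat_lit 0, nat_lit 1, nat_lit 0, nat_lit 1, nat_lit 0],
  [nat_lit 0, nat_lit 1, nat_lit 0, nat_lit 0, nat_lit 1, nat_lit 0, nat_lit 1, nat_lit 0, nat_lit 0, nat_lit 0, nat_lit 0, nat_lit 0],
  [nat_lit 1, nat_lit 1, nat_lit 1, nat_lit 0, nat_lit 0, nat_lit 1, nat_lit 1, nat_lit 1, nat_lit 1, nat_lit 0, nat_lit 1, nat_lit 1, nat_lit 0, nat_lit 0, nat_lit 0],
  [nat_lit 1, nat_lit 1, nat_lit 0, nat_lit 1, nat_lit 1, nat_lit 0, nat_lit 1, nat_lit 1, nat_lit 0, nat_lit 0],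
  [nat_lit 0, nat_lit 0, nat_lit 0, nat_lit 1, nat_lit 0, nat_lit 0, nat_lit 1, nat_lit 0],
  [nat_lit 0, nat_lit 0, nat_lit 0, nat_lit 1, nat_lit 0, nat_lit 1, nat_lit 1, nat_lit 1, nat_lit 0, nat_lit 0, nat_lit 1, nat_lit 0, nat_lit 0],
  [nat_lit 1, nat_lit 1, nat_lit 0, nat_lit 1, nat_lit 1, nat_lit 1, nat_lit 0, nat_lit 0, nat_lit 0, nat_lit 1]] QAg
noncomputable def p2Sf : ℕ → ℕ := chkS2 (mul3 (nat_lit 248)) P2g (nat_lit 2) p2T eQ p2c (nat_lit 3) (nat_lit 7)
noncomputable def p2e : ℕ → ℕ := cel1 (mul3 (nat_lit 248)) p2T (nat_lit 3) eQ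
noncomputable def p1Sf : ℕ → ℕ := chkS2 (mul3 (nat_lit 248)) P1g (nat_lit 2) p1T p2e p1c (nat_lit 3) (nat_lit 8)
noncomputable def p1e : ℕ → ℕ := cel1 (mul3 (nat_lit 248)) p1T (nat_lit 3) p2e
noncomputable def p0Sf : ℕ → ℕ := chkS2 (mul3 (nat_lit 248)) P0g (nat_lit 2) p0T p1e p0c (nat_lit 4) (nat_lit 9)
noncomputable def p0e : ℕ → ℕ := cel1 (mul3 (nat_lit 248)) p0T (nat_lit 4) p1e
noncomputable def YvYf : ℕ → ℕ := chkY (can3 (nat_lit 248)) (row3 (nat_lit 248)) Yv (nat_lit 288)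
noncomputable def vDIf : ℕ → ℕ := chkI (mul3 (nat_lit 248)) (one2 (nat_lit 248)) vD vDi
noncomputable def vRHOf : ℕ → ℕ := chkO (img3 (nat_lit 248) P0g) (row3 (nat_lit 248)) Yv vRHa (nat_lit 288) [nat_lit 88]
noncomputable abbrev vL1 : Subgroup GA := Lf (MonoidHom.id GA) P0 (mA.elt (vD 1))
noncomputable def vL1Ef : ℕ → ℕ := chkE vL1P p0e [nat_lit 250512, nat_lit 277735, nat_lit 249856]
noncomputable def vL1Cf : ℕ → ℕ := chkL (mul3 (nat_lit 248)) (vD 1) vL1P p0e [nat_lit 249928, nat_lit 277735, nat_lit 408200]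
noncomputable def vL1Wf : ℕ → ℕ := chkPl (mul3 (nat_lit 248)) vL1P [[nat_lit 1, nat_lit 0, nat_lit 0, nat_lit 2, nat_lit 0],
  [nat_lit 0, nat_lit 1, nat_lit 0, nat_lit 0, nat_lit 1, nat_lit 0],
  [nat_lit 4, nat_lit 4, nat_lit 4, nat_lit 4, nat_lit 4, nat_lit 3, nat_lit 3],
  [nat_lit 4, nat_lit 4, nat_lit 4, nat_lit 4, nat_lit 4, nat_lit 3, nat_lit 3]] (nat_lit 3)
noncomputable def vL10yYf : ℕ → ℕ := chkY (can3 (nat_lit 248)) (row3 (nat_lit 248)) vL10y (nat_lit 16)
noncomputable def vL10ROf : ℕ → ℕ := chkO (img3 (nat_lit 248) (shf vL1P (nat_lit 0))) (row3 (nat_lit 248)) vL10y vL10Ra (nat_lit 16) [nat_lit 5]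
noncomputable def vL10Xf : ℕ → ℕ := chkFx (img3 (nat_lit 248) vL1P) (row3 (nat_lit 248)) vL10y (nat_lit 5) [nat_lit 0, nat_lit 0, nat_lit 0, nat_lit 0] (nat_lit 3)
noncomputable abbrev vL1K1 : Subgroup GA := vL1 ⊓ MulAction.stabilizer GA (pvA (pt (row3 (nat_lit 248)) vL10y (nat_lit 5)))
noncomputable def vL11yYf : ℕ → ℕ := chkY (can3 (nat_lit 248)) (row3 (nat_lit 248)) vL11y (nat_lit 128)
noncomputable def vL11ROf : ℕ → ℕ := chkO (img3 (nat_lit 248) (shf vL1P (nat_lit 3))) (row3 (nat_lit 248)) vL11y vL11Ra (nat_lit 128) [nat_lit 0]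
noncomputable def vL11Xf : ℕ → ℕ := chkFx (img3 (nat_lit 248) vL1P) (row3 (nat_lit 248)) vL11y (nat_lit 0) [nat_lit 0, nat_lit 0] (nat_lit 5)
noncomputable abbrev vL1K2 : Subgroup GA := vL1K1 ⊓ MulAction.stabilizer GA (pvA (pt (row3 (nat_lit 248)) vL11y (nat_lit 0)))
noncomputable def vL12yYf : ℕ → ℕ := chkY (can3 (nat_lit 248)) (row3 (nat_lit 248)) vL12y (nat_lit 7)
noncomputable def vL12ROf : ℕ → ℕ := chkO (img3 (nat_lit 248) (shf vL1P (nat_lit 5))) (row3 (nat_lit 248)) vL12y vL12Ra (nat_lit 7) [nat_lit 0]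
noncomputable def vL12Xf : ℕ → ℕ := chkFx (img3 (nat_lit 248) vL1P) (row3 (nat_lit 248)) vL12y (nat_lit 0) [] (nat_lit 7)
noncomputable abbrev vL1K3 : Subgroup GA := vL1K2 ⊓ MulAction.stabilizer GA (pvA (pt (row3 (nat_lit 248)) vL12y (nat_lit 0)))
noncomputable abbrev vL2 : Subgroup GA := Lf (MonoidHom.id GA) P0 (mA.elt (vD 2))
noncomputable def vL2Ef : ℕ → ℕ := chkE vL2P p0e [nat_lit 23847, nat_lit 446784]
noncomputable def vL2Cf : ℕ → ℕ := chkL (mul3 (nat_lit 248)) (vD 2) vL2P p0e [nat_lit 275783, nat_lit 492370]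
noncomputable def vL2Wf : ℕ → ℕ := chkPl (mul3 (nat_lit 248)) vL2P [[nat_lit 0, nat_lit 0, nat_lit 1, nat_lit 1, nat_lit 1, nat_lit 1, nat_lit 1, nat_lit 1, nat_lit 0],
  [nat_lit 0, nat_lit 1, nat_lit 1, nat_lit 1, nat_lit 0, nat_lit 1, nat_lit 1, nat_lit 0, nat_lit 1, nat_lit 1, nat_lit 1]] (nat_lit 2)
noncomputable def vL20yYf : ℕ → ℕ := chkY (can3 (nat_lit 248)) (row3 (nat_lit 248)) vL20y (nat_lit 128)
noncomputable def vL20ROf : ℕ → ℕ := chkO (img3 (nat_lit 248) (shf vL2P (nat_lit 0))) (row3 (nat_lit 248)) vL20y vL20Ra (nat_lit 128) [nat_lit 0]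
noncomputable def vL20Xf : ℕ → ℕ := chkFx (img3 (nat_lit 248) vL2P) (row3 (nat_lit 248)) vL20y (nat_lit 0) [nat_lit 0, nat_lit 0] (nat_lit 2)
noncomputable abbrev vL2K1 : Subgroup GA := vL2 ⊓ MulAction.stabilizer GA (pvA (pt (row3 (nat_lit 248)) vL20y (nat_lit 0)))
noncomputable def vL21yYf : ℕ → ℕ := chkY (can3 (nat_lit 248)) (row3 (nat_lit 248)) vL21y (nat_lit 7)
noncomputable def vL21ROf : ℕ → ℕ := chkO (img3 (nat_lit 248) (shf vL2P (nat_lit 2))) (row3 (nat_lit 248)) vL21y vL21Ra (nat_lit 7) [nat_lit 0]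
noncomputable def vL21Xf : ℕ → ℕ := chkFx (img3 (nat_lit 248) vL2P) (row3 (nat_lit 248)) vL21y (nat_lit 0) [] (nat_lit 4)
noncomputable abbrev vL2K2 : Subgroup GA := vL2K1 ⊓ MulAction.stabilizer GA (pvA (pt (row3 (nat_lit 248)) vL21y (nat_lit 0)))
noncomputable abbrev vL3 : Subgroup GA := Lf (MonoidHom.id GA) P0 (mA.elt (vD 3))
noncomputable def vL3Ef : ℕ → ℕ := chkE vL3P p0e [nat_lit 300578, nat_lit 13400]
noncomputable def vL3Cf : ℕ → ℕ := chkL (mul3 (nat_lit 248)) (vD 3) vL3P p0e [nat_lit 300578, nat_lit 13400]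
noncomputable def vL3Wf : ℕ → ℕ := chkPl (mul3 (nat_lit 248)) vL3P [[nat_lit 0, nat_lit 0, nat_lit 0, nat_lit 0, nat_lit 1, nat_lit 0, nat_lit 1, nat_lit 1],
  [nat_lit 0, nat_lit 1, nat_lit 1, nat_lit 1, nat_lit 0, nat_lit 0, nat_lit 0]] (nat_lit 2)
noncomputable def vL30yYf : ℕ → ℕ := chkY (can3 (nat_lit 248)) (row3 (nat_lit 248)) vL30y (nat_lit 1)
noncomputable def vL30ROf : ℕ → ℕ := chkO (img3 (nat_lit 248) (shf vL3P (nat_lit 0))) (row3 (nat_lit 248)) vL30y vL30Ra (nat_lit 1) [nat_lit 0]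
noncomputable def vL30Xf : ℕ → ℕ := chkFx (img3 (nat_lit 248) vL3P) (row3 (nat_lit 248)) vL30y (nat_lit 0) [nat_lit 0, nat_lit 0, nat_lit 0, nat_lit 0] (nat_lit 0)
noncomputable abbrev vL3K1 : Subgroup GA := vL3 ⊓ MulAction.stabilizer GA (pvA (pt (row3 (nat_lit 248)) vL30y (nat_lit 0)))
noncomputable def vL31yYf : ℕ → ℕ := chkY (can3 (nat_lit 248)) (row3 (nat_lit 248)) vL31y (nat_lit 126)
noncomputable def vL31ROf : ℕ → ℕ := chkO (img3 (nat_lit 248) (shf vL3P (nat_lit 0))) (row3 (nat_lit 248)) vL31y vL31Ra (nat_lit 126) [nat_lit 0]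
noncomputable def vL31Xf : ℕ → ℕ := chkFx (img3 (nat_lit 248) vL3P) (row3 (nat_lit 248)) vL31y (nat_lit 0) [nat_lit 0, nat_lit 0] (nat_lit 2)
noncomputable abbrev vL3K2 : Subgroup GA := vL3K1 ⊓ MulAction.stabilizer GA (pvA (pt (row3 (nat_lit 248)) vL31y (nat_lit 0)))
noncomputable def vL32yYf : ℕ → ℕ := chkY (can3 (nat_lit 248)) (row3 (nat_lit 248)) vL32y (nat_lit 4)
noncomputable def vL32ROf : ℕ → ℕ := chkO (img3 (nat_lit 248) (shf vL3P (nat_lit 2))) (row3 (nat_lit 248)) vL32y vL32Ra (nat_lit 4) [nat_lit 0]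
noncomputable def vL32Xf : ℕ → ℕ := chkFx (img3 (nat_lit 248) vL3P) (row3 (nat_lit 248)) vL32y (nat_lit 0) [] (nat_lit 4)
noncomputable abbrev vL3K3 : Subgroup GA := vL3K2 ⊓ MulAction.stabilizer GA (pvA (pt (row3 (nat_lit 248)) vL32y (nat_lit 0)))
noncomputable def vB : ℕ := (nat_lit 0x20c040762a902b8526090a4859a024ac20d262417084c1010828082012648020c040762a902b8526090a4859a024ac20d262417084c1010828082012648020c040762a902b8526090a4859a024ac20d262417084c1010828082012648020c040762a902b8526090a4859a024ac20d262417084c1010828082012648020c040762a902b8526090a4859a024ac20d262417084c1010828082012648020c040762a902b8526090a4859a024ac20d262417084c1010828082012648020c040762a902b8526090a4859a024ac20d262417084c1010828082012648020c040762a902b8526090a4859a024ac20d262417084c1010828082012648020c040762a902b8526090a4859a024ac20d262417084c1010828082012648020c040762a902b8526090a4859a024ac20d262417084c1010828082012648020c040762a902b8526090a4859a024ac20d262417084c10108280820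12648020c040762a902b8526090a4859a024ac20d262417084c1010828082012648020c040762a902b8526090a4859a024ac20d262417084c1010828082012648020c040762a902b8526090a4859a024ac20d262417084c1010828082012648020c040762a902b8526090a4859a024ac20d262417084c1010828082012648020c040762a902b8526090a4859a024ac20d262417084c1010828082012648020c040762a902b8526090a4859a024ac20d262417084c1010828082012648020c040762a902b8526090a4859a024ac20d262417084c1010828082012648020c040762a902b8526090a4859a024ac20d262417084c1010828082012648020c040762a902b8526090a4859a024ac20d262417084c1010828082012648020c040762a902b8526090a4859a024ac20d262417084c1010828082012648020c040762a902b8526090a4859a024ac20d262417084c1010828082012648020c040762a902b8526090a4859a024ac20d262417084c1010828082012648020c040762a902b8526090a4859a024ac20d262417084c1010828082012648020c040762a902b8526090a4859a024ac20d262417084c1010828082012648020c040762a902b8526090a4859a024ac20d262417084c1010828082012648020c040762a902b8526090a4859a0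24ac20d262417084c1010828082012648020c040762a902b8526090a4859a024ac20d262417084c1010828082012648020c040762a902b8526090a4859a024ac20d262417084c1010828082012648020c040762a902b8526090a4859a024ac20d262417084c1010828082012648020c040762a902b8526090a4859a024ac20d262417084c1010828082012648020c040762a902b8526090a4859a024ac20d262417084c1010828082012648020c040762a902b8526090a4859a024ac20d262417084c1010828082012648020c040762a902b8526090a4859a024ac20d262417084c1010828082012648020c040762a902b8526090a4859a024ac20d262417084c1010828082012648020c040762a902b8526090a4859a024ac20d262417084c1010828082012648020c040762a902b8526090a4859a024ac20d262417084c1010828082012648020c040762a902b8526090a4859a024ac20d262417084c1010828082012648020c040762a902b8526090a4859a024ac20d262417084c1010828082012648020c040762a902b8526090a4859a024ac20d262417084c1010828082012648020c040762a902b8526090a4859a024ac20d262417084c1010828082012648020c040762a902b8526090a4859a024ac20d262417084c10108280820126480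20c040762a902b8526090a4859a024ac20d262417084c1010828082012648020c040762a902b8526090a4859a024ac20d262417084c1010828082012648020c040762a902b8526090a4859a024ac20d262417084c1010828082012648020c040762a902b8526090a4859a024ac20d262417084c1010828082012648020c040762a902b8526090a4859a024ac20d262417084c1010828082012648020c040762a902b8526090a4859a024ac20d262417084c1010828082012648020c040762a902b8526090a4859a024ac20d262417084c1010828082012648020c040762a902b8526090a4859a024ac20d262417084c1010828082012648020c040762a902b8526090a4859a024ac20d262417084c1010828082012648020c040762a902b8526090a4859a024ac20d262417084c1010828082012648020c040762a902b8526090a4859a024ac20d262417084c1010828082012648020c040762a902b8526090a4859a024ac20d262417084c10108280820126480ba9969d08a00461113c40852b269700f4eb0d540ec8617100d99800c6053588138bc321b22e7092a4c0a493050850475547a400195fef8045871008019813ca55c2cc00c0c41260098044020200103877c280801106229e09de822a01a3598128e45dc293ae0680828590001a03c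e1101e680919002b40b0aa234e1230384724e250a401402815a094947c294d0804008098f4d8998000b3279820108401080019104441911422cc2b4a42000100a43468000679850a223a607602210509106500065904048490005041ad29200008014d2a9a16316008319c0058009a030a261b681c70680010855c42a59c0528a091a107840c0c09a7340006885130005445128017d2844fa658800cab401050245a409c060180b1c820c040762a902b8526090a4859a024ac20d262417084c1010828082012648091250600002c1478c8c25480a00f0b421a099d200a2324bed2538217a5022d91250600002c1478c8c25480a00f0b421a099d200a2324bed2538217a5022d91250600002c1478c8c25480a00f0b421a099d200a2324bed2538217a5022d91250600002c1478c8c25480a00f0b421a099d200a2324bed2538217a5022d91250600002c1478c8c25480a00f0b421a099d200a2324bed2538217a5022d91250600002c1478c8c25480a00f0b421a099d200a2324bed2538217a5022d91250600002c1478c8c25480a00f0b421a099d200a2324bed2538217a5022d91250600002c1478c8c25480a00f0b421a099d200a2324bed2538217a5022d91250600002c1478c8c25480a00f0b421a099d200a2324bed2538217a5022d912506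00002c1478c8c25480a00f0b421a099d200a2324bed2538217a5022d91250600002c1478c8c25480a00f0b421a099d200a2324bed2538217a5022d91250600002c1478c8c25480a00f0b421a099d200a2324bed2538217a5022d91250600002c1478c8c25480a00f0b421a099d200a2324bed2538217a5022d91250600002c1478c8c25480a00f0b421a099d200a2324bed2538217a5022d91250600002c1478c8c25480a00f0b421a099d200a2324bed2538217a5022d91250600002c1478c8c25480a00f0b421a099d200a2324bed2538217a5022d91250600002c1478c8c25480a00f0b421a099d200a2324bed2538217a5022d91250600002c1478c8c25480a00f0b421a099d200a2324bed2538217a5022d91250600002c1478c8c25480a00f0b421a099d200a2324bed2538217a5022d91250600002c1478c8c25480a00f0b421a099d200a2324bed2538217a5022d91250600002c1478c8c25480a00f0b421a099d200a2324bed2538217a5022d91250600002c1478c8c25480a00f0b421a099d200a2324bed2538217a5022d91250600002c1478c8c25480a00f0b421a099d200a2324bed2538217a5022d91250600002c1478c8c25480a00f0b421a099d200a2324bed2538217a5022d91250600002c1478c8c25480a00f0b421a099d20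0a2324bed2538217a5022d91250600002c1478c8c25480a00f0b421a099d200a2324bed2538217a5022d91250600002c1478c8c25480a00f0b421a099d200a2324bed2538217a5022d91250600002c1478c8c25480a00f0b421a099d200a2324bed2538217a5022d91250600002c1478c8c25480a00f0b421a099d200a2324bed2538217a5022d91250600002c1478c8c25480a00f0b421a099d200a2324bed2538217a5022d91250600002c1478c8c25480a00f0b421a099d200a2324bed2538217a5022d91250600002c1478c8c25480a00f0b421a099d200a2324bed2538217a5022d91250600002c1478c8c25480a00f0b421a099d200a2324bed2538217a5022d91250600002c1478c8c25480a00f0b421a099d200a2324bed2538217a5022d91250600002c1478c8c25480a00f0b421a099d200a2324bed2538217a5022d91250600002c1478c8c25480a00f0b421a099d200a2324bed2538217a5022d91250600002c1478c8c25480a00f0b421a099d200a2324bed2538217a5022d91250600002c1478c8c25480a00f0b421a099d200a2324bed2538217a5022d91250600002c1478c8c25480a00f0b421a099d200a2324bed2538217a5022d91250600002c1478c8c25480a00f0b421a099d200a2324bed2538217a5022d91250600002c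1478c8c25480a00f0b421a099d200a2324bed2538217a5022d91250600002c1478c8c25480a00f0b421a099d200a2324bed2538217a5022d91250600002c1478c8c25480a00f0b421a099d200a2324bed2538217a5022d91250600002c1478c8c25480a00f0b421a099d200a2324bed2538217a5022d91250600002c1478c8c25480a00f0b421a099d200a2324bed2538217a5022d91250600002c1478c8c25480a00f0b421a099d200a2324bed2538217a5022d91250600002c1478c8c25480a00f0b421a099d200a2324bed2538217a5022d91250600002c1478c8c25480a00f0b421a099d200a2324bed2538217a5022d91250600002c1478c8c25480a00f0b421a099d200a2324bed2538217a5022d91250600002c1478c8c25480a00f0b421a099d200a2324bed2538217a5022d91250600002c1478c8c25480a00f0b421a099d200a2324bed2538217a5022d91250600002c1478c8c25480a00f0b421a099d200a2324bed2538217a5022d91250600002c1478c8c25480a00f0b421a099d200a2324bed2538217a5022d91250600002c1478c8c25480a00f0b421a099d200a2324bed2538217a5022d4406042f010c0860283a41a900948c20b14e0a2d1058e023702653530a2407108401080019104441911422cc2b4a42000100a4346800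0679850a223a6076000aa1903b71f102c1c903b3245b93fc100003d4414ea10c940442004c1aa50006885130005445128017d2844fa658800cab401050245a409c060180b1c8c7822893002e083c33554002094b82c492f1d36443230804627ea60c4846918138bc321b22e7092a4c0a493050850475547a400195fef80458710080198145dce2466e088fb8a430693104182a36109692648132125161c08499c44c60ea80ea006825d9c404e18c120bc75aa22d50213a921d04429819e0d3e048403598128e45dc293ae0680828590001a03ce1101e680919002b40b0aa234e1291250600002c1478c8c25480a00f0b421a099d200a2324bed2538217a5022d)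
noncomputable def vBkf : ℕ → ℕ := chkB (img3 (nat_lit 248) (cel1 (mul3 (nat_lit 248)) vL1P (nat_lit 3) vL1P)) (row3 (nat_lit 248)) Yv (nat_lit 88) vB [nat_lit 7, nat_lit 1, nat_lit 0, nat_lit 19, nat_lit 12, nat_lit 2, nat_lit 20, nat_lit 17, nat_lit 13, nat_lit 11, nat_lit 7, nat_lit 7, nat_lit 7, nat_lit 7, nat_lit 7, nat_lit 7, nat_lit 7, nat_lit 7, nat_lit 7, nat_lit 7, nat_lit 7, nat_lit 7, nat_lit 7, nat_lit 7, nat_lit 7, nat_lit 7, nat_lit 7, nat_lit 7, nat_lit 7, nat_lit 7, nat_lit 7, nat_lit 7, nat_lit 7, nat_lit 7, nat_lit 7, nat_lit 7, nat_lit 7, nat_lit 7, nat_lit 7, nat_lit 7, nat_lit 7, nat_lit 7, nat_lit 7, nat_lit 7, nat_lit 7, nat_lit 7, nat_lit 7, nat_lit 7, nat_lit 7, nat_lit 7, nat_lit 7, nat_lit 7, nat_lit 7, nat_lit 7, nat_lit 7, nat_lit 7, nat_lit 7, nat_lit 7, nat_lit 7, nat_lit 7, nat_lit 7, nat_lit 7, nat_lit 7, nat_lit 7] [nat_lit 0, nat_lit 0, nat_lit 0, nat_lit 0, nat_lit 0, nat_lit 0, nat_lit 0, nat_lit 0, nat_lit 0, nat_lit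 0, nat_lit 0, nat_lit 0, nat_lit 0, nat_lit 0, nat_lit 0, nat_lit 0, nat_lit 0, nat_lit 0, nat_lit 0, nat_lit 0, nat_lit 0, nat_lit 0, nat_lit 0, nat_lit 0, nat_lit 0, nat_lit 0, nat_lit 0, nat_lit 0, nat_lit 0, nat_lit 0, nat_lit 0, nat_lit 0, nat_lit 0, nat_lit 0, nat_lit 0, nat_lit 0, nat_lit 0, nat_lit 0, nat_lit 0, nat_lit 0, nat_lit 0, nat_lit 0, nat_lit 0, nat_lit 0, nat_lit 0, nat_lit 0, nat_lit 0, nat_lit 0, nat_lit 0, nat_lit 0, nat_lit 0, nat_lit 0, nat_lit 0, nat_lit 0, nat_lit 0, nat_lit 0, nat_lit 0, nat_lit 0, nat_lit 0, nat_lit 0, nat_lit 0, nat_lit 0, nat_lit 0, nat_lit 0]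
noncomputable def vR1w : List (List ℕ) := [[nat_lit 1, nat_lit 459393, nat_lit 1, nat_lit 4919, nat_lit 2, nat_lit 406696],
  [nat_lit 1, nat_lit 164212, nat_lit 1, nat_lit 149504, nat_lit 1, nat_lit 313058],
  [nat_lit 1, nat_lit 87057, nat_lit 1, nat_lit 123157, nat_lit 0, nat_lit 0]]
noncomputable def vR1If : ℕ → ℕ := chkD1 (mul3 (nat_lit 248)) vD p0e vR1w (nat_lit 1) (nat_lit 4)
noncomputable def vR1Of : ℕ → ℕ := chkR (img3 (nat_lit 248) vL1P) (img3 (nat_lit 248) p0e) (row3 (nat_lit 248)) Yv vR1a (nat_lit 288) vB vR1w (nat_lit 3)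
noncomputable def vR2w : List (List ℕ) := [[nat_lit 2, nat_lit 459393, nat_lit 1, nat_lit 507240, nat_lit 3, nat_lit 277905],
  [nat_lit 2, nat_lit 508257, nat_lit 1, nat_lit 298869, nat_lit 1, nat_lit 313057],
  [nat_lit 2, nat_lit 344103, nat_lit 1, nat_lit 44210, nat_lit 2, nat_lit 179560],
  [nat_lit 2, nat_lit 45873, nat_lit 1, nat_lit 404517, nat_lit 1, nat_lit 75872]]
noncomputable def vR2If : ℕ → ℕ := chkD1 (mul3 (nat_lit 248)) vD p0e vR2w (nat_lit 2) (nat_lit 4)
noncomputable def vR2Of : ℕ → ℕ := chkR (img3 (nat_lit 248) vL2P) (img3 (nat_lit 248) p0e) (row3 (nat_lit 248)) Yv vR2a (nat_lit 288) vB vR2w (nat_lit 4)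
noncomputable def vR3w : List (List ℕ) := [[nat_lit 3, nat_lit 164212, nat_lit 1, nat_lit 416945, nat_lit 2, nat_lit 189488],
  [nat_lit 3, nat_lit 459393, nat_lit 1, nat_lit 195795, nat_lit 3, nat_lit 6888]]
noncomputable def vR3If : ℕ → ℕ := chkD1 (mul3 (nat_lit 248)) vD p0e vR3w (nat_lit 3) (nat_lit 4)
noncomputable def vR3Of : ℕ → ℕ := chkR (img3 (nat_lit 248) vL3P) (img3 (nat_lit 248) p0e) (row3 (nat_lit 248)) Yv vR3a (nat_lit 288) vB vR3w (nat_lit 2)
noncomputable abbrev vG : Subgroup GA := (Subgroup.map (MonoidHom.id GA) P0) ⊔ zpowers (mA.elt (vD 1))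
noncomputable def ve : ℕ → ℕ := del1 (mul3 (nat_lit 248)) vD (nat_lit 2) (nat_lit 19) p0e
noncomputable abbrev Vg : ℕ → ℕ := cons1 (vD 1) P0g
noncomputable def vcOf : ℕ → ℕ := chkO (img3 (nat_lit 248) Vg) (row3 (nat_lit 248)) vcy vca (nat_lit 248) [nat_lit 45]
noncomputable def vcVf : ℕ → ℕ := chkV3 vcy (nat_lit 248) (vcm 0)
noncomputable abbrev V3 : Subgroup GA := mA.gn V3g 4
noncomputable def V3IEf : ℕ → ℕ := chkE V3g ve [nat_lit 463365588939, nat_lit 479628511942, nat_lit 454031689875, nat_lit 937286739543]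
noncomputable def V3w : List (List ℕ) := [[],
  [],
  [],
  [],
  [nat_lit 0],
  [],
  [],
  [],
  [nat_lit 0],
  [nat_lit 1],
  [],
  [],
  [nat_lit 0],
  [nat_lit 1, nat_lit 0, nat_lit 0],
  [nat_lit 2, nat_lit 1],
  []]
noncomputable def V3Cf : ℕ → ℕ := chkPC (mul3 (nat_lit 248)) (one2 (nat_lit 248)) V3g V3w (nat_lit 4) (nat_lit 9)
noncomputable def V3ZYf : ℕ → ℕ := chkY (can3 (nat_lit 248)) (row3 (nat_lit 248)) V3Z (nat_lit 81)
noncomputable def V3ROf : ℕ → ℕ := chkO (img3 (nat_lit 248) V3g) (row3 (nat_lit 248)) V3Z V3Ra (nat_lit 81) [nat_lit 0]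
noncomputable abbrev V7 : Subgroup GA := mA.gn V7g 2
noncomputable def V7IEf : ℕ → ℕ := chkE V7g ve [nat_lit 2083992, nat_lit 1056231959874]
noncomputable def V7w : List (List ℕ) := [[],
  [],
  [nat_lit 0],
  []]
noncomputable def V7Cf : ℕ → ℕ := chkPC (mul3 (nat_lit 248)) (one2 (nat_lit 248)) V7g V7w (nat_lit 2) (nat_lit 7)
noncomputable def V7ZYf : ℕ → ℕ := chkY (can3 (nat_lit 248)) (row3 (nat_lit 248)) V7Z (nat_lit 49)
noncomputable def V7ROf : ℕ → ℕ := chkO (img3 (nat_lit 248) V7g) (row3 (nat_lit 248)) V7Z V7Ra (nat_lit 49) [nat_lit 0]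
noncomputable def VPf : ℕ → ℕ := chkPW (mul3 (nat_lit 248)) (one2 (nat_lit 248)) Vg [[nat_lit 1, nat_lit 0, nat_lit 2, nat_lit 2, nat_lit 1, nat_lit 1, nat_lit 1],
  [nat_lit 0, nat_lit 1, nat_lit 0, nat_lit 0, nat_lit 1, nat_lit 1, nat_lit 2, nat_lit 1, nat_lit 1, nat_lit 2],
  [nat_lit 1, nat_lit 0, nat_lit 2, nat_lit 1, nat_lit 2, nat_lit 2, nat_lit 1, nat_lit 0, nat_lit 2, nat_lit 1, nat_lit 0, nat_lit 2]] Vg VPy (nat_lit 13)
noncomputable abbrev KK : Subgroup GA := mA.gn KKg 4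
noncomputable def KGEf : ℕ → ℕ := chkE KKg qe [nat_lit 13675279781743379457, nat_lit 11248625740100469250, nat_lit 9752890803340322817, nat_lit 13590412288]
noncomputable def KEf : ℕ → ℕ := fun s => Nat.xor (KKg (s + 1)) (Vg s)
noncomputable def kkSf : ℕ → ℕ := chkS2 (mul3 (nat_lit 248)) KKg (nat_lit 4) kkT ve kkc (nat_lit 2) (nat_lit 3)
noncomputable def kke : ℕ → ℕ := cel1 (mul3 (nat_lit 248)) kkT (nat_lit 2) ve
noncomputable abbrev W3 : Subgroup GA := mA.gn W3g 5
noncomputable def W3IEf : ℕ → ℕ := chkE W3g kke [nat_lit 1853462355756, nat_lit 1918514047768, nat_lit 1816126759500, nat_lit 3749146958172, nat_lit 1000617460526]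
noncomputable def W3w : List (List ℕ) := [[],
  [],
  [],
  [],
  [],
  [nat_lit 0],
  [],
  [],
  [],
  [],
  [nat_lit 0],
  [nat_lit 1],
  [],
  [],
  [],
  [nat_lit 0],
  [nat_lit 1, nat_lit 0, nat_lit 0],
  [nat_lit 2, nat_lit 1],
  [],
  [],
  [nat_lit 0],
  [nat_lit 1, nat_lit 0, nat_lit 0],
  [nat_lit 2, nat_lit 1, nat_lit 0],
  [nat_lit 3],
  []]
noncomputable def W3Cf : ℕ → ℕ := chkPC (mul3 (nat_lit 248)) (one2 (nat_lit 248)) W3g W3w (nat_lit 5) (nat_lit 9)
noncomputable def W3ZYf : ℕ → ℕ := chkY (can3 (nat_lit 248)) (row3 (nat_lit 248)) W3Z (nat_lit 243)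
noncomputable def W3ROf : ℕ → ℕ := chkO (img3 (nat_lit 248) W3g) (row3 (nat_lit 248)) W3Z W3Ra (nat_lit 243) [nat_lit 0]

end Cfsg.Agent.H4.Th
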