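import Cfsg.Agent.H4.T2C0
import Cfsg.Agent.H4.T2C1
import Cfsg.Agent.H4.T2C2

set_option autoImplicit false
set_option maxRecDepth 100000

namespace Cfsg.Agent.H4.Th

open Subgroup Cfsg.Agent.H5 Cfsg.Agent.H5.Mdl 

attribute [local irreducible] look Tr.get

theorem P0I : ∀ i < 2, (chkI (mul3 (nat_lit 248)) (one2 (nat_lit 248)) P0g P0i) i = 0 :=
  (rng_step (all0 _) P0I_0)
theorem P0_top : ∀ s < 2, mA.In ⊤ (P0g s) :=
  in_of_chkI mA (fun _ => rfl) P0I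
theorem P0_in : ∀ s < 2, mA.In P0 (P0g s) :=
  in_gn P0_top
theorem P0_eg : mA.El P0 P0g :=
  el_gn P0_top
theorem P1I : ∀ i < 2, (chkI (mul3 (nat_lit 248)) (one2 (nat_lit 248)) P1g P1i) i = 0 :=
  (rng_step (all0 _) P1I_0)
theorem P1_top : ∀ s < 2, mA.In ⊤ (P1g s) :=
  in_of_chkI mA (fun _ => rfl) P1I
theorem P1_in : ∀ s < 2, mA.In P1 (P1g s) :=
  in_gn P1_top
theorem P1_eg : mA.El P1 P1g :=
  el_gn P1_top
theorem p0G : ∀ i < 2, (chkG (mul3 (nat_lit 248)) P0g p0T P1g [[nat_lit 7, nat_lit 8, nat_lit 1],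
  [nat_lit 5, nat_lit 2, nat_lit 1, nat_lit 1]]) i = 0 :=
  (rng_step (all0 _) p0G_0)
theorem P2I : ∀ i < 2, (chkI (mul3 (nat_lit 248)) (one2 (nat_lit 248)) P2g P2i) i = 0 :=
  (rng_step (all0 _) P2I_0)
theorem P2_top : ∀ s < 2, mA.In ⊤ (P2g s) :=
  in_of_chkI mA (fun _ => rfl) P2I
theorem P2_in : ∀ s < 2, mA.In P2 (P2g s) :=
  in_gn P2_top
theorem P2_eg : mA.El P2 P2g :=
  el_gn P2_top
theorem p1G : ∀ i < 2, (chkG (mul3 (nat_lit 248)) P1g p1T P2g [[nat_lit 1, nat_lit 6, nat_lit 1, nat_lit 0],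
  [nat_lit 3, nat_lit 5, nat_lit 0, nat_lit 1, nat_lit 0]]) i = 0 :=
  (rng_step (all0 _) p1G_0)
theorem p2W : ∀ i < 8, (chkW (mul3 (nat_lit 248)) (one2 (nat_lit 248)) P2g [[nat_lit 0, nat_lit 0, nat_lit 0, nat_lit 1, nat_lit 0, nat_lit 1, nat_lit 1, nat_lit 1, nat_lit 0, nat_lit 1, nat_lit 0, nat_lit 0, nat_lit 0],
  [nat_lit 1, nat_lit 0, nat_lit 1, nat_lit 1, nat_lit 1, nat_lit 0, nat_lit 1, nat_lit 0, nat_lit 1, nat_lit 0],
  [nat_lit 0, nat_lit 1, nat_lit 0, nat_lit 0, nat_lit 1, nat_lit 0, nat_lit 1, nat_lit 0, nat_lit 0, nat_lit 0, nat_lit 0, nat_lit 0],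
  [nat_lit 1, nat_lit 1, nat_lit 1, nat_lit 0, nat_lit 0, nat_lit 1, nat_lit 1, nat_lit 1, nat_lit 1, nat_lit 0, nat_lit 1, nat_lit 1, nat_lit 0, nat_lit 0, nat_lit 0],
  [nat_lit 1, nat_lit 1, nat_lit 0, nat_lit 1, nat_lit 1, nat_lit 0, nat_lit 1, nat_lit 1, nat_lit 0, nat_lit 0],
  [nat_lit 0, nat_lit 0, nat_lit 0, nat_lit 1, nat_lit 0, nat_lit 0, nat_lit 1, nat_lit 0],
  [nat_lit 0, nat_lit 0, nat_lit 0, nat_lit 1, nat_lit 0, nat_lit 1, nat_lit 1, nat_lit 1, nat_lit 0, nat_lit 0, nat_lit 1, nat_lit 0, nat_lit 0],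
  [nat_lit 1, nat_lit 1, nat_lit 0, nat_lit 1, nat_lit 1, nat_lit 1, nat_lit 0, nat_lit 0, nat_lit 0, nat_lit 1]] QAg) i = 0 :=
  (rng_step (rng_step (rng_step (rng_step (all0 _) p2W_0) p2W_1) p2W_2) p2W_3)
theorem p2S : ∀ i < 7, (chkS2 (mul3 (nat_lit 248)) P2g (nat_lit 2) p2T eQ p2c (nat_lit 3) (nat_lit 7)) i = 0 :=
  (rng_step (rng_step (all0 _) p2S_0) p2S_1)
theorem p2ub : Nat.card P2 ≤ 3584 :=
  (ub_of_chkS2 (m := mA) eQl (by decide) p2T0 p2S cardQ.le).trans (by norm_num)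
theorem p2elT : mA.El P2 p2T :=
  el_of_pad (inT_of_chkS2 (m := mA) p2T0 (by decide) P2_in p2S)
theorem p2le : QN ≤ P2 :=
  gn_le (in_of_chkW P2_eg p2W)
theorem p2el : mA.El P2 p2e :=
  el_cel1 p2elT (eQl.mono p2le) _
theorem p1S : ∀ i < 8, (chkS2 (mul3 (nat_lit 248)) P1g (nat_lit 2) p1T p2e p1c (nat_lit 3) (nat_lit 8)) i = 0 :=
  (rng_step (rng_step (all0 _) p1S_0) p1S_1)
theorem p1ub : Nat.card P1 ≤ 28672 :=
  (ub_of_chkS2 (m := mA) p2el (by decide) p1T0 p1S p2ub).trans (by norm_num)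
theorem p1elT : mA.El P1 p1T :=
  el_of_pad (inT_of_chkS2 (m := mA) p1T0 (by decide) P1_in p1S)
theorem p1le : P2 ≤ P1 :=
  gn_le (in_of_chkG P1_eg p1elT p1G)
theorem p1el : mA.El P1 p1e :=
  el_cel1 p1elT (p2el.mono p1le) _
theorem p0S : ∀ i < 9, (chkS2 (mul3 (nat_lit 248)) P0g (nat_lit 2) p0T p1e p0c (nat_lit 4) (nat_lit 9)) i = 0 :=
  (rng_step (rng_step (rng_step (all0 _) p0S_0) p0S_1) p0S_2)
theorem p0ub : Nat.card P0 ≤ 258048 :=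
  (ub_of_chkS2 (m := mA) p1el (by decide) p0T0 p0S p1ub).trans (by norm_num)
theorem p0elT : mA.El P0 p0T :=
  el_of_pad (inT_of_chkS2 (m := mA) p0T0 (by decide) P0_in p0S)
theorem p0le : P1 ≤ P0 :=
  gn_le (in_of_chkG P0_eg p0elT p0G)
theorem p0el : mA.El P0 p0e :=
  el_cel1 p0elT (p1el.mono p0le) _
theorem YvY : ∀ i < 288, (chkY (can3 (nat_lit 248)) (row3 (nat_lit 248)) Yv (nat_lit 288)) i = 0 :=
  allB (rngB_step (allB0 _ _) YvY_0) (by decide)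
theorem YvD : Dist (fun i => pvA (pt (row3 (nat_lit 248)) Yv i)) 288 :=
  dist_of_chk (canT3 φA) YvY
theorem vDI : ∀ i < 4, (chkI (mul3 (nat_lit 248)) (one2 (nat_lit 248)) vD vDi) i = 0 :=
  (rng_step (all0 _) vDI_0)
theorem velD : mA.El ⊤ vD :=
  el_of_pad (in_of_chkI mA (fun _ => rfl) vDI)
theorem vd0 : (mA.elt (vD 0)) = 1 :=
  elt_of_eq_one vD0
theorem vtinv : (mA.elt (vD 1))⁻¹ = (mA.elt (vD 1)) :=
  elt_inv_eq (velD 1) (velD 1) vtt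
theorem vRHO : ∀ i < 288, (chkO (img3 (nat_lit 248) P0g) (row3 (nat_lit 248)) Yv vRHa (nat_lit 288) [nat_lit 88]) i = 0 :=
  allB (rngB_step (allB0 _ _) vRHO_0) (by decide)
theorem vRH : Reach P0 (fun i => pvA (pt (row3 (nat_lit 248)) Yv i)) 288 [nat_lit 88] :=
  reach_of_chk ((acts3 (m := mA) φA hA P0g).ex P0_eg) vRHO
theorem vL1E : ∀ i < 3, (chkE vL1P p0e [nat_lit 250512, nat_lit 277735, nat_lit 249856]) i = 0 :=
  (rng_step (all0 _) vL1E_0)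
theorem vL1C : ∀ i < 3, (chkL (mul3 (nat_lit 248)) (vD 1) vL1P p0e [nat_lit 249928, nat_lit 277735, nat_lit 408200]) i = 0 :=
  (rng_step (all0 _) vL1C_0)
theorem vL1in0 : ∀ u < 3, mA.In vL1 (vL1P u) :=
  in_Lf (pr_id mA) p0el (velD 1) (in_of_chkE p0el vL1E) vL1C
theorem vL1W : ∀ i < 4, (chkPl (mul3 (nat_lit 248)) vL1P [[nat_lit 1, nat_lit 0, nat_lit 0, nat_lit 2, nat_lit 0],
  [nat_lit 0, nat_lit 1, nat_lit 0, nat_lit 0, nat_lit 1, nat_lit 0],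
  [nat_lit 4, nat_lit 4, nat_lit 4, nat_lit 4, nat_lit 4, nat_lit 3, nat_lit 3],
  [nat_lit 4, nat_lit 4, nat_lit 4, nat_lit 4, nat_lit 4, nat_lit 3, nat_lit 3]] (nat_lit 3)) i = 0 :=
  (rng_step (all0 _) vL1W_0)
theorem vL1el : mA.El vL1 vL1P :=
  el_of_pad (in_pool vL1in0 vL1W)
theorem vL1s0 : Suf mA vL1 vL1P 0 :=
  suf0 vL1el
theorem vL10yY : ∀ i < 16, (chkY (can3 (nat_lit 248)) (row3 (nat_lit 248)) vL10y (nat_lit 16)) i = 0 :=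
  allB (rngB_step (allB0 _ _) vL10yY_0) (by decide)
theorem vL10yD : Dist (fun i => pvA (pt (row3 (nat_lit 248)) vL10y i)) 16 :=
  dist_of_chk (canT3 φA) vL10yY
theorem vL10RO : ∀ i < 16, (chkO (img3 (nat_lit 248) (shf vL1P (nat_lit 0))) (row3 (nat_lit 248)) vL10y vL10Ra (nat_lit 16) [nat_lit 5]) i = 0 :=
  allB (rngB_step (allB0 _ _) vL10RO_0) (by decide)
theorem vL10R : Reach vL1 (fun i => pvA (pt (row3 (nat_lit 248)) vL10y i)) 16 [nat_lit 5] :=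
  reach_of_chk ((acts3 (m := mA) φA hA (shf vL1P (nat_lit 0))).ex vL1s0.el) vL10RO
theorem vL10X : ∀ i < 4, (chkFx (img3 (nat_lit 248) vL1P) (row3 (nat_lit 248)) vL10y (nat_lit 5) [nat_lit 0, nat_lit 0, nat_lit 0, nat_lit 0] (nat_lit 3)) i = 0 :=
  (rng_step (all0 _) vL10X_0)
theorem vL1s1 : Suf mA vL1K1 vL1P 3 :=
  vL1s0.step (by decide) (by decide) (acts3 (m := mA) φA hA vL1P) vL10X
theorem vL11yY : ∀ i < 128, (chkY (can3 (nat_lit 248)) (row3 (nat_lit 248)) vL11y (nat_lit 128)) i = 0 :=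
  allB (rngB_step (allB0 _ _) vL11yY_0) (by decide)
theorem vL11yD : Dist (fun i => pvA (pt (row3 (nat_lit 248)) vL11y i)) 128 :=
  dist_of_chk (canT3 φA) vL11yY
theorem vL11RO : ∀ i < 128, (chkO (img3 (nat_lit 248) (shf vL1P (nat_lit 3))) (row3 (nat_lit 248)) vL11y vL11Ra (nat_lit 128) [nat_lit 0]) i = 0 :=
  allB (rngB_step (allB0 _ _) vL11RO_0) (by decide)
theorem vL11R : Reach vL1K1 (fun i => pvA (pt (row3 (nat_lit 248)) vL11y i)) 128 [nat_lit 0] :=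
  reach_of_chk ((acts3 (m := mA) φA hA (shf vL1P (nat_lit 3))).ex vL1s1.el) vL11RO
theorem vL11X : ∀ i < 2, (chkFx (img3 (nat_lit 248) vL1P) (row3 (nat_lit 248)) vL11y (nat_lit 0) [nat_lit 0, nat_lit 0] (nat_lit 5)) i = 0 :=
  (rng_step (all0 _) vL11X_0)
theorem vL1s2 : Suf mA vL1K2 vL1P 5 :=
  vL1s1.step (by decide) (by decide) (acts3 (m := mA) φA hA vL1P) vL11X
theorem vL12yY : ∀ i < 7, (chkY (can3 (nat_lit 248)) (row3 (nat_lit 248)) vL12y (nat_lit 7)) i = 0 :=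
  allB (rngB_step (allB0 _ _) vL12yY_0) (by decide)
theorem vL12yD : Dist (fun i => pvA (pt (row3 (nat_lit 248)) vL12y i)) 7 :=
  dist_of_chk (canT3 φA) vL12yY
theorem vL12RO : ∀ i < 7, (chkO (img3 (nat_lit 248) (shf vL1P (nat_lit 5))) (row3 (nat_lit 248)) vL12y vL12Ra (nat_lit 7) [nat_lit 0]) i = 0 :=
  allB (rngB_step (allB0 _ _) vL12RO_0) (by decide)
theorem vL12R : Reach vL1K2 (fun i => pvA (pt (row3 (nat_lit 248)) vL12y i)) 7 [nat_lit 0] :=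
  reach_of_chk ((acts3 (m := mA) φA hA (shf vL1P (nat_lit 5))).ex vL1s2.el) vL12RO
theorem vL12X : ∀ i < 0, (chkFx (img3 (nat_lit 248) vL1P) (row3 (nat_lit 248)) vL12y (nat_lit 0) [] (nat_lit 7)) i = 0 :=
  (all0 _)
theorem vL1s3 : Suf mA vL1K3 vL1P 7 :=
  vL1s2.step (by decide) (by decide) (acts3 (m := mA) φA hA vL1P) vL12X
theorem vL1lb3 : 1 ≤ Nat.card vL1K3 :=
  one_le_card _
theorem vL1lb2 : 7 ≤ Nat.card vL1K2 :=
  le_of_eq_of_le (by norm_num) (card_ge vL12yD vL12R vL1lb3)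
theorem vL1lb1 : 896 ≤ Nat.card vL1K1 :=
  le_of_eq_of_le (by norm_num) (card_ge vL11yD vL11R vL1lb2)
theorem vL1lb0 : 14336 ≤ Nat.card vL1 :=
  le_of_eq_of_le (by norm_num) (card_ge vL10yD vL10R vL1lb1)
theorem vL2E : ∀ i < 2, (chkE vL2P p0e [nat_lit 23847, nat_lit 446784]) i = 0 :=
  (rng_step (all0 _) vL2E_0)
theorem vL2C : ∀ i < 2, (chkL (mul3 (nat_lit 248)) (vD 2) vL2P p0e [nat_lit 275783, nat_lit 492370]) i = 0 :=
  (rng_step (all0 _) vL2C_0)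
theorem vL2in0 : ∀ u < 2, mA.In vL2 (vL2P u) :=
  in_Lf (pr_id mA) p0el (velD 2) (in_of_chkE p0el vL2E) vL2C
theorem vL2W : ∀ i < 2, (chkPl (mul3 (nat_lit 248)) vL2P [[nat_lit 0, nat_lit 0, nat_lit 1, nat_lit 1, nat_lit 1, nat_lit 1, nat_lit 1, nat_lit 1, nat_lit 0],
  [nat_lit 0, nat_lit 1, nat_lit 1, nat_lit 1, nat_lit 0, nat_lit 1, nat_lit 1, nat_lit 0, nat_lit 1, nat_lit 1, nat_lit 1]] (nat_lit 2)) i = 0 :=
  (rng_step (all0 _) vL2W_0)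
theorem vL2el : mA.El vL2 vL2P :=
  el_of_pad (in_pool vL2in0 vL2W)
theorem vL2s0 : Suf mA vL2 vL2P 0 :=
  suf0 vL2el
theorem vL20yY : ∀ i < 128, (chkY (can3 (nat_lit 248)) (row3 (nat_lit 248)) vL20y (nat_lit 128)) i = 0 :=
  allB (rngB_step (allB0 _ _) vL20yY_0) (by decide)
theorem vL20yD : Dist (fun i => pvA (pt (row3 (nat_lit 248)) vL20y i)) 128 :=
  dist_of_chk (canT3 φA) vL20yY
theorem vL20RO : ∀ i < 128, (chkO (img3 (nat_lit 248) (shf vL2P (nat_lit 0))) (row3 (nat_lit 248)) vL20y vL20Ra (nat_lit 128) [nat_lit 0]) i = 0 :=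
  allB (rngB_step (allB0 _ _) vL20RO_0) (by decide)
theorem vL20R : Reach vL2 (fun i => pvA (pt (row3 (nat_lit 248)) vL20y i)) 128 [nat_lit 0] :=
  reach_of_chk ((acts3 (m := mA) φA hA (shf vL2P (nat_lit 0))).ex vL2s0.el) vL20RO
theorem vL20X : ∀ i < 2, (chkFx (img3 (nat_lit 248) vL2P) (row3 (nat_lit 248)) vL20y (nat_lit 0) [nat_lit 0, nat_lit 0] (nat_lit 2)) i = 0 :=
  (rng_step (all0 _) vL20X_0)
theorem vL2s1 : Suf mA vL2K1 vL2P 2 :=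
  vL2s0.step (by decide) (by decide) (acts3 (m := mA) φA hA vL2P) vL20X
theorem vL21yY : ∀ i < 7, (chkY (can3 (nat_lit 248)) (row3 (nat_lit 248)) vL21y (nat_lit 7)) i = 0 :=
  allB (rngB_step (allB0 _ _) vL21yY_0) (by decide)
theorem vL21yD : Dist (fun i => pvA (pt (row3 (nat_lit 248)) vL21y i)) 7 :=
  dist_of_chk (canT3 φA) vL21yY
theorem vL21RO : ∀ i < 7, (chkO (img3 (nat_lit 248) (shf vL2P (nat_lit 2))) (row3 (nat_lit 248)) vL21y vL21Ra (nat_lit 7) [nat_lit 0]) i = 0 :=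
  allB (rngB_step (allB0 _ _) vL21RO_0) (by decide)
theorem vL21R : Reach vL2K1 (fun i => pvA (pt (row3 (nat_lit 248)) vL21y i)) 7 [nat_lit 0] :=
  reach_of_chk ((acts3 (m := mA) φA hA (shf vL2P (nat_lit 2))).ex vL2s1.el) vL21RO
theorem vL21X : ∀ i < 0, (chkFx (img3 (nat_lit 248) vL2P) (row3 (nat_lit 248)) vL21y (nat_lit 0) [] (nat_lit 4)) i = 0 :=
  (all0 _)
theorem vL2s2 : Suf mA vL2K2 vL2P 4 :=
  vL2s1.step (by decide) (by decide) (acts3 (m := mA) φA hA vL2P) vL21X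
theorem vL2lb2 : 1 ≤ Nat.card vL2K2 :=
  one_le_card _
theorem vL2lb1 : 7 ≤ Nat.card vL2K1 :=
  le_of_eq_of_le (by norm_num) (card_ge vL21yD vL21R vL2lb2)
theorem vL2lb0 : 896 ≤ Nat.card vL2 :=
  le_of_eq_of_le (by norm_num) (card_ge vL20yD vL20R vL2lb1)
theorem vL3E : ∀ i < 2, (chkE vL3P p0e [nat_lit 300578, nat_lit 13400]) i = 0 :=
  (rng_step (all0 _) vL3E_0)
theorem vL3C : ∀ i < 2, (chkL (mul3 (nat_lit 248)) (vD 3) vL3P p0e [nat_lit 300578, nat_lit 13400]) i = 0 :=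
  (rng_step (all0 _) vL3C_0)
theorem vL3in0 : ∀ u < 2, mA.In vL3 (vL3P u) :=
  in_Lf (pr_id mA) p0el (velD 3) (in_of_chkE p0el vL3E) vL3C
theorem vL3W : ∀ i < 2, (chkPl (mul3 (nat_lit 248)) vL3P [[nat_lit 0, nat_lit 0, nat_lit 0, nat_lit 0, nat_lit 1, nat_lit 0, nat_lit 1, nat_lit 1],
  [nat_lit 0, nat_lit 1, nat_lit 1, nat_lit 1, nat_lit 0, nat_lit 0, nat_lit 0]] (nat_lit 2)) i = 0 :=
  (rng_step (all0 _) vL3W_0)
theorem vL3el : mA.El vL3 vL3P :=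
  el_of_pad (in_pool vL3in0 vL3W)
theorem vL3s0 : Suf mA vL3 vL3P 0 :=
  suf0 vL3el
theorem vL30yY : ∀ i < 1, (chkY (can3 (nat_lit 248)) (row3 (nat_lit 248)) vL30y (nat_lit 1)) i = 0 :=
  allB (rngB_step (allB0 _ _) vL30yY_0) (by decide)
theorem vL30yD : Dist (fun i => pvA (pt (row3 (nat_lit 248)) vL30y i)) 1 :=
  dist_of_chk (canT3 φA) vL30yY
theorem vL30RO : ∀ i < 1, (chkO (img3 (nat_lit 248) (shf vL3P (nat_lit 0))) (row3 (nat_lit 248)) vL30y vL30Ra (nat_lit 1) [nat_lit 0]) i = 0 :=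
  allB (rngB_step (allB0 _ _) vL30RO_0) (by decide)
theorem vL30R : Reach vL3 (fun i => pvA (pt (row3 (nat_lit 248)) vL30y i)) 1 [nat_lit 0] :=
  reach_of_chk ((acts3 (m := mA) φA hA (shf vL3P (nat_lit 0))).ex vL3s0.el) vL30RO
theorem vL30X : ∀ i < 4, (chkFx (img3 (nat_lit 248) vL3P) (row3 (nat_lit 248)) vL30y (nat_lit 0) [nat_lit 0, nat_lit 0, nat_lit 0, nat_lit 0] (nat_lit 0)) i = 0 :=
  (rng_step (all0 _) vL30X_0)
theorem vL3s1 : Suf mA vL3K1 vL3P 0 :=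
  vL3s0.step (by decide) (by decide) (acts3 (m := mA) φA hA vL3P) vL30X
theorem vL31yY : ∀ i < 126, (chkY (can3 (nat_lit 248)) (row3 (nat_lit 248)) vL31y (nat_lit 126)) i = 0 :=
  allB (rngB_step (allB0 _ _) vL31yY_0) (by decide)
theorem vL31yD : Dist (fun i => pvA (pt (row3 (nat_lit 248)) vL31y i)) 126 :=
  dist_of_chk (canT3 φA) vL31yY
theorem vL31RO : ∀ i < 126, (chkO (img3 (nat_lit 248) (shf vL3P (nat_lit 0))) (row3 (nat_lit 248)) vL31y vL31Ra (nat_lit 126) [nat_lit 0]) i = 0 :=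
  allB (rngB_step (allB0 _ _) vL31RO_0) (by decide)
theorem vL31R : Reach vL3K1 (fun i => pvA (pt (row3 (nat_lit 248)) vL31y i)) 126 [nat_lit 0] :=
  reach_of_chk ((acts3 (m := mA) φA hA (shf vL3P (nat_lit 0))).ex vL3s1.el) vL31RO
theorem vL31X : ∀ i < 2, (chkFx (img3 (nat_lit 248) vL3P) (row3 (nat_lit 248)) vL31y (nat_lit 0) [nat_lit 0, nat_lit 0] (nat_lit 2)) i = 0 :=
  (rng_step (all0 _) vL31X_0)
theorem vL3s2 : Suf mA vL3K2 vL3P 2 :=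
  vL3s1.step (by decide) (by decide) (acts3 (m := mA) φA hA vL3P) vL31X
theorem vL32yY : ∀ i < 4, (chkY (can3 (nat_lit 248)) (row3 (nat_lit 248)) vL32y (nat_lit 4)) i = 0 :=
  allB (rngB_step (allB0 _ _) vL32yY_0) (by decide)
theorem vL32yD : Dist (fun i => pvA (pt (row3 (nat_lit 248)) vL32y i)) 4 :=
  dist_of_chk (canT3 φA) vL32yY
theorem vL32RO : ∀ i < 4, (chkO (img3 (nat_lit 248) (shf vL3P (nat_lit 2))) (row3 (nat_lit 248)) vL32y vL32Ra (nat_lit 4) [nat_lit 0]) i = 0 :=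
  allB (rngB_step (allB0 _ _) vL32RO_0) (by decide)
theorem vL32R : Reach vL3K2 (fun i => pvA (pt (row3 (nat_lit 248)) vL32y i)) 4 [nat_lit 0] :=
  reach_of_chk ((acts3 (m := mA) φA hA (shf vL3P (nat_lit 2))).ex vL3s2.el) vL32RO
theorem vL32X : ∀ i < 0, (chkFx (img3 (nat_lit 248) vL3P) (row3 (nat_lit 248)) vL32y (nat_lit 0) [] (nat_lit 4)) i = 0 :=
  (all0 _)
theorem vL3s3 : Suf mA vL3K3 vL3P 4 :=
  vL3s2.step (by decide) (by decide) (acts3 (m := mA) φA hA vL3P) vL32X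
theorem vL3lb3 : 1 ≤ Nat.card vL3K3 :=
  one_le_card _
theorem vL3lb2 : 4 ≤ Nat.card vL3K2 :=
  le_of_eq_of_le (by norm_num) (card_ge vL32yD vL32R vL3lb3)
theorem vL3lb1 : 504 ≤ Nat.card vL3K1 :=
  le_of_eq_of_le (by norm_num) (card_ge vL31yD vL31R vL3lb2)
theorem vL3lb0 : 504 ≤ Nat.card vL3 :=
  le_of_eq_of_le (by norm_num) (card_ge vL30yD vL30R vL3lb1)
theorem vex : MulAction.orbit P0 (pvA (pt (row3 (nat_lit 248)) Yv (nat_lit 88))) = (fun i => pvA (pt (row3 (nat_lit 248)) Yv i)) '' {i | i < 288} ∧ P0 ⊓ MulAction.stabilizer GA (pvA (pt (row3 (nat_lit 248)) Yv (nat_lit 88))) = vL1K1 ∧ Nat.card P0 = 288 * 896 ∧ Nat.card vL1K1 = 896 :=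
  orbit_eq_of_card YvD (vRH.sub fun r hr => ⟨1, one_mem _, by rw [List.mem_singleton.1 hr, one_smul]⟩)
    (inf_le_inf inf_le_left (congrArg (fun z => MulAction.stabilizer GA (pvA z)) vhx).le) vL1lb1 (p0ub.trans (by norm_num))
theorem vhK : P0 ⊓ MulAction.stabilizer GA (pvA (pt (row3 (nat_lit 248)) Yv (nat_lit 88))) ≤ Lf (MonoidHom.id GA) P0 (mA.elt (vD 1))⁻¹ :=
  vtinv.symm ▸ (vex.2.1.le.trans inf_le_left)
theorem vBk : ∀ i < 64, (chkB (img3 (nat_lit 248) (cel1 (mul3 (nat_lit 248)) vL1P (nat_lit 3) vL1P)) (row3 (nat_lit 248)) Yv (nat_lit 88) vB [nat_lit 7, nat_lit 1, nat_lit 0, nat_lit 19, nat_lit 12, nat_lit 2, nat_lit 20, nat_lit 17, nat_lit 13, nat_lit 11, nat_lit 7, nat_lit 7, nat_lit 7, nat_lit 7, nat_lit 7, nat_lit 7, nat_lit 7, nat_lit 7, nat_lit 7, nat_lit 7, nat_lit 7, nat_lit 7, nat_lit 7, nat_lit 7, nat_lit 7, nat_lit 7, nat_lit 7, nat_lit 7, nat_lit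 7, nat_lit 7, nat_lit 7, nat_lit 7, nat_lit 7, nat_lit 7, nat_lit 7, nat_lit 7, nat_lit 7, nat_lit 7, nat_lit 7, nat_lit 7, nat_lit 7, nat_lit 7, nat_lit 7, nat_lit 7, nat_lit 7, nat_lit 7, nat_lit 7, nat_lit 7, nat_lit 7, nat_lit 7, nat_lit 7, nat_lit 7, nat_lit 7, nat_lit 7, nat_lit 7, nat_lit 7, nat_lit 7, nat_lit 7, nat_lit 7, nat_lit 7, nat_lit 7, nat_lit 7, nat_lit 7, nat_lit 7] [nat_lit 0, nat_lit 0, nat_lit 0, nat_lit 0, nat_lit 0, nat_lit 0, nat_lit 0, nat_lit 0, nat_lit 0, nat_lit 0, nat_lit 0, nat_lit 0, nat_lit 0, nat_lit 0, nat_lit 0, nat_lit 0, nat_lit 0, nat_lit 0, nat_lit 0, nat_lit 0, nat_lit 0, nat_lit 0, nat_lit 0, nat_lit 0, nat_lit 0, nat_lit 0, nat_lit 0, nat_lit 0, nat_lit 0, nat_lit 0, nat_lit 0, nat_lit 0, nat_lit 0, nat_lit 0, nat_lit 0, nat_lit 0, nat_lit 0, nat_lit 0, nat_lit 0, nat_lit 0, nat_lit 0, nat_lit 0, nat_lit 0, nat_lit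 0, nat_lit 0, nat_lit 0, nat_lit 0, nat_lit 0, nat_lit 0, nat_lit 0, nat_lit 0, nat_lit 0, nat_lit 0, nat_lit 0, nat_lit 0, nat_lit 0, nat_lit 0, nat_lit 0, nat_lit 0, nat_lit 0, nat_lit 0, nat_lit 0, nat_lit 0, nat_lit 0]) i = 0 :=
  (rng_step (all0 _) vBk_0)
theorem vhB : Rows (Lf (MonoidHom.id GA) P0 (mA.elt (vD 1))⁻¹) pvA (row3 (nat_lit 248)) vB (pvA (pt (row3 (nat_lit 248)) Yv (nat_lit 88))) :=
  vtinv.symm ▸ rows_of_chkB (acts3 (m := mA) φA hA (cel1 (mul3 (nat_lit 248)) vL1P (nat_lit 3) vL1P)) (el_cel1 vL1el vL1el _) vBk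
theorem vR1I : ∀ i < 3, (chkD1 (mul3 (nat_lit 248)) vD p0e vR1w (nat_lit 1) (nat_lit 4)) i = 0 :=
  (rng_step (rng_step (all0 _) vR1I_0) vR1I_1)
theorem vR1O : ∀ i < 288, (chkR (img3 (nat_lit 248) vL1P) (img3 (nat_lit 248) p0e) (row3 (nat_lit 248)) Yv vR1a (nat_lit 288) vB vR1w (nat_lit 3)) i = 0 :=
  allB (rngB_step (allB0 _ _) vR1O_0) (by decide)
theorem vR1 : ∀ h ∈ (Subgroup.map (MonoidHom.id GA) P0), ∃ j < 4, DCos (Subgroup.map (MonoidHom.id GA) P0) (mA.elt (vD j)) ((mA.elt (vD 1)) * h * (mA.elt (vD 1))) :=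
  dc_row (pr_id mA) velD p0el vex.1.le vhK vhB (acts3 (m := mA) φA hA vL1P) vL1el (acts3 (m := mA) φA hA p0e) vR1O vR1I
theorem vR2I : ∀ i < 4, (chkD1 (mul3 (nat_lit 248)) vD p0e vR2w (nat_lit 2) (nat_lit 4)) i = 0 :=
  (rng_step (rng_step (rng_step (all0 _) vR2I_0) vR2I_1) vR2I_2)
theorem vR2O : ∀ i < 288, (chkR (img3 (nat_lit 248) vL2P) (img3 (nat_lit 248) p0e) (row3 (nat_lit 248)) Yv vR2a (nat_lit 288) vB vR2w (nat_lit 4)) i = 0 :=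
  allB (rngB_step (allB0 _ _) vR2O_0) (by decide)
theorem vR2 : ∀ h ∈ (Subgroup.map (MonoidHom.id GA) P0), ∃ j < 4, DCos (Subgroup.map (MonoidHom.id GA) P0) (mA.elt (vD j)) ((mA.elt (vD 2)) * h * (mA.elt (vD 1))) :=
  dc_row (pr_id mA) velD p0el vex.1.le vhK vhB (acts3 (m := mA) φA hA vL2P) vL2el (acts3 (m := mA) φA hA p0e) vR2O vR2I
theorem vR3I : ∀ i < 2, (chkD1 (mul3 (nat_lit 248)) vD p0e vR3w (nat_lit 3) (nat_lit 4)) i = 0 :=
  (rng_step (all0 _) vR3I_0)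
theorem vR3O : ∀ i < 288, (chkR (img3 (nat_lit 248) vL3P) (img3 (nat_lit 248) p0e) (row3 (nat_lit 248)) Yv vR3a (nat_lit 288) vB vR3w (nat_lit 2)) i = 0 :=
  allB (rngB_step (allB0 _ _) vR3O_0) (by decide)
theorem vR3 : ∀ h ∈ (Subgroup.map (MonoidHom.id GA) P0), ∃ j < 4, DCos (Subgroup.map (MonoidHom.id GA) P0) (mA.elt (vD j)) ((mA.elt (vD 3)) * h * (mA.elt (vD 1))) :=
  dc_row (pr_id mA) velD p0el vex.1.le vhK vhB (acts3 (m := mA) φA hA vL3P) vL3el (acts3 (m := mA) φA hA p0e) vR3O vR3I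
theorem vcov : ∀ g ∈ vG, ∃ i < 4, DCos (Subgroup.map (MonoidHom.id GA) P0) (mA.elt (vD i)) g :=
  dc_cover (d := fun i => mA.elt (vD i)) (by decide) vd0
    (all_succ (all_succ (all_succ (all_succ all_nil (dc_row0 (by decide) vd0)) vR1) vR2) vR3)
theorem vhBs : ∀ i < 4, getN [nat_lit 258048, nat_lit 14336, nat_lit 896, nat_lit 504] i ≤ Nat.card (Lf (MonoidHom.id GA) P0 (mA.elt (vD i))) :=
  (all_succ (all_succ (all_succ (all_succ all_nil (by rw [vd0, Lf_one, vex.2.2.1]; decide)) vL1lb0) vL2lb0) vL3lb0)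
theorem vub : Nat.card vG ≤ Nat.card (Subgroup.map (MonoidHom.id GA) P0) * 819 :=
  (dc_ub vcov p0ub (getN [nat_lit 258048, nat_lit 14336, nat_lit 896, nat_lit 504]) (getN [nat_lit 1, nat_lit 18, nat_lit 288, nat_lit 512]) vhBs (by decide +kernel)).trans_eq (congrArg _ (by decide +kernel))
theorem vM1 : ∀ N : Subgroup GA, (Subgroup.map (MonoidHom.id GA) P0) ≤ N → (mA.elt (vD 1)) ∈ N → (mA.elt (vD 1)) ∈ N :=
  fun _ _ h => h
theorem vM2 : ∀ N : Subgroup GA, (Subgroup.map (MonoidHom.id GA) P0) ≤ N → (mA.elt (vD 2)) ∈ N → (mA.elt (vD 1)) ∈ N :=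
  fun N hN h => let ⟨_, ha, _, hb, _, hc, _, e⟩ := eq_of_chkD velD ((pr_id mA).el p0el) (add_eq_zero' (vR2I 2 (by decide))).1; (mem3 hN ha hb hc e).2 h h
theorem vM3 : ∀ N : Subgroup GA, (Subgroup.map (MonoidHom.id GA) P0) ≤ N → (mA.elt (vD 3)) ∈ N → (mA.elt (vD 1)) ∈ N :=
  fun N hN h => let ⟨_, ha, _, hb, _, hc, _, e⟩ := eq_of_chkD velD ((pr_id mA).el p0el) (add_eq_zero' (vR3I 1 (by decide))).1; (mem3 hN ha hb hc e).2 h h
theorem vmax : ∀ N : Subgroup GA, (Subgroup.map (MonoidHom.id GA) P0) ≤ N → N ≤ vG → N = (Subgroup.map (MonoidHom.id GA) P0) ∨ N = vG :=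
  dc_max (d := fun i => mA.elt (vD i)) vd0 le_rfl vcov
    (all_succ (all_succ (all_succ (all_succ all_nil (fun h => absurd h (by decide))) (fun _ => vM1)) (fun _ => vM2)) (fun _ => vM3))
theorem vG0 : (mA.elt (vD 0)) ∈ vG :=
  vd0 ▸ one_mem _
theorem vG1 : (mA.elt (vD 1)) ∈ vG :=
  mem_sup_right (mem_zpowers _)
theorem vG2 : (mA.elt (vD 2)) ∈ vG :=
  let ⟨_, ha, _, hb, _, hc, _, e⟩ := eq_of_chkD velD ((pr_id mA).el p0el) (add_eq_zero' (vR1I 0 (by decide))).1; (mem3 le_sup_left ha hb hc e).1 vG1 vG1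
theorem vG3 : (mA.elt (vD 3)) ∈ vG :=
  let ⟨_, ha, _, hb, _, hc, _, e⟩ := eq_of_chkD velD ((pr_id mA).el p0el) (add_eq_zero' (vR2I 0 (by decide))).1; (mem3 le_sup_left ha hb hc e).1 vG2 vG1
theorem velG : mA.El vG vD :=
  el_of_pad (in_of_elt velD (all_succ (all_succ (all_succ (all_succ all_nil vG0) vG1) vG2) vG3))
theorem vel : mA.El vG ve :=
  el_del1 velG (((pr_id mA).el p0el).mono le_sup_left) _ _
theorem V_eg : mA.El vG Vg :=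
  El.cons1 ⟨_, mem_sup_right (mem_zpowers _), (velD 1).elt⟩ (((pr_id mA).el P0_eg).mono le_sup_left)
theorem V_gn : vG ≤ mA.gn Vg 3 :=
  sup_le_gn le_rfl (V_eg.mono le_top)
theorem vcO : ∀ i < 248, (chkO (img3 (nat_lit 248) Vg) (row3 (nat_lit 248)) vcy vca (nat_lit 248) [nat_lit 45]) i = 0 :=
  allB (rngB_step (allB0 _ _) vcO_0) (by decide)
theorem vcR : Reach vG (fun i => pvA (pt (row3 (nat_lit 248)) vcy i)) 248 [nat_lit 45] :=
  reach_of_chk ((acts3 (m := mA) φA hA Vg).ex V_eg) vcO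
theorem vcV : ∀ i < 248, (chkV3 vcy (nat_lit 248) (vcm 0)) i = 0 :=
  (rng_step (all0 _) vcV_0)
theorem vc : ∀ N : Subgroup GA, Nm vG N → N ≤ MulAction.stabilizer GA (pvA (pt (row3 (nat_lit 248)) vcy (nat_lit 45))) → N ≤ ⊥ :=
  core_vec3 φA Units.val_injective vcAB vcV vcR
theorem V3IE : ∀ i < 4, (chkE V3g ve [nat_lit 463365588939, nat_lit 479628511942, nat_lit 454031689875, nat_lit 937286739543]) i = 0 :=
  (rng_step (rng_step (all0 _) V3IE_0) V3IE_1)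
theorem V3I : ∀ s < 4, mA.In vG (V3g s) :=
  in_of_chkE vel V3IE
theorem V3_top : ∀ s < 4, mA.In ⊤ (V3g s) :=
  fun s hs => (V3I s hs).top
theorem V3_in : ∀ s < 4, mA.In V3 (V3g s) :=
  in_gn V3_top
theorem V3_eg : mA.El V3 V3g :=
  el_gn V3_top
theorem V3C : ∀ i < 16, (chkPC (mul3 (nat_lit 248)) (one2 (nat_lit 248)) V3g V3w (nat_lit 4) (nat_lit 9)) i = 0 :=
  (rng_step (rng_step (rng_step (all0 _) V3C_0) V3C_1) V3C_2)
theorem V3_p : IsPGroup 3 V3 :=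
  pgroup_of_chkPC (e := 2) V3_top V3C
theorem V3_le : V3 ≤ vG :=
  gn_le V3I
theorem V3ZY : ∀ i < 81, (chkY (can3 (nat_lit 248)) (row3 (nat_lit 248)) V3Z (nat_lit 81)) i = 0 :=
  allB (rngB_step (allB0 _ _) V3ZY_0) (by decide)
theorem V3ZD : Dist (fun i => pvA (pt (row3 (nat_lit 248)) V3Z i)) 81 :=
  dist_of_chk (canT3 φA) V3ZY
theorem V3RO : ∀ i < 81, (chkO (img3 (nat_lit 248) V3g) (row3 (nat_lit 248)) V3Z V3Ra (nat_lit 81) [nat_lit 0]) i = 0 :=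
  allB (rngB_step (allB0 _ _) V3RO_0) (by decide)
theorem V3R : Reach V3 (fun i => pvA (pt (row3 (nat_lit 248)) V3Z i)) 81 [nat_lit 0] :=
  reach_of_chk ((acts3 (m := mA) φA hA V3g).ex V3_eg) V3RO
theorem V3d : 3 ^ (3 + 1) ∣ Nat.card vG :=
  pow_dvd_of_pgroup (by norm_num) V3_p V3_le (card_ge V3ZD V3R (one_le_card _)) (by norm_num)
theorem V7IE : ∀ i < 2, (chkE V7g ve [nat_lit 2083992, nat_lit 1056231959874]) i = 0 :=
  (rng_step (all0 _) V7IE_0)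
theorem V7I : ∀ s < 2, mA.In vG (V7g s) :=
  in_of_chkE vel V7IE
theorem V7_top : ∀ s < 2, mA.In ⊤ (V7g s) :=
  fun s hs => (V7I s hs).top
theorem V7_in : ∀ s < 2, mA.In V7 (V7g s) :=
  in_gn V7_top
theorem V7_eg : mA.El V7 V7g :=
  el_gn V7_top
theorem V7C : ∀ i < 4, (chkPC (mul3 (nat_lit 248)) (one2 (nat_lit 248)) V7g V7w (nat_lit 2) (nat_lit 7)) i = 0 :=
  (rng_step (all0 _) V7C_0)
theorem V7_p : IsPGroup 7 V7 :=
  pgroup_of_chkPC (e := 1) V7_top V7C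
theorem V7_le : V7 ≤ vG :=
  gn_le V7I
theorem V7ZY : ∀ i < 49, (chkY (can3 (nat_lit 248)) (row3 (nat_lit 248)) V7Z (nat_lit 49)) i = 0 :=
  allB (rngB_step (allB0 _ _) V7ZY_0) (by decide)
theorem V7ZD : Dist (fun i => pvA (pt (row3 (nat_lit 248)) V7Z i)) 49 :=
  dist_of_chk (canT3 φA) V7ZY
theorem V7RO : ∀ i < 49, (chkO (img3 (nat_lit 248) V7g) (row3 (nat_lit 248)) V7Z V7Ra (nat_lit 49) [nat_lit 0]) i = 0 :=
  allB (rngB_step (allB0 _ _) V7RO_0) (by decide)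
theorem V7R : Reach V7 (fun i => pvA (pt (row3 (nat_lit 248)) V7Z i)) 49 [nat_lit 0] :=
  reach_of_chk ((acts3 (m := mA) φA hA V7g).ex V7_eg) V7RO
theorem V7d : 7 ^ (1 + 1) ∣ Nat.card vG :=
  pow_dvd_of_pgroup (by norm_num) V7_p V7_le (card_ge V7ZD V7R (one_le_card _)) (by norm_num)
theorem VP : ∀ i < 3, (chkPW (mul3 (nat_lit 248)) (one2 (nat_lit 248)) Vg [[nat_lit 1, nat_lit 0, nat_lit 2, nat_lit 2, nat_lit 1, nat_lit 1, nat_lit 1],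
  [nat_lit 0, nat_lit 1, nat_lit 0, nat_lit 0, nat_lit 1, nat_lit 1, nat_lit 2, nat_lit 1, nat_lit 1, nat_lit 2],
  [nat_lit 1, nat_lit 0, nat_lit 2, nat_lit 1, nat_lit 2, nat_lit 2, nat_lit 1, nat_lit 0, nat_lit 2, nat_lit 1, nat_lit 0, nat_lit 2]] Vg VPy (nat_lit 13)) i = 0 :=
  (rng_step (rng_step (rng_step (all0 _) VP_0) VP_1) VP_2)
theorem cardP : Nat.card P0 = 258048 := vex.2.2.1.trans (by norm_num)

theorem arithL {n : ℕ} (h0 : 0 < n) (h1 : 258048 ∣ n) (h2 : 3 ^ (3 + 1) ∣ n) (h4 : 7 ^ (1 + 1) ∣ n)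
    (h5 : 13 ∣ n) (h : n ≤ 258048 * 819) : n = 211341312 := by
  have a1 : 4096 ∣ n := dvd_trans (by norm_num) h1
  have a2 := Nat.Coprime.mul_dvd_of_dvd_of_dvd (by norm_num) a1 h2
  have a3 := Nat.Coprime.mul_dvd_of_dvd_of_dvd (by norm_num) a2 h4
  have a4 := Nat.Coprime.mul_dvd_of_dvd_of_dvd (by norm_num) a3 h5
  exact eq_of_dvd_of_le h0 (by simpa using a4) (by simpa using h)

theorem cardPm : Nat.card (Subgroup.map (MonoidHom.id GA) P0) = 258048 := by rw [card_map_id, cardP]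

theorem cardL : Nat.card vG = 211341312 :=
  arithL Nat.card_pos (cardPm ▸ card_dvd_of_le le_sup_left) V3d V7d
    (dvd_of_chkQW keyA V_eg (by norm_num) V13) (cardPm ▸ vub)

theorem Vub : ∀ i < 4, Nat.card (Lf (MonoidHom.id GA) P0 (mA.elt (vD i))) ≤ getN [nat_lit 258048, nat_lit 14336, nat_lit 896, nat_lit 504] i :=
  dc_eq (d := fun i => mA.elt (vD i)) vcov cardP.le (getN [nat_lit 258048, nat_lit 14336, nat_lit 896, nat_lit 504]) (getN [nat_lit 1, nat_lit 18, nat_lit 288, nat_lit 512]) vhBs (by decide +kernel)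
    (by rw [cardPm, cardL]; decide +kernel)

theorem simpleL : IsSimpleGroup vG :=
  simple_rel (by rw [cardL]; norm_num) (dich_rel le_sup_left 13 (by rw [cardPm]; norm_num) vmax
    (core_id vG3 ((le_of_card_inf (Vub 3 (by decide)) vL3lb1).trans
      (congrArg (fun x => MulAction.stabilizer GA (pvA x)) vcx).le) vc)
    fun N _ h => V_gn.trans (gn_le (in_of_chkPW h V_eg (fun s _ => V_eg s) VP)))
theorem KGE : ∀ i < 4, (chkE KKg qe [nat_lit 13675279781743379457, nat_lit 11248625740100469250, nat_lit 9752890803340322817, nat_lit 13590412288]) i = 0 :=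
  (rng_step (rng_step (all0 _) KGE_0) KGE_1)
theorem KG : ∀ s < 4, mA.In qG (KKg s) :=
  in_of_chkE qel KGE
theorem KK_top : ∀ s < 4, mA.In ⊤ (KKg s) :=
  fun s hs => (KG s hs).top
theorem KK_in : ∀ s < 4, mA.In KK (KKg s) :=
  in_gn KK_top
theorem KK_eg : mA.El KK KKg :=
  el_gn KK_top
theorem KE : ∀ i < 3, (fun s => Nat.xor (KKg (s + 1)) (Vg s)) i = 0 :=
  (rng_step (all0 _) KE_0)
theorem kkS : ∀ i < 3, (chkS2 (mul3 (nat_lit 248)) KKg (nat_lit 4) kkT ve kkc (nat_lit 2) (nat_lit 3)) i = 0 :=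
  (rng_step (rng_step (rng_step (all0 _) kkS_0) kkS_1) kkS_2)
theorem kkub : Nat.card KK ≤ 634023936 :=
  (ub_of_chkS2 (m := mA) vel (by decide) kkT0 kkS cardL.le).trans (by norm_num)
theorem kkelT : mA.El KK kkT :=
  el_of_pad (inT_of_chkS2 (m := mA) kkT0 (by decide) KK_in kkS)
theorem kkle : vG ≤ KK :=
  V_gn.trans (gn_le fun s hs => (KK_eg (s + 1)).of_eq (KE s hs))
theorem kkel : mA.El KK kke :=
  el_cel1 kkelT (vel.mono kkle) _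
theorem W3IE : ∀ i < 5, (chkE W3g kke [nat_lit 1853462355756, nat_lit 1918514047768, nat_lit 1816126759500, nat_lit 3749146958172, nat_lit 1000617460526]) i = 0 :=
  (rng_step (rng_step (rng_step (all0 _) W3IE_0) W3IE_1) W3IE_2)
theorem W3I : ∀ s < 5, mA.In KK (W3g s) :=
  in_of_chkE kkel W3IE
theorem W3_top : ∀ s < 5, mA.In ⊤ (W3g s) :=
  fun s hs => (W3I s hs).top
theorem W3_in : ∀ s < 5, mA.In W3 (W3g s) :=
  in_gn W3_top
theorem W3_eg : mA.El W3 W3g :=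
  el_gn W3_top
theorem W3C : ∀ i < 25, (chkPC (mul3 (nat_lit 248)) (one2 (nat_lit 248)) W3g W3w (nat_lit 5) (nat_lit 9)) i = 0 :=
  (rng_step (rng_step (rng_step (rng_step (all0 _) W3C_0) W3C_1) W3C_2) W3C_3)
theorem W3_p : IsPGroup 3 W3 :=
  pgroup_of_chkPC (e := 2) W3_top W3C
theorem W3_le : W3 ≤ KK :=
  gn_le W3I
theorem W3ZY : ∀ i < 243, (chkY (can3 (nat_lit 248)) (row3 (nat_lit 248)) W3Z (nat_lit 243)) i = 0 :=
  allB (rngB_step (allB0 _ _) W3ZY_0) (by decide)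
theorem W3ZD : Dist (fun i => pvA (pt (row3 (nat_lit 248)) W3Z i)) 243 :=
  dist_of_chk (canT3 φA) W3ZY
theorem W3RO : ∀ i < 243, (chkO (img3 (nat_lit 248) W3g) (row3 (nat_lit 248)) W3Z W3Ra (nat_lit 243) [nat_lit 0]) i = 0 :=
  allB (rngB_step (allB0 _ _) W3RO_0) (by decide)
theorem W3R : Reach W3 (fun i => pvA (pt (row3 (nat_lit 248)) W3Z i)) 243 [nat_lit 0] :=
  reach_of_chk ((acts3 (m := mA) φA hA W3g).ex W3_eg) W3RO
theorem W3d : 3 ^ (4 + 1) ∣ Nat.card KK :=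
  pow_dvd_of_pgroup (by norm_num) W3_p W3_le (card_ge W3ZD W3R (one_le_card _)) (by norm_num)

theorem mainL : ∃ H : Subgroup GA, (IsSimpleGroup H ∧ Nat.card H = 90745943887872000) ∧
    ∃ K : Subgroup H, K.index = 143127000 ∧ ∃ L : Subgroup H, L ≤ K ∧ Cfsg.Is3D4 L :=
  ⟨qG, ⟨simpleG, cardG⟩, th_sub kkle (gn_le KG) cardG simpleL cardL (kkub.trans (by norm_num)) W3d⟩

end Cfsg.Agent.H4.Th
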