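import Cfsg.Agent.H8.TC
import Cfsg.Agent.H5.DC3

/-! Coset enumeration certificates for groups generated by involutions.  The coset table itself
carries the proofs: every entry has a method and a rank, and uses only entries of larger rank. -/

set_option autoImplicit false

namespace Cfsg.Agent.H4.TC

open Cfsg.Agent.H5 Cfsg.Agent.H8.TC

def sl (w mk r g : ℕ) : ℕ := Nat.land (Nat.shiftRight r (Nat.add (nat_lit 64) (Nat.mul w g))) mk
def tg (e : ℕ) : ℕ := Nat.land e (nat_lit 524287)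
def rk (e : ℕ) : ℕ := Nat.shiftRight e (nat_lit 24)
def mt (e : ℕ) : ℕ := Nat.land (Nat.shiftRight e (nat_lit 19)) (nat_lit 31)
/-- parent and letter of the definition -/
def pa (r : ℕ) : ℕ := Nat.land r (nat_lit 8388607)
def od (r : ℕ) : ℕ := Nat.land (Nat.shiftRight r (nat_lit 23)) (nat_lit 1048575)
def xp (r : ℕ) : ℕ := Nat.land (Nat.shiftRight r (nat_lit 43)) (nat_lit 2097151)

/-- follow the table -/
noncomputable def wkI (R : ℕ → ℕ) (w mk k t g m : ℕ) : ℕ → ℕ → ℕ :=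
  Nat.rec (motive := fun _ => ℕ → ℕ → ℕ) (fun cur W => Nat.add (Nat.xor cur t) (Nat.xor W g))
    (fun _ ih cur W => force (sl w mk (R cur) (Nat.land W (nat_lit 15))) fun e =>
      force (tg e) fun nx => force (Nat.shiftRight W (nat_lit 4)) fun W' =>
        Nat.add (lz k (rk e)) (ih nx W')) m

/-- follow a list of table positions -/
noncomputable def wkX (R : ℕ → ℕ) (w mk N k t g m : ℕ) : ℕ → ℕ → ℕ → ℕ :=
  Nat.rec (motive := fun _ => ℕ → ℕ → ℕ → ℕ)
    (fun _ cur W => Nat.add (Nat.xor cur t) (Nat.xor W g))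
    (fun _ ih P cur W => force (Nat.land P (nat_lit 15)) fun c =>
      force (Nat.land (Nat.shiftRight P (nat_lit 4)) (nat_lit 524287)) fun s =>
      force (sl w mk (R s) c) fun e => force (tg e) fun u =>
      force (Nat.shiftRight P (nat_lit 23)) fun P' =>
        Nat.add (Nat.add (lz k (rk e)) (lz s N))
          (ifz (Nat.xor s cur) (adv (ih P') c u W) (Nat.add (Nat.xor u cur) (adv (ih P') c s W)))) m

noncomputable def chkE (R X WL : ℕ → ℕ) (WS w mk ns n N c r g e m p : ℕ) : ℕ :=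
  force (tg e) fun t => force (rk e) fun k =>
    ifz (Nat.shiftRight m (nat_lit 2))
      (ifz m (force (sl w mk (R t) g) fun e' => Nat.add (Nat.xor (tg e') c) (lz k (rk e')))
        (ifz (Nat.xor m (nat_lit 1))
          (ifz c (Nat.add t (lz g ns))
            (Nat.add (Nat.xor (pa r) (Nat.add g (Nat.mul (nat_lit 16) t))) (lz (od (R t)) (od r))))
          (ifz (Nat.xor m (nat_lit 2))
            (force (R t) fun r' =>
              Nat.add (Nat.xor (pa r') (Nat.add g (Nat.mul (nat_lit 16) c))) (lz (od r) (od r')))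
            (Nat.add k (Nat.mul g (Nat.sub n c))))))
      (ifz (Nat.xor m (nat_lit 31))
        (force (X p) fun x =>
          wkX R w mk N k t g (Nat.land (Nat.shiftRight x (nat_lit 10)) (nat_lit 4095))
            (Nat.shiftRight x (nat_lit 22)) c (WL (Nat.land x (nat_lit 1023))))
        (force (ifz (Nat.shiftRight m (nat_lit 4))
            (fld WS (nat_lit 24) (nat_lit 16777215) (Nat.add m (Nat.mul (nat_lit 16) g)))
            (WL (Nat.add m (Nat.mul (nat_lit 16) g)))) fun W =>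
          wkI R w mk k t g (Nat.shiftRight (Nat.log2 W) (nat_lit 2)) c W))

noncomputable def rowL (R X WL : ℕ → ℕ) (WS w mk ns n N c r b m : ℕ) : ℕ → ℕ :=
  Nat.rec (motive := fun _ => ℕ → ℕ) (fun _ => nat_lit 0)
    (fun g ih p => force g fun g => force (sl w mk r g) fun e => force (mt e) fun m =>
      Nat.add (Nat.add (lz (tg e) b) (chkE R X WL WS w mk ns n N c r g e m p))
        (ih (Nat.add p (Nat.shiftRight (Nat.succ m) (nat_lit 5))))) m

noncomputable def chkR (R X WL : ℕ → ℕ) (WS w mk ng ns n N c : ℕ) : ℕ :=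
  force (R c) fun r => force (ifz (lz c n) n N) fun b =>
    Nat.add (Nat.shiftRight r (Nat.add (nat_lit 64) (Nat.mul w (Nat.succ ng))))
      (rowL R X WL WS w mk ns n N c r b (Nat.succ ng) (xp r))

variable {Γ : Type*} [Group Γ]

/-- coset representatives -/
noncomputable def rep (lt : ℕ → Γ) (R : ℕ → ℕ) (c : ℕ) : Γ :=
  if od (R (pa (R c) / 16)) < od (R c) then rep lt R (pa (R c) / 16) * lt (pa (R c) % 16) else 1
termination_by od (R c)

structure Inv (lt : ℕ → Γ) (WL : ℕ → ℕ) (WS : ℕ) : Prop where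
  zero : lt 0 = 1
  sq : ∀ c, lt c * lt c = 1
  ws : ∀ x, val lt (fld WS 24 16777215 x) = 1
  wl : ∀ x, val lt (WL x) = 1

variable {lt : ℕ → Γ} {K : Subgroup Γ} {R X WL : ℕ → ℕ} {WS w mk ng ns n N : ℕ}

theorem Inv.setup (H : Inv lt WL WS) (K : Subgroup Γ) : Setup lt K (fun c => c) [] 0 :=
  ⟨H.zero, fun _ h => h, fun c _ => eq_inv_of_mul_eq_one_left (H.sq c), fun _ h => absurd h List.not_mem_nil,
    fun _ h => absurd h (Nat.not_lt_zero _)⟩

theorem holds_symm (H : Inv lt WL WS) {φ : ℕ → Γ} {i c j : ℕ} (h : Holds lt K φ i c j) :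
    Holds lt K φ j c i := by
  have := K.inv_mem h
  unfold Holds
  rw [eq_inv_of_mul_eq_one_left (H.sq c)]
  convert this using 1; group

theorem holds_def {c g t : ℕ} (hg : g < 16) (h1 : pa (R t) = g + 16 * c)
    (h2 : od (R c) < od (R t)) : Holds lt K (rep lt R) c g t := by
  have e1 : pa (R t) / 16 = c := by omega
  have e2 : pa (R t) % 16 = g := by omega
  unfold Holds
  rw [rep.eq_1 lt R t, e1, e2, if_pos h2, mul_inv_cancel]
  exact K.one_mem

theorem wkI_sound (H : Inv lt WL WS) {φ : ℕ → Γ} {k t g : ℕ}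
    (hF : ∀ c < N, ∀ l, k < rk (sl w mk (R c) l) →
      Holds lt K φ c l (tg (sl w mk (R c) l)) ∧ tg (sl w mk (R c) l) < N) (x : Γ) (m : ℕ) :
    ∀ cur W, cur < N → wkI R w mk k t g m cur W = 0 → x * (val lt W)⁻¹ * (φ cur)⁻¹ ∈ K →
      x * (val lt g)⁻¹ * (φ t)⁻¹ ∈ K := by
  induction m with
  | zero =>
    intro cur W _ h hx
    obtain ⟨h1, h2⟩ := add_eq_zero' h
    rwa [← xor_eq_zero' h1, ← xor_eq_zero' h2]
  | succ m ih =>
    intro cur W hc h hx
    obtain ⟨h1, h2⟩ := add_eq_zero' h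
    obtain ⟨h3, h4⟩ := hF cur hc _ (lt_of_lz h1)
    refine ih _ _ h4 h2 ?_
    have h5 : Nat.land W 15 = W % 16 := Nat.and_two_pow_sub_one_eq_mod W 4
    have h6 : Nat.shiftRight W 4 = W / 16 := Nat.shiftRight_eq_div_pow W 4
    have hm := K.mul_mem hx h3
    rw [val_step H.zero W, ← h5, ← h6] at hm
    convert hm using 1; group

theorem wkX_sound (H : Inv lt WL WS) {φ : ℕ → Γ} {k t g : ℕ}
    (hF : ∀ c < N, ∀ l, k < rk (sl w mk (R c) l) →
      Holds lt K φ c l (tg (sl w mk (R c) l)) ∧ tg (sl w mk (R c) l) < N) (x : Γ) (m : ℕ) :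
    ∀ P cur W, wkX R w mk N k t g m P cur W = 0 → x * (val lt W)⁻¹ * (φ cur)⁻¹ ∈ K →
      x * (val lt g)⁻¹ * (φ t)⁻¹ ∈ K := by
  induction m with
  | zero =>
    intro _ cur W h hx
    obtain ⟨h1, h2⟩ := add_eq_zero' h
    rwa [← xor_eq_zero' h1, ← xor_eq_zero' h2]
  | succ m ih =>
    intro P cur W h hx
    obtain ⟨h1, h2⟩ := add_eq_zero' h
    obtain ⟨h1, h3⟩ := add_eq_zero' h1
    have h4 := (hF _ (lt_of_lz h3) _ (lt_of_lz h1)).1
    rw [ifz_eq] at h2
    split_ifs at h2 with h5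
    · rw [xor_eq_zero' h5] at h4 h2
      exact adv_sound (H.setup K) (ih _) h4 h2 hx
    · obtain ⟨h6, h7⟩ := add_eq_zero' h2
      have h8 := holds_symm H h4
      rw [xor_eq_zero' h6] at h8
      exact adv_sound (H.setup K) (ih _) h8 h7 hx

theorem rowL_zero {c r b m : ℕ} : ∀ p, rowL R X WL WS w mk ns n N c r b m p = 0 → ∀ g < m,
    tg (sl w mk r g) < b ∧
      ∃ p, chkE R X WL WS w mk ns n N c r g (sl w mk r g) (mt (sl w mk r g)) p = 0 := by
  induction m with
  | zero => exact fun _ _ g hg => absurd hg (Nat.not_lt_zero _)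
  | succ m ih =>
    intro p h g hg
    obtain ⟨h1, h2⟩ := add_eq_zero' h
    rcases Nat.lt_succ_iff_lt_or_eq.1 hg with h3 | rfl
    · exact ih _ h2 g h3
    · exact ⟨lt_of_lz (add_eq_zero' h1).1, p, (add_eq_zero' h1).2⟩

theorem sl_zero {r g : ℕ} (h : Nat.shiftRight r (64 + w * (ng + 1)) = 0) (hg : ng < g) :
    sl w mk r g = 0 := by
  obtain ⟨d, rfl⟩ := Nat.exists_eq_add_of_lt hg
  have : r >>> (64 + w * (ng + d + 1)) = 0 := by
    rw [show 64 + w * (ng + d + 1) = 64 + w * (ng + 1) + w * d by ring, Nat.shiftRight_add]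
    change (Nat.shiftRight r _) >>> _ = 0
    rw [h, Nat.zero_shiftRight]
  change (r >>> (64 + w * (ng + d + 1))) &&& mk = 0
  rw [this, Nat.zero_and]

theorem rk_le (r g : ℕ) : rk (sl w mk r g) ≤ mk :=
  (Nat.shiftRight_le _ _).trans Nat.and_le_right

theorem all_hold (H : Inv lt WL WS) (hs : ∀ c < ns, lt c ∈ K) (hng : ng < 16) (hn : n ≤ N)
    (h0 : od (R 0) = 0) (h : ∀ c < N, chkR R X WL WS w mk ng ns n N c = 0) (d : ℕ) :
    ∀ c < N, ∀ g ≤ ng, mk - rk (sl w mk (R c) g) = d →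
      (rk (sl w mk (R c) g) ≠ 0 ∨ g ≠ 0 ∧ c < n) →
      Holds lt K (rep lt R) c g (tg (sl w mk (R c) g)) ∧
        tg (sl w mk (R c) g) < if c < n then n else N := by
  induction d using Nat.strong_induction_on with
  | _ d ih =>
    intro c hc g hg hd hv
    obtain ⟨-, h1⟩ := add_eq_zero' (h c hc)
    obtain ⟨hb, p, h2⟩ := rowL_zero _ h1 g (Nat.lt_succ_of_le hg)
    have hb' : tg (sl w mk (R c) g) < if c < n then n else N := by
      rw [ifz_eq] at hb
      split_ifs at hb with h3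
      · rw [if_pos (lt_of_lz h3)]; exact hb
      · rw [if_neg fun h4 : c < n => h3 (Nat.sub_eq_zero_of_le h4)]; exact hb
    have hN : tg (sl w mk (R c) g) < N := by split_ifs at hb' <;> omega
    refine ⟨?_, hb'⟩
    have hF : ∀ c' < N, ∀ l, rk (sl w mk (R c) g) < rk (sl w mk (R c') l) →
        Holds lt K (rep lt R) c' l (tg (sl w mk (R c') l)) ∧ tg (sl w mk (R c') l) < N := by
      intro c' hc' l hl
      have h3 : l ≤ ng := by
        by_contra h4
        rw [sl_zero (add_eq_zero' (h c' hc')).1 (not_le.1 h4)] at hl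
        exact absurd hl (Nat.not_lt_zero _)
      have h4 := rk_le (w := w) (mk := mk) (R c') l
      obtain ⟨h5, h6⟩ := ih _ (by omega) c' hc' l h3 rfl (Or.inl (by omega))
      exact ⟨h5, by split_ifs at h6 <;> omega⟩
    have fin : ∀ {t}, rep lt R c * (val lt g)⁻¹ * (rep lt R t)⁻¹ ∈ K →
        Holds lt K (rep lt R) c g t := fun h3 => by
      rwa [val_small H.zero (by omega), ← eq_inv_of_mul_eq_one_left (H.sq g)] at h3
    have st : ∀ {W}, val lt W = 1 → rep lt R c * (val lt W)⁻¹ * (rep lt R c)⁻¹ ∈ K := fun h3 => by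
      rw [h3]; simp
    simp only [chkE, force_eq, ifz_eq] at h2
    split_ifs at h2 with a1 a2 a3 a4 a5 a6 a7
    · obtain ⟨h3, h4⟩ := add_eq_zero' h2
      have h5 := (hF _ hN _ (lt_of_lz h4)).1
      rw [xor_eq_zero' h3] at h5
      exact holds_symm H h5
    · obtain ⟨h3, h4⟩ := add_eq_zero' h2
      have h5 : rep lt R 0 = 1 := by rw [rep.eq_1, h0, if_neg (Nat.not_lt_zero _)]
      unfold Holds
      rw [h3, a4, h5]
      simpa using hs g (lt_of_lz h4)
    · obtain ⟨h3, h4⟩ := add_eq_zero' h2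
      exact holds_symm H (holds_def (by omega) (xor_eq_zero' h3) (lt_of_lz h4))
    · obtain ⟨h3, h4⟩ := add_eq_zero' h2
      exact holds_def (by omega) (xor_eq_zero' h3) (lt_of_lz h4)
    · obtain ⟨h3, h4⟩ := add_eq_zero' h2
      have h5 : g * (n - c) = 0 := h4
      rcases hv with h6 | h6
      · exact absurd h3 h6
      · rcases Nat.mul_eq_zero.1 h5 with h7 | h7 <;> omega
    · exact fin (wkX_sound H hF _ _ _ _ _ h2 (st (H.wl _)))
    · exact fin (wkI_sound H hF _ _ _ _ hc h2 (st (H.ws _)))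
    · exact fin (wkI_sound H hF _ _ _ _ hc h2 (st (H.wl _)))

/-- the closed table -/
def Tab (lt : ℕ → Γ) (K : Subgroup Γ) (φ : ℕ → Γ) (T : ℕ → ℕ → ℕ) (ng n : ℕ) : Prop :=
  φ 0 = 1 ∧ ∀ c < n, ∀ g ≤ ng, g ≠ 0 → Holds lt K φ c g (T c g) ∧ T c g < n

theorem tab_of_chk (H : Inv lt WL WS) (hs : ∀ c < ns, lt c ∈ K) (hng : ng < 16) (hn : n ≤ N)
    (h0 : od (R 0) = 0) (h : ∀ c < N, chkR R X WL WS w mk ng ns n N c = 0) :
    Tab lt K (rep lt R) (fun c g => tg (sl w mk (R c) g)) ng n :=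
  ⟨by rw [rep.eq_1, h0, if_neg (Nat.not_lt_zero _)], fun c hc g hg h1 => by
    have := all_hold H hs hng hn h0 h _ c (by omega) g hg rfl (Or.inr ⟨h1, hc⟩)
    rwa [if_pos hc] at this⟩

/-- the subgroup generated by the first letters -/
def Gk (lt : ℕ → Γ) (k : ℕ) : Subgroup Γ := Subgroup.closure (lt '' {c | c ≤ k})

theorem mem_Gk {k c : ℕ} (h : c < k + 1) : lt c ∈ Gk lt k :=
  Subgroup.subset_closure ⟨c, Nat.lt_succ_iff.1 h, rfl⟩

theorem Tab.cover (h0 : lt 0 = 1) (hq : ∀ c, lt c * lt c = 1) {φ : ℕ → Γ} {T : ℕ → ℕ → ℕ}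
    (h : Tab lt K φ T ng n) (hn : 0 < n) : ∀ g ∈ Gk lt ng, ∃ i < n, g * (φ i)⁻¹ ∈ K := by
  have key : ∀ c ≤ ng, ∀ g : Γ, (∃ i < n, g * (φ i)⁻¹ ∈ K) →
      ∃ i < n, g * lt c * (φ i)⁻¹ ∈ K := by
    rintro c hc g ⟨i, hi, hg⟩
    by_cases h1 : c = 0
    · exact ⟨i, hi, by rwa [h1, h0, mul_one]⟩
    · obtain ⟨h2, h3⟩ := h.2 i hi c hc h1
      refine ⟨_, h3, ?_⟩
      convert K.mul_mem hg h2 using 1; group
  intro g hg
  induction hg using Subgroup.closure_induction_right with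
  | one => exact ⟨0, hn, by rw [h.1]; simp⟩
  | mul_right x _ y hy ih =>
    obtain ⟨c, hc, rfl⟩ := hy
    exact key c hc x ih
  | mul_inv_cancel x _ y hy ih =>
    obtain ⟨c, hc, rfl⟩ := hy
    rw [← eq_inv_of_mul_eq_one_left (hq c)]
    exact key c hc x ih

/-- `K` is finite of order at most `B` -/
def Bd (K : Subgroup Γ) (B : ℕ) : Prop := Finite K ∧ Nat.card K ≤ B

theorem Bd.step {B : ℕ} (hK : Bd K B) (H : Inv lt WL WS) (hs : ∀ c < ns, lt c ∈ K) (hng : ng < 16)
    (hn : n ≤ N) (hn0 : 0 < n) (h0 : od (R 0) = 0)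
    (h : ∀ c < N, chkR R X WL WS w mk ng ns n N c = 0) : Bd (Gk lt ng) (n * B) := by
  have := hK.1
  obtain ⟨h1, h2⟩ := card_le_of_cover ((tab_of_chk H hs hng hn h0 h).cover H.zero H.sq hn0)
  exact ⟨h1, h2.trans (Nat.mul_le_mul_left _ hK.2)⟩

theorem bd_bot : Bd (⊥ : Subgroup Γ) 1 := ⟨inferInstance, Subgroup.card_bot.le⟩

/-! ### the tables of relators -/

/-- a repeated word -/
noncomputable def rp (u k m : ℕ) : ℕ :=
  Nat.rec (motive := fun _ => ℕ) (nat_lit 0)
    (fun _ ih => Nat.add u (Nat.mul (Nat.pow (nat_lit 16) k) ih)) m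

theorem val_rp (h0 : lt 0 = 1) {u k : ℕ} (h : u < 16 ^ k) (m : ℕ) :
    val lt (rp u k m) = val lt u ^ m := by
  induction m with
  | zero => rw [pow_zero]; exact val_zero lt
  | succ m ih => rw [pow_succ', ← ih]; exact val_append h0 k u _ h

/-- the Coxeter relator number `x` -/
noncomputable def cw (M x : ℕ) : ℕ := rp x (nat_lit 2) (fld M (nat_lit 4) (nat_lit 15) x)

theorem val_cw (h0 : lt 0 = 1) {M : ℕ}
    (hM : ∀ a < 16, ∀ b < 16, (lt a * lt b) ^ fld M 4 15 (a + 16 * b) = 1) {x : ℕ} (hx : x < 256) :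
    val lt (cw M x) = 1 := by
  have := hM (x % 16) (by omega) (x / 16) (by omega)
  rw [Nat.mod_add_div] at this
  rw [cw, val_rp h0 (show x < 16 ^ 2 from hx), val_step h0, val_small h0 (by omega)]
  exact this

noncomputable def chkWS (M WS A x : ℕ) : ℕ :=
  Nat.xor (fld WS (nat_lit 24) (nat_lit 16777215) x) (cw M (fld A (nat_lit 8) (nat_lit 255) x))

noncomputable def chkWL (M : ℕ) (LL : List ℕ) (WL A : ℕ → ℕ) (x : ℕ) : ℕ :=
  force (A x) fun a => Nat.xor (WL x) (ifz (Nat.shiftRight a (nat_lit 16))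
    (cw M (Nat.land a (nat_lit 255)))
    (rot (nth LL (Nat.land a (nat_lit 255))) (Nat.land (Nat.shiftRight a (nat_lit 8)) (nat_lit 255))))

theorem inv_of_chk (h0 : lt 0 = 1) (hq : ∀ c, lt c * lt c = 1) {M A k : ℕ} {LL : List ℕ}
    {W0 B : ℕ → ℕ} (hM : ∀ a < 16, ∀ b < 16, (lt a * lt b) ^ fld M 4 15 (a + 16 * b) = 1)
    (hL : ∀ u ∈ LL, val lt u = 1) (h1 : Nat.shiftRight WS (24 * 256) = 0)
    (h2 : ∀ x < 256, chkWS M WS A x = 0) (h3 : ∀ x < k, chkWL M LL (pad 0 k W0) B x = 0) :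
    Inv lt (pad 0 k W0) WS := by
  refine ⟨h0, hq, fun x => ?_, fun x => ?_⟩
  · by_cases hx : x < 256
    · rw [show fld WS 24 16777215 x = _ from xor_eq_zero' (h2 x hx)]
      exact val_cw h0 hM (Nat.lt_succ_of_le (fld_le _ _ _ _))
    · obtain ⟨d, rfl⟩ := Nat.exists_eq_add_of_le (not_lt.1 hx)
      have : WS >>> (24 * (256 + d)) = 0 := by
        rw [mul_add, Nat.shiftRight_add]
        change (Nat.shiftRight WS _) >>> _ = 0
        rw [h1, Nat.zero_shiftRight]
      change val lt ((WS >>> (24 * (256 + d))) &&& 16777215) = 1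
      rw [this, Nat.zero_and, val_zero]
  · by_cases hx : x < k
    · rw [xor_eq_zero' (h3 x hx), ifz_eq]
      split_ifs
      · exact val_cw h0 hM (Nat.lt_succ_of_le Nat.and_le_right)
      · refine val_rot h0 ?_ _
        rcases nth_mem LL (Nat.land (B x) 255) with e | e
        · rw [e, val_zero]
        · exact hL _ e
    · rw [pad_eq, if_neg hx, val_zero]

end Cfsg.Agent.H4.TC
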