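/-
Trios: the trio determined by two disjoint octads, transitivity, the order of the stabiliser,
orbits.
-/
import Cfsg.Agent.H4.Sextet

set_option autoImplicit false
set_option maxRecDepth 100000

open scoped Pointwise
open MulAction

namespace Cfsg.Agent.H4

theorem compl_union_mem_octads {o o' : Finset GolayPt} (ho : o ∈ octads) (ho' : o' ∈ octads)
    (h : Disjoint o o') : (o ∪ o')ᶜ ∈ octads := by
  have h1 : (o ∩ o').card = 0 := by rw [Finset.disjoint_iff_inter_eq_empty.mp h]; rfl
  refine ⟨compl_mem_code ?_, ?_⟩
  · rw [union_eq_symmDiff_of_card h1]; exact symmDiff_mem_code ho.1 ho'.1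
  · rw [Finset.card_compl, Finset.card_union_of_disjoint h, ho.2, ho'.2, card_golayPt]

/-- The trio through two disjoint octads. -/
def trioS (o o' : Finset GolayPt) : Finset (Finset GolayPt) := {o, o', (o ∪ o')ᶜ}

theorem ne_of_disjoint_octads {o o' : Finset GolayPt} (ho : o ∈ octads) (h : Disjoint o o') :
    o ≠ o' := by
  rintro rfl
  rw [disjoint_self] at h
  have := ho.2
  rw [h] at this
  simp at this

theorem trioS_mem {o o' : Finset GolayPt} (ho : o ∈ octads) (ho' : o' ∈ octads)
    (h : Disjoint o o') : trioS o o' ∈ trios := by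
  have h1 : Disjoint o (o ∪ o')ᶜ := Finset.disjoint_left.mpr fun x hx => by simp [hx]
  have h2 : Disjoint o' (o ∪ o')ᶜ := Finset.disjoint_left.mpr fun x hx => by simp [hx]
  refine ⟨Finset.card_eq_three.mpr ⟨_, _, _, ne_of_disjoint_octads ho h,
    ne_of_disjoint_octads ho h1, ne_of_disjoint_octads ho' h2, rfl⟩, ?_, ?_⟩
  · intro x hx
    simp only [trioS, Finset.mem_insert, Finset.mem_singleton] at hx
    rcases hx with rfl | rfl | rfl
    exacts [ho, ho', compl_union_mem_octads ho ho' h]
  · intro x hx y hy hne
    simp only [trioS, Finset.mem_insert, Finset.mem_singleton] at hx hy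
    rcases hx with rfl | rfl | rfl <;> rcases hy with rfl | rfl | rfl <;>
      first | exact absurd rfl hne | assumption | exact Disjoint.symm ‹_›

theorem eq_trioS {T : Finset (Finset GolayPt)} (hT : T ∈ trios) {o o' : Finset GolayPt}
    (ho : o ∈ T) (ho' : o' ∈ T) (hne : o ≠ o') : T = trioS o o' := by
  have hd := hT.2.2 o ho o' ho' hne
  apply Finset.eq_of_subset_of_card_le
  · intro x hx
    simp only [trioS, Finset.mem_insert, Finset.mem_singleton]
    by_cases h1 : x = o
    · exact Or.inl h1
    by_cases h2 : x = o'
    · exact Or.inr (Or.inl h2)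
    refine Or.inr (Or.inr (Finset.eq_of_subset_of_card_le ?_ ?_))
    · intro y hy
      simp only [Finset.mem_compl, Finset.mem_union, not_or]
      exact ⟨Finset.disjoint_left.mp (hT.2.2 x hx o ho h1) hy,
        Finset.disjoint_left.mp (hT.2.2 x hx o' ho' h2) hy⟩
    · rw [(compl_union_mem_octads (hT.2.1 o ho) (hT.2.1 o' ho') hd).2, (hT.2.1 x hx).2]
  · rw [(trioS_mem (hT.2.1 o ho) (hT.2.1 o' ho') hd).1, hT.1]

theorem exists_ne_mem_trio {T : Finset (Finset GolayPt)} (hT : T ∈ trios) (o : Finset GolayPt) :
    ∃ o' ∈ T, o ≠ o' := by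
  obtain ⟨x, hx, h⟩ := Finset.exists_mem_ne (s := T) (by rw [hT.1]; norm_num) o
  exact ⟨x, hx, h.symm⟩

theorem exists_mem_trio {T : Finset (Finset GolayPt)} (hT : T ∈ trios) (p : GolayPt) :
    ∃ o ∈ T, p ∈ o := by
  obtain ⟨o, ho, -⟩ := exists_ne_mem_trio hT ∅
  obtain ⟨o', ho', h⟩ := exists_ne_mem_trio hT o
  rw [eq_trioS hT ho ho' h]
  by_cases h1 : p ∈ o
  · exact ⟨o, by simp [trioS], h1⟩
  by_cases h2 : p ∈ o'
  · exact ⟨o', by simp [trioS], h2⟩
  exact ⟨(o ∪ o')ᶜ, by simp [trioS], by simp [h1, h2]⟩

theorem smul_trioS (g : M24) (o o' : Finset GolayPt) : g • trioS o o' = trioS (g • o) (g • o') := by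
  rw [trioS, Finset.smul_finset_insert, Finset.smul_finset_insert, Finset.smul_finset_singleton,
    trioS, ← Finset.smul_finset_union]
  congr 3
  exact smul_compl' (g : Equiv.Perm GolayPt) _

/-- The second octad of the standard trio. -/
def o1 : ℕ := 0x527c0
/-- The third octad of the standard trio. -/
def o2 : ℕ := 0x789810

theorem o1_mem : gE.ofMask o1 ∈ octads := ofMask_mem_octads_of (by decide +kernel)
theorem disjoint_o0_o1 : Disjoint (gE.ofMask o0) (gE.ofMask o1) :=
  (gE.disjoint_ofMask_iff (by decide)).mpr (by decide)

/-- The standard trio. -/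
def tr0 : Finset (Finset GolayPt) := trioS (gE.ofMask o0) (gE.ofMask o1)

theorem tr0_mem : tr0 ∈ trios := trioS_mem o0_mem o1_mem disjoint_o0_o1

theorem disjoint_octads : ∀ s, (s ∈ octads ∧ Disjoint (gE.ofMask o0) s) → ∃ g ∈ cfg [] [o0], ∃ r ∈ [o1], g • s = gE.ofMask r :=
  orbits_code (gens := [0xb924859833638edb29f54d23000865, 0x1207526e64064c9da8daac6f138b1])
    (R := 0x20000000000000000000000000000000000000000000000000000000000060000000000000000000000000000000000000000000000000000000000000000000000000000000000000000000000000000000000000000000000000000000000000000000000000000000000000000000000000000000000000000000000000000000000000000000000000000000000000000000000000000000000000000000600000000000000000000000000000000000000000000000000000000000000000000000000000000000000000000000000000000000000000000000000000000000000000000000000000000000000020000000000000000000000000000000000000000000000000000000000040000000000000000000000000000000000000000000000000000000000000000000000000000000000000000000000000000000000000000000000000000000000000000000000000000000000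0000000000000000000000000000000000000000000000000000000000000000000000000000000000000000000000000000000005000000000000000000000000000000000000000000000000000000000004000000000000000000000000000000000000000000000000000000000000000000000000000000000000000000000000000000000000000000000000000000000000000000000000000000000000000000000000000000000000000000000000000000000000000000000000000000000000000000000003000000000000000000000000000000000000000000000000000000000000000000000000000000000000000000000000000300000000000000000000000000000000000000000000000000000000000000000000000000000000000000000000000000000000000000000000000000000000000000000000000000000000000000000000000000000000000000000000000000000000000000000000000000020000000000000000000000000000000000000000000000000000000000000000000000000000000000000000000000000001000000000000000000000000000000000000000000000000000000000000000000000000000000000000000000000000000000000000000000000000000000000000000000000000000000000000000500000000000000000000000000000000000000000000000000000000000000000000000000000000000000000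0000000000000000000000000000000000000000000000000000000000000000000000000000000000000000000000000000000000000000000000000000000000400000000000000000000000000000000000000000000000000000000000000000000000000000000000000000000000000040000000000000000000000000000000000000000000000000000000000000000000000000000000000000000000000000000000000000000000000000000000000000000000000000000000000000000000000000000000000000000000000000000000000000000000000000004000000000000000000000000000000000000000000000000000000000000000000000000000000000000000000000000000000000000000000000000000000000000000000000000000000000000000000000000000000000000000000000000000000000000000000000000000000000000000000000000000000000000000000000000000000000000000000000000000000000000000000000000000000030000000000000000000000000000000000000000000000000000000000000000000000000000000000000000000000000001000000000000000000000000000000000000000000000000000000000000000000000000000000000000000000000000000000000000000000000000000000000000000000000000000000000000000000000000000000000000000000000000000000000000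0000000000000004000000000000000000000000000000000000000000000000000000000000000000000000000000000000000000000000000000000000000000000000000000000000000000000000000000000000000500000000000000000000000000000000000000000000000000000000000000000000000000000000000000000000000000030000000000000000000000000000000000000000000000000000000000000000000000000000000000000000000000000000000000000000000000000000000000000000000000000000000000000000000000000000000000000000000000000000000000000000000000000004000000000000000000000000000000000000000000000000000000000000000000000000000000000000000000000000000500000000000000000000000000000000000000000000000000000000000000000000000000000000000000000000000000000000000000000000000000000000000000000000000000000000000000000000000000000000000000000000000000000000000000000000000000000000000000000000000300000000000000000000000000000000000000000000000000000000000300000000000000000000000000000000000000000000000000000000000000000000000000000000000000000000000000000000000000000000000000000000000000000000000000000000000000000000000000000000000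00000000000000000000000000000000000000000000000000000000000000000000000000000000400000000000000000000000000000000000000000000000000000000000500000000000000000000000000000000000000000000000000000000000000000000000000000000000000000000000000000000000000000000000000000000000000000000000000000000000000020000000000000000000000000000000000000000000000000000000000000000000000000000000000000000000000000000000000000000000000000000000000000000000000000000000000000000000000000000000000000000000000000000000000000000000000000000000000000000000000000000000000000000000400000000000000000000000000000000000000000000000000000000000300000000000000000000000000000000000000000000000000000000000000000000000000000000000000000000000000000000000000000000000000000000000000000000000000000000000000000000000000000000000000000000000000000000000000000000000000000000000000000000000000000000000000000000)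
    (fun s => (s ∈ octads ∧ Disjoint (gE.ofMask o0) s)) (fun m => band (Nat.beq (pc24 m) 8) (Nat.beq (Nat.land o0 m) 0))
    (fun g hg s hs => ⟨smul_mem_octads hg.1 hs.1, by
      rw [← hg.2.2 o0 (by simp), disjoint_smul_iff]; exact hs.2⟩) (fun s hs => hs.1.1)
    (fun m hm hc h => by
      rw [gE.disjoint_ofMask_iff (by decide), ofMask_mem_octads hm] at h
      simp [h.1.2, h.2])
    (by decide +kernel)

theorem flag_o_o {o o' : Finset GolayPt} (ho : o ∈ octads) (ho' : o' ∈ octads) (h : Disjoint o o') :
    ∃ g ∈ M24, g • o = gE.ofMask o0 ∧ g • o' = gE.ofMask o1 := by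
  obtain ⟨g, hg, h1⟩ := trans_octad ho
  obtain ⟨k, hk, h2⟩ := single_rep disjoint_octads (g • o')
    ⟨smul_mem_octads hg ho', by rwa [← h1, disjoint_smul_iff]⟩
  exact ⟨k * g, M24.mul_mem hk.1 hg, by rw [mul_smul, h1, hk.2.2 o0 (by simp)],
    by rw [mul_smul, h2]⟩

/-- `M24` is transitive on trios. -/
theorem trans_trio {T : Finset (Finset GolayPt)} (hT : T ∈ trios) : ∃ g : M24, g • T = tr0 := by
  obtain ⟨o, ho, -⟩ := exists_ne_mem_trio hT ∅
  obtain ⟨o', ho', h⟩ := exists_ne_mem_trio hT o
  obtain ⟨g, hg, h1, h2⟩ := flag_o_o (hT.2.1 o ho) (hT.2.1 o' ho') (hT.2.2 o ho o' ho' h)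
  exact ⟨⟨g, hg⟩, by rw [eq_trioS hT ho ho' h, smul_trioS, tr0, ← h1, ← h2]; rfl⟩

theorem orbit_tr0 : orbit M24 tr0 = trios := by
  ext S
  constructor
  · rintro ⟨g, rfl⟩; exact smul_mem_trios g.2 tr0_mem
  · intro hS
    obtain ⟨g, h⟩ := trans_trio hS
    exact ⟨g⁻¹, by simp only [← h, inv_smul_smul]⟩

/-- The mask of the complement of the union. -/
def third (a b : ℕ) : ℕ := Nat.xor (Nat.lor a b) (nat_lit 16777215)

theorem ofMask_third (a b : ℕ) : gE.ofMask (third a b) = (gE.ofMask a ∪ gE.ofMask b)ᶜ := by
  rw [← gE.ofMask_lor, ← gE.ofMask_xor_full]; rfl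

theorem ofMask_mem_trioS {a b m : ℕ} (h : memL [a, b, third a b] m = true) :
    gE.ofMask m ∈ trioS (gE.ofMask a) (gE.ofMask b) := by
  rw [memL_iff] at h
  simp only [List.mem_cons, List.not_mem_nil, or_false] at h
  rcases h with rfl | rfl | rfl <;> simp [trioS, ofMask_third]

/-- The masks `a`, `b` describe disjoint octads. -/
def trOK (a b : ℕ) : Bool :=
  band (band (inC a) (Nat.beq (pc24 a) 8)) (band (band (inC b) (Nat.beq (pc24 b) 8))
    (Nat.beq (Nat.land a b) 0))

theorem trOK_spec {a b : ℕ} (h : trOK a b = true) :
    gE.ofMask a ∈ octads ∧ gE.ofMask b ∈ octads ∧ Disjoint (gE.ofMask a) (gE.ofMask b) := by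
  simp only [trOK, band_eq, Bool.and_eq_true, Nat.beq_eq] at h
  exact ⟨(ofMask_mem_octads (lt_of_inC h.1.1)).mpr h.1,
    (ofMask_mem_octads (lt_of_inC h.2.1.1)).mpr h.2.1,
    (gE.disjoint_ofMask_iff (lt_of_inC h.1.1)).mpr h.2.2⟩

theorem trioS_mem_of_trOK {a b : ℕ} (h : trOK a b = true) :
    trioS (gE.ofMask a) (gE.ofMask b) ∈ trios :=
  trioS_mem (trOK_spec h).1 (trOK_spec h).2.1 (trOK_spec h).2.2

/-- The permutation `p` maps the trio through `a, b` to the trio through `c, d`. -/
def mapsTr (a b c d p : ℕ) : Bool :=
  band (band (trOK a b) (trOK c d)) (band (memL [c, d, third c d] (push 24 5 p a))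
    (memL [c, d, third c d] (push 24 5 p b)))

theorem mapsTr_spec {a b c d p : ℕ} (h : mapsTr a b c d p = true) {g : M24} (hg : gE.RepA g p) :
    g • trioS (gE.ofMask a) (gE.ofMask b) = trioS (gE.ofMask c) (gE.ofMask d) := by
  simp only [mapsTr, band_eq, Bool.and_eq_true] at h
  have h1 : g • gE.ofMask a = gE.ofMask (push 24 5 p a) := Enc.Rep.smul_ofMask hg a
  have h2 : g • gE.ofMask b = gE.ofMask (push 24 5 p b) := Enc.Rep.smul_ofMask hg b
  rw [smul_trioS]
  refine (eq_trioS (trioS_mem_of_trOK h.1.2) (h1 ▸ ofMask_mem_trioS h.2.1)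
    (h2 ▸ ofMask_mem_trioS h.2.2) fun h3 => ?_).symm
  exact ne_of_disjoint_octads (trOK_spec h.1.1).1 (trOK_spec h.1.1).2.2
    ((smul_left_cancel_iff g).mp h3)

/-- Membership test for the stabiliser of the trio through `a, b`. -/
def memTr (a b p : ℕ) : Bool := band (mapsTr a b a b p) (isM24 p)

theorem memTr_spec {a b p : ℕ} (h : memTr a b p = true) {g : M24} (hg : gE.RepA g p) :
    g ∈ stabilizer M24 (trioS (gE.ofMask a) (gE.ofMask b)) := by
  simp only [memTr, band_eq, Bool.and_eq_true] at h
  exact mapsTr_spec h.1 hg

theorem sound_memTr (a b : ℕ) :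
    gE.Sound (stabilizer M24 (trioS (gE.ofMask a) (gE.ofMask b))) (memTr a b) := fun p hp => by
  obtain ⟨g, hg⟩ := exists_M24_of_isM24 (p := p) (by
    simp only [memTr, band_eq, Bool.and_eq_true] at hp; exact hp.2)
  exact ⟨g, memTr_spec hp hg, hg⟩

theorem card_cfg_o0 : Nat.card (cfg [] [o0]) = 322560 := by
  have h := card_eq_of_orbit_eq (cfg [] []) (gE.ofMask o0) octads
    (fun g hg => smul_mem_octads hg.1 o0_mem) (fun o ho => by
      obtain ⟨g, hg, h⟩ := trans_octad ho
      exact ⟨g⁻¹, by rw [cfg_nil]; exact inv_mem hg, by rw [← h, inv_smul_smul]⟩)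
  rw [← cfg_cons', cfg_nil, card_M24, ncard_octads] at h
  omega

theorem card_cfg_d0 : Nat.card (cfg [] [d0]) = 95040 := by
  have h := card_eq_of_orbit_eq (cfg [] []) (gE.ofMask d0) dodecads
    (fun g hg => smul_mem_dodecads hg.1 d0_mem) (fun o ho => by
      obtain ⟨g, hg, h⟩ := trans_dodecad ho
      exact ⟨g⁻¹, by rw [cfg_nil]; exact inv_mem hg, by rw [← h, inv_smul_smul]⟩)
  rw [← cfg_cons', cfg_nil, card_M24, ncard_dodecads] at h
  omega

theorem card_cfg_o1_o0 : Nat.card (cfg [] [o1, o0]) = 10752 := by
  have h := card_eq_of_orbit_eq (cfg [] [o0]) (gE.ofMask o1)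
    {s | s ∈ octads ∧ Disjoint (gE.ofMask o0) s}
    (fun g hg => ⟨smul_mem_octads hg.1 o1_mem, by
      rw [← hg.2.2 o0 (by simp), disjoint_smul_iff]; exact disjoint_o0_o1⟩) (fun o ho => by
      obtain ⟨g, hg, h⟩ := single_rep disjoint_octads o ho
      exact ⟨g⁻¹, inv_mem hg, by rw [← h, inv_smul_smul]⟩)
  have h2 : {s | s ∈ octads ∧ Disjoint (gE.ofMask o0) s}.ncard = 30 := by
    rw [ncard_code (fun m => band (Nat.beq (pc24 m) 8) (Nat.beq (Nat.land o0 m) 0))
      (fun _ h => h.1.1) fun m hm h => by
        rw [Set.mem_ofPred_eq, gE.disjoint_ofMask_iff (by decide), ofMask_mem_octads hm]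
        simp [h]]
    decide +kernel
  rw [← cfg_cons', card_cfg_o0, h2] at h
  omega

/-- A stabiliser chain for the trio group. -/
def trChain : List (ℕ × List ℕ) :=
  [(0, [0x6ba232acd509ed70127463d024ca0a, 0x45c4e0d92419eb103d73650c5929b0]),
   (4, [0x1d58b2222db164f9a4d051dd4b8820, 0x148d0492f4446a754decb2dcd28460]),
   (6, [0xbd6cc9b4a9a050b7c0c792a2470c40, 0x8da74a9eea7852b641a6920a4189c0]),
   (1, [0x73e7562aed59536a20f09184488460]),
   (2, [0x2be8cb34689c4f55aa099184475c20])]

theorem card_stab_tr0 : Nat.card (stabilizer M24 tr0) = 64512 := by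
  have hinv : ∀ g ∈ stabilizer M24 tr0, ∀ t ∈ tr0, g • t ∈ tr0 := fun g hg t ht => by
    rw [← mem_stabilizer_iff.mp hg]
    exact Finset.smul_mem_smul_finset ht
  apply le_antisymm
  · have h1 := card_le_of_orbit_subset (stabilizer M24 tr0) (gE.ofMask o0) tr0
      (Finset.finite_toSet _) fun g hg => hinv g hg _ (by simp [tr0, trioS])
    have h2 := card_le_of_orbit_subset (stabilizer M24 tr0 ⊓ stabilizer M24 (gE.ofMask o0))
      (gE.ofMask o1) (tr0.erase (gE.ofMask o0)) (Finset.finite_toSet _) fun g hg => by
        rw [Finset.mem_coe, Finset.mem_erase]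
        refine ⟨fun h => ?_, hinv g hg.1 _ (by simp [tr0, trioS])⟩
        exact ne_of_disjoint_octads o0_mem disjoint_o0_o1
          ((smul_left_cancel_iff g).mp ((mem_stabilizer_iff.mp hg.2).trans h.symm))
    have h3 : Nat.card ↥(stabilizer M24 (gE.ofMask o0) ⊓ stabilizer M24 (gE.ofMask o1)) = 10752 := by
      rw [← card_cfg_o1_o0]
      exact card_eq_card_cfg fun g => by
        simp only [Subgroup.mem_inf, mem_cfg, List.forall_mem_cons]
        exact ⟨fun h => ⟨g.2, by simp, h.2, h.1, by simp⟩, fun h => ⟨h.2.2.2.1, h.2.2.1⟩⟩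
    have h4 := Subgroup.card_le_of_le (inf_le_inf_right _ inf_le_right :
      stabilizer M24 tr0 ⊓ stabilizer M24 (gE.ofMask o0) ⊓ stabilizer M24 (gE.ofMask o1) ≤ _)
    rw [Set.ncard_coe_finset, Finset.card_erase_of_mem (by simp [tr0, trioS]), tr0_mem.1] at h2
    rw [Set.ncard_coe_finset, tr0_mem.1] at h1
    omega
  · exact le_trans (by decide +kernel) (Enc.chainLB_le 6 trChain _ _ (sound_memTr o0 o1))

theorem ncard_trios : trios.ncard = 3795 := by
  have h3 := card_eq_orbit_mul_stab (G := M24) tr0
  rw [orbit_tr0, card_stab_tr0, card_M24] at h3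
  omega

/-- A symmetric hash of a trio, from the first twelve bits of two of its octads. -/
def h3 (M x y : ℕ) : ℕ :=
  Nat.mod (Nat.add (Nat.pow x (nat_lit 3)) (Nat.add (Nat.pow y (nat_lit 3))
    (Nat.pow (Nat.xor (Nat.lor x y) (nat_lit 4095)) (nat_lit 3)))) M

/-- The hash of a trio. -/
noncomputable def thash (M : ℕ) (T : Finset (Finset GolayPt)) : ℕ :=
  (∑ o ∈ T, (gE.toMask o % 2 ^ 12) ^ 3) % M

theorem thash_trioS (M : ℕ) {o o' : Finset GolayPt} (h : trioS o o' ∈ trios) :
    thash M (trioS o o') = h3 M (gE.toMask o % 2 ^ 12) (gE.toMask o' % 2 ^ 12) := by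
  have h1 := h.1
  rw [trioS, Finset.card_eq_three] at h1
  have h2 : o ≠ o' ∧ o ≠ (o ∪ o')ᶜ ∧ o' ≠ (o ∪ o')ᶜ := by
    have := h.1
    rw [trioS] at this
    by_contra hc
    have h3 : ({o, o', (o ∪ o')ᶜ} : Finset (Finset GolayPt)).card ≤ 2 := by
      simp only [ne_eq, not_and_or, not_not] at hc
      rcases hc with hc | hc | hc
      · rw [hc, Finset.insert_eq_of_mem (by simp)]; exact Finset.card_le_two
      · rw [Finset.insert_eq_of_mem (by simp [← hc])]; exact Finset.card_le_two
      · rw [← hc, Finset.pair_eq_singleton]; exact Finset.card_le_two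
    omega
  have h3 : gE.toMask (o ∪ o')ᶜ = third (gE.toMask o) (gE.toMask o') := by
    conv_lhs => rw [← gE.ofMask_toMask o, ← gE.ofMask_toMask o', ← ofMask_third]
    exact gE.toMask_ofMask (Nat.xor_lt_two_pow (Nat.or_lt_two_pow (gE.toMask_lt o)
      (gE.toMask_lt o')) (by norm_num))
  rw [thash, trioS, Finset.sum_insert (by simp [h2.1, h2.2.1, -Finset.compl_union]),
    Finset.sum_insert (by simp [h2.2.2, -Finset.compl_union]), Finset.sum_singleton, h3]
  have h4 : third (gE.toMask o) (gE.toMask o') % 2 ^ 12 =
      ((gE.toMask o % 2 ^ 12) ||| (gE.toMask o' % 2 ^ 12)) ^^^ 4095 := by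
    show ((gE.toMask o ||| gE.toMask o') ^^^ 16777215) % 2 ^ 12 = _
    rw [Nat.xor_mod_two_pow, Nat.or_mod_two_pow]
  rw [h4]
  rfl

/-- The descent step for the trio through the octads `a`, `b`. -/
def stepT (M : ℕ) (reps : List (ℕ × ℕ)) (gens : List ℕ) (R a b : ℕ) : Bool :=
  bor (anyL gens fun p =>
    Nat.blt (img (nat_lit 5) R (h3 M (pull 12 5 p a) (pull 12 5 p b)))
      (img (nat_lit 5) R (h3 M (Nat.mod a 4096) (Nat.mod b 4096))))
    (anyL reps fun r => band (trOK r.1 r.2) (band (memL [r.1, r.2, third r.1 r.2] a)
      (memL [r.1, r.2, third r.1 r.2] b)))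

/-- Orbits on trios. -/
theorem orbits_trio {K : Subgroup M24} {mem : ℕ → Bool} (hmem : gE.Sound K mem) {M : ℕ}
    {reps : List (ℕ × ℕ)} {gens : List ℕ} {R : ℕ}
    (h : band (allL gens mem) (allL octL fun a => bimp (tb a 23) (allL octL fun b =>
      bimp (Nat.beq (Nat.land a b) 0) (stepT M reps gens R a b))) = true) :
    ∀ T ∈ trios, ∃ g ∈ K, ∃ r ∈ reps, g • T = trioS (gE.ofMask r.1) (gE.ofMask r.2) := by
  rw [band_eq, Bool.and_eq_true] at h
  refine descent K (· ∈ trios) (fun T => ∃ r ∈ reps, T = trioS (gE.ofMask r.1) (gE.ofMask r.2))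
    (fun T => img 5 R (thash M T)) ?_
  intro T hT
  obtain ⟨o, ho, hp⟩ := exists_mem_trio hT (gE.pt 23)
  obtain ⟨o', ho', hne⟩ := exists_ne_mem_trio hT o
  obtain ⟨a, ha, rfl⟩ := mem_octads_iff_octL.mp (hT.2.1 o ho)
  obtain ⟨b, hb, rfl⟩ := mem_octads_iff_octL.mp (hT.2.1 o' ho')
  have h1 := (bimp_iff _ _).mp (allL_iff.mp ((bimp_iff _ _).mp (allL_iff.mp h.2 a ha)
    ((pt_mem_ofMask_tb a (by norm_num)).mp hp)) b hb)
    (Nat.beq_eq.mpr ((gE.disjoint_ofMask_iff (lt_of_mem_octL ha)).mp (hT.2.2 _ ho _ ho' hne)))
  simp only [stepT, bor_eq, band_eq, Bool.or_eq_true, Bool.and_eq_true, anyL_iff, Nat.blt_eq] at h1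
  rcases h1 with ⟨p, hp, h1⟩ | ⟨r, hr, h1, h2, h3⟩
  · obtain ⟨g, hgK, hgp⟩ := hmem.gens h.1 p hp
    have h2 : g⁻¹ • T ∈ trios := smul_mem_trios (g⁻¹).2 hT
    refine Or.inr ⟨g⁻¹, K.inv_mem hgK, h2, ?_⟩
    have h3 := eq_trioS hT ho ho' hne
    subst h3
    rw [smul_trioS] at h2 ⊢
    have e1 : gE.toMask (g⁻¹ • gE.ofMask a) = pull 24 5 p (gE.toMask (gE.ofMask a)) :=
      Enc.Rep.toMask_inv_smul hgp _
    have e2 : gE.toMask (g⁻¹ • gE.ofMask b) = pull 24 5 p (gE.toMask (gE.ofMask b)) :=
      Enc.Rep.toMask_inv_smul hgp _
    rw [thash_trioS M h2, thash_trioS M hT, e1, e2, gE.toMask_ofMask (lt_of_mem_octL ha),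
      gE.toMask_ofMask (lt_of_mem_octL hb), pull_mod 24 12 5 _ _ (by norm_num),
      pull_mod 24 12 5 _ _ (by norm_num)]
    exact h1
  · exact Or.inl ⟨r, hr, (eq_trioS hT ho ho' hne).trans (eq_trioS (trioS_mem_of_trOK h1)
      (ofMask_mem_trioS h2) (ofMask_mem_trioS h3) hne).symm⟩

end Cfsg.Agent.H4
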