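import Cfsg.Agent.H4.Y23D10

set_option autoImplicit false
set_option maxRecDepth 100000
set_option Elab.async false

namespace Cfsg.Agent.H4.Y23

open Cfsg.Agent.H5 Cfsg.Agent.H8.TC Cfsg.Agent.H4.TC

theorem t10_1 : rngB t10f (nat_lit 39297) (nat_lit 16) (nat_lit 16) = 0 := by decide +kernel
theorem t10_3 : rngB t10f (nat_lit 39297) (nat_lit 48) (nat_lit 16) = 0 := by decide +kernel
theorem t10_5 : rngB t10f (nat_lit 39297) (nat_lit 80) (nat_lit 16) = 0 := by decide +kernel
theorem t10_7 : rngB t10f (nat_lit 39297) (nat_lit 112) (nat_lit 16) = 0 := by decide +kernel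
theorem t10_9 : rngB t10f (nat_lit 39297) (nat_lit 144) (nat_lit 16) = 0 := by decide +kernel
theorem t10_11 : rngB t10f (nat_lit 39297) (nat_lit 176) (nat_lit 16) = 0 := by decide +kernel
theorem t10_13 : rngB t10f (nat_lit 39297) (nat_lit 208) (nat_lit 16) = 0 := by decide +kernel
theorem t10_15 : rngB t10f (nat_lit 39297) (nat_lit 240) (nat_lit 16) = 0 := by decide +kernel
theorem t10_17 : rngB t10f (nat_lit 39297) (nat_lit 272) (nat_lit 16) = 0 := by decide +kernel
theorem t10_19 : rngB t10f (nat_lit 39297) (nat_lit 304) (nat_lit 16) = 0 := by decide +kernel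
theorem t10_21 : rngB t10f (nat_lit 39297) (nat_lit 336) (nat_lit 16) = 0 := by decide +kernel
theorem t10_23 : rngB t10f (nat_lit 39297) (nat_lit 368) (nat_lit 16) = 0 := by decide +kernel
theorem t10_25 : rngB t10f (nat_lit 39297) (nat_lit 400) (nat_lit 16) = 0 := by decide +kernel
theorem t10_27 : rngB t10f (nat_lit 39297) (nat_lit 432) (nat_lit 16) = 0 := by decide +kernel
theorem t10_29 : rngB t10f (nat_lit 39297) (nat_lit 464) (nat_lit 16) = 0 := by decide +kernel
theorem t10_31 : rngB t10f (nat_lit 39297) (nat_lit 496) (nat_lit 16) = 0 := by decide +kernel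
theorem t10_33 : rngB t10f (nat_lit 39297) (nat_lit 528) (nat_lit 16) = 0 := by decide +kernel
theorem t10_35 : rngB t10f (nat_lit 39297) (nat_lit 560) (nat_lit 16) = 0 := by decide +kernel
theorem t10_37 : rngB t10f (nat_lit 39297) (nat_lit 592) (nat_lit 16) = 0 := by decide +kernel
theorem t10_z : od (t10R 0) = 0 := by decide +kernel

end Cfsg.Agent.H4.Y23
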