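import Cfsg.Agent.H4.Y23D9

set_option autoImplicit false
set_option maxRecDepth 100000
set_option Elab.async false

namespace Cfsg.Agent.H4.Y23

open Cfsg.Agent.H5 Cfsg.Agent.H8.TC Cfsg.Agent.H4.TC

theorem t9_0 : rngB t9f (nat_lit 32833) (nat_lit 0) (nat_lit 16) = 0 := by decide +kernel
theorem t9_2 : rngB t9f (nat_lit 32833) (nat_lit 32) (nat_lit 16) = 0 := by decide +kernel
theorem t9_4 : rngB t9f (nat_lit 32833) (nat_lit 64) (nat_lit 16) = 0 := by decide +kernel
theorem t9_6 : rngB t9f (nat_lit 32833) (nat_lit 96) (nat_lit 16) = 0 := by decide +kernel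
theorem t9_8 : rngB t9f (nat_lit 32833) (nat_lit 128) (nat_lit 16) = 0 := by decide +kernel
theorem t9_10 : rngB t9f (nat_lit 32833) (nat_lit 160) (nat_lit 16) = 0 := by decide +kernel
theorem t9_12 : rngB t9f (nat_lit 32833) (nat_lit 192) (nat_lit 16) = 0 := by decide +kernel
theorem t9_14 : rngB t9f (nat_lit 32833) (nat_lit 224) (nat_lit 16) = 0 := by decide +kernel
theorem t9_16 : rngB t9f (nat_lit 32833) (nat_lit 256) (nat_lit 16) = 0 := by decide +kernel
theorem t9_18 : rngB t9f (nat_lit 32833) (nat_lit 288) (nat_lit 16) = 0 := by decide +kernel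
theorem t9_20 : rngB t9f (nat_lit 32833) (nat_lit 320) (nat_lit 16) = 0 := by decide +kernel
theorem t9_22 : rngB t9f (nat_lit 32833) (nat_lit 352) (nat_lit 16) = 0 := by decide +kernel
theorem t9_24 : rngB t9f (nat_lit 32833) (nat_lit 384) (nat_lit 16) = 0 := by decide +kernel
theorem t9_26 : rngB t9f (nat_lit 32833) (nat_lit 416) (nat_lit 16) = 0 := by decide +kernel
theorem t9_28 : rngB t9f (nat_lit 32833) (nat_lit 448) (nat_lit 16) = 0 := by decide +kernel
theorem t9_30 : rngB t9f (nat_lit 32833) (nat_lit 480) (nat_lit 16) = 0 := by decide +kernel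
theorem t9_32 : rngB t9f (nat_lit 32833) (nat_lit 512) (nat_lit 2) = 0 := by decide +kernel

end Cfsg.Agent.H4.Y23
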