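import Cfsg.Agent.H4.Y23C0
import Cfsg.Agent.H4.Y23C90
import Cfsg.Agent.H4.Y23C91
import Cfsg.Agent.H4.Y23C100
import Cfsg.Agent.H4.Y23C101

set_option autoImplicit false
set_option maxRecDepth 100000

namespace Cfsg.Agent.H4.Y23

open Cfsg.Agent.H5 Cfsg.Agent.H8.TC Cfsg.Agent.H4.TC

attribute [local irreducible] look Tr.get

variable {Γ : Type*} [Group Γ] {lt : ℕ → Γ}

theorem t4all : ∀ c < 120, t4f c = 0 :=
  allB (rngB_step (allB0 _ _) t4_0) (by decide)
theorem bd4 (H : Rel lt) : Bd (Gk lt 4) 120 :=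
  (bd_bot).step H.inv (fun c h => by rw [Nat.lt_one_iff.1 h, H.zero]; exact Subgroup.one_mem _) (by decide) (by decide) (by decide) t4_z t4all
theorem t5all : ∀ c < 16, t5f c = 0 :=
  allB (rngB_step (allB0 _ _) t5_0) (by decide)
theorem bd5 (H : Rel lt) : Bd (Gk lt 5) 1920 :=
  (bd4 H).step H.inv (fun _ h => mem_Gk h) (by decide) (by decide) (by decide) t5_z t5all
theorem t6all : ∀ c < 27, t6f c = 0 :=
  allB (rngB_step (allB0 _ _) t6_0) (by decide)
theorem bd6 (H : Rel lt) : Bd (Gk lt 6) 51840 :=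
  (bd5 H).step H.inv (fun _ h => mem_Gk h) (by decide) (by decide) (by decide) t6_z t6all
theorem t7all : ∀ c < 729, t7f c = 0 :=
  allB (rngB_step (allB0 _ _) t7_0) (by decide)
theorem bd7 (H : Rel lt) : Bd (Gk lt 7) 12597120 :=
  (bd6 H).step H.inv (fun _ h => mem_Gk h) (by decide) (by decide) (by decide) t7_z t7all
theorem t8all : ∀ c < 570, t8f c = 0 :=
  allB (rngB_step (allB0 _ _) t8_0) (by decide)
theorem bd8 (H : Rel lt) : Bd (Gk lt 8) 4585351680 :=
  (bd7 H).step H.inv (fun _ h => mem_Gk h) (by decide) (by decide) (by decide) t8_z t8all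
theorem t9all : ∀ c < 32833, t9f c = 0 :=
  allB (rngB_step (rngB_step (rngB_step (rngB_step (rngB_step (rngB_step (rngB_step (rngB_step (rngB_step (rngB_step (rngB_step (rngB_step (rngB_step (rngB_step (rngB_step (rngB_step (rngB_step (rngB_step (rngB_step (rngB_step (rngB_step (rngB_step (rngB_step (rngB_step (rngB_step (rngB_step (rngB_step (rngB_step (rngB_step (rngB_step (rngB_step (rngB_step (rngB_step (allB0 _ _) t9_0) t9_1) t9_2) t9_3) t9_4) t9_5) t9_6) t9_7) t9_8) t9_9) t9_10) t9_11) t9_12) t9_13) t9_14) t9_15) t9_16) t9_17) t9_18) t9_19) t9_20) t9_21) t9_22) t9_23) t9_24) t9_25) t9_26) t9_27) t9_28) t9_29) t9_30) t9_31) t9_32) (by decide)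
theorem bd9 (H : Rel lt) : Bd (Gk lt 9) 129123503308800 :=
  (bd8 H).step H.inv (fun _ h => mem_Gk h) (by decide) (by decide) (by decide) t9_z t9all
theorem t10all : ∀ c < 39297, t10f c = 0 :=
  allB (rngB_step (rngB_step (rngB_step (rngB_step (rngB_step (rngB_step (rngB_step (rngB_step (rngB_step (rngB_step (rngB_step (rngB_step (rngB_step (rngB_step (rngB_step (rngB_step (rngB_step (rngB_step (rngB_step (rngB_step (rngB_step (rngB_step (rngB_step (rngB_step (rngB_step (rngB_step (rngB_step (rngB_step (rngB_step (rngB_step (rngB_step (rngB_step (rngB_step (rngB_step (rngB_step (rngB_step (rngB_step (rngB_step (rngB_step (allB0 _ _) t10_0) t10_1) t10_2) t10_3) t10_4) t10_5) t10_6) t10_7) t10_8) t10_9) t10_10) t10_11) t10_12) t10_13) t10_14) t10_15) t10_16) t10_17) t10_18) t10_19) t10_20) t10_21) t10_22) t10_23) t10_24) t10_25) t10_26) t10_27) t10_28) t10_29) t10_30) t10_31) t10_32) t10_33) t10_34) t10_35) t10_36) t10_37) t10_38) (by decide)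
theorem bd10 (H : Rel lt) : Bd (Gk lt 10) 4089470473293004800 :=
  (bd9 H).step H.inv (fun _ h => mem_Gk h) (by decide) (by decide) (by decide) t10_z t10all

end Cfsg.Agent.H4.Y23
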