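import Cfsg.Agent.H4.Y24C0
import Cfsg.Agent.H4.Y24C1
import Cfsg.Agent.H4.Y24C2
import Cfsg.Agent.H4.Y24C3
import Cfsg.Agent.H4.Y24C4
import Cfsg.Agent.H4.Y24C5
import Cfsg.Agent.H4.Y24C6
import Cfsg.Agent.H4.Y24C7
import Cfsg.Agent.H4.Y24C8
import Cfsg.Agent.H4.Y24C9

set_option autoImplicit false
set_option maxRecDepth 100000

namespace Cfsg.Agent.H4.Y24

open Cfsg.Agent.H5 Cfsg.Agent.H8.TC Cfsg.Agent.H4.TC

attribute [local irreducible] look Tr.get

variable {Γ : Type*} [Group Γ] {lt : ℕ → Γ}

theorem tall : ∀ c < 307277, tf c = 0 :=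
  allB (rngB_step (rngB_step (rngB_step (rngB_step (rngB_step (rngB_step (rngB_step (rngB_step (rngB_step (rngB_step (rngB_step (rngB_step (rngB_step (rngB_step (rngB_step (rngB_step (rngB_step (rngB_step (rngB_step (rngB_step (rngB_step (rngB_step (rngB_step (rngB_step (rngB_step (rngB_step (rngB_step (rngB_step (rngB_step (rngB_step (rngB_step (rngB_step (rngB_step (rngB_step (rngB_step (rngB_step (rngB_step (rngB_step (rngB_step (rngB_step (rngB_step (rngB_step (rngB_step (rngB_step (rngB_step (rngB_step (rngB_step (rngB_step (rngB_step (rngB_step (rngB_step (rngB_step (rngB_step (rngB_step (rngB_step (rngB_step (rngB_step (rngB_step (rngB_step (rngB_step (rngB_step (rngB_step (rngB_step (rngB_step (rngB_step (rngB_step (rngB_step (rngB_step (rngB_step (rngB_step (rngB_step (rngB_step (rngB_step (rngB_step (rngB_step (rngB_step (rngB_step (rngB_step (rngB_step (rngB_step (rngB_step (rngB_step (rngB_step (rngB_step (rngB_step (rngB_step (rngB_step (rngB_step (rngB_step (rngB_step (rngB_step (rngB_step (rngB_step (rngB_step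 (rngB_step (rngB_step (rngB_step (rngB_step (rngB_step (rngB_step (rngB_step (rngB_step (rngB_step (rngB_step (rngB_step (rngB_step (rngB_step (rngB_step (rngB_step (rngB_step (rngB_step (rngB_step (rngB_step (rngB_step (rngB_step (rngB_step (rngB_step (rngB_step (rngB_step (rngB_step (rngB_step (rngB_step (rngB_step (rngB_step (rngB_step (rngB_step (rngB_step (rngB_step (rngB_step (rngB_step (rngB_step (rngB_step (rngB_step (rngB_step (rngB_step (rngB_step (rngB_step (rngB_step (rngB_step (rngB_step (rngB_step (rngB_step (rngB_step (rngB_step (rngB_step (rngB_step (rngB_step (rngB_step (rngB_step (rngB_step (rngB_step (rngB_step (rngB_step (rngB_step (rngB_step (rngB_step (rngB_step (rngB_step (rngB_step (rngB_step (rngB_step (rngB_step (rngB_step (rngB_step (rngB_step (rngB_step (rngB_step (rngB_step (rngB_step (rngB_step (rngB_step (rngB_step (rngB_step (rngB_step (rngB_step (rngB_step (rngB_step (rngB_step (rngB_step (rngB_step (rngB_step (rngB_step (rngB_step (rngB_step (rngB_step (rngB_step (rngB_step (rngB_step (rngB_step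 (rngB_step (rngB_step (rngB_step (rngB_step (rngB_step (rngB_step (rngB_step (rngB_step (rngB_step (rngB_step (rngB_step (rngB_step (rngB_step (rngB_step (rngB_step (rngB_step (rngB_step (rngB_step (rngB_step (rngB_step (rngB_step (rngB_step (rngB_step (rngB_step (rngB_step (rngB_step (rngB_step (rngB_step (rngB_step (rngB_step (rngB_step (rngB_step (rngB_step (rngB_step (rngB_step (rngB_step (rngB_step (rngB_step (rngB_step (rngB_step (rngB_step (rngB_step (rngB_step (rngB_step (rngB_step (rngB_step (rngB_step (rngB_step (rngB_step (rngB_step (rngB_step (rngB_step (rngB_step (rngB_step (rngB_step (rngB_step (rngB_step (rngB_step (rngB_step (rngB_step (rngB_step (rngB_step (rngB_step (rngB_step (rngB_step (rngB_step (rngB_step (rngB_step (rngB_step (rngB_step (rngB_step (rngB_step (rngB_step (rngB_step (rngB_step (rngB_step (rngB_step (rngB_step (rngB_step (rngB_step (rngB_step (rngB_step (rngB_step (rngB_step (rngB_step (rngB_step (rngB_step (rngB_step (rngB_step (rngB_step (rngB_step (rngB_step (rngB_step (rngB_step (rngB_step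 (rngB_step (rngB_step (rngB_step (rngB_step (rngB_step (rngB_step (rngB_step (rngB_step (rngB_step (rngB_step (rngB_step (rngB_step (rngB_step (rngB_step (rngB_step (rngB_step (rngB_step (allB0 _ _) t_0) t_1) t_2) t_3) t_4) t_5) t_6) t_7) t_8) t_9) t_10) t_11) t_12) t_13) t_14) t_15) t_16) t_17) t_18) t_19) t_20) t_21) t_22) t_23) t_24) t_25) t_26) t_27) t_28) t_29) t_30) t_31) t_32) t_33) t_34) t_35) t_36) t_37) t_38) t_39) t_40) t_41) t_42) t_43) t_44) t_45) t_46) t_47) t_48) t_49) t_50) t_51) t_52) t_53) t_54) t_55) t_56) t_57) t_58) t_59) t_60) t_61) t_62) t_63) t_64) t_65) t_66) t_67) t_68) t_69) t_70) t_71) t_72) t_73) t_74) t_75) t_76) t_77) t_78) t_79) t_80) t_81) t_82) t_83) t_84) t_85) t_86) t_87) t_88) t_89) t_90) t_91) t_92) t_93) t_94) t_95) t_96) t_97) t_98) t_99) t_100) t_101) t_102) t_103) t_104) t_105) t_106) t_107) t_108) t_109) t_110) t_111) t_112) t_113) t_114) t_115) t_116) t_117) t_118) t_119) t_120) t_121) t_122) t_123) t_124) t_125) t_126) t_127) t_128) t_129) t_130) t_131) t_132) t_133) t_134) t_135)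 t_136) t_137) t_138) t_139) t_140) t_141) t_142) t_143) t_144) t_145) t_146) t_147) t_148) t_149) t_150) t_151) t_152) t_153) t_154) t_155) t_156) t_157) t_158) t_159) t_160) t_161) t_162) t_163) t_164) t_165) t_166) t_167) t_168) t_169) t_170) t_171) t_172) t_173) t_174) t_175) t_176) t_177) t_178) t_179) t_180) t_181) t_182) t_183) t_184) t_185) t_186) t_187) t_188) t_189) t_190) t_191) t_192) t_193) t_194) t_195) t_196) t_197) t_198) t_199) t_200) t_201) t_202) t_203) t_204) t_205) t_206) t_207) t_208) t_209) t_210) t_211) t_212) t_213) t_214) t_215) t_216) t_217) t_218) t_219) t_220) t_221) t_222) t_223) t_224) t_225) t_226) t_227) t_228) t_229) t_230) t_231) t_232) t_233) t_234) t_235) t_236) t_237) t_238) t_239) t_240) t_241) t_242) t_243) t_244) t_245) t_246) t_247) t_248) t_249) t_250) t_251) t_252) t_253) t_254) t_255) t_256) t_257) t_258) t_259) t_260) t_261) t_262) t_263) t_264) t_265) t_266) t_267) t_268) t_269) t_270) t_271) t_272) t_273) t_274) t_275) t_276) t_277) t_278) t_279) t_280) t_281) t_282) t_283)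 t_284) t_285) t_286) t_287) t_288) t_289) t_290) t_291) t_292) t_293) t_294) t_295) t_296) t_297) t_298) t_299) t_300) (by decide)

noncomputable def T (c g : ℕ) : ℕ := tg (sl (nat_lit 32) (nat_lit 0xffffffff) (tR c) g)

theorem tab (H : Rel lt) : Tab lt (Gk lt 11) (H4.TC.rep lt tR) T 12 306936 :=
  tab_of_chk H.inv (fun _ h => mem_Gk h) (by decide) (by decide) t_z tall

end Cfsg.Agent.H4.Y24
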