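import Cfsg.Agent.H4.Y24S
import Cfsg.Agent.H4.Y24O0
import Cfsg.Agent.H4.Y24O1
import Cfsg.Agent.H4.YHeH

set_option autoImplicit false
set_option maxRecDepth 100000
set_option Elab.async false

namespace Cfsg.Agent.H4.Y24

open Cfsg.Agent.H5 Cfsg.Agent.H8.TC Cfsg.Agent.H4.TC

attribute [local irreducible] look Tr.get

theorem oall : ∀ c < 306936, oF c = 0 :=
  allB (rngB_step (rngB_step (rngB_step (rngB_step (rngB_step (rngB_step (rngB_step (rngB_step (rngB_step (rngB_step (rngB_step (rngB_step (rngB_step (rngB_step (rngB_step (rngB_step (rngB_step (rngB_step (rngB_step (rngB_step (rngB_step (rngB_step (rngB_step (rngB_step (allB0 _ _) o_0) o_1) o_2) o_3) o_4) o_5) o_6) o_7) o_8) o_9) o_10) o_11) o_12) o_13) o_14) o_15) o_16) o_17) o_18) o_19) o_20) o_21) o_22) o_23) (by decide)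

/-- words conjugating the letter `11` to the other letters -/
noncomputable def U : ℕ → List ℕ := getW [[],
  [nat_lit 12, nat_lit 11, nat_lit 8, nat_lit 12, nat_lit 6, nat_lit 8, nat_lit 5, nat_lit 6, nat_lit 1, nat_lit 5],
  [nat_lit 12, nat_lit 11, nat_lit 8, nat_lit 12, nat_lit 6, nat_lit 8, nat_lit 5, nat_lit 6, nat_lit 1, nat_lit 5, nat_lit 2, nat_lit 1],
  [nat_lit 12, nat_lit 11, nat_lit 8, nat_lit 12, nat_lit 6, nat_lit 8, nat_lit 5, nat_lit 6, nat_lit 1, nat_lit 5, nat_lit 2, nat_lit 1, nat_lit 3, nat_lit 2],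
  [nat_lit 12, nat_lit 11, nat_lit 8, nat_lit 12, nat_lit 6, nat_lit 8, nat_lit 5, nat_lit 6, nat_lit 1, nat_lit 5, nat_lit 4, nat_lit 1],
  [nat_lit 12, nat_lit 11, nat_lit 8, nat_lit 12, nat_lit 6, nat_lit 8, nat_lit 5, nat_lit 6],
  [nat_lit 12, nat_lit 11, nat_lit 8, nat_lit 12, nat_lit 6, nat_lit 8],
  [nat_lit 12, nat_lit 11, nat_lit 8, nat_lit 12, nat_lit 6, nat_lit 8, nat_lit 5, nat_lit 6, nat_lit 1, nat_lit 5, nat_lit 4, nat_lit 1, nat_lit 7, nat_lit 4],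
  [nat_lit 12, nat_lit 11, nat_lit 8, nat_lit 12],
  [nat_lit 12, nat_lit 11, nat_lit 8, nat_lit 12, nat_lit 6, nat_lit 8, nat_lit 5, nat_lit 6, nat_lit 1, nat_lit 5, nat_lit 2, nat_lit 1, nat_lit 3, nat_lit 2, nat_lit 9, nat_lit 3],
  [nat_lit 12, nat_lit 11, nat_lit 8, nat_lit 12, nat_lit 6, nat_lit 8, nat_lit 5, nat_lit 6, nat_lit 1, nat_lit 5, nat_lit 2, nat_lit 1, nat_lit 3, nat_lit 2, nat_lit 9, nat_lit 3, nat_lit 10, nat_lit 9],
  [],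
  [nat_lit 12, nat_lit 11]]

def BP : List ℕ := [nat_lit 26, nat_lit 63, nat_lit 127, nat_lit 65, nat_lit 10, nat_lit 4, nat_lit 134, nat_lit 1, nat_lit 236, nat_lit 412, nat_lit 0, nat_lit 31672]

noncomputable def HW : ℕ → List ℕ := getW [[],
  [nat_lit 2, nat_lit 10, nat_lit 6, nat_lit 8, nat_lit 5, nat_lit 6, nat_lit 1, nat_lit 5, nat_lit 4, nat_lit 2, nat_lit 1, nat_lit 2, nat_lit 4, nat_lit 5, nat_lit 1, nat_lit 6, nat_lit 5, nat_lit 8, nat_lit 6, nat_lit 9, nat_lit 10, nat_lit 3, nat_lit 9, nat_lit 1, nat_lit 5, nat_lit 6, nat_lit 8, nat_lit 4, nat_lit 1, nat_lit 5, nat_lit 6, nat_lit 2, nat_lit 1, nat_lit 5, nat_lit 4, nat_lit 3, nat_lit 2, nat_lit 1, nat_lit 2, nat_lit 3, nat_lit 4, nat_lit 5, nat_lit 1, nat_lit 2, nat_lit 6, nat_lit 5, nat_lit 1, nat_lit 4, nat_lit 8, nat_lit 6, nat_lit 5, nat_lit 1, nat_lit 9, nat_lit 3, nat_lit 10, nat_lit 9],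
  [nat_lit 9, nat_lit 8, nat_lit 3, nat_lit 9, nat_lit 2, nat_lit 1, nat_lit 5, nat_lit 4, nat_lit 3, nat_lit 2, nat_lit 1, nat_lit 2, nat_lit 3, nat_lit 4, nat_lit 5, nat_lit 1, nat_lit 2, nat_lit 9, nat_lit 3, nat_lit 11],
  [nat_lit 8, nat_lit 5, nat_lit 11, nat_lit 4],
  [nat_lit 8, nat_lit 7, nat_lit 1, nat_lit 5, nat_lit 4, nat_lit 3, nat_lit 2, nat_lit 1, nat_lit 2, nat_lit 3, nat_lit 4, nat_lit 5, nat_lit 1, nat_lit 4, nat_lit 2, nat_lit 1, nat_lit 2, nat_lit 4, nat_lit 7, nat_lit 11],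
  [nat_lit 6, nat_lit 8, nat_lit 5, nat_lit 6, nat_lit 1, nat_lit 5, nat_lit 4, nat_lit 2, nat_lit 1, nat_lit 2, nat_lit 4, nat_lit 5, nat_lit 1, nat_lit 6, nat_lit 5, nat_lit 8, nat_lit 6, nat_lit 4],
  [nat_lit 8, nat_lit 11],
  [nat_lit 12, nat_lit 6, nat_lit 8, nat_lit 1, nat_lit 5, nat_lit 6, nat_lit 2, nat_lit 1, nat_lit 5, nat_lit 4, nat_lit 3, nat_lit 2, nat_lit 1, nat_lit 2, nat_lit 3, nat_lit 4, nat_lit 5, nat_lit 1, nat_lit 2, nat_lit 6, nat_lit 5, nat_lit 1, nat_lit 8, nat_lit 6, nat_lit 12, nat_lit 3, nat_lit 9, nat_lit 10, nat_lit 7, nat_lit 4, nat_lit 1, nat_lit 2, nat_lit 3, nat_lit 9, nat_lit 1, nat_lit 5, nat_lit 6, nat_lit 8, nat_lit 2, nat_lit 1, nat_lit 4, nat_lit 7, nat_lit 5, nat_lit 6, nat_lit 2, nat_lit 1, nat_lit 5, nat_lit 4, nat_lit 3, nat_lit 2, nat_lit 1, nat_lit 2, nat_lit 3, nat_lit 4, nat_lit 5, nat_lit 1, nat_lit 2, nat_lit 6, nat_lit 5,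 nat_lit 7, nat_lit 4, nat_lit 1, nat_lit 2, nat_lit 8, nat_lit 6, nat_lit 5, nat_lit 1, nat_lit 9, nat_lit 3, nat_lit 2, nat_lit 1, nat_lit 4, nat_lit 7, nat_lit 10, nat_lit 9, nat_lit 3]]

noncomputable def TH (c a : ℕ) : ℕ := trL T (HW a) c

def X5 : List ℕ := [nat_lit 10, nat_lit 9, nat_lit 3, nat_lit 2, nat_lit 1, nat_lit 4, nat_lit 5, nat_lit 1, nat_lit 2, nat_lit 6, nat_lit 5, nat_lit 1, nat_lit 4, nat_lit 3, nat_lit 9, nat_lit 2, nat_lit 3, nat_lit 1, nat_lit 2, nat_lit 5, nat_lit 1, nat_lit 4, nat_lit 6, nat_lit 5, nat_lit 1, nat_lit 2, nat_lit 3, nat_lit 9, nat_lit 10, nat_lit 9, nat_lit 3, nat_lit 2, nat_lit 1, nat_lit 5, nat_lit 6, nat_lit 4, nat_lit 1, nat_lit 5, nat_lit 2, nat_lit 1, nat_lit 3, nat_lit 2, nat_lit 9, nat_lit 3, nat_lit 4, nat_lit 1, nat_lit 5, nat_lit 6, nat_lit 2, nat_lit 1, nat_lit 5, nat_lit 4, nat_lit 1, nat_lit 2, nat_lit 3, nat_lit 9, nat_lit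 10, nat_lit 10, nat_lit 9, nat_lit 3]
def Y5 : List ℕ := [nat_lit 4, nat_lit 1, nat_lit 5, nat_lit 6]
def W29 : List ℕ := [nat_lit 11, nat_lit 9, nat_lit 3, nat_lit 8, nat_lit 2, nat_lit 12, nat_lit 8, nat_lit 5, nat_lit 4, nat_lit 6, nat_lit 1, nat_lit 7, nat_lit 3, nat_lit 5, nat_lit 12, nat_lit 10, nat_lit 4, nat_lit 2, nat_lit 6, nat_lit 1]

theorem cU : ∀ s < 13, 1 ≤ s → trL T (U s) 0 ∈ BP := by decide +kernel
theorem cD1 : trL T (U 8) 0 = 1 := by decide +kernel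
theorem cD2 : trL T (U 12) 0 = 31672 := by decide +kernel
theorem cX : TC.chkB T BP (List.replicate 5 X5).flatten = 0 := by decide +kernel
theorem cY : TC.chkB T BP (List.replicate 5 Y5).flatten = 0 := by decide +kernel
theorem cXY : TC.chkB T BP (X5 ++ Y5 ++ X5.reverse ++ Y5.reverse) = 0 := by decide +kernel
theorem cW : TC.chkB T BP (List.replicate 29 W29).flatten = 0 := by decide +kernel
theorem nX : trL T (U 3 ++ (3 :: X5 ++ 3 :: X5.reverse) ++ (U 3).reverse) 0 ≠ 0 := by decide +kernel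
theorem nY : trL T (U 8 ++ Y5 ++ (U 8).reverse) 0 ≠ 0 := by decide +kernel
theorem nW : trL T W29 0 ≠ 0 := by decide +kernel
theorem nH : trL T (HW 7) 0 ≠ 0 := by decide +kernel
theorem hQ : rng (fun a => TC.chkB TH BP [a, a]) 0 8 = 0 := by decide +kernel
theorem hC0 : rng (chkCx (TC.chkB TH BP) YHe.Mx) (nat_lit 0) (nat_lit 80) = 0 := by decide +kernel
theorem hC1 : rng (chkCx (TC.chkB TH BP) YHe.Mx) (nat_lit 80) (nat_lit 16) = 0 := by decide +kernel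
theorem hC2 : rng (chkCx (TC.chkB TH BP) YHe.Mx) (nat_lit 96) (nat_lit 16) = 0 := by decide +kernel
theorem hC3 : rng (chkCx (TC.chkB TH BP) YHe.Mx) (nat_lit 112) (nat_lit 144) = 0 := by decide +kernel
theorem hC : ∀ x < 256, chkCx (TC.chkB TH BP) YHe.Mx x = 0 := (rng_step (rng_step (rng_step (rng_step (all0 _) hC0) hC1) hC2) hC3)
theorem hR : rng (fun i => TC.chkB TH BP (getW YHe.RL i)) 0 5 = 0 := by decide +kernel

end Cfsg.Agent.H4.Y24
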